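import Mathlib
import Cfsg.Prelude.Def_Characters

set_option autoImplicit false

namespace Cfsg.Agent.Lib.Helper39

open Representation Matrix
open scoped ComplexConjugate ComplexOrder

section Conj

variable {G : Type*} [Group G] [Fintype G]

/-- a finite group of complex matrices: the trace of the inverse is the conjugate of the trace
(unitary trick). -/
theorem trace_inv_eq_star {n : Type*} [Fintype n] [DecidableEq n]
    (A : G →* Matrix n n ℂ) (g : G) : (A g⁻¹).trace = star (A g).trace := by
  classical
  set H : Matrix n n ℂ := ∑ h : G, (A h)ᴴ * A h with hH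
  have hpd : H.PosDef := by
    rw [hH, ← Finset.add_sum_erase _ _ (Finset.mem_univ (1 : G))]
    refine Matrix.PosDef.add_posSemidef ?_
      (Matrix.posSemidef_sum _ fun i _ => Matrix.posSemidef_conjTranspose_mul_self _)
    rw [map_one]
    simpa using (Matrix.PosDef.one (n := n) (R := ℂ))
  have hu : IsUnit H := hpd.isUnit
  have hinv : (A g)ᴴ * H * A g = H := by
    rw [hH, Finset.mul_sum, Finset.sum_mul]
    rw [← Fintype.sum_equiv (Equiv.mulRight g) (fun h => (A g)ᴴ * ((A h)ᴴ * A h) * A g)
      (fun h => (A h)ᴴ * A h) (fun h => by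
        simp only [Equiv.coe_mulRight, map_mul, Matrix.conjTranspose_mul, Matrix.mul_assoc])]
  have h2 : H * A g = (A g⁻¹)ᴴ * H := by
    have h3 : (A g⁻¹)ᴴ * (A g)ᴴ = 1 := by
      rw [← Matrix.conjTranspose_mul, ← map_mul, mul_inv_cancel, map_one, Matrix.conjTranspose_one]
    calc H * A g = (A g⁻¹)ᴴ * ((A g)ᴴ * H * A g) := by
          rw [← Matrix.mul_assoc, ← Matrix.mul_assoc, h3, Matrix.one_mul]
      _ = (A g⁻¹)ᴴ * H := by rw [hinv]
  obtain ⟨u, hu'⟩ := hu
  have h4 : A g = (↑u⁻¹ : Matrix n n ℂ) * ((A g⁻¹)ᴴ * H) := by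
    rw [← h2, ← hu', ← Matrix.mul_assoc, Units.inv_mul, Matrix.one_mul]
  have h5 : (A g).trace = ((A g⁻¹)ᴴ).trace := by
    conv_lhs => rw [h4]
    rw [Matrix.trace_mul_comm, Matrix.mul_assoc, ← hu', Units.mul_inv, Matrix.mul_one]
  rw [h5, Matrix.trace_conjTranspose, star_star]

variable {V : Type*} [AddCommGroup V] [Module ℂ V] [FiniteDimensional ℂ V]

/-- the character at an inverse is the complex conjugate. -/
theorem char_inv (ρ : Representation ℂ G V) (g : G) :
    ρ.character g⁻¹ = conj (ρ.character g) := by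
  classical
  let b := Module.finBasis ℂ V
  let A : G →* Matrix (Fin (Module.finrank ℂ V)) (Fin (Module.finrank ℂ V)) ℂ :=
    ((LinearMap.toMatrixAlgEquiv b).toAlgHom.toRingHom.toMonoidHom).comp ρ
  have h : ∀ x : G, ρ.character x = (A x).trace := fun x => by
    simp only [character, A]
    rw [LinearMap.trace_eq_matrix_trace ℂ b]
    rfl
  rw [h, h, trace_inv_eq_star]
  rfl

theorem char_mul_char_inv (ρ : Representation ℂ G V) (g : G) :
    ρ.character g * ρ.character g⁻¹ = (Complex.normSq (ρ.character g) : ℂ) := by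
  rw [char_inv, Complex.mul_conj]

/-- the norm of an irreducible character. -/
theorem irr_sum_normSq (ρ : Representation ℂ G V) [ρ.IsIrreducible] :
    ∑ g : G, Complex.normSq (ρ.character g) = (Fintype.card G : ℝ) := by
  have hne : (Nat.card G : ℂ) ≠ 0 := by
    simp [Nat.card_eq_fintype_card]
  have : Invertible (Nat.card G : ℂ) := invertibleOfNonzero hne
  have h2 := char_orthonormal ρ ρ
  rw [if_pos ⟨Representation.Equiv.refl ρ⟩] at h2
  have h3 : ∑ g : G, ρ.character g * ρ.character g⁻¹ = (Nat.card G : ℂ) := by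
    field_simp at h2
    simpa using h2
  simp only [char_mul_char_inv] at h3
  rw [Nat.card_eq_fintype_card] at h3
  have h4 : ((∑ g : G, Complex.normSq (ρ.character g) : ℝ) : ℂ) = ((Fintype.card G : ℝ) : ℂ) := by
    push_cast
    exact h3
  exact_mod_cast h4

/-- a bound for the values of an irreducible character on an injective family of elements. -/
theorem irr_sum_normSq_le (ρ : Representation ℂ G V) [ρ.IsIrreducible] {ι : Type*} [Fintype ι]
    (f : ι → G) (hf : Function.Injective f) :
    ∑ i : ι, Complex.normSq (ρ.character (f i)) ≤ (Fintype.card G : ℝ) := by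
  classical
  rw [← irr_sum_normSq ρ]
  have h1 : ∑ i : ι, Complex.normSq (ρ.character (f i)) =
      ∑ g ∈ Finset.univ.image f, Complex.normSq (ρ.character g) := by
    rw [Finset.sum_image (fun a _ b _ h => hf h)]
  rw [h1]
  apply Finset.sum_le_sum_of_subset_of_nonneg (Finset.subset_univ _)
  intro g _ _
  exact Complex.normSq_nonneg _

/-- if the values of an irreducible character on an injective family already exhaust the norm,
the character vanishes off the family. -/
theorem irr_vanish_of_sum_eq (ρ : Representation ℂ G V) [ρ.IsIrreducible] {ι : Type*} [Fintype ι]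
    (f : ι → G) (hf : Function.Injective f)
    (heq : ∑ i : ι, Complex.normSq (ρ.character (f i)) = (Fintype.card G : ℝ)) (g : G)
    (hg : ∀ i : ι, f i ≠ g) : ρ.character g = 0 := by
  classical
  have h0 := irr_sum_normSq ρ
  have h1 : ∑ i : ι, Complex.normSq (ρ.character (f i)) =
      ∑ x ∈ Finset.univ.image f, Complex.normSq (ρ.character x) := by
    rw [Finset.sum_image (fun a _ b _ h => hf h)]
  rw [h1] at heq
  have h2 := Finset.sum_add_sum_compl (Finset.univ.image f)
    (fun x => Complex.normSq (ρ.character x))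
  rw [heq, h0] at h2
  have h3 : ∑ x ∈ (Finset.univ.image f)ᶜ, Complex.normSq (ρ.character x) = 0 := by linarith
  have h4 := (Finset.sum_eq_zero_iff_of_nonneg (fun x _ => Complex.normSq_nonneg _)).mp h3 g (by
    rw [Finset.mem_compl, Finset.mem_image]
    rintro ⟨i, -, hi⟩
    exact hg i hi)
  exact Complex.normSq_eq_zero.mp h4

end Conj

section Twist

variable {G : Type*} [Group G] {V : Type*} [AddCommGroup V] [Module ℂ V]

/-- the restriction of `ρ` along `ι`, twisted by the inverse of a linear character `ψ`. -/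
noncomputable def twistRep (ρ : Representation ℂ G V) {H : Type*} [Group H] (ι : H →* G)
    (ψ : H →* ℂ) : Representation ℂ H V where
  toFun h := ψ h⁻¹ • ρ (ι h)
  map_one' := by simp
  map_mul' a b := by
    rw [_root_.mul_inv_rev, map_mul, map_mul, map_mul, smul_mul_smul_comm, mul_comm]

theorem twistRep_apply (ρ : Representation ℂ G V) {H : Type*} [Group H] (ι : H →* G)
    (ψ : H →* ℂ) (h : H) : twistRep ρ ι ψ h = ψ h⁻¹ • ρ (ι h) := rfl

variable [FiniteDimensional ℂ V]

theorem twistRep_character (ρ : Representation ℂ G V) {H : Type*} [Group H] (ι : H →* G)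
    (ψ : H →* ℂ) (h : H) :
    (twistRep ρ ι ψ).character h = ψ h⁻¹ * ρ.character (ι h) := by
  simp [character, twistRep_apply]

/-- the multiplicity of a linear character in a restriction is a natural number. -/
theorem avg_nat (ρ : Representation ℂ G V) {H : Type*} [Group H] [Fintype H] (ι : H →* G)
    (ψ : H →* ℂ) :
    ∃ d : ℕ, ∑ h : H, ψ h⁻¹ * ρ.character (ι h) = (Fintype.card H : ℂ) * d ∧
      (d = 0 → ∑ h : H, ψ h⁻¹ • ρ (ι h) = 0) := by
  set σ := twistRep ρ ι ψ with hσ
  have hne : (Nat.card H : ℂ) ≠ 0 := by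
    simp [Nat.card_eq_fintype_card]
  have : Invertible (Nat.card H : ℂ) := invertibleOfNonzero hne
  have h1 := card_inv_mul_sum_char_eq_finrank σ
  refine ⟨Module.finrank ℂ (invariants σ), ?_, ?_⟩
  · simp only [twistRep_character, hσ] at h1
    rw [← h1, ← Nat.card_eq_fintype_card, ← mul_assoc, mul_inv_cancel₀ hne, one_mul]
  · intro hd
    have hbot : invariants σ = ⊥ := by
      apply Submodule.finrank_eq_zero.mp hd
    apply LinearMap.ext
    intro v
    have hmem : (∑ h : H, σ h) v ∈ invariants σ := by
      intro g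
      rw [LinearMap.sum_apply, map_sum]
      simp only [← Module.End.mul_apply, ← map_mul]
      exact Fintype.sum_equiv (Equiv.mulLeft g) _ _ (fun h => rfl)
    rw [hbot, Submodule.mem_bot] at hmem
    simpa [hσ, twistRep_apply] using hmem

end Twist

section Unit

/-- values of a homomorphism from a finite group to `ℂ` have norm one, so the value at the
inverse is the conjugate. -/
theorem hom_inv_eq_conj {H : Type*} [Group H] [Finite H] (ψ : H →* ℂ) (h : H) :
    ψ h⁻¹ = conj (ψ h) := by
  have hfin : ψ h ^ orderOf h = 1 := by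
    rw [← map_pow, pow_orderOf_eq_one, map_one]
  have hpos : orderOf h ≠ 0 := (orderOf_pos h).ne'
  have hnorm : ‖ψ h‖ = 1 := Complex.norm_eq_one_of_pow_eq_one hfin hpos
  have h1 : ψ h⁻¹ * ψ h = 1 := by rw [← map_mul, inv_mul_cancel, map_one]
  have h2 : conj (ψ h) * ψ h = 1 := by
    rw [mul_comm, Complex.mul_conj, Complex.normSq_eq_norm_sq, hnorm]
    simp
  have hne : ψ h ≠ 0 := by
    intro h0
    rw [h0] at hnorm
    simp at hnorm
  exact mul_right_cancel₀ hne (h1.trans h2.symm)

end Unit

end Cfsg.Agent.Lib.Helper39
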