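import Mathlib
import Cfsg.Prelude.Def_Characters
import Cfsg.Agent.Lib.Helper3.CharKernel
import Cfsg.Agent.Lib.Helper3.IndFun
import Cfsg.Agent.Lib.Helper75.CharInd
import Cfsg.Agent.Lib.Helper15.LinChar
import Cfsg.Agent.Lib.Helper39.CharTools

set_option autoImplicit false

namespace Cfsg.Agent.Lib.Helper39

open Representation
open scoped ComplexConjugate

universe u

section Rep

variable {G : Type u} [Group G] {V : Type*} [AddCommGroup V] [Module ℂ V]

/-- Schur's lemma: an endomorphism commuting with an irreducible complex representation is a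
scalar. -/
theorem schur_scalar' [FiniteDimensional ℂ V] (ρ : Representation ℂ G V) [ρ.IsIrreducible]
    (f : V →ₗ[ℂ] V) (hf : ∀ g : G, f ∘ₗ ρ g = ρ g ∘ₗ f) : ∃ c : ℂ, f = c • LinearMap.id := by
  have hbij := IsIrreducible.algebraMap_intertwiningMap_bijective_of_isAlgClosed (ρ := ρ)
  obtain ⟨c, hc⟩ := hbij.2 (⟨f, hf⟩ : IntertwiningMap ρ ρ)
  refine ⟨c, ?_⟩
  have := congrArg IntertwiningMap.toLinearMap hc
  simp only at this
  rw [← this]
  ext v
  simp [Algebra.algebraMap_eq_smul_one]

theorem nontrivial_of_irr (ρ : Representation ℂ G V) [ρ.IsIrreducible] : Nontrivial V := by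
  by_contra h
  rw [not_nontrivial_iff_subsingleton] at h
  have h1 : (⊥ : Subrepresentation ρ) = ⊤ := by
    ext v
    simp [Subsingleton.elim v 0]
  exact bot_ne_top h1

/-- a central element acts by a scalar of norm one in an irreducible representation. -/
theorem central_twist [FiniteDimensional ℂ V] [Finite G] (ρ : Representation ℂ G V)
    [ρ.IsIrreducible] (z : G) (hz : ∀ g : G, z * g = g * z) :
    ∃ ω : ℂ, ‖ω‖ = 1 ∧ ∀ g : G, ρ.character (z * g) = ω * ρ.character g := by
  obtain ⟨c, hc⟩ := schur_scalar' ρ (ρ z) (fun g => by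
    rw [← Module.End.mul_eq_comp, ← Module.End.mul_eq_comp, ← map_mul, ← map_mul, hz])
  have hnt : Nontrivial V := nontrivial_of_irr ρ
  refine ⟨c, ?_, ?_⟩
  · have hpow : c ^ orderOf z = 1 := by
      have h1 : (ρ z) ^ orderOf z = 1 := by rw [← map_pow, pow_orderOf_eq_one, map_one]
      rw [hc] at h1
      obtain ⟨v, hv⟩ := exists_ne (0 : V)
      have h2 : ((c • (LinearMap.id : V →ₗ[ℂ] V)) ^ orderOf z) v = v := by rw [h1]; rfl
      have h3 : ((c • (LinearMap.id : V →ₗ[ℂ] V)) ^ orderOf z) v = c ^ orderOf z • v := by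
        have : (c • (LinearMap.id : V →ₗ[ℂ] V)) ^ orderOf z =
            c ^ orderOf z • (LinearMap.id : V →ₗ[ℂ] V) := by
          have hid : (LinearMap.id : V →ₗ[ℂ] V) = 1 := rfl
          rw [hid, smul_pow, one_pow]
        rw [this]
        rfl
      rw [h3] at h2
      have h4 : (c ^ orderOf z - 1) • v = 0 := by rw [sub_smul, h2, one_smul, sub_self]
      rcases smul_eq_zero.mp h4 with h5 | h5
      · exact sub_eq_zero.mp h5
      · exact absurd h5 hv
    exact Complex.norm_eq_one_of_pow_eq_one hpow (orderOf_pos z).ne'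
  · intro g
    unfold character
    have hid : (LinearMap.id : V →ₗ[ℂ] V) = 1 := rfl
    rw [map_mul, hc, hid, smul_mul_assoc, one_mul, map_smul, smul_eq_mul]

theorem normSq_central [FiniteDimensional ℂ V] [Finite G] (ρ : Representation ℂ G V)
    [ρ.IsIrreducible] (z : G) (hz : ∀ g : G, z * g = g * z) (g : G) :
    Complex.normSq (ρ.character (z * g)) = Complex.normSq (ρ.character g) := by
  obtain ⟨ω, hω, h⟩ := central_twist ρ z hz
  rw [h g, Complex.normSq_mul, Complex.normSq_eq_norm_sq, hω]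
  simp

theorem rho_eq_one_of_isConj (ρ : Representation ℂ G V) {a b : G} (h : IsConj a b)
    (hb : ρ b = 1) : ρ a = 1 := by
  rw [isConj_iff] at h
  obtain ⟨c, rfl⟩ := h
  have h1 : a = c⁻¹ * (c * a * c⁻¹) * c := by group
  rw [h1, map_mul, map_mul, hb, mul_one, ← map_mul, inv_mul_cancel, map_one]

theorem char_eq_of_isConj [FiniteDimensional ℂ V] (ρ : Representation ℂ G V) {a b : G}
    (h : IsConj a b) : ρ.character a = ρ.character b := by
  rw [isConj_iff] at h
  obtain ⟨c, rfl⟩ := h
  rw [char_conj]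

end Rep

section Chars

variable {G : Type u} [Group G]

theorem isCharacter_eq_zero_of_one {χ : G → ℂ} (h : Cfsg.IsCharacter G χ) (h1 : χ 1 = 0) :
    χ = 0 := by
  obtain ⟨n, ρ, rfl⟩ := h
  rw [char_one] at h1
  have hn : Module.finrank ℂ (Fin n → ℂ) = 0 := by exact_mod_cast h1
  have hs : Subsingleton (Fin n → ℂ) := Module.finrank_zero_iff.mp hn
  funext g
  have : ρ g = 0 := LinearMap.ext fun v => Subsingleton.elim _ _
  simp [character, this]

theorem isCharacter_one_nat {χ : G → ℂ} (h : Cfsg.IsCharacter G χ) : ∃ n : ℕ, χ 1 = n := by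
  obtain ⟨n, ρ, rfl⟩ := h
  exact ⟨_, char_one ρ⟩

theorem isCharacter_conj_inv {χ : G → ℂ} (h : Cfsg.IsCharacter G χ) (a c : G) :
    χ (c * a * c⁻¹) = χ a := by
  obtain ⟨n, ρ, rfl⟩ := h
  rw [char_conj]

theorem isCharacter_isConj {χ : G → ℂ} (h : Cfsg.IsCharacter G χ) {a b : G} (hab : IsConj a b) :
    χ a = χ b := by
  rw [isConj_iff] at hab
  obtain ⟨c, rfl⟩ := hab
  rw [isCharacter_conj_inv h]

theorem linChar_norm [Finite G] {θ : G → ℂ} (h : Cfsg.IsCharacter G θ) (h1 : θ 1 = 1) (g : G) :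
    ‖θ g‖ = 1 := by
  have e1 : θ g * θ g⁻¹ = 1 := by
    rw [← Cfsg.Agent.Lib.Helper15.linChar_mul h h1, mul_inv_cancel, h1]
  rw [Cfsg.Agent.Lib.Helper3.isCharacter_inv h, Complex.mul_conj] at e1
  have e2 : Complex.normSq (θ g) = 1 := by exact_mod_cast e1
  rw [Complex.normSq_eq_norm_sq] at e2
  have e3 : 0 ≤ ‖θ g‖ := norm_nonneg _
  nlinarith

variable [Fintype G]

/-- removing an irreducible constituent from a character leaves a character. -/
theorem isCharacter_sub_irr {π χ : G → ℂ} (hπ : Cfsg.IsCharacter G π)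
    (hχ : Cfsg.IsIrrCharacter G χ) (hne : Cfsg.classInner π χ ≠ 0) :
    Cfsg.IsCharacter G (π - χ) := by
  classical
  have hfin := Cfsg.Agent.Lib.Helper3.irr_finite (G := G)
  have hft : Fintype (Cfsg.IrrCharacter G) := Fintype.ofFinite _
  apply Cfsg.Agent.Lib.Helper75.isCharacter_of_classInner_nat
  · intro g h
    have h1 := Cfsg.Agent.Lib.Helper3.isClassFunction_of_isCharacter hπ g h
    have h2 := Cfsg.Agent.Lib.Helper3.isClassFunction_of_isCharacter
      (Cfsg.Agent.Lib.Helper3.isCharacter_of_irr hχ) g h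
    simp only [Pi.sub_apply, h1, h2]
  · intro ψ
    have e : π - χ = π + (-1 : ℂ) • χ := by
      funext g
      simp [sub_eq_add_neg]
    rw [e, Cfsg.Agent.Lib.Helper75.classInner_add_left,
      Cfsg.Agent.Lib.Helper75.classInner_smul_left]
    obtain ⟨m, hm⟩ := Cfsg.Agent.Lib.Helper75.classInner_char_irr_nat hπ ψ.2
    by_cases hψ : χ = (ψ : G → ℂ)
    · rw [← hψ, Cfsg.Agent.Lib.Helper3.classInner_irr_self hχ]
      rw [← hψ] at hm
      have hm0 : m ≠ 0 := by
        intro h0
        apply hne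
        rw [hm, h0]
        simp
      refine ⟨m - 1, ?_⟩
      rw [hm, Nat.cast_sub (Nat.one_le_iff_ne_zero.mpr hm0)]
      simp
      ring
    · rw [Cfsg.Agent.Lib.Helper3.classInner_irr_ne hχ ψ.2 hψ, hm]
      exact ⟨m, by simp⟩

/-- the sum of a non-trivial multiplicative function over a finite group vanishes. -/
theorem sum_mulfun_eq_zero {H : Type*} [Group H] [Fintype H] (φ : H → ℂ)
    (hmul : ∀ a b : H, φ (a * b) = φ a * φ b) (h₀ : H) (hne : φ h₀ ≠ 1) :
    ∑ h : H, φ h = 0 := by
  have h1 : ∑ h : H, φ (h₀ * h) = ∑ h : H, φ h :=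
    Fintype.sum_equiv (Equiv.mulLeft h₀) _ _ (fun _ => rfl)
  simp only [hmul, ← Finset.mul_sum] at h1
  have h2 : (φ h₀ - 1) * ∑ h : H, φ h = 0 := by rw [sub_mul, h1, one_mul, sub_self]
  rcases mul_eq_zero.mp h2 with h3 | h3
  · exact absurd (sub_eq_zero.mp h3) hne
  · exact h3

/-- a linear character which is a constituent of a function induced from a linear character of
a subgroup restricts to that linear character. -/
theorem linear_constituent (H : Subgroup G) [Fintype H] (f : H →* ℂˣ) {θ : G → ℂ}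
    (hθ : Cfsg.IsCharacter G θ) (h1 : θ 1 = 1)
    (hne : Cfsg.classInner (Cfsg.indFun H (fun h => ((f h : ℂˣ) : ℂ))) θ ≠ 0) (h : H) :
    θ h = ((f h : ℂˣ) : ℂ) := by
  rw [Cfsg.Agent.Lib.Helper3.frobenius_reciprocity H _ θ
    (Cfsg.Agent.Lib.Helper3.isClassFunction_of_isCharacter hθ)] at hne
  unfold Cfsg.classInner at hne
  by_contra hcon
  apply hne
  have hsum : ∑ x : H, ((f x : ℂˣ) : ℂ) * conj (θ x) = 0 := by
    apply sum_mulfun_eq_zero (fun x : H => ((f x : ℂˣ) : ℂ) * conj (θ x)) ?_ h ?_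
    · intro a b
      simp only [map_mul, Units.val_mul, Subgroup.coe_mul,
        Cfsg.Agent.Lib.Helper15.linChar_mul hθ h1]
      ring
    · intro h2
      apply hcon
      have h3 : θ h * conj (θ h) = 1 := by
        rw [Complex.mul_conj, Complex.normSq_eq_norm_sq, linChar_norm hθ h1]
        simp
      have h4 : conj (θ (h : G)) ≠ 0 := by
        intro h0
        rw [h0, mul_zero] at h3
        exact zero_ne_one h3
      exact mul_right_cancel₀ h4 (h3.trans h2.symm)
  rw [hsum, mul_zero]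

end Chars

end Cfsg.Agent.Lib.Helper39
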