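import Mathlib

set_option autoImplicit false

namespace Cfsg.Agent.Lib.Helper39

open scoped ComplexConjugate

variable {F : Type*} [Field F] [Fintype F] [DecidableEq F]

theorem card_ne_zero_complex : (Fintype.card F : ℂ) ≠ 0 := by
  have := Fintype.card_pos (α := F)
  exact_mod_cast this.ne'

/-- character sum over the dual variable -/
theorem sum_addChar_mul (ψ : AddChar F ℂ) (hψ : ψ ≠ 1) (x : F) :
    ∑ c : F, ψ (c * x) = if x = 0 then (Fintype.card F : ℂ) else 0 := by
  split_ifs with hx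
  · subst hx
    simp
  · rw [← AddChar.sum_eq_zero_of_ne_one hψ]
    exact Fintype.sum_equiv (Equiv.mulRight₀ x hx) _ _ (fun c => rfl)

/-- Fourier coefficient of a function on a finite field -/
noncomputable def fhat (ψ : AddChar F ℂ) (φ : F → ℂ) (c : F) : ℂ :=
  (Fintype.card F : ℂ)⁻¹ * ∑ x : F, ψ (-(c * x)) * φ x

theorem fhat_add (ψ : AddChar F ℂ) (φ γ : F → ℂ) (c : F) :
    fhat ψ (φ + γ) c = fhat ψ φ c + fhat ψ γ c := by
  unfold fhat
  simp only [Pi.add_apply, mul_add, Finset.sum_add_distrib]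

theorem fhat_sub (ψ : AddChar F ℂ) (φ γ : F → ℂ) (c : F) :
    fhat ψ (φ - γ) c = fhat ψ φ c - fhat ψ γ c := by
  unfold fhat
  simp only [Pi.sub_apply, mul_sub, Finset.sum_sub_distrib]

/-- Fourier inversion -/
theorem fourier_inv (ψ : AddChar F ℂ) (hψ : ψ ≠ 1) (φ : F → ℂ) (x : F) :
    φ x = ∑ c : F, fhat ψ φ c * ψ (c * x) := by
  have hq0 := card_ne_zero_complex (F := F)
  unfold fhat
  simp only [mul_assoc, Finset.sum_mul, ← Finset.mul_sum]
  rw [Finset.sum_comm]
  have h : ∀ y : F, ∑ c : F, ψ (-(c * y)) * (φ y * ψ (c * x)) =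
      φ y * (if x - y = 0 then (Fintype.card F : ℂ) else 0) := by
    intro y
    rw [← sum_addChar_mul ψ hψ (x - y), Finset.mul_sum]
    refine Finset.sum_congr rfl (fun c _ => ?_)
    have : c * (x - y) = -(c * y) + c * x := by ring
    rw [this, AddChar.map_add_eq_mul]
    ring
  simp only [h]
  rw [Finset.sum_eq_single x]
  · simp only [sub_self, if_true]
    field_simp
  · intro y _ hy
    rw [if_neg (fun h0 => hy (sub_eq_zero.mp h0).symm), mul_zero]
  · intro hx
    exact absurd (Finset.mem_univ _) hx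

/-- Parseval's identity -/
theorem parseval (ψ : AddChar F ℂ) (hψ : ψ ≠ 1) (φ γ : F → ℂ) :
    ∑ x : F, φ x * conj (γ x) =
      (Fintype.card F : ℂ) * ∑ c : F, fhat ψ φ c * conj (fhat ψ γ c) := by
  have hq0 := card_ne_zero_complex (F := F)
  have h1 : ∀ c : F, ∑ x : F, ψ (c * x) * conj (γ x) =
      (Fintype.card F : ℂ) * conj (fhat ψ γ c) := by
    intro c
    unfold fhat
    rw [map_mul (starRingEnd ℂ), map_inv₀, Complex.conj_natCast, ← mul_assoc,
      mul_inv_cancel₀ hq0, one_mul, map_sum]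
    refine Finset.sum_congr rfl (fun x _ => ?_)
    rw [map_mul (starRingEnd ℂ), ← AddChar.map_neg_eq_conj, neg_neg]
  calc ∑ x : F, φ x * conj (γ x)
      = ∑ x : F, (∑ c : F, fhat ψ φ c * ψ (c * x)) * conj (γ x) := by
        refine Finset.sum_congr rfl (fun x _ => ?_)
        rw [← fourier_inv ψ hψ φ x]
    _ = ∑ c : F, fhat ψ φ c * ∑ x : F, ψ (c * x) * conj (γ x) := by
        simp only [Finset.sum_mul, Finset.mul_sum]
        rw [Finset.sum_comm]
        refine Finset.sum_congr rfl (fun c _ => Finset.sum_congr rfl (fun x _ => ?_))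
        ring
    _ = (Fintype.card F : ℂ) * ∑ c : F, fhat ψ φ c * conj (fhat ψ γ c) := by
        simp only [h1]
        rw [Finset.mul_sum]
        refine Finset.sum_congr rfl (fun c _ => ?_)
        ring

/-- a dilation-invariant function has dilation-invariant Fourier coefficients -/
theorem fhat_scale (ψ : AddChar F ℂ) (φ : F → ℂ) (a : F) (ha : a ≠ 0)
    (hφ : ∀ x : F, φ (a * x) = φ x) (c : F) : fhat ψ φ (c * a) = fhat ψ φ c := by
  unfold fhat
  congr 1
  rw [← Fintype.sum_equiv (Equiv.mulLeft₀ a ha) (fun x => ψ (-(c * (a * x))) * φ (a * x))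
    (fun y => ψ (-(c * y)) * φ y) (fun x => rfl)]
  refine Finset.sum_congr rfl (fun x _ => ?_)
  rw [hφ, mul_assoc]

/-- the Fourier coefficients of a dilated function -/
theorem fhat_dilate (ψ : AddChar F ℂ) (φ : F → ℂ) (a : F) (ha : a ≠ 0) (c : F) :
    fhat ψ (fun x => φ (a * x)) (c * a) = fhat ψ φ c := by
  unfold fhat
  congr 1
  rw [← Fintype.sum_equiv (Equiv.mulLeft₀ a ha) (fun x => ψ (-(c * (a * x))) * φ (a * x))
    (fun y => ψ (-(c * y)) * φ y) (fun x => rfl)]
  refine Finset.sum_congr rfl (fun x _ => ?_)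
  rw [mul_assoc]

section sq

variable {R : Type*}

theorem sqclass_even (h2 : ringChar F = 2) (κ : F → R)
    (hκ : ∀ c a : F, a ≠ 0 → κ (c * a ^ 2) = κ c) (c : F) (hc : c ≠ 0) : κ c = κ 1 := by
  obtain ⟨b, hb⟩ := FiniteField.isSquare_of_char_two h2 c
  have hb0 : b ≠ 0 := by
    rintro rfl
    simp at hb
    exact hc hb
  have h := hκ 1 b hb0
  rw [one_mul, sq, ← hb] at h
  exact h

theorem sqclass_odd_sq (κ : F → R)
    (hκ : ∀ c a : F, a ≠ 0 → κ (c * a ^ 2) = κ c) (c : F) (hc : c ≠ 0) (hsq : IsSquare c) :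
    κ c = κ 1 := by
  obtain ⟨b, hb⟩ := hsq
  have hb0 : b ≠ 0 := by
    rintro rfl
    simp at hb
    exact hc hb
  have h := hκ 1 b hb0
  rw [one_mul, sq, ← hb] at h
  exact h

theorem sqclass_odd_nsq (ε : F) (hε : ¬ IsSquare ε) (κ : F → R)
    (hκ : ∀ c a : F, a ≠ 0 → κ (c * a ^ 2) = κ c) (c : F) (hsq : ¬ IsSquare c) :
    κ c = κ ε := by
  have hε0 : ε ≠ 0 := by
    rintro rfl
    exact hε ⟨0, by simp⟩
  have hc0 : c ≠ 0 := by
    rintro rfl
    exact hsq ⟨0, by simp⟩
  have h1 : quadraticChar F c = -1 := quadraticChar_neg_one_iff_not_isSquare.mpr hsq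
  have h2 : quadraticChar F ε = -1 := quadraticChar_neg_one_iff_not_isSquare.mpr hε
  have h3 : quadraticChar F (c * ε⁻¹) = 1 := by
    have h4 : quadraticChar F (c * ε⁻¹) * quadraticChar F ε = quadraticChar F c := by
      rw [← map_mul, mul_assoc, inv_mul_cancel₀ hε0, mul_one]
    rw [h1, h2] at h4
    linarith
  obtain ⟨b, hb⟩ := (quadraticChar_one_iff_isSquare (mul_ne_zero hc0 (inv_ne_zero hε0))).mp h3
  have hb0 : b ≠ 0 := by
    rintro rfl
    simp at hb
    rcases hb with h | h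
    · exact hc0 h
    · exact hε0 h
  have h := hκ ε b hb0
  have hc' : c = ε * b ^ 2 := by
    rw [sq, ← hb]
    field_simp
  rw [hc']
  exact h

/-- the sum of a function which is constant on square classes (odd characteristic). -/
theorem sqclass_sum (h2 : ringChar F ≠ 2) (ε : F) (hε : ¬ IsSquare ε) (κ : F → ℂ)
    (hκ : ∀ c a : F, a ≠ 0 → κ (c * a ^ 2) = κ c) :
    ∑ c : F, κ c = κ 0 + (((Fintype.card F : ℂ) - 1) / 2) * (κ 1 + κ ε) := by
  rw [← Finset.add_sum_erase Finset.univ κ (Finset.mem_univ (0 : F))]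
  congr 1
  have hpt : ∀ c ∈ Finset.univ.erase (0 : F), κ c =
      (κ 1 + κ ε) / 2 + ((quadraticChar F c : ℤ) : ℂ) * ((κ 1 - κ ε) / 2) := by
    intro c hc
    have hc0 : c ≠ 0 := Finset.ne_of_mem_erase hc
    rcases quadraticChar_dichotomy hc0 with h | h
    · rw [h, sqclass_odd_sq κ hκ c hc0 ((quadraticChar_one_iff_isSquare hc0).mp h)]
      push_cast
      ring
    · rw [h, sqclass_odd_nsq ε hε κ hκ c (quadraticChar_neg_one_iff_not_isSquare.mp h)]
      push_cast
      ring
  rw [Finset.sum_congr rfl hpt, Finset.sum_add_distrib, ← Finset.sum_mul, Finset.sum_const,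
    Finset.card_erase_of_mem (Finset.mem_univ _), Finset.card_univ, nsmul_eq_mul,
    Nat.cast_sub (Fintype.card_pos (α := F)), Nat.cast_one]
  have hs : ∑ c ∈ Finset.univ.erase (0 : F), ((quadraticChar F c : ℤ) : ℂ) = 0 := by
    have h0 := quadraticChar_sum_zero h2
    have h1 : ∑ c : F, ((quadraticChar F c : ℤ) : ℂ) = 0 := by
      have : ((∑ c : F, quadraticChar F c : ℤ) : ℂ) = 0 := by rw [h0]; simp
      push_cast at this
      exact this
    rw [← Finset.add_sum_erase Finset.univ _ (Finset.mem_univ (0 : F))] at h1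
    simpa using h1
  rw [hs, zero_mul, add_zero]
  ring

end sq

end Cfsg.Agent.Lib.Helper39
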