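import Mathlib

set_option autoImplicit false

namespace Cfsg.Agent.Lib.Helper39

open Matrix

variable {F : Type*} [Field F]

/-- companion-type matrix with given trace `t` and determinant `d`. -/
def compMat (t d : F) : Matrix (Fin 2) (Fin 2) F := !![0, -d; 1, t]

theorem compMat_det (t d : F) : (compMat t d).det = d := by
  simp [compMat, Matrix.det_fin_two]

theorem compMat_trace (t d : F) : (compMat t d).trace = t := by
  simp [compMat, Matrix.trace_fin_two]

/-- the matrix with columns `v` and `A v`. -/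
def cycMat (A : Matrix (Fin 2) (Fin 2) F) (x y : F) : Matrix (Fin 2) (Fin 2) F :=
  !![x, A 0 0 * x + A 0 1 * y; y, A 1 0 * x + A 1 1 * y]

theorem cycMat_det (A : Matrix (Fin 2) (Fin 2) F) (x y : F) :
    (cycMat A x y).det = A 1 0 * x ^ 2 + (A 1 1 - A 0 0) * x * y - A 0 1 * y ^ 2 := by
  simp [cycMat, Matrix.det_fin_two]; ring

theorem mul_cycMat (A : Matrix (Fin 2) (Fin 2) F) (x y : F) :
    A * cycMat A x y = cycMat A x y * compMat A.trace A.det := by
  ext i j
  fin_cases i <;> fin_cases j <;>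
    simp [cycMat, compMat, Matrix.mul_apply, Fin.sum_univ_two, Matrix.det_fin_two,
      Matrix.trace_fin_two] <;> ring

/-- `A` is not a scalar matrix. -/
def NonScal (A : Matrix (Fin 2) (Fin 2) F) : Prop :=
  A 0 1 ≠ 0 ∨ A 1 0 ≠ 0 ∨ A 0 0 ≠ A 1 1

theorem compMat_nonScal (t d : F) : NonScal (compMat t d) := by
  right; left
  simp [compMat]

theorem eq_smul_one_of_not_nonScal {A : Matrix (Fin 2) (Fin 2) F} (hA : ¬ NonScal A) :
    A = A 0 0 • (1 : Matrix (Fin 2) (Fin 2) F) := by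
  unfold NonScal at hA
  push Not at hA
  obtain ⟨h1, h2, h3⟩ := hA
  ext i j
  fin_cases i <;> fin_cases j <;> simp [h1, h2, h3]

theorem not_nonScal_smul_one (a : F) : ¬ NonScal (a • (1 : Matrix (Fin 2) (Fin 2) F)) := by
  unfold NonScal
  simp

theorem exists_cyc_of_nonScal {A : Matrix (Fin 2) (Fin 2) F} (hA : NonScal A) :
    ∃ x y : F, (cycMat A x y).det ≠ 0 := by
  by_cases h10 : A 1 0 = 0
  · by_cases h01 : A 0 1 = 0
    · have h : A 0 0 ≠ A 1 1 := by
        rcases hA with h | h | h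
        · exact absurd h01 h
        · exact absurd h10 h
        · exact h
      refine ⟨1, 1, ?_⟩
      rw [cycMat_det, h10, h01]
      simp
      exact sub_ne_zero.mpr (Ne.symm h)
    · refine ⟨0, 1, ?_⟩
      rw [cycMat_det]
      simpa using h01
  · refine ⟨1, 0, ?_⟩
    rw [cycMat_det]
    simpa using h10

theorem conj_aux (A B P Q C : Matrix (Fin 2) (Fin 2) F) (hP : P.det ≠ 0)
    (hA : A * P = P * C) (hB : B * Q = Q * C) : (Q * P⁻¹) * A = B * (Q * P⁻¹) := by
  have hu : IsUnit P.det := isUnit_iff_ne_zero.mpr hP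
  have h1 : P⁻¹ * A = C * P⁻¹ := by
    have : P⁻¹ * (A * P) * P⁻¹ = P⁻¹ * (P * C) * P⁻¹ := by rw [hA]
    rw [Matrix.mul_assoc, Matrix.mul_assoc, Matrix.mul_nonsing_inv _ hu, Matrix.mul_one,
      ← Matrix.mul_assoc, Matrix.nonsing_inv_mul _ hu, Matrix.one_mul] at this
    exact this
  rw [Matrix.mul_assoc, h1, ← Matrix.mul_assoc, ← hB, Matrix.mul_assoc]

/-- Two non-scalar elements of `GL₂` with equal trace and determinant are conjugate. -/
theorem gl2_isConj_of_nonScal (g h : GL (Fin 2) F)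
    (hg : NonScal (g : Matrix (Fin 2) (Fin 2) F)) (hh : NonScal (h : Matrix (Fin 2) (Fin 2) F))
    (htr : (g : Matrix (Fin 2) (Fin 2) F).trace = (h : Matrix (Fin 2) (Fin 2) F).trace)
    (hdet : (g : Matrix (Fin 2) (Fin 2) F).det = (h : Matrix (Fin 2) (Fin 2) F).det) :
    IsConj g h := by
  obtain ⟨x, y, hP⟩ := exists_cyc_of_nonScal hg
  obtain ⟨x', y', hQ⟩ := exists_cyc_of_nonScal hh
  set P := cycMat (g : Matrix (Fin 2) (Fin 2) F) x y with hPdef
  set Q := cycMat (h : Matrix (Fin 2) (Fin 2) F) x' y' with hQdef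
  have hA := mul_cycMat (g : Matrix (Fin 2) (Fin 2) F) x y
  have hB := mul_cycMat (h : Matrix (Fin 2) (Fin 2) F) x' y'
  rw [← htr, ← hdet] at hB
  have key := conj_aux _ _ P Q _ hP hA hB
  have hdetc : (Q * P⁻¹).det ≠ 0 := by
    rw [Matrix.det_mul, Matrix.det_nonsing_inv]
    exact mul_ne_zero hQ (by simpa using hP)
  rw [isConj_iff]
  refine ⟨Matrix.GeneralLinearGroup.mkOfDetNeZero (Q * P⁻¹) hdetc, ?_⟩
  rw [mul_inv_eq_iff_eq_mul]
  apply Units.ext
  simpa using key

/-- trace and determinant are conjugation invariants in `GL₂`. -/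
theorem gl2_trace_eq_of_isConj {g h : GL (Fin 2) F} (hc : IsConj g h) :
    (g : Matrix (Fin 2) (Fin 2) F).trace = (h : Matrix (Fin 2) (Fin 2) F).trace := by
  rw [isConj_iff] at hc
  obtain ⟨c, rfl⟩ := hc
  rw [Units.val_mul, Units.val_mul, Matrix.trace_mul_comm, ← Matrix.mul_assoc, ← Units.val_mul,
    inv_mul_cancel]
  simp

theorem gl2_det_eq_of_isConj {g h : GL (Fin 2) F} (hc : IsConj g h) :
    (g : Matrix (Fin 2) (Fin 2) F).det = (h : Matrix (Fin 2) (Fin 2) F).det := by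
  rw [isConj_iff] at hc
  obtain ⟨c, rfl⟩ := hc
  rw [Units.val_mul, Units.val_mul, Matrix.det_mul, Matrix.det_mul, mul_comm, ← mul_assoc,
    ← Matrix.det_mul, ← Units.val_mul, inv_mul_cancel]
  simp

theorem gl2_nonScal_of_isConj {g h : GL (Fin 2) F} (hc : IsConj g h)
    (hg : NonScal (g : Matrix (Fin 2) (Fin 2) F)) :
    NonScal (h : Matrix (Fin 2) (Fin 2) F) := by
  by_contra hh
  have h1 := eq_smul_one_of_not_nonScal hh
  rw [isConj_iff] at hc
  obtain ⟨c, hc⟩ := hc
  have h2 : g = c⁻¹ * h * c := by rw [← hc]; group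
  have h3 : (g : Matrix (Fin 2) (Fin 2) F) = (h : Matrix (Fin 2) (Fin 2) F) := by
    rw [h2, Units.val_mul, Units.val_mul, h1, Matrix.mul_smul, Matrix.mul_one, Matrix.smul_mul,
      ← Units.val_mul, inv_mul_cancel]
    simp
  rw [h3] at hg
  exact hh hg

end Cfsg.Agent.Lib.Helper39
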