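import Mathlib
import Cfsg.Prelude.Def_Characters

set_option autoImplicit false

namespace Cfsg.Agent.Lib.Helper39

open scoped ComplexConjugate

section ext

variable {G : Type*} [Group G]

theorem extendByZero_coe (H : Subgroup G) (θ : H → ℂ) (h : H) :
    Cfsg.extendByZero H θ (h : G) = θ h :=
  Subtype.val_injective.extend_apply θ 0 h

theorem extendByZero_of_not_mem (H : Subgroup G) (θ : H → ℂ) (g : G) (hg : g ∉ H) :
    Cfsg.extendByZero H θ g = 0 := by
  apply Function.extend_apply'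
  rintro ⟨h, rfl⟩
  exact hg h.2

theorem extendByZero_of_mem (H : Subgroup G) (θ : H → ℂ) (g : G) (hg : g ∈ H) :
    Cfsg.extendByZero H θ g = θ ⟨g, hg⟩ :=
  extendByZero_coe H θ ⟨g, hg⟩

end ext

section ind

variable {G : Type*} [Group G] [Fintype G]

/-- the induced function is a class function. -/
theorem indFun_conj (H : Subgroup G) (θ : H → ℂ) (g x : G) :
    Cfsg.indFun H θ (x⁻¹ * g * x) = Cfsg.indFun H θ g := by
  unfold Cfsg.indFun
  congr 1
  refine Fintype.sum_equiv (Equiv.mulLeft x) _ _ (fun y => ?_)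
  simp only [Equiv.coe_mulLeft]
  congr 1
  group

/-- sum of an extension by zero against a function. -/
theorem sum_extendByZero_mul (H : Subgroup G) {κ : Type*} [Fintype κ] (e : κ ≃ H) (θ : H → ℂ)
    (f : G → ℂ) :
    ∑ g : G, Cfsg.extendByZero H θ g * f g = ∑ k : κ, θ (e k) * f (e k : G) := by
  symm
  refine Fintype.sum_of_injective (fun k => ((e k : H) : G)) ?_ _ _ ?_ ?_
  · intro a b hab
    exact e.injective (Subtype.ext hab)
  · intro g hg
    have : g ∉ H := by
      intro hgH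
      apply hg
      exact ⟨e.symm ⟨g, hgH⟩, by simp⟩
    rw [extendByZero_of_not_mem H θ g this, zero_mul]
  · intro k
    rw [extendByZero_coe]

/-- Frobenius reciprocity, for the bilinear pairing against a class function. -/
theorem sum_indFun_mul (H : Subgroup G) {κ : Type*} [Fintype κ] (e : κ ≃ H) (θ : H → ℂ)
    (f : G → ℂ) (hf : ∀ g x : G, f (x⁻¹ * g * x) = f g) :
    ∑ g : G, Cfsg.indFun H θ g * f g =
      (Fintype.card G : ℂ) * ((Fintype.card κ : ℂ)⁻¹ * ∑ k : κ, θ (e k) * f (e k : G)) := by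
  have hcard : Nat.card H = Fintype.card κ := by
    rw [← Nat.card_eq_fintype_card]
    exact Nat.card_congr e.symm
  have h1 : ∀ x : G, ∑ g : G, Cfsg.extendByZero H θ (x⁻¹ * g * x) * f g =
      ∑ k : κ, θ (e k) * f (e k : G) := by
    intro x
    rw [← sum_extendByZero_mul H e θ f]
    refine Fintype.sum_equiv (MulAut.conj x⁻¹).toEquiv _ _ (fun g => ?_)
    simp only [MulEquiv.toEquiv_eq_coe, MulEquiv.coe_toEquiv, MulAut.conj_apply, inv_inv]
    rw [hf]
  have h2 : ∀ g : G, Cfsg.indFun H θ g * f g =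
      (Fintype.card κ : ℂ)⁻¹ * ∑ x : G, Cfsg.extendByZero H θ (x⁻¹ * g * x) * f g := by
    intro g
    unfold Cfsg.indFun
    rw [hcard, mul_assoc, Finset.sum_mul]
  simp only [h2]
  rw [← Finset.mul_sum, Finset.sum_comm]
  simp only [h1, Finset.sum_const, Finset.card_univ, nsmul_eq_mul]
  ring

/-- the induced function computed on a right transversal. -/
theorem indFun_transversal (H : Subgroup G) {κ : Type*} [Fintype κ] (e : κ ≃ H) (θ : H → ℂ)
    {ι : Type*} [Fintype ι] (r : ι → G)
    (hbij : Function.Bijective (fun p : ι × κ => r p.1 * (e p.2 : G)))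
    (hθ : ∀ (g : G) (b : H), Cfsg.extendByZero H θ ((b : G)⁻¹ * g * b) = Cfsg.extendByZero H θ g)
    (g : G) :
    Cfsg.indFun H θ g = ∑ i : ι, Cfsg.extendByZero H θ ((r i)⁻¹ * g * r i) := by
  have hcard : Nat.card H = Fintype.card κ := by
    rw [← Nat.card_eq_fintype_card]
    exact Nat.card_congr e.symm
  unfold Cfsg.indFun
  rw [hcard]
  rw [← Fintype.sum_equiv (Equiv.ofBijective _ hbij)
    (fun p : ι × κ => Cfsg.extendByZero H θ ((r p.1 * (e p.2 : G))⁻¹ * g * (r p.1 * (e p.2 : G))))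
    (fun x => Cfsg.extendByZero H θ (x⁻¹ * g * x)) (fun p => rfl)]
  rw [Fintype.sum_prod_type]
  have h1 : ∀ (i : ι) (k : κ),
      Cfsg.extendByZero H θ ((r i * (e k : G))⁻¹ * g * (r i * (e k : G))) =
        Cfsg.extendByZero H θ ((r i)⁻¹ * g * r i) := by
    intro i k
    rw [← hθ ((r i)⁻¹ * g * r i) (e k)]
    congr 1
    group
  simp only [h1, Finset.sum_const, Finset.card_univ, nsmul_eq_mul]
  rw [← Finset.mul_sum, ← mul_assoc, inv_mul_cancel₀, one_mul]
  have : 0 < Fintype.card κ := by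
    rw [← hcard]
    exact Nat.card_pos
  exact_mod_cast this.ne'

end ind

section ip

variable {G : Type*} [Fintype G]

/-- the unnormalised hermitian pairing of two functions. -/
noncomputable def ip (f h : G → ℂ) : ℂ := ∑ g : G, f g * conj (h g)

theorem ip_sub_left (f₁ f₂ h : G → ℂ) : ip (f₁ - f₂) h = ip f₁ h - ip f₂ h := by
  simp [ip, sub_mul, Finset.sum_sub_distrib]

theorem ip_sub_right (f h₁ h₂ : G → ℂ) : ip f (h₁ - h₂) = ip f h₁ - ip f h₂ := by
  simp [ip, mul_sub, Finset.sum_sub_distrib]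

theorem ip_smul_left (c : ℂ) (f h : G → ℂ) : ip (c • f) h = c * ip f h := by
  simp [ip, Finset.mul_sum, mul_assoc]

theorem ip_smul_right (c : ℂ) (f h : G → ℂ) : ip f (c • h) = conj c * ip f h := by
  simp only [ip, Pi.smul_apply, smul_eq_mul, map_mul, Finset.mul_sum]
  refine Finset.sum_congr rfl (fun g _ => ?_)
  ring

theorem ip_conj_symm (f h : G → ℂ) : ip h f = conj (ip f h) := by
  simp only [ip, map_sum, map_mul, Complex.conj_conj]
  refine Finset.sum_congr rfl (fun g _ => ?_)
  ring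

theorem ip_self (f : G → ℂ) : ip f f = ((∑ g : G, Complex.normSq (f g) : ℝ) : ℂ) := by
  simp only [ip, Complex.mul_conj]
  push_cast
  rfl

theorem eq_zero_of_ip_self (f : G → ℂ) (h : ip f f = 0) : f = 0 := by
  rw [ip_self] at h
  have h' : ∑ g : G, Complex.normSq (f g) = 0 := by exact_mod_cast h
  have h2 := (Finset.sum_eq_zero_iff_of_nonneg (fun g _ => Complex.normSq_nonneg (f g))).mp h'
  funext g
  exact Complex.normSq_eq_zero.mp (h2 g (Finset.mem_univ g))

theorem ip_self_nonneg (f : G → ℂ) : ∃ r : ℝ, 0 ≤ r ∧ ip f f = (r : ℂ) :=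
  ⟨_, Finset.sum_nonneg (fun g _ => Complex.normSq_nonneg (f g)), ip_self f⟩

end ip

end Cfsg.Agent.Lib.Helper39
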