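import Mathlib
import Cfsg.Prelude.Def_Characters
import Cfsg.Prelude.Def_ParabolicCharacters
import Cfsg.Agent.Lib.Helper39.Ind

set_option autoImplicit false

namespace Cfsg.Agent.Lib.Helper39

open Matrix
open scoped ComplexConjugate

variable {F : Type*} [Field F]

theorem mem_borel_iff (g : GL (Fin 2) F) :
    g ∈ Cfsg.upperTriangularGL 2 F ↔ (g : Matrix (Fin 2) (Fin 2) F) 1 0 = 0 := by
  change (g : Matrix (Fin 2) (Fin 2) F).BlockTriangular id ↔ _
  constructor
  · intro h
    exact h (by decide : (id (0 : Fin 2)) < id 1)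
  · intro h i j hij
    fin_cases i <;> fin_cases j <;> simp_all

theorem gl2_det_ne_zero (g : GL (Fin 2) F) : (g : Matrix (Fin 2) (Fin 2) F).det ≠ 0 := by
  have := (Matrix.isUnit_iff_isUnit_det _).mp g.isUnit
  exact this.ne_zero

/-- the upper triangular matrix with diagonal `a, d` and corner `s`. -/
def bGL (a d : Fˣ) (s : F) : GL (Fin 2) F :=
  Matrix.GeneralLinearGroup.mkOfDetNeZero !![(a : F), s; 0, (d : F)] (by simp [Matrix.det_fin_two])

theorem bGL_coe (a d : Fˣ) (s : F) :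
    ((bGL a d s : GL (Fin 2) F) : Matrix (Fin 2) (Fin 2) F) = !![(a : F), s; 0, (d : F)] := rfl

theorem bGL_mem (a d : Fˣ) (s : F) : bGL a d s ∈ Cfsg.upperTriangularGL 2 F := by
  rw [mem_borel_iff, bGL_coe]; simp

/-- the parametrisation of the Borel subgroup. -/
def bMap (p : Fˣ × Fˣ × F) : Cfsg.upperTriangularGL 2 F := ⟨bGL p.1 p.2.1 p.2.2, bGL_mem _ _ _⟩

theorem bMap_bijective : Function.Bijective (bMap (F := F)) := by
  constructor
  · rintro ⟨a, d, s⟩ ⟨a', d', s'⟩ h
    have h1 : ((bGL a d s : GL (Fin 2) F) : Matrix (Fin 2) (Fin 2) F) =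
        ((bGL a' d' s' : GL (Fin 2) F) : Matrix (Fin 2) (Fin 2) F) := by
      have := congrArg (fun b : Cfsg.upperTriangularGL 2 F => ((b : GL (Fin 2) F) : Matrix (Fin 2) (Fin 2) F)) h
      exact this
    rw [bGL_coe, bGL_coe] at h1
    have e00 := congrFun (congrFun h1 0) 0
    have e01 := congrFun (congrFun h1 0) 1
    have e11 := congrFun (congrFun h1 1) 1
    simp at e00 e01 e11
    rw [Units.ext e00, Units.ext e11, e01]
  · rintro ⟨g, hg⟩
    rw [mem_borel_iff] at hg
    have hd := gl2_det_ne_zero g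
    rw [Matrix.det_fin_two, hg, mul_zero, sub_zero] at hd
    have h00 : (g : Matrix (Fin 2) (Fin 2) F) 0 0 ≠ 0 := left_ne_zero_of_mul hd
    have h11 : (g : Matrix (Fin 2) (Fin 2) F) 1 1 ≠ 0 := right_ne_zero_of_mul hd
    refine ⟨(Units.mk0 _ h00, Units.mk0 _ h11, (g : Matrix (Fin 2) (Fin 2) F) 0 1), ?_⟩
    apply Subtype.ext
    apply Units.ext
    change ((bGL _ _ _ : GL (Fin 2) F) : Matrix (Fin 2) (Fin 2) F) = _
    rw [bGL_coe]
    ext i j
    fin_cases i <;> fin_cases j <;> simp [hg]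

/-- the parametrisation of the Borel subgroup, as an equivalence. -/
noncomputable def bEquiv : Fˣ × Fˣ × F ≃ Cfsg.upperTriangularGL 2 F :=
  Equiv.ofBijective bMap bMap_bijective

theorem bEquiv_coe (p : Fˣ × Fˣ × F) :
    (((bEquiv p : Cfsg.upperTriangularGL 2 F) : GL (Fin 2) F) : Matrix (Fin 2) (Fin 2) F) =
      !![(p.1 : F), p.2.2; 0, (p.2.1 : F)] := rfl

/-- representatives of the non-trivial cosets of the Borel subgroup. -/
def nGL (y : F) : GL (Fin 2) F :=
  Matrix.GeneralLinearGroup.mkOfDetNeZero !![y, -1; 1, 0] (by simp [Matrix.det_fin_two])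

theorem nGL_coe (y : F) :
    ((nGL y : GL (Fin 2) F) : Matrix (Fin 2) (Fin 2) F) = !![y, -1; 1, 0] := rfl

/-- the inverse of `nGL y`. -/
def nInv (y : F) : GL (Fin 2) F :=
  Matrix.GeneralLinearGroup.mkOfDetNeZero !![0, 1; -1, y] (by simp [Matrix.det_fin_two])

theorem nGL_inv (y : F) : (nGL y)⁻¹ = nInv y := by
  apply inv_eq_of_mul_eq_one_right
  apply Units.ext
  rw [Units.val_mul]
  change !![y, -1; 1, 0] * !![0, 1; -1, y] = (1 : Matrix (Fin 2) (Fin 2) F)
  ext i j
  fin_cases i <;> fin_cases j <;> simp [Matrix.mul_apply, Fin.sum_univ_two]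

/-- coset representatives. -/
def rep : Option F → GL (Fin 2) F
  | none => 1
  | some y => nGL y

theorem nGL_mul_bGL (y : F) (a d : Fˣ) (s : F) :
    ((nGL y * bGL a d s : GL (Fin 2) F) : Matrix (Fin 2) (Fin 2) F) =
      !![y * a, y * s - d; (a : F), s] := by
  rw [Units.val_mul, nGL_coe, bGL_coe]
  ext i j
  fin_cases i <;> fin_cases j <;> simp [Matrix.mul_apply, Fin.sum_univ_two] <;> ring

theorem rep_bijective :
    Function.Bijective (fun p : Option F × (Fˣ × Fˣ × F) => rep p.1 * ((bEquiv p.2 : Cfsg.upperTriangularGL 2 F) : GL (Fin 2) F)) := by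
  constructor
  · rintro ⟨_ | y, a, d, s⟩ ⟨_ | y', a', d', s'⟩ h
    · simp only [rep, one_mul] at h
      have := bEquiv.injective (Subtype.ext h)
      rw [this]
    · exfalso
      simp only [rep, one_mul] at h
      have h1 := congrArg (fun g : GL (Fin 2) F => (g : Matrix (Fin 2) (Fin 2) F) 1 0) h
      change ((bGL a d s : GL (Fin 2) F) : Matrix (Fin 2) (Fin 2) F) 1 0 =
        ((nGL y' * bGL a' d' s' : GL (Fin 2) F) : Matrix (Fin 2) (Fin 2) F) 1 0 at h1
      rw [nGL_mul_bGL, bGL_coe] at h1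
      have h2 : (a' : F) = 0 := by simpa using h1.symm
      exact a'.ne_zero h2
    · exfalso
      simp only [rep, one_mul] at h
      have h1 := congrArg (fun g : GL (Fin 2) F => (g : Matrix (Fin 2) (Fin 2) F) 1 0) h
      change ((nGL y * bGL a d s : GL (Fin 2) F) : Matrix (Fin 2) (Fin 2) F) 1 0 =
        ((bGL a' d' s' : GL (Fin 2) F) : Matrix (Fin 2) (Fin 2) F) 1 0 at h1
      rw [nGL_mul_bGL, bGL_coe] at h1
      have h2 : (a : F) = 0 := by simp at h1
      exact a.ne_zero h2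
    · simp only [rep] at h
      have h1 : ((nGL y * bGL a d s : GL (Fin 2) F) : Matrix (Fin 2) (Fin 2) F) =
          ((nGL y' * bGL a' d' s' : GL (Fin 2) F) : Matrix (Fin 2) (Fin 2) F) :=
        congrArg (fun g : GL (Fin 2) F => (g : Matrix (Fin 2) (Fin 2) F)) h
      rw [nGL_mul_bGL, nGL_mul_bGL] at h1
      have e00 := congrFun (congrFun h1 0) 0
      have e01 := congrFun (congrFun h1 0) 1
      have e10 := congrFun (congrFun h1 1) 0
      have e11 := congrFun (congrFun h1 1) 1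
      simp at e00 e01 e10 e11
      have ha : a = a' := Units.ext e10
      subst ha
      subst e11
      have hy : y = y' := by
        have := mul_right_cancel₀ a.ne_zero e00
        exact this
      subst hy
      have hd : d = d' := by
        apply Units.ext
        linear_combination -e01
      subst hd
      rfl
  · intro g
    by_cases hg : (g : Matrix (Fin 2) (Fin 2) F) 1 0 = 0
    · have hmem : g ∈ Cfsg.upperTriangularGL 2 F := (mem_borel_iff g).mpr hg
      refine ⟨(none, bEquiv.symm ⟨g, hmem⟩), ?_⟩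
      simp [rep]
    · have hd := gl2_det_ne_zero g
      set a : Fˣ := Units.mk0 _ hg with ha
      have hdd : (g : Matrix (Fin 2) (Fin 2) F).det / (g : Matrix (Fin 2) (Fin 2) F) 1 0 ≠ 0 :=
        div_ne_zero hd hg
      refine ⟨(some ((g : Matrix (Fin 2) (Fin 2) F) 0 0 / (g : Matrix (Fin 2) (Fin 2) F) 1 0),
        a, Units.mk0 _ hdd, (g : Matrix (Fin 2) (Fin 2) F) 1 1), ?_⟩
      apply Units.ext
      change ((nGL _ * bGL _ _ _ : GL (Fin 2) F) : Matrix (Fin 2) (Fin 2) F) = _
      rw [nGL_mul_bGL]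
      ext i j
      fin_cases i <;> fin_cases j
      · simp [ha]; field_simp
      · simp [ha, Matrix.det_fin_two]; field_simp; ring
      · simp [ha]
      · simp

/-- the function `b ↦ α(b₁₁) β(b₂₂)` on the Borel subgroup, extended by zero. -/
noncomputable def lamFun (α β : MulChar F ℂ) [DecidableEq F] (g : GL (Fin 2) F) : ℂ :=
  if (g : Matrix (Fin 2) (Fin 2) F) 1 0 = 0 then
    α ((g : Matrix (Fin 2) (Fin 2) F) 0 0) * β ((g : Matrix (Fin 2) (Fin 2) F) 1 1) else 0

/-- the function on the Borel subgroup. -/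
noncomputable def lamB (α β : MulChar F ℂ) (b : Cfsg.upperTriangularGL 2 F) : ℂ :=
  α (((b : GL (Fin 2) F) : Matrix (Fin 2) (Fin 2) F) 0 0) *
    β (((b : GL (Fin 2) F) : Matrix (Fin 2) (Fin 2) F) 1 1)

theorem extendByZero_lamB [DecidableEq F] (α β : MulChar F ℂ) :
    Cfsg.extendByZero (Cfsg.upperTriangularGL 2 F) (lamB α β) = lamFun α β := by
  funext g
  by_cases hg : g ∈ Cfsg.upperTriangularGL 2 F
  · rw [extendByZero_of_mem _ _ g hg]
    rw [mem_borel_iff] at hg
    simp [lamFun, lamB, hg]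
  · rw [extendByZero_of_not_mem _ _ g hg]
    rw [mem_borel_iff] at hg
    simp [lamFun, hg]

theorem lamFun_conj_borel [DecidableEq F] (α β : MulChar F ℂ) (g : GL (Fin 2) F)
    (b : Cfsg.upperTriangularGL 2 F) :
    lamFun α β ((b : GL (Fin 2) F)⁻¹ * g * b) = lamFun α β g := by
  obtain ⟨b, hb⟩ := b
  set z := b⁻¹ * g * b with hz
  have hbz : b * z = g * b := by rw [hz]; group
  have hbz' : (b : Matrix (Fin 2) (Fin 2) F) * (z : Matrix (Fin 2) (Fin 2) F) =
      (g : Matrix (Fin 2) (Fin 2) F) * (b : Matrix (Fin 2) (Fin 2) F) := by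
    rw [← Units.val_mul, ← Units.val_mul, hbz]
  rw [mem_borel_iff] at hb
  have hd := gl2_det_ne_zero b
  rw [Matrix.det_fin_two, hb, mul_zero, sub_zero] at hd
  have h00 : (b : Matrix (Fin 2) (Fin 2) F) 0 0 ≠ 0 := left_ne_zero_of_mul hd
  have h11 : (b : Matrix (Fin 2) (Fin 2) F) 1 1 ≠ 0 := right_ne_zero_of_mul hd
  have e00 := congrFun (congrFun hbz' 0) 0
  have e10 := congrFun (congrFun hbz' 1) 0
  have e11 := congrFun (congrFun hbz' 1) 1
  simp only [Matrix.mul_apply, Fin.sum_univ_two, hb, zero_mul, mul_zero, zero_add, add_zero]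
    at e00 e10 e11
  change lamFun α β z = lamFun α β g
  unfold lamFun
  by_cases hg : (g : Matrix (Fin 2) (Fin 2) F) 1 0 = 0
  · have hz10 : (z : Matrix (Fin 2) (Fin 2) F) 1 0 = 0 := by
      rw [hg, zero_mul] at e10
      exact (mul_eq_zero.mp e10).resolve_left h11
    rw [if_pos hg, if_pos hz10]
    rw [hz10, mul_zero, add_zero] at e00
    rw [hg, zero_mul, zero_add] at e11
    have hz00 : (z : Matrix (Fin 2) (Fin 2) F) 0 0 = (g : Matrix (Fin 2) (Fin 2) F) 0 0 := by
      apply mul_left_cancel₀ h00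
      rw [e00, mul_comm]
    have hz11 : (z : Matrix (Fin 2) (Fin 2) F) 1 1 = (g : Matrix (Fin 2) (Fin 2) F) 1 1 := by
      apply mul_left_cancel₀ h11
      rw [e11, mul_comm]
    rw [hz00, hz11]
  · have hz10 : (z : Matrix (Fin 2) (Fin 2) F) 1 0 ≠ 0 := by
      intro h0
      rw [h0, mul_zero] at e10
      exact hg ((mul_eq_zero.mp e10.symm).resolve_right h00)
    rw [if_neg hg, if_neg hz10]

theorem conj_mat (y a b c d : F) :
    !![0, 1; -1, y] * !![a, b; c, d] * !![y, -1; 1, 0] =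
      !![c * y + d, -c; c * y ^ 2 + (d - a) * y - b, a - c * y] := by
  ext i j
  fin_cases i <;> fin_cases j <;> simp [Matrix.mul_apply, Fin.sum_univ_two] <;> ring

theorem nGL_conj (y : F) (g : GL (Fin 2) F) :
    (((nGL y)⁻¹ * g * nGL y : GL (Fin 2) F) : Matrix (Fin 2) (Fin 2) F) =
      !![(g : Matrix (Fin 2) (Fin 2) F) 1 0 * y + (g : Matrix (Fin 2) (Fin 2) F) 1 1,
         -(g : Matrix (Fin 2) (Fin 2) F) 1 0;
         (g : Matrix (Fin 2) (Fin 2) F) 1 0 * y ^ 2 + ((g : Matrix (Fin 2) (Fin 2) F) 1 1 -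
           (g : Matrix (Fin 2) (Fin 2) F) 0 0) * y - (g : Matrix (Fin 2) (Fin 2) F) 0 1,
         (g : Matrix (Fin 2) (Fin 2) F) 0 0 - (g : Matrix (Fin 2) (Fin 2) F) 1 0 * y] := by
  rw [nGL_inv, Units.val_mul, Units.val_mul]
  change !![0, 1; -1, y] * (g : Matrix (Fin 2) (Fin 2) F) * !![y, -1; 1, 0] = _
  conv_lhs => rw [Matrix.eta_fin_two (g : Matrix (Fin 2) (Fin 2) F)]
  exact conj_mat y _ _ _ _

/-- The explicit formula for the function induced from the Borel subgroup of `GL₂`. -/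
theorem indFun_lamB [Fintype F] [DecidableEq F] (α β : MulChar F ℂ) (g : GL (Fin 2) F) :
    Cfsg.indFun (Cfsg.upperTriangularGL 2 F) (lamB α β) g =
      lamFun α β g + ∑ y : F,
        if (g : Matrix (Fin 2) (Fin 2) F) 1 0 * y ^ 2 + ((g : Matrix (Fin 2) (Fin 2) F) 1 1 -
           (g : Matrix (Fin 2) (Fin 2) F) 0 0) * y - (g : Matrix (Fin 2) (Fin 2) F) 0 1 = 0 then
          α ((g : Matrix (Fin 2) (Fin 2) F) 1 0 * y + (g : Matrix (Fin 2) (Fin 2) F) 1 1) *
            β ((g : Matrix (Fin 2) (Fin 2) F) 0 0 - (g : Matrix (Fin 2) (Fin 2) F) 1 0 * y)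
        else 0 := by
  rw [indFun_transversal (Cfsg.upperTriangularGL 2 F) bEquiv (lamB α β) rep rep_bijective
    (by
      intro g b
      rw [extendByZero_lamB]
      exact lamFun_conj_borel α β g b) g]
  rw [extendByZero_lamB, Fintype.sum_option]
  congr 1
  · simp [rep]
  · refine Finset.sum_congr rfl (fun y _ => ?_)
    simp only [rep, lamFun, nGL_conj]
    simp

end Cfsg.Agent.Lib.Helper39
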