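import Mathlib

set_option autoImplicit false

namespace Cfsg.Agent.Lib.Helper39

open scoped ComplexConjugate

variable {F : Type*} [Field F] [Fintype F] [DecidableEq F]

theorem mulChar_norm_unit (χ : MulChar F ℂ) (a : Fˣ) : ‖χ (a : F)‖ = 1 := by
  classical
  have h1 : (a : F) ^ (Fintype.card F - 1) = 1 :=
    FiniteField.pow_card_sub_one_eq_one (a : F) a.ne_zero
  have h2 : χ (a : F) ^ (Fintype.card F - 1) = 1 := by
    rw [← map_pow, h1, map_one]
  have h3 : Fintype.card F - 1 ≠ 0 := by
    have := Fintype.one_lt_card (α := F)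
    omega
  exact Complex.norm_eq_one_of_pow_eq_one h2 h3

theorem mulChar_conj_unit (χ : MulChar F ℂ) (a : Fˣ) : conj (χ (a : F)) = χ⁻¹ (a : F) := by
  rw [MulChar.inv_apply_eq_inv', ← Complex.inv_eq_conj (mulChar_norm_unit χ a)]

theorem mulChar_sum_units (χ : MulChar F ℂ) [Decidable (χ = 1)] :
    ∑ a : Fˣ, χ (a : F) = if χ = 1 then (Fintype.card F : ℂ) - 1 else 0 := by
  classical
  split_ifs with h
  · subst h
    simp only [MulChar.one_apply_coe, Finset.sum_const, Finset.card_univ, nsmul_eq_mul, mul_one]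
    rw [Fintype.card_units, Nat.cast_sub Fintype.card_pos, Nat.cast_one]
  · rw [← MulChar.sum_eq_zero_of_ne_one h]
    refine Fintype.sum_of_injective (fun a : Fˣ => (a : F)) Units.val_injective _ _ ?_ (fun _ => rfl)
    intro a ha
    apply MulChar.map_nonunit
    intro hu
    exact ha ⟨hu.unit, rfl⟩

theorem mulChar_orth (α α' : MulChar F ℂ) [Decidable (α = α')] :
    ∑ a : Fˣ, α (a : F) * conj (α' (a : F)) = if α = α' then (Fintype.card F : ℂ) - 1 else 0 := by
  classical
  have h1 : ∀ a : Fˣ, α (a : F) * conj (α' (a : F)) = (α * α'⁻¹) (a : F) := by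
    intro a
    rw [mulChar_conj_unit, MulChar.mul_apply]
  simp only [h1]
  rw [mulChar_sum_units]
  by_cases h : α = α'
  · rw [if_pos h, if_pos (by rw [h, mul_inv_cancel])]
  · rw [if_neg h, if_neg (by rw [mul_inv_eq_one]; exact h)]

end Cfsg.Agent.Lib.Helper39
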