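import Mathlib
import Cfsg.Prelude.Def_Characters
import Cfsg.Prelude.Def_ParabolicCharacters
import Cfsg.Agent.Lib.Helper39.GL2Ind
import Cfsg.Agent.Lib.Helper39.MulCharAux

set_option autoImplicit false

namespace Cfsg.Agent.Lib.Helper39

open Matrix
open scoped ComplexConjugate

variable {F : Type*} [Field F] [Fintype F] [DecidableEq F]

/-- number of solutions of a linear equation with non-zero leading coefficient -/
theorem sum_ite_linear (u b : F) (hu : u ≠ 0) :
    ∑ y : F, (if u * y - b = 0 then (1 : ℂ) else 0) = 1 := by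
  rw [Finset.sum_eq_single (b / u)]
  · rw [if_pos]
    field_simp
    ring
  · intro y _ hy
    rw [if_neg]
    intro h
    apply hy
    field_simp
    linear_combination h
  · intro h
    exact absurd (Finset.mem_univ _) h

/-- The principal series function does not depend on the order of the two characters. -/
theorem indFun_lamB_swap (α β : MulChar F ℂ) :
    Cfsg.indFun (Cfsg.upperTriangularGL 2 F) (lamB α β) =
      Cfsg.indFun (Cfsg.upperTriangularGL 2 F) (lamB β α) := by
  funext g
  rw [indFun_lamB, indFun_lamB]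
  set a := (g : Matrix (Fin 2) (Fin 2) F) 0 0 with ha
  set b := (g : Matrix (Fin 2) (Fin 2) F) 0 1 with hb
  set c := (g : Matrix (Fin 2) (Fin 2) F) 1 0 with hc
  set d := (g : Matrix (Fin 2) (Fin 2) F) 1 1 with hd
  by_cases hc0 : c = 0
  · simp only [lamFun, ← hc, ← ha, ← hd, hc0, if_true, zero_mul, zero_add, sub_zero]
    have h1 : ∀ K : ℂ, ∑ y : F, (if (d - a) * y - b = 0 then K else 0) =
        (∑ y : F, (if (d - a) * y - b = 0 then (1 : ℂ) else 0)) * K := by
      intro K
      rw [Finset.sum_mul]
      refine Finset.sum_congr rfl (fun y _ => ?_)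
      split_ifs <;> simp
    rw [h1 (α d * β a), h1 (β d * α a)]
    by_cases hda : d = a
    · rw [hda]; ring
    · rw [sum_ite_linear (d - a) b (sub_ne_zero.mpr hda)]
      ring
  · have hl1 : lamFun α β g = 0 := by simp [lamFun, ← hc, hc0]
    have hl2 : lamFun β α g = 0 := by simp [lamFun, ← hc, hc0]
    rw [hl1, hl2]
    congr 1
    refine Fintype.sum_equiv (Equiv.subLeft ((a - d) / c)) _ _ (fun y => ?_)
    simp only [Equiv.subLeft_apply]
    have e1 : c * ((a - d) / c - y) ^ 2 + (d - a) * ((a - d) / c - y) - b =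
        c * y ^ 2 + (d - a) * y - b := by
      field_simp
      ring
    have e2 : c * ((a - d) / c - y) + d = a - c * y := by
      field_simp
      ring
    have e3 : a - c * ((a - d) / c - y) = c * y + d := by
      field_simp
      ring
    rw [e1, e2, e3, mul_comm (β (a - c * y))]

/-- the value of the principal series function at a diagonal matrix. -/
theorem indFun_lamB_diag (α β : MulChar F ℂ) (a d : Fˣ) :
    Cfsg.indFun (Cfsg.upperTriangularGL 2 F) (lamB α β) (bGL a d 0) =
      α (a : F) * β (d : F) + (if a = d then (Fintype.card F : ℂ) else 1) * (α (d : F) * β (a : F)) := by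
  rw [indFun_lamB]
  simp only [bGL_coe, lamFun]
  simp only [Matrix.of_apply, Matrix.cons_val', Matrix.cons_val_zero, Matrix.cons_val_one,
    Matrix.cons_val_fin_one, if_true, zero_mul, zero_add, sub_zero]
  congr 1
  have h1 : ∀ K : ℂ, ∑ y : F, (if ((d : F) - (a : F)) * y = 0 then K else 0) =
      (∑ y : F, (if ((d : F) - (a : F)) * y - 0 = 0 then (1 : ℂ) else 0)) * K := by
    intro K
    rw [Finset.sum_mul]
    refine Finset.sum_congr rfl (fun y _ => ?_)
    rw [sub_zero]
    split_ifs <;> simp
  rw [h1]
  by_cases had : a = d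
  · rw [if_pos had, had]
    simp
  · rw [if_neg had, sum_ite_linear]
    intro h
    apply had
    apply Units.ext
    exact (sub_eq_zero.mp h).symm

theorem sum_pair_aux (x y z w p r : Fˣ → ℂ) :
    ∑ a : Fˣ, ∑ d : Fˣ, (x a * y d + z d * w a) * (p a * r d) =
      (∑ a : Fˣ, x a * p a) * (∑ d : Fˣ, y d * r d) +
        (∑ a : Fˣ, w a * p a) * (∑ d : Fˣ, z d * r d) := by
  rw [Finset.sum_mul_sum, Finset.sum_mul_sum, ← Finset.sum_add_distrib]
  refine Finset.sum_congr rfl (fun a _ => ?_)
  rw [← Finset.sum_add_distrib]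
  refine Finset.sum_congr rfl (fun d _ => ?_)
  ring

theorem card_sub_one_ne_zero : (Fintype.card F : ℂ) - 1 ≠ 0 := by
  have h := Fintype.one_lt_card (α := F)
  have h2 : (1 : ℝ) < (Fintype.card F : ℝ) := by exact_mod_cast h
  intro h0
  have h3 : (Fintype.card F : ℂ) = 1 := by linear_combination h0
  have h4 : (Fintype.card F : ℝ) = 1 := by exact_mod_cast h3
  linarith

/-- the symmetrised products of two pairs of characters agree only for equal unordered pairs -/
theorem pair_eq_of_sym (α β α' β' : MulChar F ℂ)
    (h : ∀ a d : Fˣ, α (a : F) * β (d : F) + α (d : F) * β (a : F) =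
      α' (a : F) * β' (d : F) + α' (d : F) * β' (a : F)) :
    (α = α' ∧ β = β') ∨ (α = β' ∧ β = α') := by
  classical
  have hq := card_sub_one_ne_zero (F := F)
  have h1 : ∑ a : Fˣ, ∑ d : Fˣ, (α (a : F) * β (d : F) + α (d : F) * β (a : F)) *
      (conj (α (a : F)) * conj (β (d : F))) =
      ∑ a : Fˣ, ∑ d : Fˣ, (α' (a : F) * β' (d : F) + α' (d : F) * β' (a : F)) *
      (conj (α (a : F)) * conj (β (d : F))) := by
    refine Finset.sum_congr rfl (fun a _ => Finset.sum_congr rfl (fun d _ => ?_))
    rw [h a d]
  have k1 := sum_pair_aux (fun a : Fˣ => α (a : F)) (fun d : Fˣ => β (d : F))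
    (fun d : Fˣ => α (d : F)) (fun a : Fˣ => β (a : F)) (fun a : Fˣ => conj (α (a : F)))
    (fun d : Fˣ => conj (β (d : F)))
  have k2 := sum_pair_aux (fun a : Fˣ => α' (a : F)) (fun d : Fˣ => β' (d : F))
    (fun d : Fˣ => α' (d : F)) (fun a : Fˣ => β' (a : F)) (fun a : Fˣ => conj (α (a : F)))
    (fun d : Fˣ => conj (β (d : F)))
  beta_reduce at k1 k2
  rw [k1, k2] at h1
  simp only [mulChar_orth] at h1
  rw [if_pos trivial] at h1
  by_contra hcon
  push Not at hcon
  obtain ⟨hc1, hc2⟩ := hcon
  have hpos : ((Fintype.card F : ℂ) - 1) * ((Fintype.card F : ℂ) - 1) ≠ 0 := mul_ne_zero hq hq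
  by_cases e1 : α' = α
  · have e2 : β' ≠ β := fun e => hc1 e1.symm e.symm
    rw [if_neg e2, mul_zero, zero_add] at h1
    by_cases e3 : β' = α
    · have e4 : α' ≠ β := fun e => hc2 e3.symm e.symm
      rw [if_neg e4, mul_zero] at h1
      by_cases e5 : β = α
      · exact e2 (e3.trans e5.symm)
      · rw [if_neg e5, zero_mul, add_zero] at h1
        exact hpos h1
    · rw [if_neg e3, zero_mul] at h1
      by_cases e5 : β = α
      · rw [if_pos e5, if_pos e5.symm] at h1
        apply hpos
        linear_combination h1 / 2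
      · rw [if_neg e5, zero_mul, add_zero] at h1
        exact hpos h1
  · rw [if_neg e1, zero_mul, zero_add] at h1
    by_cases e3 : β' = α
    · have e4 : α' ≠ β := fun e => hc2 e3.symm e.symm
      rw [if_neg e4, mul_zero] at h1
      by_cases e5 : β = α
      · rw [if_pos e5, if_pos e5.symm] at h1
        apply hpos
        linear_combination h1 / 2
      · rw [if_neg e5, zero_mul, add_zero] at h1
        exact hpos h1
    · rw [if_neg e3, zero_mul] at h1
      by_cases e5 : β = α
      · rw [if_pos e5, if_pos e5.symm] at h1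
        apply hpos
        linear_combination h1 / 2
      · rw [if_neg e5, zero_mul, add_zero] at h1
        exact hpos h1

/-- two principal series functions agree exactly for equal unordered pairs of characters. -/
theorem indFun_lamB_eq_iff (α β α' β' : MulChar F ℂ) :
    Cfsg.indFun (Cfsg.upperTriangularGL 2 F) (lamB α β) =
      Cfsg.indFun (Cfsg.upperTriangularGL 2 F) (lamB α' β') ↔
      (α = α' ∧ β = β') ∨ (α = β' ∧ β = α') := by
  constructor
  · intro h
    apply pair_eq_of_sym
    intro a d
    have h1 := congrFun h (bGL a d 0)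
    rw [indFun_lamB_diag, indFun_lamB_diag] at h1
    by_cases had : a = d
    · rw [if_pos had] at h1
      subst had
      have hq : (1 : ℂ) + (Fintype.card F : ℂ) ≠ 0 := by
        intro h0
        have h2 : ((1 + Fintype.card F : ℕ) : ℂ) = 0 := by push_cast; exact h0
        have h3 : (1 + Fintype.card F : ℕ) = 0 := by exact_mod_cast h2
        omega
      have h2 : (1 + (Fintype.card F : ℂ)) * (α (a : F) * β (a : F)) =
          (1 + (Fintype.card F : ℂ)) * (α' (a : F) * β' (a : F)) := by
        linear_combination h1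
      have h3 := mul_left_cancel₀ hq h2
      linear_combination 2 * h3
    · rw [if_neg had] at h1
      linear_combination h1
  · rintro (⟨rfl, rfl⟩ | ⟨rfl, rfl⟩)
    · rfl
    · exact indFun_lamB_swap α β

end Cfsg.Agent.Lib.Helper39
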