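import Mathlib
import Cfsg.Prelude.Def_Characters
import Cfsg.Prelude.Def_ParabolicCharacters
import Cfsg.Agent.Lib.Helper39.GL2
import Cfsg.Agent.Lib.Helper39.GL2Series
import Cfsg.Agent.Lib.Helper39.CharGen

set_option autoImplicit false

namespace Cfsg.Agent.Lib.Helper39

open Matrix Representation
open scoped ComplexConjugate

universe u

section Elements

variable {F : Type u} [Field F]

/-- upper unitriangular element -/
def tGL (x : F) : GL (Fin 2) F :=
  Matrix.GeneralLinearGroup.mkOfDetNeZero !![1, x; 0, 1] (by simp [Matrix.det_fin_two])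

/-- lower unitriangular element -/
def lGL (y : F) : GL (Fin 2) F :=
  Matrix.GeneralLinearGroup.mkOfDetNeZero !![1, 0; y, 1] (by simp [Matrix.det_fin_two])

/-- scalar element -/
def sGL (z : Fˣ) : GL (Fin 2) F :=
  Matrix.GeneralLinearGroup.mkOfDetNeZero !![(z : F), 0; 0, (z : F)] (by simp [Matrix.det_fin_two])

theorem tGL_coe (x : F) :
    ((tGL x : GL (Fin 2) F) : Matrix (Fin 2) (Fin 2) F) = !![1, x; 0, 1] := rfl

theorem lGL_coe (y : F) :
    ((lGL y : GL (Fin 2) F) : Matrix (Fin 2) (Fin 2) F) = !![1, 0; y, 1] := rfl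

theorem sGL_coe (z : Fˣ) :
    ((sGL z : GL (Fin 2) F) : Matrix (Fin 2) (Fin 2) F) = !![(z : F), 0; 0, (z : F)] := rfl

theorem tGL_zero : tGL (0 : F) = 1 := by
  apply Units.ext
  rw [tGL_coe]
  ext i j
  fin_cases i <;> fin_cases j <;> simp

theorem tGL_add (x y : F) : tGL (x + y) = tGL x * tGL y := by
  apply Units.ext
  rw [Units.val_mul, tGL_coe, tGL_coe, tGL_coe]
  ext i j
  fin_cases i <;> fin_cases j <;> simp [Matrix.mul_apply, Fin.sum_univ_two, add_comm]

/-- the unipotent subgroup as a homomorphism from the additive group of the field -/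
def tHom : Multiplicative F →* GL (Fin 2) F where
  toFun x := tGL (Multiplicative.toAdd x)
  map_one' := tGL_zero
  map_mul' x y := tGL_add _ _

theorem tHom_apply (x : Multiplicative F) : tHom x = tGL (Multiplicative.toAdd x) := rfl

theorem sGL_comm (z : Fˣ) (g : GL (Fin 2) F) : sGL z * g = g * sGL z := by
  apply Units.ext
  rw [Units.val_mul, Units.val_mul, sGL_coe]
  ext i j
  fin_cases i <;> fin_cases j <;> simp [Matrix.mul_apply, Fin.sum_univ_two, mul_comm]

theorem tGL_isConj (x : F) (hx : x ≠ 0) : IsConj (tGL x) (tGL 1) := by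
  apply gl2_isConj_of_nonScal
  · left
    simpa [tGL_coe] using hx
  · left
    simp [tGL_coe]
  · simp [tGL_coe, Matrix.trace_fin_two]
  · simp [tGL_coe, Matrix.det_fin_two]

theorem lGL_isConj (y : F) (hy : y ≠ 0) : IsConj (lGL y) (tGL 1) := by
  apply gl2_isConj_of_nonScal
  · right; left
    simpa [lGL_coe] using hy
  · left
    simp [tGL_coe]
  · simp [tGL_coe, lGL_coe, Matrix.trace_fin_two]
  · simp [tGL_coe, lGL_coe, Matrix.det_fin_two]

theorem tlt_coe (x y w : F) :
    ((tGL x * lGL y * tGL w : GL (Fin 2) F) : Matrix (Fin 2) (Fin 2) F) =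
      !![1 + x * y, (1 + x * y) * w + x; y, y * w + 1] := by
  rw [Units.val_mul, Units.val_mul, tGL_coe, tGL_coe, lGL_coe]
  ext i j
  fin_cases i <;> fin_cases j <;> simp [Matrix.mul_apply, Fin.sum_univ_two]

theorem tlt_injective :
    Function.Injective (fun p : F × Fˣ × F => tGL p.1 * lGL (p.2.1 : F) * tGL p.2.2) := by
  rintro ⟨x, y, w⟩ ⟨x', y', w'⟩ h
  have h1 : ((tGL x * lGL (y : F) * tGL w : GL (Fin 2) F) : Matrix (Fin 2) (Fin 2) F) =
      ((tGL x' * lGL (y' : F) * tGL w' : GL (Fin 2) F) : Matrix (Fin 2) (Fin 2) F) :=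
    congrArg (fun g : GL (Fin 2) F => (g : Matrix (Fin 2) (Fin 2) F)) h
  rw [tlt_coe, tlt_coe] at h1
  have e00 := congrFun (congrFun h1 0) 0
  have e10 := congrFun (congrFun h1 1) 0
  have e11 := congrFun (congrFun h1 1) 1
  simp at e00 e10 e11
  have hy : y = y' := Units.ext e10
  subst hy
  have hx : x = x' := by
    apply mul_right_cancel₀ y.ne_zero
    linear_combination e00
  have hw : w = w' := by
    apply mul_left_cancel₀ y.ne_zero
    linear_combination e11
  rw [hx, hw]

theorem st_coe (z : Fˣ) (x : F) :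
    ((sGL z * tGL x : GL (Fin 2) F) : Matrix (Fin 2) (Fin 2) F) = !![(z : F), z * x; 0, (z : F)] := by
  rw [Units.val_mul, tGL_coe, sGL_coe]
  ext i j
  fin_cases i <;> fin_cases j <;> simp [Matrix.mul_apply, Fin.sum_univ_two]

theorem sl_coe (z : Fˣ) (y : F) :
    ((sGL z * lGL y : GL (Fin 2) F) : Matrix (Fin 2) (Fin 2) F) = !![(z : F), 0; z * y, (z : F)] := by
  rw [Units.val_mul, lGL_coe, sGL_coe]
  ext i j
  fin_cases i <;> fin_cases j <;> simp [Matrix.mul_apply, Fin.sum_univ_two]

/-- the family of central multiples of unipotent elements -/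
def stlFam : Fˣ × (F ⊕ Fˣ) → GL (Fin 2) F
  | (z, Sum.inl x) => sGL z * tGL x
  | (z, Sum.inr y) => sGL z * lGL (y : F)

theorem stlFam_injective : Function.Injective (stlFam (F := F)) := by
  rintro ⟨z, x | y⟩ ⟨z', x' | y'⟩ h
  · have h1 : ((sGL z * tGL x : GL (Fin 2) F) : Matrix (Fin 2) (Fin 2) F) =
        ((sGL z' * tGL x' : GL (Fin 2) F) : Matrix (Fin 2) (Fin 2) F) :=
      congrArg (fun g : GL (Fin 2) F => (g : Matrix (Fin 2) (Fin 2) F)) h
    rw [st_coe, st_coe] at h1
    have e00 := congrFun (congrFun h1 0) 0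
    have e01 := congrFun (congrFun h1 0) 1
    simp at e00 e01
    have hz : z = z' := Units.ext e00
    subst hz
    have hx : x = x' := mul_left_cancel₀ z.ne_zero e01
    rw [hx]
  · exfalso
    have h1 : ((sGL z * tGL x : GL (Fin 2) F) : Matrix (Fin 2) (Fin 2) F) =
        ((sGL z' * lGL (y' : F) : GL (Fin 2) F) : Matrix (Fin 2) (Fin 2) F) :=
      congrArg (fun g : GL (Fin 2) F => (g : Matrix (Fin 2) (Fin 2) F)) h
    rw [st_coe, sl_coe] at h1
    have e10 := congrFun (congrFun h1 1) 0
    simp at e10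
  · exfalso
    have h1 : ((sGL z * lGL (y : F) : GL (Fin 2) F) : Matrix (Fin 2) (Fin 2) F) =
        ((sGL z' * tGL x' : GL (Fin 2) F) : Matrix (Fin 2) (Fin 2) F) :=
      congrArg (fun g : GL (Fin 2) F => (g : Matrix (Fin 2) (Fin 2) F)) h
    rw [st_coe, sl_coe] at h1
    have e10 := congrFun (congrFun h1 1) 0
    simp at e10
  · have h1 : ((sGL z * lGL (y : F) : GL (Fin 2) F) : Matrix (Fin 2) (Fin 2) F) =
        ((sGL z' * lGL (y' : F) : GL (Fin 2) F) : Matrix (Fin 2) (Fin 2) F) :=
      congrArg (fun g : GL (Fin 2) F => (g : Matrix (Fin 2) (Fin 2) F)) h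
    rw [sl_coe, sl_coe] at h1
    have e00 := congrFun (congrFun h1 0) 0
    have e10 := congrFun (congrFun h1 1) 0
    simp at e00 e10
    have hz : z = z' := Units.ext e00
    subst hz
    have hy : y = y' := Units.ext (mul_left_cancel₀ z.ne_zero e10)
    rw [hy]

end Elements

section Unip

variable {F : Type u} [Field F] [Fintype F] [DecidableEq F]
variable {V : Type*} [AddCommGroup V] [Module ℂ V] [FiniteDimensional ℂ V]

theorem card_GL2_real : (Fintype.card (GL (Fin 2) F) : ℝ) =
    ((Fintype.card F : ℝ) ^ 2 - 1) * ((Fintype.card F : ℝ) ^ 2 - (Fintype.card F : ℝ)) := by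
  have h : Fintype.card (GL (Fin 2) F) =
      (Fintype.card F ^ 2 - 1) * (Fintype.card F ^ 2 - Fintype.card F) := by
    rw [← Nat.card_eq_fintype_card, Matrix.card_GL_field]
    simp [Fin.prod_univ_two]
  have hq := Fintype.one_lt_card (α := F)
  have h1 : 1 ≤ Fintype.card F ^ 2 := Nat.one_le_pow _ _ (by omega)
  have h2 : Fintype.card F ≤ Fintype.card F ^ 2 := by nlinarith
  rw [h]
  push_cast [Nat.cast_sub h1, Nat.cast_sub h2]
  ring

theorem sum_tGL_aux (c : F → ℂ) (φ : F → ℂ) (hc : ∀ x : F, x ≠ 0 → c x = c 1) :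
    ∑ x : F, φ x * c x = φ 0 * c 0 + (∑ x : F, φ x - φ 0) * c 1 := by
  rw [← Finset.add_sum_erase Finset.univ _ (Finset.mem_univ (0 : F))]
  congr 1
  have h1 : ∑ x ∈ Finset.univ.erase (0 : F), φ x * c x =
      ∑ x ∈ Finset.univ.erase (0 : F), φ x * c 1 := by
    refine Finset.sum_congr rfl (fun x hx => ?_)
    rw [hc x (Finset.ne_of_mem_erase hx)]
  rw [h1, ← Finset.sum_mul]
  congr 1
  rw [← Finset.add_sum_erase Finset.univ φ (Finset.mem_univ (0 : F))]
  ring

theorem exists_addChar_ne_one : ∃ ψ : AddChar F ℂ, ψ ≠ 1 := by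
  refine ⟨AddChar.FiniteField.primitiveChar_to_Complex F, ?_⟩
  have h := AddChar.FiniteField.primitiveChar_to_Complex_isPrimitive F
  have h1 := h (one_ne_zero)
  rwa [AddChar.mulShift_one] at h1

/-- the restriction of a representation of `GL₂` to the unipotent subgroup: the multiplicity `m` of
the trivial character and the common multiplicity `k` of the non-trivial characters. -/
theorem unip_decomp (ρ : Representation ℂ (GL (Fin 2) F) V) :
    ∃ m k : ℕ, ρ.character 1 = (m : ℂ) + ((Fintype.card F : ℂ) - 1) * k ∧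
      ρ.character (tGL 1) = (m : ℂ) - k ∧
      ∑ x : F, ρ.character (tGL x) = (Fintype.card F : ℂ) * m ∧
      (m = 0 → ∑ x : F, ρ (tGL x) = 0) := by
  obtain ⟨m, hm1, hm2⟩ := avg_nat ρ (tHom (F := F)) 1
  obtain ⟨ψ, hψ⟩ := exists_addChar_ne_one (F := F)
  obtain ⟨k, hk1, -⟩ := avg_nat ρ (tHom (F := F)) ψ.toMonoidHom
  have hconj : ∀ x : F, x ≠ 0 → ρ.character (tGL x) = ρ.character (tGL 1) :=
    fun x hx => char_eq_of_isConj ρ (tGL_isConj x hx)
  have hq0 : (Fintype.card F : ℂ) ≠ 0 := by
    have := Fintype.card_pos (α := F)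
    exact_mod_cast this.ne'
  have e1 : ∑ x : F, ρ.character (tGL x) = (Fintype.card F : ℂ) * m := by
    rw [Fintype.card_multiplicative] at hm1
    rw [← hm1]
    refine Fintype.sum_equiv Multiplicative.ofAdd _ _ (fun x => ?_)
    simp [tHom_apply]
  have e2 : ∑ x : F, ψ (-x) * ρ.character (tGL x) = (Fintype.card F : ℂ) * k := by
    rw [Fintype.card_multiplicative] at hk1
    rw [← hk1]
    refine Fintype.sum_equiv Multiplicative.ofAdd _ _ (fun x => ?_)
    simp [tHom_apply]
  have e3 := sum_tGL_aux (fun x => ρ.character (tGL x)) (fun _ => 1) hconj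
  have e4 := sum_tGL_aux (fun x => ρ.character (tGL x)) (fun x => ψ (-x)) hconj
  have hsum : ∑ x : F, ψ (-x) = 0 := by
    rw [← AddChar.sum_eq_zero_of_ne_one hψ]
    exact Fintype.sum_equiv (Equiv.neg F) _ _ (fun x => rfl)
  simp only [one_mul, Finset.sum_const, Finset.card_univ, nsmul_eq_mul, mul_one, tGL_zero] at e3
  simp only [hsum, neg_zero, AddChar.map_zero_eq_one, one_mul, tGL_zero] at e4
  rw [e1] at e3
  rw [e2] at e4
  refine ⟨m, k, ?_, ?_, e1, ?_⟩
  · apply mul_left_cancel₀ hq0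
    linear_combination -e3 - ((Fintype.card F : ℂ) - 1) * e4
  · apply mul_left_cancel₀ hq0
    linear_combination e4 - e3
  · intro h0
    have h := hm2 h0
    rw [← h]
    refine Fintype.sum_equiv Multiplicative.ofAdd _ _ (fun x => ?_)
    simp [tHom_apply]

/-- if the unipotent element acts trivially in an irreducible representation, the degree is small -/
theorem unip_kernel_bound (ρ : Representation ℂ (GL (Fin 2) F) V) [ρ.IsIrreducible]
    (h : ρ.character (tGL 1) = ρ.character 1) :
    Module.finrank ℂ V * Module.finrank ℂ V < Fintype.card F := by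
  have h1 : ρ (tGL 1) = 1 := by
    rw [char_one] at h
    exact (Cfsg.Agent.Lib.Helper3.character_eq_finrank_iff ρ (tGL 1)).mp h
  have hT : ∀ x : F, ρ (tGL x) = 1 := by
    intro x
    by_cases hx : x = 0
    · rw [hx, tGL_zero, map_one]
    · exact rho_eq_one_of_isConj ρ (tGL_isConj x hx) h1
  have hL : ∀ y : Fˣ, ρ (lGL (y : F)) = 1 :=
    fun y => rho_eq_one_of_isConj ρ (lGL_isConj (y : F) y.ne_zero) h1
  have hval : ∀ p : F × Fˣ × F,
      Complex.normSq (ρ.character (tGL p.1 * lGL (p.2.1 : F) * tGL p.2.2)) =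
        (Module.finrank ℂ V : ℝ) ^ 2 := by
    intro p
    have h2 : ρ (tGL p.1 * lGL (p.2.1 : F) * tGL p.2.2) = 1 := by
      rw [map_mul, map_mul, hT, hT, hL, mul_one, mul_one]
    have h3 : ρ.character (tGL p.1 * lGL (p.2.1 : F) * tGL p.2.2) = (Module.finrank ℂ V : ℂ) := by
      unfold character
      rw [h2]
      exact LinearMap.trace_one ℂ V
    rw [h3]
    simp [Complex.normSq_apply, sq]
  have hle := irr_sum_normSq_le ρ _ (tlt_injective (F := F))
  simp only [hval, Finset.sum_const, Finset.card_univ, nsmul_eq_mul, Fintype.card_prod,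
    Fintype.card_units] at hle
  rw [card_GL2_real] at hle
  have hq := Fintype.one_lt_card (α := F)
  have hq' : (1 : ℝ) < (Fintype.card F : ℝ) := by exact_mod_cast hq
  push_cast [Nat.cast_sub hq.le] at hle
  by_contra hcon
  push Not at hcon
  have hcon' : (Fintype.card F : ℝ) ≤ (Module.finrank ℂ V : ℝ) ^ 2 := by
    have : ((Fintype.card F : ℕ) : ℝ) ≤ ((Module.finrank ℂ V * Module.finrank ℂ V : ℕ) : ℝ) := by
      exact_mod_cast hcon
    rw [sq]
    push_cast at this
    exact this
  set q : ℝ := (Fintype.card F : ℝ) with hqdef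
  set n2 : ℝ := (Module.finrank ℂ V : ℝ) ^ 2 with hn2
  have hq1 : 0 < q - 1 := by linarith
  have hq0 : 0 < q := by linarith
  have hpos : 0 < q * ((q - 1) * q) := by positivity
  have h5 := mul_le_mul_of_nonneg_left hcon' hpos.le
  have h6 : q * ((q - 1) * q) * q ≤ (q ^ 2 - 1) * (q ^ 2 - q) := le_trans h5 hle
  have h7 : (q ^ 2 - 1) * (q ^ 2 - q) = q * (q - 1) * (q ^ 2 - 1) := by ring
  have h8 : q * ((q - 1) * q) * q = q * (q - 1) * q ^ 2 := by ring
  rw [h7, h8] at h6
  have h9 : 0 < q * (q - 1) := by positivity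
  have h10 := le_of_mul_le_mul_left h6 h9
  linarith

/-- a norm inequality from central multiples of unipotent elements -/
theorem unip_norm_bound (ρ : Representation ℂ (GL (Fin 2) F) V) [ρ.IsIrreducible] :
    Complex.normSq (ρ.character 1) +
      2 * ((Fintype.card F : ℝ) - 1) * Complex.normSq (ρ.character (tGL 1)) ≤
      (Fintype.card F : ℝ) * ((Fintype.card F : ℝ) ^ 2 - 1) := by
  have hle := irr_sum_normSq_le ρ _ (stlFam_injective (F := F))
  rw [Fintype.sum_prod_type] at hle
  simp only [Fintype.sum_sum_type] at hle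
  have h1 : ∀ (z : Fˣ) (x : F), Complex.normSq (ρ.character (stlFam (z, Sum.inl x))) =
      Complex.normSq (ρ.character (tGL x)) :=
    fun z x => normSq_central ρ (sGL z) (sGL_comm z) (tGL x)
  have h2 : ∀ (z : Fˣ) (y : Fˣ), Complex.normSq (ρ.character (stlFam (z, Sum.inr y))) =
      Complex.normSq (ρ.character (tGL 1)) := by
    intro z y
    rw [show stlFam (z, Sum.inr y) = sGL z * lGL (y : F) from rfl,
      normSq_central ρ (sGL z) (sGL_comm z), char_eq_of_isConj ρ (lGL_isConj (y : F) y.ne_zero)]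
  have hq := Fintype.one_lt_card (α := F)
  have hq' : (1 : ℝ) < (Fintype.card F : ℝ) := by exact_mod_cast hq
  have h3 : ∑ x : F, Complex.normSq (ρ.character (tGL x)) = Complex.normSq (ρ.character 1) +
      ((Fintype.card F : ℝ) - 1) * Complex.normSq (ρ.character (tGL 1)) := by
    rw [← Finset.add_sum_erase Finset.univ _ (Finset.mem_univ (0 : F)), tGL_zero]
    congr 1
    rw [Finset.sum_congr rfl (fun x hx => by
      rw [char_eq_of_isConj ρ (tGL_isConj x (Finset.ne_of_mem_erase hx))])]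
    rw [Finset.sum_const, Finset.card_erase_of_mem (Finset.mem_univ _), Finset.card_univ,
      nsmul_eq_mul, Nat.cast_sub hq.le, Nat.cast_one]
  simp only [h1, h2, h3, Finset.sum_const, Finset.card_univ, nsmul_eq_mul, Fintype.card_units]
    at hle
  rw [card_GL2_real] at hle
  push_cast [Nat.cast_sub hq.le] at hle
  set q : ℝ := (Fintype.card F : ℝ) with hqdef
  have hq1 : 0 < q - 1 := by linarith
  have h4 : (q ^ 2 - 1) * (q ^ 2 - q) = (q - 1) * (q * (q ^ 2 - 1)) := by ring
  rw [h4] at hle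
  have h5 := le_of_mul_le_mul_left hle hq1
  linarith

end Unip

end Cfsg.Agent.Lib.Helper39
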