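import Mathlib
import Cfsg.Prelude.Def_Characters
import Cfsg.Prelude.Def_ParabolicCharacters
import Cfsg.Agent.Lib.Helper39.GL2Char

set_option autoImplicit false

namespace Cfsg.Agent.Lib.Helper39

open Matrix Representation
open scoped ComplexConjugate

universe u

variable {F : Type u} [Field F] [Fintype F] [DecidableEq F]

/-- dual orthogonality for the multiplicative characters of a finite field -/
theorem sum_mulChar_unit [Fintype (MulChar F ℂ)] (a : Fˣ) :
    ∑ α : MulChar F ℂ, α (a : F) = if a = 1 then (Fintype.card F : ℂ) - 1 else 0 := by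
  split_ifs with ha
  · subst ha
    simp only [Units.val_one, map_one, Finset.sum_const, Finset.card_univ, nsmul_eq_mul, mul_one]
    rw [← Nat.card_eq_fintype_card, MulChar.card_eq_card_units_of_hasEnoughRootsOfUnity F ℂ,
      Nat.card_units, Nat.card_eq_fintype_card, Nat.cast_sub Fintype.card_pos, Nat.cast_one]
  · have ha' : (a : F) ≠ 1 := fun h => ha (Units.ext h)
    obtain ⟨χ, hχ⟩ := MulChar.exists_apply_ne_one_of_hasEnoughRootsOfUnity F ℂ ha'
    refine eq_zero_of_mul_eq_self_left hχ ?_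
    simp only [Finset.mul_sum, ← MulChar.mul_apply]
    exact Fintype.sum_bijective _ (Group.mulLeft_bijective χ) _ _ fun χ' ↦ rfl

theorem lamB_bEquiv (α β : MulChar F ℂ) (p : Fˣ × Fˣ × F) :
    lamB α β (bEquiv p) = α (p.1 : F) * β (p.2.1 : F) := by
  unfold lamB
  rw [bEquiv_coe]
  simp

theorem lamB_ne_zero (α β : MulChar F ℂ) (b : Cfsg.upperTriangularGL 2 F) : lamB α β b ≠ 0 := by
  obtain ⟨p, rfl⟩ := bEquiv.surjective b
  rw [lamB_bEquiv, ← MulChar.coe_toUnitHom, ← MulChar.coe_toUnitHom]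
  exact mul_ne_zero (Units.ne_zero _) (Units.ne_zero _)

theorem lamB_mul (α β : MulChar F ℂ) (a b : Cfsg.upperTriangularGL 2 F) :
    lamB α β (a * b) = lamB α β a * lamB α β b := by
  unfold lamB
  have ha := (mem_borel_iff _).mp a.2
  have hb := (mem_borel_iff _).mp b.2
  rw [Subgroup.coe_mul, Units.val_mul]
  simp only [Matrix.mul_apply, Fin.sum_univ_two, ha, hb, mul_zero, zero_mul, add_zero, zero_add,
    map_mul]
  ring

/-- the linear character of the Borel subgroup attached to two multiplicative characters -/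
noncomputable def lamHom (α β : MulChar F ℂ) : Cfsg.upperTriangularGL 2 F →* ℂˣ :=
  MonoidHom.mk' (fun b => Units.mk0 (lamB α β b) (lamB_ne_zero α β b))
    (fun a b => Units.ext (lamB_mul α β a b))

theorem lamHom_coe (α β : MulChar F ℂ) :
    (fun b : Cfsg.upperTriangularGL 2 F => ((lamHom α β b : ℂˣ) : ℂ)) = lamB α β := rfl

theorem isCharacter_indFun_lamB (α β : MulChar F ℂ) :
    Cfsg.IsCharacter (GL (Fin 2) F) (Cfsg.indFun (Cfsg.upperTriangularGL 2 F) (lamB α β)) :=
  Cfsg.Agent.Lib.Helper75.isCharacter_indFun _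
    (Cfsg.Agent.Lib.Helper15.isCharacter_of_hom (lamHom α β))

theorem bEquiv_unip (s : F) :
    ((bEquiv ((1 : Fˣ), (1 : Fˣ), s) : Cfsg.upperTriangularGL 2 F) : GL (Fin 2) F) = tGL s := by
  apply Units.ext
  rw [bEquiv_coe, tGL_coe]
  simp

omit [Fintype F] in
theorem sum_indicator_aux [Fintype F] (c : ℂ) (g : Fˣ × Fˣ × F → ℂ) :
    ∑ p : Fˣ × Fˣ × F, (if p.1 = 1 then c else 0) * (if p.2.1 = 1 then c else 0) * g p =
      c * (c * ∑ s : F, g (1, 1, s)) := by
  rw [Fintype.sum_prod_type, Finset.sum_eq_single 1]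
  · rw [Fintype.sum_prod_type, Finset.sum_eq_single 1]
    · simp only [if_true, Finset.mul_sum, mul_assoc]
    · intro d _ hd
      simp [hd]
    · intro h
      exact absurd (Finset.mem_univ _) h
  · intro a _ ha
    simp [ha]
  · intro h
    exact absurd (Finset.mem_univ _) h

/-- a class function with non-zero average on the unipotent subgroup pairs non-trivially with
some principal series function. -/
theorem exists_principal {χ : GL (Fin 2) F → ℂ} (hχ : Cfsg.IsClassFunction (GL (Fin 2) F) χ)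
    (hs : ∑ x : F, χ (tGL x) ≠ 0) :
    ∃ α β : MulChar F ℂ,
      Cfsg.classInner (Cfsg.indFun (Cfsg.upperTriangularGL 2 F) (lamB α β)) χ ≠ 0 := by
  classical
  by_contra hcon
  push Not at hcon
  letI : Fintype (MulChar F ℂ) := Fintype.ofFinite _
  letI : Fintype (Cfsg.upperTriangularGL 2 F) := Fintype.ofEquiv _ bEquiv
  have h1 : ∀ α β : MulChar F ℂ, ∑ p : Fˣ × Fˣ × F,
      α (p.1 : F) * β (p.2.1 : F) * conj (χ ((bEquiv p : Cfsg.upperTriangularGL 2 F) : GL (Fin 2) F)) = 0 := by
    intro α β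
    have h := hcon α β
    rw [Cfsg.Agent.Lib.Helper3.frobenius_reciprocity _ _ χ hχ] at h
    unfold Cfsg.classInner at h
    have hcard : (Nat.card (Cfsg.upperTriangularGL 2 F) : ℂ) ≠ 0 := by
      have := Nat.card_pos (α := Cfsg.upperTriangularGL 2 F)
      exact_mod_cast this.ne'
    have h2 := (mul_eq_zero.mp h).resolve_left (inv_ne_zero hcard)
    rw [← h2]
    refine Fintype.sum_equiv bEquiv _ _ (fun p => ?_)
    rw [lamB_bEquiv]
  have h2 : ∑ α : MulChar F ℂ, ∑ β : MulChar F ℂ, ∑ p : Fˣ × Fˣ × F,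
      α (p.1 : F) * β (p.2.1 : F) * conj (χ ((bEquiv p : Cfsg.upperTriangularGL 2 F) : GL (Fin 2) F)) = 0 := by
    simp only [h1, Finset.sum_const_zero]
  have h3 : ∑ p : Fˣ × Fˣ × F, (∑ α : MulChar F ℂ, α (p.1 : F)) * (∑ β : MulChar F ℂ, β (p.2.1 : F)) *
      conj (χ ((bEquiv p : Cfsg.upperTriangularGL 2 F) : GL (Fin 2) F)) = 0 := by
    calc ∑ p : Fˣ × Fˣ × F, (∑ α : MulChar F ℂ, α (p.1 : F)) * (∑ β : MulChar F ℂ, β (p.2.1 : F)) *
          conj (χ ((bEquiv p : Cfsg.upperTriangularGL 2 F) : GL (Fin 2) F))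
        = ∑ p : Fˣ × Fˣ × F, ∑ α : MulChar F ℂ, ∑ β : MulChar F ℂ,
          α (p.1 : F) * β (p.2.1 : F) * conj (χ ((bEquiv p : Cfsg.upperTriangularGL 2 F) : GL (Fin 2) F)) := by
          refine Finset.sum_congr rfl (fun p _ => ?_)
          rw [Finset.sum_mul_sum, Finset.sum_mul]
          refine Finset.sum_congr rfl (fun α _ => ?_)
          rw [Finset.sum_mul]
      _ = ∑ α : MulChar F ℂ, ∑ p : Fˣ × Fˣ × F, ∑ β : MulChar F ℂ,
          α (p.1 : F) * β (p.2.1 : F) * conj (χ ((bEquiv p : Cfsg.upperTriangularGL 2 F) : GL (Fin 2) F)) :=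
          Finset.sum_comm
      _ = ∑ α : MulChar F ℂ, ∑ β : MulChar F ℂ, ∑ p : Fˣ × Fˣ × F,
          α (p.1 : F) * β (p.2.1 : F) * conj (χ ((bEquiv p : Cfsg.upperTriangularGL 2 F) : GL (Fin 2) F)) :=
          Finset.sum_congr rfl (fun α _ => Finset.sum_comm)
      _ = 0 := h2
  simp only [sum_mulChar_unit] at h3
  rw [sum_indicator_aux] at h3
  simp only [bEquiv_unip] at h3
  have hq := card_sub_one_ne_zero (F := F)
  have h4 := (mul_eq_zero.mp h3).resolve_left hq
  have h5 := (mul_eq_zero.mp h4).resolve_left hq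
  apply hs
  have h6 : conj (∑ x : F, χ (tGL x)) = 0 := by
    rw [map_sum]
    exact h5
  exact (map_eq_zero (starRingEnd ℂ)).mp h6

/-- the degree of the principal series function -/
theorem indFun_lamB_one (α β : MulChar F ℂ) :
    Cfsg.indFun (Cfsg.upperTriangularGL 2 F) (lamB α β) 1 = (Fintype.card F : ℂ) + 1 := by
  rw [indFun_lamB]
  simp [lamFun, add_comm]

/-- the principal series function vanishes on elements without eigenvectors -/
theorem indFun_lamB_elliptic (α β : MulChar F ℂ) (g : GL (Fin 2) F)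
    (hno : ∀ (c : F) (v : Fin 2 → F), v ≠ 0 → (g : Matrix (Fin 2) (Fin 2) F).mulVec v ≠ c • v) :
    Cfsg.indFun (Cfsg.upperTriangularGL 2 F) (lamB α β) g = 0 := by
  rw [indFun_lamB]
  have h10 : (g : Matrix (Fin 2) (Fin 2) F) 1 0 ≠ 0 := by
    intro h10
    apply hno ((g : Matrix (Fin 2) (Fin 2) F) 0 0) ![1, 0]
    · intro h
      have := congrFun h 0
      simp at this
    · ext i
      fin_cases i <;> simp [Matrix.mulVec, dotProduct, Fin.sum_univ_two, h10]
  have hl : lamFun α β g = 0 := by simp [lamFun, h10]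
  rw [hl, zero_add]
  apply Finset.sum_eq_zero
  intro y _
  rw [if_neg]
  intro h
  apply hno ((g : Matrix (Fin 2) (Fin 2) F) 1 0 * y + (g : Matrix (Fin 2) (Fin 2) F) 1 1) ![y, 1]
  · intro h
    have := congrFun h 1
    simp at this
  · ext i
    fin_cases i
    · simp [Matrix.mulVec, dotProduct, Fin.sum_univ_two]
      linear_combination -h
    · simp [Matrix.mulVec, dotProduct, Fin.sum_univ_two]

/-- the principal series function on diagonal elements with distinct entries -/
theorem indFun_lamB_split (α β : MulChar F ℂ) (g : GL (Fin 2) F)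
    (h01 : (g : Matrix (Fin 2) (Fin 2) F) 0 1 = 0) (h10 : (g : Matrix (Fin 2) (Fin 2) F) 1 0 = 0)
    (hne : (g : Matrix (Fin 2) (Fin 2) F) 0 0 ≠ (g : Matrix (Fin 2) (Fin 2) F) 1 1) :
    Cfsg.indFun (Cfsg.upperTriangularGL 2 F) (lamB α β) g =
      α ((g : Matrix (Fin 2) (Fin 2) F) 0 0) * β ((g : Matrix (Fin 2) (Fin 2) F) 1 1) +
        α ((g : Matrix (Fin 2) (Fin 2) F) 1 1) * β ((g : Matrix (Fin 2) (Fin 2) F) 0 0) := by
  rw [indFun_lamB]
  simp only [lamFun, h10, h01, if_true, zero_mul, zero_add, sub_zero]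
  congr 1
  rw [Finset.sum_eq_single 0]
  · simp
  · intro y _ hy
    rw [if_neg]
    intro h
    rcases mul_eq_zero.mp h with h | h
    · exact hne (sub_eq_zero.mp h).symm
    · exact hy h
  · intro h
    exact absurd (Finset.mem_univ _) h

end Cfsg.Agent.Lib.Helper39
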