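import Mathlib

set_option autoImplicit false

namespace Cfsg.Agent.Lib.Helper39

/-- the `p`-part of `q^k - 1` for `p ∥ q - 1`, `p` odd -/
theorem padicValNat_pow_sub_one (p : ℕ) [Fact p.Prime] (hp : p ≠ 2) (q : ℕ)
    (h1 : p ∣ q - 1) (h2 : ¬ p ^ 2 ∣ q - 1) (hq : 2 ≤ q) (k : ℕ) (hk : k ≠ 0) :
    padicValNat p (q ^ k - 1) = 1 + padicValNat p k := by
  have hpp : p.Prime := Fact.out
  have hodd : Odd p := hpp.odd_of_ne_two hp
  have hpq : ¬ p ∣ q := by
    intro h
    have h3 : p ∣ q - (q - 1) := Nat.dvd_sub h h1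
    rw [show q - (q - 1) = 1 by omega] at h3
    exact hpp.one_lt.ne' (Nat.dvd_one.mp h3)
  have h5 := padicValNat.pow_sub_pow hodd (show 1 < q by omega) h1 hpq hk
  rw [one_pow] at h5
  rw [h5]
  congr 1
  have h6 : 1 ≤ padicValNat p (q - 1) := by
    have h7 := (padicValNat_dvd_iff (p := p) 1 (q - 1)).mp (by rw [pow_one]; exact h1)
    rcases h7 with h7 | h7
    · omega
    · exact h7
  have h8 : ¬ 2 ≤ padicValNat p (q - 1) := by
    intro h9
    exact h2 ((padicValNat_dvd_iff (p := p) 2 (q - 1)).mpr (Or.inr h9))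
  omega

/-- the `p`-part of the order of `GL_p(q)` for `p ∥ q - 1`, `p` odd -/
theorem factorization_card_GLp {F : Type*} [Field F] [Fintype F] (p : ℕ) [Fact p.Prime]
    (hp : p ≠ 2) (h1 : p ∣ Fintype.card F - 1) (h2 : ¬ p ^ 2 ∣ Fintype.card F - 1) :
    (Nat.card (Matrix.GeneralLinearGroup (Fin p) F)).factorization p = p + 1 := by
  have hpp : p.Prime := Fact.out
  have hq : 2 ≤ Fintype.card F := Fintype.one_lt_card
  have hpq : ¬ p ∣ Fintype.card F := by
    intro h
    have h3 : p ∣ Fintype.card F - (Fintype.card F - 1) := Nat.dvd_sub h h1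
    rw [show Fintype.card F - (Fintype.card F - 1) = 1 by omega] at h3
    exact hpp.one_lt.ne' (Nat.dvd_one.mp h3)
  rw [Matrix.card_GL_field]
  have hne : ∀ i ∈ (Finset.univ : Finset (Fin p)),
      Fintype.card F ^ p - Fintype.card F ^ (i : ℕ) ≠ 0 := by
    intro i _
    have h3 : Fintype.card F ^ (i : ℕ) < Fintype.card F ^ p :=
      Nat.pow_lt_pow_right (by omega) i.2
    omega
  rw [Nat.factorization_prod hne, Finsupp.finset_sum_apply]
  have hterm : ∀ i : Fin p,
      (Fintype.card F ^ p - Fintype.card F ^ (i : ℕ)).factorization p =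
        1 + (if (i : ℕ) = 0 then 1 else 0) := by
    intro i
    have hsplit : Fintype.card F ^ p - Fintype.card F ^ (i : ℕ) =
        Fintype.card F ^ (i : ℕ) * (Fintype.card F ^ (p - (i : ℕ)) - 1) := by
      rw [Nat.mul_sub, mul_one, ← pow_add]
      congr 2
      have := i.2
      omega
    have hk : p - (i : ℕ) ≠ 0 := by
      have := i.2
      omega
    have h5 : Fintype.card F ^ (i : ℕ) ≠ 0 := pow_ne_zero _ (by omega)
    have h6 : Fintype.card F ^ (p - (i : ℕ)) - 1 ≠ 0 := by
      have h7 : Fintype.card F ^ 0 < Fintype.card F ^ (p - (i : ℕ)) :=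
        Nat.pow_lt_pow_right (by omega) (by omega)
      rw [pow_zero] at h7
      omega
    rw [hsplit, Nat.factorization_mul h5 h6, Nat.factorization_pow]
    simp only [Finsupp.coe_add, Finsupp.coe_smul, Pi.add_apply, Pi.smul_apply, smul_eq_mul]
    rw [Nat.factorization_eq_zero_of_not_dvd hpq, mul_zero, zero_add,
      Nat.factorization_def _ hpp, padicValNat_pow_sub_one p hp _ h1 h2 hq _ hk]
    congr 1
    by_cases hi : (i : ℕ) = 0
    · rw [if_pos hi, hi, Nat.sub_zero, padicValNat_self]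
    · rw [if_neg hi]
      apply padicValNat.eq_zero_of_not_dvd
      intro hdvd
      have h7 := Nat.le_of_dvd (by omega) hdvd
      omega
  rw [Finset.sum_congr rfl (fun i _ => hterm i), Finset.sum_add_distrib]
  simp only [Finset.sum_const, Finset.card_univ, Fintype.card_fin, smul_eq_mul, mul_one]
  congr 1
  haveI : NeZero p := ⟨hpp.ne_zero⟩
  rw [Finset.sum_eq_single (0 : Fin p)]
  · simp
  · intro i _ hi
    rw [if_neg]
    intro h
    apply hi
    exact Fin.ext h
  · intro h
    exact absurd (Finset.mem_univ _) h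

end Cfsg.Agent.Lib.Helper39
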