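import Mathlib

set_option autoImplicit false

namespace Cfsg.Agent.Lib.Helper39

open scoped Pointwise

/-- a cyclic Sylow subgroup is not redundant -/
theorem not_redundant_of_isCyclic {G : Type*} [Group G] {p : ℕ} [Fact p.Prime] (Q : Sylow p G)
    (hc : IsCyclic (Q : Subgroup G)) :
    ¬ ∀ x : G, (∃ k : ℕ, orderOf x = p ^ k) → ∃ P : Sylow p G, P ≠ Q ∧ x ∈ P := by
  intro h
  obtain ⟨g, hg⟩ := hc.exists_generator
  have hord : ∃ k : ℕ, orderOf (g : G) = p ^ k := by
    obtain ⟨k, hk⟩ := (IsPGroup.iff_orderOf.mp Q.isPGroup') g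
    exact ⟨k, by rw [Subgroup.orderOf_coe]; exact hk⟩
  obtain ⟨P, hPQ, hgP⟩ := h g hord
  apply hPQ
  have hle : (Q : Subgroup G) ≤ P := by
    intro y hy
    obtain ⟨k, hk⟩ := Subgroup.mem_zpowers_iff.mp (hg ⟨y, hy⟩)
    have hy' : y = (g : G) ^ k := by
      have := congrArg Subtype.val hk
      simpa using this.symm
    rw [hy']
    exact Subgroup.zpow_mem _ hgP k
  exact Sylow.ext (Q.is_maximal' P.isPGroup' hle)

/-- an element commuting with `x ∈ Q` and not normalising `Q` moves `Q` to another Sylow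
subgroup containing `x` -/
theorem exists_sylow_ne_of_commute {G : Type*} [Group G] {p : ℕ} (Q : Sylow p G) (x g : G)
    (hx : x ∈ Q) (hg : g * x = x * g)
    (hgN : g ∉ Subgroup.normalizer ((Q : Subgroup G) : Set G)) :
    ∃ P : Sylow p G, P ≠ Q ∧ x ∈ P := by
  refine ⟨g • Q, fun h => hgN (Sylow.smul_eq_iff_mem_normalizer.mp h), ?_⟩
  have h1 : x ∈ ((g • Q : Sylow p G) : Subgroup G) := by
    rw [Sylow.coe_subgroup_smul]
    have h2 : MulAut.conj g • x ∈ MulAut.conj g • (Q : Subgroup G) :=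
      Subgroup.smul_mem_pointwise_smul x (MulAut.conj g) (Q : Subgroup G) hx
    have h3 : MulAut.conj g • x = x := by
      rw [MulAut.smul_def, MulAut.conj_apply, hg]
      group
    rw [h3] at h2
    exact h2
  exact h1

/-- a Sylow subgroup `Q` having an element `x` all of whose conjugates inside `Q` come from
the normaliser of `Q` is not redundant -/
theorem not_redundant_of_control {G : Type*} [Group G] [Finite G] {p : ℕ} [Fact p.Prime]
    (Q : Sylow p G) (x : G) (hx : x ∈ Q)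
    (hctl : ∀ c : G, c * x * c⁻¹ ∈ Q → c ∈ Subgroup.normalizer ((Q : Subgroup G) : Set G)) :
    ¬ ∀ x : G, (∃ k : ℕ, orderOf x = p ^ k) → ∃ P : Sylow p G, P ≠ Q ∧ x ∈ P := by
  intro h
  have hord : ∃ k : ℕ, orderOf x = p ^ k := by
    obtain ⟨k, hk⟩ := (IsPGroup.iff_orderOf.mp Q.isPGroup') ⟨x, hx⟩
    exact ⟨k, by rw [← hk, Subgroup.orderOf_mk]⟩
  obtain ⟨P, hPQ, hxP⟩ := h x hord
  obtain ⟨c, hc⟩ := MulAction.exists_smul_eq G Q P
  apply hPQ
  rw [← hc]
  apply Sylow.smul_eq_iff_mem_normalizer.mpr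
  have h1 : x ∈ ((c • Q : Sylow p G) : Subgroup G) := by
    rw [hc]
    exact hxP
  rw [Sylow.coe_subgroup_smul, Subgroup.mem_pointwise_smul_iff_inv_smul_mem] at h1
  have h2 : c⁻¹ ∈ Subgroup.normalizer ((Q : Subgroup G) : Set G) := by
    apply hctl
    rw [inv_inv]
    have h3 : (MulAut.conj c)⁻¹ • x = c⁻¹ * x * c := by
      rw [MulAut.smul_def, ← MulAut.conj_inv_apply]
    rw [← h3]
    exact h1
  have := Subgroup.inv_mem _ h2
  rwa [inv_inv] at this

end Cfsg.Agent.Lib.Helper39
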