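import Mathlib
import Cfsg.Agent.Lib.Helper39.GLpArith
import Cfsg.Agent.Lib.Helper39.Redundant

set_option autoImplicit false

namespace Cfsg.Agent.Lib.Helper39

open scoped Pointwise

/-- a conjugating element outside the normaliser moves `Q` to another Sylow subgroup -/
theorem exists_sylow_ne_of_conj {G : Type*} [Group G] {p : ℕ} (Q : Sylow p G) (x g : G)
    (hx : g⁻¹ * x * g ∈ Q) (hgN : g ∉ Subgroup.normalizer ((Q : Subgroup G) : Set G)) :
    ∃ P : Sylow p G, P ≠ Q ∧ x ∈ P := by
  refine ⟨g • Q, fun h => hgN (Sylow.smul_eq_iff_mem_normalizer.mp h), ?_⟩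
  have h1 : x ∈ ((g • Q : Sylow p G) : Subgroup G) := by
    rw [Sylow.coe_subgroup_smul, Subgroup.mem_pointwise_smul_iff_inv_smul_mem]
    have h3 : (MulAut.conj g)⁻¹ • x = g⁻¹ * x * g := by
      rw [MulAut.smul_def, ← MulAut.conj_inv_apply]
    rw [h3]
    exact hx
  exact h1

theorem not_mem_normalizer_of_conj_not_mem {G : Type*} [Group G] (H : Subgroup G) (g y : G)
    (hy : y ∈ H) (h : g * y * g⁻¹ ∉ H) : g ∉ Subgroup.normalizer (H : Set G) := by
  intro hg
  exact h ((Subgroup.mem_normalizer_iff.mp hg y).mp hy)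

theorem not_mem_normalizer_of_conj_not_mem' {G : Type*} [Group G] (H : Subgroup G) (g y : G)
    (hy : y ∈ H) (h : g⁻¹ * y * g ∉ H) : g ∉ Subgroup.normalizer (H : Set G) := by
  intro hg
  apply h
  have h1 := (Subgroup.mem_normalizer_iff.mp hg (g⁻¹ * y * g)).mpr
  apply h1
  have e : g * (g⁻¹ * y * g) * g⁻¹ = y := by group
  rw [e]
  exact hy

/-- a `p`-element normalising a Sylow `p`-subgroup lies in it -/
theorem mem_sylow_of_mem_normalizer_of_pow {G : Type*} [Group G] {p : ℕ} [Fact p.Prime]
    (Q : Sylow p G) (g : G) (hgN : g ∈ Subgroup.normalizer ((Q : Subgroup G) : Set G))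
    (hg : g ^ p = 1) : g ∈ Q := by
  classical
  have hH : IsPGroup p (Subgroup.zpowers g) := by
    apply IsPGroup.of_card (n := if g = 1 then 0 else 1)
    rw [Nat.card_zpowers]
    by_cases h1 : g = 1
    · rw [if_pos h1, h1, orderOf_one, pow_zero]
    · rw [if_neg h1, pow_one]
      exact orderOf_eq_prime hg h1
  have hle : Subgroup.zpowers g ≤ Subgroup.normalizer ((Q : Subgroup G) : Set G) := by
    rw [Subgroup.zpowers_le]
    exact hgN
  have h2 := IsPGroup.to_sup_of_normal_right' hH Q.isPGroup' hle
  have h3 := Q.is_maximal' h2 le_sup_right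
  have h4 : g ∈ Subgroup.zpowers g ⊔ (Q : Subgroup G) :=
    Subgroup.mem_sup_left (Subgroup.mem_zpowers g)
  rw [h3] at h4
  exact h4

section mono

variable {F : Type*} [Field F]

/-- monomial matrices supported on the `j`-th cyclic diagonal, entries `p`-th roots of unity -/
def IsMono (p : ℕ) [NeZero p] (j : Fin p) (M : Matrix (Fin p) (Fin p) F) : Prop :=
  ∀ i : Fin p, (M i (i + j)) ^ p = 1 ∧ ∀ k : Fin p, k ≠ i + j → M i k = 0

variable {p : ℕ} [NeZero p]

theorem IsMono.ne_zero {j : Fin p} {M : Matrix (Fin p) (Fin p) F} (h : IsMono p j M) (i : Fin p) :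
    M i (i + j) ≠ 0 := by
  intro h0
  have h1 := (h i).1
  rw [h0, zero_pow (NeZero.ne p)] at h1
  exact zero_ne_one h1

theorem IsMono.shift_unique {j j' : Fin p} {M : Matrix (Fin p) (Fin p) F} (h : IsMono p j M)
    (h' : IsMono p j' M) : j = j' := by
  by_contra hne
  apply h.ne_zero 0
  apply (h' 0).2
  intro h1
  exact hne (add_left_cancel h1)

theorem isMono_one : IsMono p (0 : Fin p) (1 : Matrix (Fin p) (Fin p) F) := by
  intro i
  constructor
  · rw [add_zero, Matrix.one_apply_eq, one_pow]
  · intro k hk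
    rw [add_zero] at hk
    exact Matrix.one_apply_ne (Ne.symm hk)

theorem IsMono.mul_apply_left {m : Fin p} {Z : Matrix (Fin p) (Fin p) F} (hZ : IsMono p m Z)
    (M : Matrix (Fin p) (Fin p) F) (l r : Fin p) :
    (Z * M) l r = Z l (l + m) * M (l + m) r := by
  rw [Matrix.mul_apply]
  apply Finset.sum_eq_single (l + m)
  · intro s _ hs
    rw [(hZ l).2 s hs, zero_mul]
  · intro h
    exact absurd (Finset.mem_univ _) h

theorem IsMono.mul_apply_right {m : Fin p} {Z : Matrix (Fin p) (Fin p) F} (hZ : IsMono p m Z)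
    (M : Matrix (Fin p) (Fin p) F) (l r : Fin p) :
    (M * Z) l r = M l (r - m) * Z (r - m) r := by
  rw [Matrix.mul_apply]
  apply Finset.sum_eq_single (r - m)
  · intro s _ hs
    have h1 : r ≠ s + m := by
      intro h
      apply hs
      rw [h, add_sub_cancel_right]
    rw [(hZ s).2 r h1, mul_zero]
  · intro h
    exact absurd (Finset.mem_univ _) h

theorem IsMono.mul {j j' : Fin p} {M N : Matrix (Fin p) (Fin p) F} (h : IsMono p j M)
    (h' : IsMono p j' N) : IsMono p (j + j') (M * N) := by
  intro i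
  constructor
  · rw [h.mul_apply_left, mul_pow, (h i).1, one_mul, ← add_assoc, (h' (i + j)).1]
  · intro k hk
    rw [h.mul_apply_left, (h' (i + j)).2 k (by rwa [add_assoc]), mul_zero]

theorem IsMono.pow {j : Fin p} {M : Matrix (Fin p) (Fin p) F} (h : IsMono p j M) (n : ℕ) :
    IsMono p (n • j) (M ^ n) := by
  induction n with
  | zero =>
    rw [pow_zero, zero_smul]
    exact isMono_one
  | succ n ih =>
    rw [pow_succ, succ_nsmul]
    exact ih.mul h

/-- the monomial matrix with given shift and entries -/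
def monoMat (j : Fin p) (a : Fin p → F) : Matrix (Fin p) (Fin p) F :=
  Matrix.of fun i k => if k = i + j then a i else 0

theorem monoMat_apply (j : Fin p) (a : Fin p → F) (i k : Fin p) :
    monoMat j a i k = if k = i + j then a i else 0 := rfl

theorem monoMat_apply_self (j : Fin p) (a : Fin p → F) (i : Fin p) :
    monoMat j a i (i + j) = a i := by
  rw [monoMat_apply, if_pos rfl]

theorem isMono_monoMat (j : Fin p) (a : Fin p → F) (ha : ∀ i, a i ^ p = 1) :
    IsMono p j (monoMat j a) := by
  intro i
  constructor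
  · rw [monoMat_apply_self]
    exact ha i
  · intro k hk
    rw [monoMat_apply, if_neg hk]

theorem monoMat_mul_inv (j : Fin p) (a : Fin p → F) (ha : ∀ i, a i ≠ 0) :
    monoMat j a * (Matrix.of fun k i => if k = i + j then (a i)⁻¹ else 0) = 1 := by
  ext i i'
  rw [Matrix.mul_apply, Finset.sum_eq_single (i + j)]
  · rw [monoMat_apply_self, Matrix.of_apply]
    by_cases h : i = i'
    · rw [h, if_pos rfl, mul_inv_cancel₀ (ha i'), Matrix.one_apply_eq]
    · rw [if_neg (fun h' => h (add_right_cancel h')), mul_zero, Matrix.one_apply_ne h]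
  · intro s _ hs
    rw [monoMat_apply, if_neg hs, zero_mul]
  · intro h
    exact absurd (Finset.mem_univ _) h

/-- the monomial matrix as an element of `GL` -/
noncomputable def monoUnit (j : Fin p) (a : Fin p → F) (ha : ∀ i, a i ≠ 0) :
    Matrix.GeneralLinearGroup (Fin p) F :=
  ⟨monoMat j a, Matrix.of fun k i => if k = i + j then (a i)⁻¹ else 0, monoMat_mul_inv j a ha,
    mul_eq_one_comm.mp (monoMat_mul_inv j a ha)⟩

theorem monoUnit_val (j : Fin p) (a : Fin p → F) (ha : ∀ i, a i ≠ 0) :
    ((monoUnit j a ha : Matrix.GeneralLinearGroup (Fin p) F) : Matrix (Fin p) (Fin p) F) =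
      monoMat j a := rfl

end mono

section subgroup

variable (F : Type*) [Field F] [Fintype F] (p : ℕ) [Fact p.Prime]

/-- the monomial `p`-subgroup of `GL_p(F)` -/
def monoSubgroup : Subgroup (Matrix.GeneralLinearGroup (Fin p) F) where
  carrier := {g | ∃ j : Fin p, IsMono p j (g : Matrix (Fin p) (Fin p) F)}
  mul_mem' := by
    rintro g h ⟨j, hj⟩ ⟨j', hj'⟩
    exact ⟨j + j', by rw [Units.val_mul]; exact hj.mul hj'⟩
  one_mem' := ⟨0, by rw [Units.val_one]; exact isMono_one⟩
  inv_mem' := by
    rintro g ⟨j, hj⟩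
    have h1 : g⁻¹ = g ^ (orderOf g - 1) := by
      apply inv_eq_of_mul_eq_one_right
      rw [← pow_succ', Nat.sub_add_cancel (orderOf_pos g), pow_orderOf_eq_one]
    refine ⟨(orderOf g - 1) • j, ?_⟩
    rw [h1, Units.val_pow_eq_pow_val]
    exact hj.pow _

variable {F p}

theorem mem_monoSubgroup (g : Matrix.GeneralLinearGroup (Fin p) F) :
    g ∈ monoSubgroup F p ↔ ∃ j : Fin p, IsMono p j (g : Matrix (Fin p) (Fin p) F) := Iff.rfl

theorem monoUnit_mem (j : Fin p) (a : Fin p → F) (ha : ∀ i, a i ^ p = 1) :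
    monoUnit j a (fun i h => by
      have h1 := ha i
      rw [h, zero_pow (NeZero.ne p)] at h1
      exact zero_ne_one h1) ∈ monoSubgroup F p :=
  ⟨j, isMono_monoMat j a ha⟩

/-- the number of `p`-th roots of unity -/
theorem card_pth_roots (h1 : p ∣ Fintype.card F - 1) : Nat.card {a : F // a ^ p = 1} = p := by
  classical
  have hpp : p.Prime := Fact.out
  have hc : Nat.card Fˣ = Fintype.card F - 1 := by
    rw [Nat.card_eq_fintype_card, Fintype.card_units]
  obtain ⟨u, hu⟩ := exists_prime_orderOf_dvd_card' (G := Fˣ) p (by rw [hc]; exact h1)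
  have hprim : IsPrimitiveRoot (u : F) p := by
    rw [IsPrimitiveRoot.coe_units_iff, ← hu]
    exact IsPrimitiveRoot.orderOf u
  have h2 := hprim.card_nthRootsFinset
  have e : {a : F // a ^ p = 1} ≃ {a : F // a ∈ Polynomial.nthRootsFinset p (1 : F)} :=
    Equiv.subtypeEquivRight (fun a => (Polynomial.mem_nthRootsFinset hpp.pos (1 : F)).symm)
  rw [Nat.card_congr e, Nat.card_eq_fintype_card, Fintype.card_coe, h2]

/-- the order of the monomial subgroup -/
theorem card_monoSubgroup (h1 : p ∣ Fintype.card F - 1) :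
    Nat.card (monoSubgroup F p) = p ^ (p + 1) := by
  classical
  have hpp : p.Prime := Fact.out
  have hshift : ∀ g : monoSubgroup F p, ∃ j : Fin p,
      IsMono p j ((g : Matrix.GeneralLinearGroup (Fin p) F) : Matrix (Fin p) (Fin p) F) :=
    fun g => g.2
  have hequiv : monoSubgroup F p ≃ Fin p × (Fin p → {a : F // a ^ p = 1}) := by
    refine Equiv.ofBijective (fun g => (Classical.choose (hshift g),
      fun i => ⟨((g : Matrix.GeneralLinearGroup (Fin p) F) : Matrix (Fin p) (Fin p) F) i
        (i + Classical.choose (hshift g)), ((Classical.choose_spec (hshift g)) i).1⟩)) ⟨?_, ?_⟩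
    · intro g g' h
      have hj : Classical.choose (hshift g) = Classical.choose (hshift g') :=
        congrArg Prod.fst h
      have hs := Classical.choose_spec (hshift g)
      have hs' := Classical.choose_spec (hshift g')
      have he : ∀ i, ((g : Matrix.GeneralLinearGroup (Fin p) F) : Matrix (Fin p) (Fin p) F) i
          (i + Classical.choose (hshift g)) =
          ((g' : Matrix.GeneralLinearGroup (Fin p) F) : Matrix (Fin p) (Fin p) F) i
          (i + Classical.choose (hshift g')) := by
        intro i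
        have h2 := congrFun (congrArg Prod.snd h) i
        exact congrArg Subtype.val h2
      apply Subtype.ext
      apply Units.ext
      ext i k
      by_cases hk : k = i + Classical.choose (hshift g)
      · rw [hk, he i, hj]
      · rw [(hs i).2 k hk, (hs' i).2 k (by rwa [← hj])]
    · rintro ⟨j, a⟩
      have ha : ∀ i, (a i : F) ^ p = 1 := fun i => (a i).2
      refine ⟨⟨_, monoUnit_mem j (fun i => (a i : F)) ha⟩, ?_⟩
      have hj : Classical.choose (hshift ⟨_, monoUnit_mem j (fun i => (a i : F)) ha⟩) = j :=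
        (Classical.choose_spec (hshift ⟨_, monoUnit_mem j (fun i => (a i : F)) ha⟩)).shift_unique
          (isMono_monoMat j (fun i => (a i : F)) ha)
      apply Prod.ext
      · exact hj
      · funext i
        apply Subtype.ext
        show monoMat j (fun i => (a i : F)) i
          (i + Classical.choose (hshift ⟨_, monoUnit_mem j (fun i => (a i : F)) ha⟩)) = (a i : F)
        rw [hj, monoMat_apply_self]
  rw [Nat.card_congr hequiv, Nat.card_prod, Nat.card_fun, card_pth_roots h1, Nat.card_eq_fintype_card,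
    Fintype.card_fin, pow_succ, mul_comm]

end subgroup

end Cfsg.Agent.Lib.Helper39
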