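import Mathlib
import Cfsg.Agent.Lib.Helper39.GLpMono

set_option autoImplicit false

namespace Cfsg.Agent.Lib.Helper39

variable {F : Type*} [Field F] {p : ℕ} [Fact p.Prime]

theorem fin_prime_nsmul (j : Fin p) : p • j = 0 := by
  have h := card_nsmul_eq_zero (G := Fin p) (x := j)
  simpa using h

/-- multiples of a nonzero element of `Fin p` are distinct -/
theorem nsmul_inj_of_lt {j : Fin p} (hj : j ≠ 0) {k k' : ℕ} (hk : k < p) (hk' : k' < p)
    (h : k • j = k' • j) : k = k' := by
  have hord : addOrderOf j = p := addOrderOf_eq_prime (fin_prime_nsmul j) hj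
  have aux : ∀ a b : ℕ, a ≤ b → b < p → a • j = b • j → a = b := by
    intro a b hab hb hh
    have h1 : (b - a) • j = 0 := by
      have h2 : b • j = (b - a) • j + a • j := by rw [← add_nsmul, Nat.sub_add_cancel hab]
      rw [h2] at hh
      exact add_eq_right.mp hh.symm
    have h3 := addOrderOf_dvd_of_nsmul_eq_zero h1
    rw [hord] at h3
    have h4 := Nat.eq_zero_of_dvd_of_lt h3 (by omega)
    omega
  rcases Nat.le_total k k' with hle | hle
  · exact aux k k' hle hk' h
  · exact (aux k' k hle hk h.symm).symm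

theorem add_self_ne_zero_of_ne_zero (hp3 : 3 ≤ p) {j : Fin p} (hj : j ≠ 0) : j + j ≠ 0 := by
  intro h
  have h1 : 2 • j = 0 • j := by rw [two_nsmul, zero_nsmul, h]
  have h2 := nsmul_inj_of_lt hj (by omega) (by omega) h1
  omega

theorem monoMat_zero (a : Fin p → F) : monoMat (0 : Fin p) a = Matrix.diagonal a := by
  ext i k
  rw [monoMat_apply, add_zero, Matrix.diagonal_apply]
  by_cases h : i = k
  · rw [if_pos h, if_pos h.symm]
  · rw [if_neg h, if_neg (fun h' => h h'.symm)]

/-- the transvection test -/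
theorem transv_test {i k : Fin p} (hik : i ≠ k) {ζ : F} (hζ : ζ ≠ 1) {m : Fin p}
    {Z : Matrix (Fin p) (Fin p) F} (hZ : IsMono p m Z)
    (h : Matrix.transvection i k (1 : F) * Matrix.diagonal (fun l => if l = i then ζ else 1) =
      Z * Matrix.transvection i k (1 : F)) : False := by
  have hTd : ∀ l : Fin p, Matrix.transvection i k (1 : F) l l = 1 := by
    intro l
    simp [Matrix.transvection, Matrix.single_apply, hik]
    intro h1 h2
    exact hik (h1.trans h2.symm)
  have hTik : Matrix.transvection i k (1 : F) i k = 1 := by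
    simp [Matrix.transvection, Matrix.single_apply, hik]
  have hT0 : ∀ l r : Fin p, l ≠ r → ¬ (l = i ∧ r = k) → Matrix.transvection i k (1 : F) l r = 0 := by
    intro l r hlr hn
    simp [Matrix.transvection, Matrix.single_apply, hlr]
    intro h1 h2
    exact hn ⟨h1.symm, h2.symm⟩
  have key : ∀ l r : Fin p, Matrix.transvection i k (1 : F) l r * (if r = i then ζ else 1) =
      Z l (l + m) * Matrix.transvection i k (1 : F) (l + m) r := by
    intro l r
    have h1 := congrFun (congrFun h l) r
    rwa [Matrix.mul_diagonal, hZ.mul_apply_left] at h1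
  have h1 := key k k
  rw [hTd, if_neg (Ne.symm hik), mul_one] at h1
  have h2 : Matrix.transvection i k (1 : F) (k + m) k ≠ 0 := by
    intro h0
    rw [h0, mul_zero] at h1
    exact one_ne_zero h1
  have h3 : k + m = k ∨ k + m = i := by
    by_contra hcon
    push Not at hcon
    exact h2 (hT0 _ _ hcon.1 (fun h4 => hcon.2 h4.1))
  rcases h3 with h3 | h3
  · have hm : m = 0 := by
      have h4 : k + m = k + 0 := by rw [h3, add_zero]
      exact add_left_cancel h4
    subst hm
    have h5 := key i k
    rw [add_zero] at h5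
    rw [hTik, if_neg (Ne.symm hik), mul_one, mul_one] at h5
    have h6 := key i i
    rw [add_zero] at h6
    rw [hTd, if_pos rfl, one_mul, mul_one] at h6
    exact hζ (h6.trans h5.symm)
  · have h5 := key k i
    rw [hT0 k i (Ne.symm hik) (fun h4 => hik h4.1.symm), zero_mul, h3, hTd, mul_one] at h5
    have h6 := hZ.ne_zero k
    rw [h3] at h6
    exact h6 h5.symm

/-- the Vandermonde test -/
theorem vander_test (hp3 : 3 ≤ p) {a : Fin p → F} (ha : Function.Injective a)
    (hap : ∀ i, a i ^ p = 1) {ζ : F} (hζ : ζ ≠ 1) {m : Fin p}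
    {Z : Matrix (Fin p) (Fin p) F} (hZ : IsMono p m Z)
    (h : Matrix.diagonal (fun l : Fin p => if l = 0 then ζ else 1) * Matrix.vandermonde a =
      Matrix.vandermonde a * Z) : False := by
  have hpp : p.Prime := Fact.out
  have hne : ∀ i, a i ≠ 0 := by
    intro i h0
    have h1 := hap i
    rw [h0, zero_pow hpp.ne_zero] at h1
    exact zero_ne_one h1
  have key : ∀ i : Fin p, (if i = 0 then ζ else 1) * a i ^ (m : ℕ) = Z 0 m := by
    intro i
    have h1 := congrFun (congrFun h i) m
    rw [Matrix.diagonal_mul, hZ.mul_apply_right, sub_self, Matrix.vandermonde_apply,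
      Matrix.vandermonde_apply, Fin.val_zero, pow_zero, one_mul] at h1
    exact h1
  have h10 : (⟨1, by omega⟩ : Fin p) ≠ 0 := by
    intro h1
    have h2 := congrArg Fin.val h1
    simp at h2
  have h20 : (⟨2, by omega⟩ : Fin p) ≠ 0 := by
    intro h1
    have h2 := congrArg Fin.val h1
    simp at h2
  have h12 : (⟨1, by omega⟩ : Fin p) ≠ ⟨2, by omega⟩ := by
    intro h1
    have h2 := congrArg Fin.val h1
    simp at h2
  have e1 := key ⟨1, by omega⟩
  have e2 := key ⟨2, by omega⟩
  rw [if_neg h10, one_mul] at e1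
  rw [if_neg h20, one_mul] at e2
  have hm0 : (m : ℕ) = 0 := by
    by_contra hm
    have h3 : (a ⟨1, by omega⟩ * (a ⟨2, by omega⟩)⁻¹) ^ (m : ℕ) = 1 := by
      rw [mul_pow, inv_pow, e1, e2]
      apply mul_inv_cancel₀
      rw [← e2]
      exact pow_ne_zero _ (hne _)
    have h4 : (a ⟨1, by omega⟩ * (a ⟨2, by omega⟩)⁻¹) ^ p = 1 := by
      rw [mul_pow, inv_pow, hap, hap, inv_one, mul_one]
    have h5 := pow_gcd_eq_one.mpr ⟨h3, h4⟩
    have hg : Nat.gcd (m : ℕ) p = 1 := by
      rw [Nat.gcd_comm]
      apply (Nat.Prime.coprime_iff_not_dvd hpp).mpr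
      intro hd
      have h6 := Nat.le_of_dvd (Nat.pos_of_ne_zero hm) hd
      have h7 := m.2
      omega
    rw [hg, pow_one] at h5
    exact h12 (ha ((mul_inv_eq_one₀ (hne _)).mp h5))
  have e0 := key 0
  rw [if_pos rfl, hm0, pow_zero, mul_one] at e0
  rw [hm0, pow_zero] at e1
  exact hζ (e0.trans e1.symm)

/-- the `1 + x` test -/
theorem one_add_test (hp3 : 3 ≤ p) {j : Fin p} (hj : j ≠ 0) {X : Matrix (Fin p) (Fin p) F}
    (hX : IsMono p j X) {ζ : F} (hζ : ζ ≠ 1) {m : Fin p} {Z : Matrix (Fin p) (Fin p) F}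
    (hZ : IsMono p m Z)
    (h : (1 + X) * Matrix.diagonal (fun l : Fin p => if l = 0 then ζ else 1) = Z * (1 + X)) :
    False := by
  have key : ∀ l r : Fin p,
      ((1 : Matrix (Fin p) (Fin p) F) l r + X l r) * (if r = 0 then ζ else 1) =
      Z l (l + m) * ((1 : Matrix (Fin p) (Fin p) F) (l + m) r + X (l + m) r) := by
    intro l r
    have h1 := congrFun (congrFun h l) r
    rwa [Matrix.mul_diagonal, hZ.mul_apply_left, Matrix.add_apply, Matrix.add_apply] at h1
  have hXdiag : ∀ l, X l l = 0 := by
    intro l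
    apply (hX l).2
    intro h1
    have h2 : l + 0 = l + j := by
      rw [add_zero]
      exact h1
    exact hj (add_left_cancel h2).symm
  have hm : m = 0 ∨ m = j := by
    by_contra hcon
    push Not at hcon
    have h1 := key 0 (0 + m)
    have h2 : (0 : Fin p) ≠ 0 + m := by
      rw [zero_add]
      exact Ne.symm hcon.1
    have h3 : (0 : Fin p) + m ≠ 0 + j := by
      rw [zero_add, zero_add]
      exact hcon.2
    rw [Matrix.one_apply_ne h2, (hX 0).2 (0 + m) h3, Matrix.one_apply_eq, hXdiag, add_zero,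
      zero_mul, add_zero, mul_one] at h1
    exact hZ.ne_zero 0 h1.symm
  rcases hm with hm | hm
  · subst hm
    have h1 := key 0 0
    rw [add_zero, Matrix.one_apply_eq, hXdiag, add_zero, one_mul, if_pos rfl, mul_one] at h1
    have h2 := key 0 j
    rw [add_zero, Matrix.one_apply_ne (Ne.symm hj), zero_add, if_neg hj, mul_one, ← h1] at h2
    have hx : X 0 j ≠ 0 := by
      have h3 := hX.ne_zero 0
      rwa [zero_add] at h3
    have h3 : (ζ - 1) * X 0 j = 0 := by linear_combination -h2
    rcases mul_eq_zero.mp h3 with h4 | h4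
    · exact hζ (sub_eq_zero.mp h4)
    · exact hx h4
  · subst hm
    have hjj : m + m ≠ 0 := add_self_ne_zero_of_ne_zero hp3 hj
    have hjj' : m + m ≠ 0 + m := by
      rw [zero_add]
      intro h1
      exact hj (add_eq_right.mp h1)
    have hjj'' : (0 : Fin p) + m ≠ m + m := by
      rw [zero_add]
      intro h1
      exact hj (add_eq_right.mp h1.symm)
    have h1 := key 0 (m + m)
    rw [Matrix.one_apply_ne (Ne.symm hjj), (hX 0).2 (m + m) hjj', add_zero, zero_mul,
      Matrix.one_apply_ne hjj'', zero_add] at h1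
    have h2 := mul_ne_zero (hZ.ne_zero 0) (hX.ne_zero (0 + m))
    rw [zero_add] at h2
    rw [zero_add] at h1
    exact h2 h1.symm

end Cfsg.Agent.Lib.Helper39
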