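import Mathlib
import Cfsg.Agent.Lib.Helper39.GLpTests

set_option autoImplicit false

namespace Cfsg.Agent.Lib.Helper39

open scoped Pointwise

variable {F : Type*} [Field F] [Fintype F] {p : ℕ} [Fact p.Prime]

local notation "GLp" => Matrix.GeneralLinearGroup (Fin p) F
local notation "Mp" => Matrix (Fin p) (Fin p) F

/-- a diagonal test element of the monomial group -/
noncomputable def eUnit (ζ : F) (hζ : ζ ≠ 0) (i₀ : Fin p) : GLp :=
  monoUnit 0 (fun l => if l = i₀ then ζ else 1) (fun l => by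
    by_cases h : l = i₀
    · rw [if_pos h]
      exact hζ
    · rw [if_neg h]
      exact one_ne_zero)

theorem eUnit_val (ζ : F) (hζ : ζ ≠ 0) (i₀ : Fin p) :
    ((eUnit ζ hζ i₀ : GLp) : Mp) = Matrix.diagonal (fun l => if l = i₀ then ζ else 1) := by
  rw [← monoMat_zero]
  rfl

theorem eUnit_mem (ζ : F) (hζ : ζ ≠ 0) (hζp : ζ ^ p = 1) (i₀ : Fin p) :
    (eUnit ζ hζ i₀ : GLp) ∈ monoSubgroup F p := by
  refine ⟨0, isMono_monoMat _ _ ?_⟩
  intro l
  by_cases h : l = i₀
  · rw [if_pos h]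
    exact hζp
  · rw [if_neg h, one_pow]

/-- repeated diagonal entries: a transvection centralises `x` -/
theorem case_diag_repeat (Q : Sylow p GLp) (hQ : (Q : Subgroup GLp) = monoSubgroup F p)
    {ζ : F} (hζp : ζ ^ p = 1) (hζ1 : ζ ≠ 1) (x : GLp) (hx : IsMono p 0 (x : Mp))
    {i k : Fin p} (hik : i ≠ k) (heq : (x : Mp) i i = (x : Mp) k k) :
    ∃ P : Sylow p GLp, P ≠ Q ∧ x ∈ P := by
  have hpp : p.Prime := Fact.out
  have hζ0 : ζ ≠ 0 := by
    intro h0
    rw [h0, zero_pow hpp.ne_zero] at hζp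
    exact zero_ne_one hζp
  obtain ⟨g, hg⟩ : ∃ g : GLp, (g : Mp) = Matrix.transvection i k (1 : F) :=
    ⟨⟨Matrix.transvection i k 1, Matrix.transvection i k (-1),
      by rw [Matrix.transvection_mul_transvection_same _ _ hik, add_neg_cancel,
        Matrix.transvection_zero],
      by rw [Matrix.transvection_mul_transvection_same _ _ hik, neg_add_cancel,
        Matrix.transvection_zero]⟩, rfl⟩
  have hxQ : x ∈ (Q : Subgroup GLp) := by
    rw [hQ]
    exact ⟨0, hx⟩
  have hTd : ∀ l : Fin p, Matrix.transvection i k (1 : F) l l = 1 := by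
    intro l
    simp [Matrix.transvection, Matrix.single_apply]
    intro h1 h2
    exact hik (h1.trans h2.symm)
  have hT0 : ∀ l r : Fin p, l ≠ r → ¬ (l = i ∧ r = k) → Matrix.transvection i k (1 : F) l r = 0 := by
    intro l r hlr hn
    simp [Matrix.transvection, Matrix.single_apply, hlr]
    intro h1 h2
    exact hn ⟨h1.symm, h2.symm⟩
  have hcomm : g * x = x * g := by
    apply Units.ext
    rw [Units.val_mul, Units.val_mul, hg]
    ext l r
    rw [hx.mul_apply_right, hx.mul_apply_left, sub_zero, add_zero]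
    by_cases hlr : l = r
    · rw [hlr, mul_comm]
    · by_cases hlik : l = i ∧ r = k
      · rw [hlik.1, hlik.2, heq, mul_comm]
      · rw [hT0 l r hlr hlik, zero_mul, mul_zero]
  apply exists_sylow_ne_of_commute Q x g hxQ hcomm
  apply not_mem_normalizer_of_conj_not_mem (Q : Subgroup GLp) g (eUnit ζ hζ0 i)
  · rw [hQ]
    exact eUnit_mem ζ hζ0 hζp i
  · intro hmem
    rw [hQ] at hmem
    obtain ⟨m, hm⟩ := hmem
    apply transv_test hik hζ1 hm
    have h2 : g * eUnit ζ hζ0 i = (g * eUnit ζ hζ0 i * g⁻¹) * g := by group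
    have h3 := congrArg Units.val h2
    rw [Units.val_mul, Units.val_mul, hg, eUnit_val] at h3
    exact h3

/-- distinct diagonal entries: the Vandermonde matrix conjugates `x` to a permutation matrix -/
theorem case_diag_regular (hp3 : 3 ≤ p) (Q : Sylow p GLp)
    (hQ : (Q : Subgroup GLp) = monoSubgroup F p)
    {ζ : F} (hζp : ζ ^ p = 1) (hζ1 : ζ ≠ 1) (x : GLp) (hx : IsMono p 0 (x : Mp))
    (hinj : Function.Injective (fun i => (x : Mp) i i)) :
    ∃ P : Sylow p GLp, P ≠ Q ∧ x ∈ P := by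
  have hpp : p.Prime := Fact.out
  have hζ0 : ζ ≠ 0 := by
    intro h0
    rw [h0, zero_pow hpp.ne_zero] at hζp
    exact zero_ne_one hζp
  obtain ⟨a, ha⟩ : ∃ a : Fin p → F, a = fun i => (x : Mp) i i := ⟨_, rfl⟩
  have hai : ∀ i, (x : Mp) i i = a i := fun i => by rw [ha]
  have hainj : Function.Injective a := by
    rw [ha]
    exact hinj
  have hap : ∀ i, a i ^ p = 1 := by
    intro i
    have h1 := (hx i).1
    rwa [add_zero, hai] at h1
  have hdet : (Matrix.vandermonde a).det ≠ 0 := Matrix.det_vandermonde_ne_zero_iff.mpr hainj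
  obtain ⟨g, hg⟩ : ∃ g : GLp, (g : Mp) = Matrix.vandermonde a :=
    ⟨Matrix.GeneralLinearGroup.mkOfDetNeZero (Matrix.vandermonde a) hdet, rfl⟩
  have hcm : IsMono p (-1 : Fin p) (monoMat (-1 : Fin p) (fun _ => (1 : F))) :=
    isMono_monoMat _ _ (fun _ => one_pow p)
  obtain ⟨c, hc⟩ : ∃ c : GLp, (c : Mp) = monoMat (-1 : Fin p) (fun _ => (1 : F)) :=
    ⟨monoUnit (-1 : Fin p) (fun _ => (1 : F)) (fun _ => one_ne_zero), rfl⟩
  have hcQ : c ∈ monoSubgroup F p := ⟨-1, by rw [hc]; exact hcm⟩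
  have hxg : x * g = g * c := by
    apply Units.ext
    rw [Units.val_mul, Units.val_mul, hg, hc]
    ext i k
    rw [hx.mul_apply_left, hcm.mul_apply_right, add_zero, Matrix.vandermonde_apply,
      Matrix.vandermonde_apply, sub_neg_eq_add, hai]
    have h1 : monoMat (-1 : Fin p) (fun _ => (1 : F)) (k + 1) k = 1 := by
      rw [monoMat_apply, if_pos (by rw [add_neg_cancel_right])]
    have hv : ((k + 1 : Fin p) : ℕ) = (k.val + 1) % p := by
      rw [Fin.val_add]
      congr 2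
      exact Fin.val_one' p ▸ Nat.mod_eq_of_lt hpp.one_lt
    rw [h1, mul_one, ← pow_succ', hv, ← pow_eq_pow_mod _ (hap i)]
  have h1 : g⁻¹ * x * g = c := by
    rw [mul_assoc, hxg, inv_mul_cancel_left]
  apply exists_sylow_ne_of_conj Q x g
  · rw [h1]
    show c ∈ (Q : Subgroup GLp)
    rw [hQ]
    exact hcQ
  · apply not_mem_normalizer_of_conj_not_mem' (Q : Subgroup GLp) g (eUnit ζ hζ0 0)
    · rw [hQ]
      exact eUnit_mem ζ hζ0 hζp 0
    · intro hmem
      rw [hQ] at hmem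
      obtain ⟨m, hm⟩ := hmem
      apply vander_test hp3 hainj hap hζ1 hm
      have h2 : eUnit ζ hζ0 0 * g = g * (g⁻¹ * eUnit ζ hζ0 0 * g) := by group
      have h3 := congrArg Units.val h2
      rw [Units.val_mul, Units.val_mul, hg, eUnit_val] at h3
      exact h3

/-- the `p`-th power of a monomial matrix with nonzero shift is a scalar -/
theorem mono_pow_p {j : Fin p} (hj : j ≠ 0) {X : Mp} (hX : IsMono p j X) :
    ∃ c : F, c ^ p = 1 ∧ X ^ p = c • (1 : Mp) := by
  have hP : IsMono p 0 (X ^ p) := by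
    have h1 := hX.pow p
    rwa [fin_prime_nsmul] at h1
  have hcomm : X ^ p * X = X * X ^ p := by rw [← pow_succ, ← pow_succ']
  have hd : ∀ i, (X ^ p) i i = (X ^ p) (i + j) (i + j) := by
    intro i
    have h1 := congrFun (congrFun hcomm i) (i + j)
    rw [hP.mul_apply_left, hX.mul_apply_left, add_zero] at h1
    have h2 := hX.ne_zero i
    apply mul_right_cancel₀ h2
    rw [h1, mul_comm]
  have hconst : ∀ n : ℕ, (X ^ p) 0 0 = (X ^ p) (n • j) (n • j) := by
    intro n
    induction n with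
    | zero => rw [zero_smul]
    | succ n ih => rw [succ_nsmul, ← hd]; exact ih
  have hinj : Function.Injective (fun n : Fin p => (n : ℕ) • j) :=
    fun a b h => Fin.ext (nsmul_inj_of_lt hj a.2 b.2 h)
  have hsurj := Finite.injective_iff_surjective.mp hinj
  refine ⟨(X ^ p) 0 0, ?_, ?_⟩
  · have h1 := (hP 0).1
    rwa [add_zero] at h1
  · ext i k
    rw [Matrix.smul_apply, smul_eq_mul]
    by_cases hik : i = k
    · rw [← hik, Matrix.one_apply_eq, mul_one]
      obtain ⟨n, hn⟩ := hsurj i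
      have hn' : (n : ℕ) • j = i := hn
      rw [← hn']
      exact (hconst n).symm
    · rw [Matrix.one_apply_ne hik, mul_zero]
      apply (hP i).2
      rw [add_zero]
      exact fun h => hik h.symm

/-- nonzero shift and `x ^ p = 1`: a spectral idempotent gives a centralising `p`-element -/
theorem case_shift_pow_one (hp3 : 3 ≤ p) (Q : Sylow p GLp)
    (hQ : (Q : Subgroup GLp) = monoSubgroup F p)
    {ζ : F} (hζp : ζ ^ p = 1) (hζ1 : ζ ≠ 1) (hpF : (p : F) ≠ 0) (x : GLp) {j : Fin p}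
    (hj : j ≠ 0) (hx : IsMono p j (x : Mp)) (hxp : (x : Mp) ^ p = 1) :
    ∃ P : Sylow p GLp, P ≠ Q ∧ x ∈ P := by
  have hpp : p.Prime := Fact.out
  have hζ0 : ζ ≠ 0 := by
    intro h0
    rw [h0, zero_pow hpp.ne_zero] at hζp
    exact zero_ne_one hζp
  obtain ⟨X, hXdef⟩ : ∃ X : Mp, X = (x : Mp) := ⟨_, rfl⟩
  rw [← hXdef] at hx hxp
  obtain ⟨S, hS⟩ : ∃ S : Mp, S = ∑ k ∈ Finset.range p, X ^ k := ⟨_, rfl⟩
  have hsum : ∑ k ∈ Finset.range p, X ^ (k + 1) = S := by
    have h1 : ∑ k ∈ Finset.range p, X ^ (k + 1) + X ^ 0 = ∑ k ∈ Finset.range p, X ^ k + X ^ p := by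
      rw [← Finset.sum_range_succ', Finset.sum_range_succ]
    rw [pow_zero, hxp] at h1
    rw [hS]
    exact add_right_cancel h1
  have hXS : X * S = S := by
    nth_rewrite 1 [hS]
    rw [Finset.mul_sum]
    simp only [← pow_succ']
    exact hsum
  have hSX : S * X = S := by
    nth_rewrite 1 [hS]
    rw [Finset.sum_mul]
    simp only [← pow_succ]
    exact hsum
  have hXnS : ∀ n : ℕ, X ^ n * S = S := by
    intro n
    induction n with
    | zero => rw [pow_zero, one_mul]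
    | succ n ih => rw [pow_succ, mul_assoc, hXS, ih]
  have hSS : S * S = (p : F) • S := by
    nth_rewrite 1 [hS]
    rw [Finset.sum_mul, Finset.sum_congr rfl (fun k _ => hXnS k), Finset.sum_const,
      Finset.card_range, Nat.cast_smul_eq_nsmul]
  obtain ⟨E, hE⟩ : ∃ E : Mp, E = (p : F)⁻¹ • S := ⟨_, rfl⟩
  have hEE : E * E = E := by
    rw [hE, Matrix.smul_mul, Matrix.mul_smul, hSS, smul_smul, smul_smul]
    congr 1
    field_simp
  have hXE : X * E = E := by rw [hE, Matrix.mul_smul, hXS]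
  have hEX : E * X = E := by rw [hE, Matrix.smul_mul, hSX]
  have key : ∀ a b : F, (1 + a • E) * (1 + b • E) = 1 + (a + b + a * b) • E := by
    intro a b
    simp only [add_mul, mul_add, one_mul, mul_one, Matrix.smul_mul, Matrix.mul_smul, hEE,
      smul_smul, add_smul]
    rw [mul_comm b a]
    abel
  have hcoef : (ζ - 1) + (ζ⁻¹ - 1) + (ζ - 1) * (ζ⁻¹ - 1) = 0 := by
    have h1 := mul_inv_cancel₀ hζ0
    linear_combination h1
  have hcoef' : (ζ⁻¹ - 1) + (ζ - 1) + (ζ⁻¹ - 1) * (ζ - 1) = 0 := by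
    have h1 := mul_inv_cancel₀ hζ0
    linear_combination h1
  obtain ⟨g, hg⟩ : ∃ g : GLp, (g : Mp) = 1 + (ζ - 1) • E :=
    ⟨⟨1 + (ζ - 1) • E, 1 + (ζ⁻¹ - 1) • E, by rw [key, hcoef, zero_smul, add_zero],
      by rw [key, hcoef', zero_smul, add_zero]⟩, rfl⟩
  have hgpow : ∀ n : ℕ, (g : Mp) ^ n = 1 + (ζ ^ n - 1) • E := by
    intro n
    induction n with
    | zero => rw [pow_zero, pow_zero, sub_self, zero_smul, add_zero]
    | succ n ih =>
      rw [pow_succ, ih, hg, key]
      congr 2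
      ring
  have hgp : g ^ p = 1 := by
    apply Units.ext
    rw [Units.val_pow_eq_pow_val, hgpow, hζp, sub_self, zero_smul, add_zero, Units.val_one]
  have hxQ : x ∈ (Q : Subgroup GLp) := by
    rw [hQ]
    exact ⟨j, by rw [← hXdef]; exact hx⟩
  have hcomm : g * x = x * g := by
    apply Units.ext
    rw [Units.val_mul, Units.val_mul, hg, ← hXdef, add_mul, mul_add, one_mul, mul_one,
      Matrix.smul_mul, Matrix.mul_smul, hEX, hXE]
  have hSentry : ∀ n : ℕ, n < p → S 0 (n • j) = (X ^ n) 0 (n • j) := by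
    intro n hn
    rw [hS, Matrix.sum_apply]
    apply Finset.sum_eq_single n
    · intro k hk hkn
      apply ((hx.pow k) 0).2
      rw [zero_add]
      intro h1
      exact hkn (nsmul_inj_of_lt hj (Finset.mem_range.mp hk) hn h1.symm)
    · intro h
      exact absurd (Finset.mem_range.mpr hn) h
  have hgentry : ∀ n : ℕ, 0 < n → n < p → (g : Mp) 0 (n • j) ≠ 0 := by
    intro n hn0 hn
    have h0 : (0 : Fin p) ≠ n • j := by
      intro h1
      have h2 : 0 • j = n • j := by rw [zero_smul]; exact h1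
      have h3 := nsmul_inj_of_lt hj hpp.pos hn h2
      omega
    rw [hg, Matrix.add_apply, Matrix.one_apply_ne h0, zero_add, Matrix.smul_apply, hE,
      Matrix.smul_apply, hSentry n hn, smul_eq_mul, smul_eq_mul]
    have h4 := (hx.pow n).ne_zero 0
    rw [zero_add] at h4
    exact mul_ne_zero (sub_ne_zero.mpr hζ1) (mul_ne_zero (inv_ne_zero hpF) h4)
  have hgQ : g ∉ (Q : Subgroup GLp) := by
    rw [hQ]
    rintro ⟨m, hm⟩
    have e1 : 1 • j = 0 + m := by
      by_contra hne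
      exact hgentry 1 (by omega) (by omega) ((hm 0).2 _ hne)
    have e2 : 2 • j = 0 + m := by
      by_contra hne
      exact hgentry 2 (by omega) (by omega) ((hm 0).2 _ hne)
    have h3 := nsmul_inj_of_lt hj (by omega) (by omega) (e1.trans e2.symm)
    omega
  apply exists_sylow_ne_of_commute Q x g hxQ hcomm
  intro hgN
  exact hgQ (mem_sylow_of_mem_normalizer_of_pow Q g hgN hgp)

/-- nonzero shift and `x ^ p ≠ 1`: `1 + x` is invertible and centralises `x` -/
theorem case_shift_pow_ne (hp3 : 3 ≤ p) (hodd : Odd p) (Q : Sylow p GLp)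
    (hQ : (Q : Subgroup GLp) = monoSubgroup F p)
    {ζ : F} (hζp : ζ ^ p = 1) (hζ1 : ζ ≠ 1) (x : GLp) {j : Fin p}
    (hj : j ≠ 0) (hx : IsMono p j (x : Mp)) {c : F} (hcp : c ^ p = 1) (hc1 : c ≠ 1)
    (hxp : (x : Mp) ^ p = c • (1 : Mp)) :
    ∃ P : Sylow p GLp, P ≠ Q ∧ x ∈ P := by
  have hpp : p.Prime := Fact.out
  have hζ0 : ζ ≠ 0 := by
    intro h0
    rw [h0, zero_pow hpp.ne_zero] at hζp
    exact zero_ne_one hζp
  obtain ⟨X, hXdef⟩ : ∃ X : Mp, X = (x : Mp) := ⟨_, rfl⟩
  rw [← hXdef] at hx hxp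
  have hc : 1 + c ≠ 0 := by
    intro h0
    have h1 : c = -1 := by linear_combination h0
    apply hc1
    rw [h1, Odd.neg_one_pow hodd] at hcp
    rw [h1, hcp]
  have hpow : (-X) ^ p = -(c • (1 : Mp)) := by rw [Odd.neg_pow hodd, hxp]
  have h5 : (1 : Mp) + c • (1 : Mp) = (1 + c) • (1 : Mp) := by rw [add_smul, one_smul]
  have h12 : (1 + X) * ((1 + c)⁻¹ • ∑ k ∈ Finset.range p, (-X) ^ k) = 1 := by
    rw [Matrix.mul_smul]
    have h1 := mul_neg_geom_sum (-X) p
    rw [sub_neg_eq_add, hpow, sub_neg_eq_add] at h1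
    rw [h1, h5, smul_smul, inv_mul_cancel₀ hc, one_smul]
  have h21 : ((1 + c)⁻¹ • ∑ k ∈ Finset.range p, (-X) ^ k) * (1 + X) = 1 := by
    rw [Matrix.smul_mul]
    have h1 := geom_sum_mul_neg (-X) p
    rw [sub_neg_eq_add, hpow, sub_neg_eq_add] at h1
    rw [h1, h5, smul_smul, inv_mul_cancel₀ hc, one_smul]
  obtain ⟨g, hg⟩ : ∃ g : GLp, (g : Mp) = 1 + X :=
    ⟨⟨1 + X, (1 + c)⁻¹ • ∑ k ∈ Finset.range p, (-X) ^ k, h12, h21⟩, rfl⟩
  have hxQ : x ∈ (Q : Subgroup GLp) := by
    rw [hQ]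
    exact ⟨j, by rw [← hXdef]; exact hx⟩
  have hcomm : g * x = x * g := by
    apply Units.ext
    rw [Units.val_mul, Units.val_mul, hg, ← hXdef, add_mul, mul_add, one_mul, mul_one]
  apply exists_sylow_ne_of_commute Q x g hxQ hcomm
  apply not_mem_normalizer_of_conj_not_mem (Q : Subgroup GLp) g (eUnit ζ hζ0 0)
  · rw [hQ]
    exact eUnit_mem ζ hζ0 hζp 0
  · intro hmem
    rw [hQ] at hmem
    obtain ⟨m, hm⟩ := hmem
    apply one_add_test hp3 hj hx hζ1 hm
    have h2 : g * eUnit ζ hζ0 0 = (g * eUnit ζ hζ0 0 * g⁻¹) * g := by group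
    have h3 := congrArg Units.val h2
    rw [Units.val_mul, Units.val_mul, hg, eUnit_val] at h3
    exact h3

/-- `GL_p(q)` has a redundant Sylow `p`-subgroup when `p ∥ q - 1`, `p` odd -/
theorem glp_redundant (hp : p ≠ 2) (h1 : p ∣ Fintype.card F - 1)
    (h2 : ¬ p ^ 2 ∣ Fintype.card F - 1) :
    ∃ Q : Sylow p GLp, ∀ x : GLp, (∃ k : ℕ, orderOf x = p ^ k) →
      ∃ P : Sylow p GLp, P ≠ Q ∧ x ∈ P := by
  classical
  have hpp : p.Prime := Fact.out
  have hp3 : 3 ≤ p := by
    have := hpp.two_le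
    omega
  have hodd : Odd p := hpp.odd_of_ne_two hp
  have hc : Nat.card Fˣ = Fintype.card F - 1 := by
    rw [Nat.card_eq_fintype_card, Fintype.card_units]
  obtain ⟨u, hu⟩ := exists_prime_orderOf_dvd_card' (G := Fˣ) p (by rw [hc]; exact h1)
  have hζp : (u : F) ^ p = 1 := by
    rw [← Units.val_pow_eq_pow_val, ← hu, pow_orderOf_eq_one, Units.val_one]
  have hζ1 : (u : F) ≠ 1 := by
    intro h
    have h3 : u = 1 := Units.ext h
    rw [h3, orderOf_one] at hu
    exact hpp.one_lt.ne hu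
  have hpF : (p : F) ≠ 0 := by
    intro h0
    have hd := ringChar.dvd h0
    have hr : ringChar F = p := by
      rcases (Nat.dvd_prime hpp).mp hd with h | h
      · exact absurd h CharP.ringChar_ne_one
      · exact h
    haveI : CharP F p := ringChar.of_eq hr
    have h3 : ((u : F) - 1) ^ p = 0 := by rw [sub_pow_char, hζp, one_pow, sub_self]
    exact hζ1 (sub_eq_zero.mp ((pow_eq_zero_iff hpp.ne_zero).mp h3))
  obtain ⟨Q, hQ⟩ : ∃ Q : Sylow p GLp, (Q : Subgroup GLp) = monoSubgroup F p :=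
    ⟨Sylow.ofCard (monoSubgroup F p)
      (by rw [card_monoSubgroup h1, factorization_card_GLp p hp h1 h2]), Sylow.coe_ofCard _ _⟩
  refine ⟨Q, ?_⟩
  intro x hxord
  by_cases hxQ : x ∈ (Q : Subgroup GLp)
  · have hxQ' := hxQ
    rw [hQ] at hxQ'
    obtain ⟨j, hj⟩ := hxQ'
    by_cases hj0 : j = 0
    · subst hj0
      by_cases hinj : Function.Injective (fun i => (x : Mp) i i)
      · exact case_diag_regular hp3 Q hQ hζp hζ1 x hj hinj
      · rw [Function.Injective] at hinj
        push Not at hinj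
        obtain ⟨i, k, heq, hik⟩ := hinj
        exact case_diag_repeat Q hQ hζp hζ1 x hj hik heq
    · obtain ⟨c, hcp, hxp⟩ := mono_pow_p hj0 hj
      by_cases hc1 : c = 1
      · rw [hc1, one_smul] at hxp
        exact case_shift_pow_one hp3 Q hQ hζp hζ1 hpF x hj0 hj hxp
      · exact case_shift_pow_ne hp3 hodd Q hQ hζp hζ1 x hj0 hj hcp hc1 hxp
  · obtain ⟨k, hk⟩ := hxord
    have hH : IsPGroup p (Subgroup.zpowers x) :=
      IsPGroup.of_card (n := k) (by rw [Nat.card_zpowers, hk])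
    obtain ⟨P, hP⟩ := hH.exists_le_sylow
    refine ⟨P, ?_, hP (Subgroup.mem_zpowers x)⟩
    rintro rfl
    exact hxQ (hP (Subgroup.mem_zpowers x))

end Cfsg.Agent.Lib.Helper39
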