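import Mathlib

set_option autoImplicit false

namespace Cfsg.Agent.Lib.Helper39

open scoped ComplexConjugate

section RF

variable {R : Type*} [CommRing R] [Fintype R] [DecidableEq R]

theorem card_ne_zero_complexR [Nonempty R] : (Fintype.card R : ℂ) ≠ 0 := by
  have := Fintype.card_pos (α := R)
  exact_mod_cast this.ne'

/-- character sum over the dual variable -/
theorem sum_addChar_mulR (ψ : AddChar R ℂ) (hψ : ψ.IsPrimitive) (x : R) :
    ∑ c : R, ψ (c * x) = if x = 0 then (Fintype.card R : ℂ) else 0 := by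
  rw [AddChar.sum_mulShift x hψ]
  split_ifs <;> simp

/-- Fourier coefficient of a function on a finite commutative ring -/
noncomputable def fhatR (ψ : AddChar R ℂ) (φ : R → ℂ) (c : R) : ℂ :=
  (Fintype.card R : ℂ)⁻¹ * ∑ x : R, ψ (-(c * x)) * φ x

theorem fhatR_add (ψ : AddChar R ℂ) (φ γ : R → ℂ) (c : R) :
    fhatR ψ (φ + γ) c = fhatR ψ φ c + fhatR ψ γ c := by
  unfold fhatR
  simp only [Pi.add_apply, mul_add, Finset.sum_add_distrib]

theorem fhatR_sub (ψ : AddChar R ℂ) (φ γ : R → ℂ) (c : R) :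
    fhatR ψ (φ - γ) c = fhatR ψ φ c - fhatR ψ γ c := by
  unfold fhatR
  simp only [Pi.sub_apply, mul_sub, Finset.sum_sub_distrib]

theorem fhatR_smul (ψ : AddChar R ℂ) (a : ℂ) (φ : R → ℂ) (c : R) :
    fhatR ψ (fun x => a * φ x) c = a * fhatR ψ φ c := by
  unfold fhatR
  rw [Finset.mul_sum, Finset.mul_sum, Finset.mul_sum]
  refine Finset.sum_congr rfl (fun x _ => ?_)
  ring

/-- Fourier inversion -/
theorem fourier_invR [Nonempty R] (ψ : AddChar R ℂ) (hψ : ψ.IsPrimitive) (φ : R → ℂ) (x : R) :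
    φ x = ∑ c : R, fhatR ψ φ c * ψ (c * x) := by
  have hq0 := card_ne_zero_complexR (R := R)
  unfold fhatR
  simp only [mul_assoc, Finset.sum_mul, ← Finset.mul_sum]
  rw [Finset.sum_comm]
  have h : ∀ y : R, ∑ c : R, ψ (-(c * y)) * (φ y * ψ (c * x)) =
      φ y * (if x - y = 0 then (Fintype.card R : ℂ) else 0) := by
    intro y
    rw [← sum_addChar_mulR ψ hψ (x - y), Finset.mul_sum]
    refine Finset.sum_congr rfl (fun c _ => ?_)
    have : c * (x - y) = -(c * y) + c * x := by ring
    rw [this, AddChar.map_add_eq_mul]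
    ring
  simp only [h]
  rw [Finset.sum_eq_single x]
  · simp only [sub_self, if_true]
    field_simp
  · intro y _ hy
    rw [if_neg (fun h0 => hy (sub_eq_zero.mp h0).symm), mul_zero]
  · intro hx
    exact absurd (Finset.mem_univ _) hx

/-- Parseval's identity -/
theorem parsevalR [Nonempty R] (ψ : AddChar R ℂ) (hψ : ψ.IsPrimitive) (φ γ : R → ℂ) :
    ∑ x : R, φ x * conj (γ x) =
      (Fintype.card R : ℂ) * ∑ c : R, fhatR ψ φ c * conj (fhatR ψ γ c) := by
  have hq0 := card_ne_zero_complexR (R := R)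
  have h1 : ∀ c : R, ∑ x : R, ψ (c * x) * conj (γ x) =
      (Fintype.card R : ℂ) * conj (fhatR ψ γ c) := by
    intro c
    unfold fhatR
    rw [map_mul (starRingEnd ℂ), map_inv₀, Complex.conj_natCast, ← mul_assoc,
      mul_inv_cancel₀ hq0, one_mul, map_sum]
    refine Finset.sum_congr rfl (fun x _ => ?_)
    rw [map_mul (starRingEnd ℂ), ← AddChar.map_neg_eq_conj, neg_neg]
  calc ∑ x : R, φ x * conj (γ x)
      = ∑ x : R, (∑ c : R, fhatR ψ φ c * ψ (c * x)) * conj (γ x) := by
        refine Finset.sum_congr rfl (fun x _ => ?_)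
        rw [← fourier_invR ψ hψ φ x]
    _ = ∑ c : R, fhatR ψ φ c * ∑ x : R, ψ (c * x) * conj (γ x) := by
        simp only [Finset.sum_mul, Finset.mul_sum]
        rw [Finset.sum_comm]
        refine Finset.sum_congr rfl (fun c _ => Finset.sum_congr rfl (fun x _ => ?_))
        ring
    _ = (Fintype.card R : ℂ) * ∑ c : R, fhatR ψ φ c * conj (fhatR ψ γ c) := by
        simp only [h1]
        rw [Finset.mul_sum]
        refine Finset.sum_congr rfl (fun c _ => ?_)
        ring

/-- A function on a finite commutative ring whose Fourier coefficients are integers, with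
`g 0 = s` and square sum at most `#R * s`, is a sum of `s` distinct characters. -/
theorem fourier_zero_one [Nonempty R] (ψ : AddChar R ℂ) (hψ : ψ.IsPrimitive) (g : R → ℂ)
    (hint : ∀ c : R, ∃ z : ℤ, fhatR ψ g c = (z : ℂ)) (s : ℕ) (h0 : g 0 = (s : ℂ))
    (hsq : ∑ x : R, Complex.normSq (g x) ≤ (Fintype.card R : ℝ) * s) :
    ∃ M : Finset R, M.card = s ∧ ∀ x : R, g x = ∑ c ∈ M, ψ (c * x) := by
  choose z hz using hint
  have hq0 := card_ne_zero_complexR (R := R)
  have hqpos : (0 : ℝ) < (Fintype.card R : ℝ) := by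
    have := Fintype.card_pos (α := R)
    exact_mod_cast this
  have hsum : ∑ c : R, z c = (s : ℤ) := by
    have h := fourier_invR ψ hψ g 0
    simp only [mul_zero, AddChar.map_zero_eq_one, mul_one, hz] at h
    rw [h0] at h
    have h' : ((s : ℤ) : ℂ) = ((∑ c : R, z c : ℤ) : ℂ) := by
      push_cast
      exact h
    exact_mod_cast h'.symm
  have hpars := parsevalR ψ hψ g g
  have hsq2 : ∑ c : R, (z c) ^ 2 ≤ (s : ℤ) := by
    have h1 : ∑ x : R, g x * conj (g x) = ((∑ x : R, Complex.normSq (g x) : ℝ) : ℂ) := by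
      push_cast
      refine Finset.sum_congr rfl (fun x _ => ?_)
      rw [Complex.mul_conj]
    have h2 : ∑ c : R, fhatR ψ g c * conj (fhatR ψ g c) = ((∑ c : R, ((z c : ℝ)) ^ 2 : ℝ) : ℂ) := by
      push_cast
      refine Finset.sum_congr rfl (fun c _ => ?_)
      rw [hz c, map_intCast (starRingEnd ℂ)]
      ring
    rw [h1, h2] at hpars
    have h3 : (∑ x : R, Complex.normSq (g x) : ℝ) =
        (Fintype.card R : ℝ) * ∑ c : R, ((z c : ℝ)) ^ 2 := by exact_mod_cast hpars
    rw [h3] at hsq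
    have h4 : ∑ c : R, ((z c : ℝ)) ^ 2 ≤ (s : ℝ) := le_of_mul_le_mul_left hsq hqpos
    have h5 : ((∑ c : R, (z c) ^ 2 : ℤ) : ℝ) ≤ ((s : ℤ) : ℝ) := by
      push_cast
      exact h4
    exact_mod_cast h5
  have hterm : ∀ c : R, 0 ≤ (z c) ^ 2 - z c := by
    intro c
    have : 0 ≤ z c * (z c - 1) := by
      rcases le_or_gt (z c) 0 with h | h
      · exact mul_nonneg_of_nonpos_of_nonpos h (by omega)
      · exact mul_nonneg (by omega) (by omega)
    nlinarith
  have hzero : ∀ c : R, (z c) ^ 2 - z c = 0 := by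
    have htot : ∑ c : R, ((z c) ^ 2 - z c) ≤ 0 := by
      rw [Finset.sum_sub_distrib, hsum]
      omega
    have hnn : ∀ c ∈ (Finset.univ : Finset R), 0 ≤ (z c) ^ 2 - z c := fun c _ => hterm c
    have h0' := (Finset.sum_eq_zero_iff_of_nonneg hnn).mp
      (le_antisymm htot (Finset.sum_nonneg hnn))
    intro c
    exact h0' c (Finset.mem_univ c)
  have h01 : ∀ c : R, z c = 0 ∨ z c = 1 := by
    intro c
    have h := hzero c
    have h' : z c * (z c - 1) = 0 := by linear_combination h
    rcases mul_eq_zero.mp h' with h1 | h1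
    · left; exact h1
    · right; omega
  refine ⟨Finset.univ.filter (fun c => z c = 1), ?_, ?_⟩
  · have h1 : ∑ c : R, z c = ∑ c : R, (if z c = 1 then (1 : ℤ) else 0) := by
      refine Finset.sum_congr rfl (fun c _ => ?_)
      rcases h01 c with h | h <;> simp [h]
    rw [h1, Finset.sum_boole] at hsum
    exact_mod_cast hsum
  · intro x
    rw [fourier_invR ψ hψ g x, Finset.sum_filter]
    refine Finset.sum_congr rfl (fun c _ => ?_)
    rw [hz c]
    rcases h01 c with h | h <;> simp [h]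

end RF

end Cfsg.Agent.Lib.Helper39
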