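import Mathlib
import Cfsg.Agent.Lib.Helper39.GL2

set_option autoImplicit false

namespace Cfsg.Agent.Lib.Helper39

open Matrix

variable {F : Type*} [Field F]

theorem sl2_trace_eq_of_isConj {g h : Matrix.SpecialLinearGroup (Fin 2) F} (hc : IsConj g h) :
    (g : Matrix (Fin 2) (Fin 2) F).trace = (h : Matrix (Fin 2) (Fin 2) F).trace := by
  rw [isConj_iff] at hc
  obtain ⟨c, rfl⟩ := hc
  rw [Matrix.SpecialLinearGroup.coe_mul, Matrix.SpecialLinearGroup.coe_mul, Matrix.trace_mul_comm,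
    ← Matrix.mul_assoc, ← Matrix.SpecialLinearGroup.coe_mul, inv_mul_cancel]
  simp

/-- If `h * c = c * g` then the matrix `[c v | h (c v)]` is `c * [v | g v]`. -/
theorem cycMat_conj (g h c : Matrix (Fin 2) (Fin 2) F) (hc : h * c = c * g) (x y : F) :
    cycMat h (c 0 0 * x + c 0 1 * y) (c 1 0 * x + c 1 1 * y) = c * cycMat g x y := by
  have e00 := congrFun (congrFun hc 0) 0
  have e01 := congrFun (congrFun hc 0) 1
  have e10 := congrFun (congrFun hc 1) 0
  have e11 := congrFun (congrFun hc 1) 1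
  simp only [Matrix.mul_apply, Fin.sum_univ_two] at e00 e01 e10 e11
  ext i j
  fin_cases i <;> fin_cases j
  · simp [cycMat, Matrix.mul_apply, Fin.sum_univ_two]
  · simp [cycMat, Matrix.mul_apply, Fin.sum_univ_two]
    linear_combination x * e00 + y * e01
  · simp [cycMat, Matrix.mul_apply, Fin.sum_univ_two]
  · simp [cycMat, Matrix.mul_apply, Fin.sum_univ_two]
    linear_combination x * e10 + y * e11

/-- the set of values of `det [v | g v]` is an invariant of `SL₂`-conjugacy. -/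
theorem sl2_cyc_of_isConj {g h : Matrix.SpecialLinearGroup (Fin 2) F} (hc : IsConj g h) (x y : F) :
    ∃ x' y' : F, (cycMat (h : Matrix (Fin 2) (Fin 2) F) x' y').det =
      (cycMat (g : Matrix (Fin 2) (Fin 2) F) x y).det := by
  rw [isConj_iff] at hc
  obtain ⟨c, hc⟩ := hc
  have hc' : (h : Matrix (Fin 2) (Fin 2) F) * (c : Matrix (Fin 2) (Fin 2) F) =
      (c : Matrix (Fin 2) (Fin 2) F) * (g : Matrix (Fin 2) (Fin 2) F) := by
    have h0 : h * c = c * g := by rw [← hc, inv_mul_cancel_right]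
    rw [← Matrix.SpecialLinearGroup.coe_mul, ← Matrix.SpecialLinearGroup.coe_mul, h0]
  exact ⟨_, _, by rw [cycMat_conj _ _ _ hc' x y, Matrix.det_mul, c.det_coe, one_mul]⟩

/-- Two elements of `SL₂` with equal trace and a common non-zero value of `det [v | g v]` are
conjugate in `SL₂`. -/
theorem sl2_isConj_of_cyc (g h : Matrix.SpecialLinearGroup (Fin 2) F) (x y x' y' : F)
    (htr : (g : Matrix (Fin 2) (Fin 2) F).trace = (h : Matrix (Fin 2) (Fin 2) F).trace)
    (hdet : (cycMat (g : Matrix (Fin 2) (Fin 2) F) x y).det =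
      (cycMat (h : Matrix (Fin 2) (Fin 2) F) x' y').det)
    (hne : (cycMat (g : Matrix (Fin 2) (Fin 2) F) x y).det ≠ 0) : IsConj g h := by
  set P := cycMat (g : Matrix (Fin 2) (Fin 2) F) x y with hPdef
  set Q := cycMat (h : Matrix (Fin 2) (Fin 2) F) x' y' with hQdef
  have hA := mul_cycMat (g : Matrix (Fin 2) (Fin 2) F) x y
  have hB := mul_cycMat (h : Matrix (Fin 2) (Fin 2) F) x' y'
  have hdg : (g : Matrix (Fin 2) (Fin 2) F).det = (h : Matrix (Fin 2) (Fin 2) F).det := by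
    rw [g.det_coe, h.det_coe]
  rw [← htr, ← hdg] at hB
  have key := conj_aux _ _ P Q _ hne hA hB
  have hdetc : (Q * P⁻¹).det = 1 := by
    rw [Matrix.det_mul, Matrix.det_nonsing_inv, ← hdet, Ring.mul_inverse_cancel]
    exact isUnit_iff_ne_zero.mpr hne
  rw [isConj_iff]
  obtain ⟨c, hcval⟩ : ∃ c : Matrix.SpecialLinearGroup (Fin 2) F,
      (c : Matrix (Fin 2) (Fin 2) F) = Q * P⁻¹ := ⟨⟨_, hdetc⟩, rfl⟩
  refine ⟨c, ?_⟩
  rw [mul_inv_eq_iff_eq_mul]
  apply Subtype.ext
  rw [Matrix.SpecialLinearGroup.coe_mul, Matrix.SpecialLinearGroup.coe_mul, hcval]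
  exact key

/-- the matrix `[[0, -l⁻¹], [l, t]]` of trace `t` and determinant one. -/
def twMat (t l : F) : Matrix (Fin 2) (Fin 2) F := !![0, -l⁻¹; l, t]

theorem twMat_det (t : F) {l : F} (hl : l ≠ 0) : (twMat t l).det = 1 := by
  simp [twMat, Matrix.det_fin_two, hl]

theorem twMat_trace (t l : F) : (twMat t l).trace = t := by
  simp [twMat, Matrix.trace_fin_two]

theorem twMat_nonScal (t : F) {l : F} (hl : l ≠ 0) : NonScal (twMat t l) := by
  right; left
  simpa [twMat] using hl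

theorem twMat_cyc_det (t l x y : F) :
    (cycMat (twMat t l) x y).det = l * x ^ 2 + t * x * y + l⁻¹ * y ^ 2 := by
  rw [cycMat_det]
  simp [twMat]

/-- `twMat t l` as an element of `SL₂`. -/
def twSL (t : F) (l : Fˣ) : Matrix.SpecialLinearGroup (Fin 2) F :=
  ⟨twMat t (l : F), twMat_det t l.ne_zero⟩

theorem twSL_coe (t : F) (l : Fˣ) :
    ((twSL t l : Matrix.SpecialLinearGroup (Fin 2) F) : Matrix (Fin 2) (Fin 2) F) = twMat t (l : F) :=
  rfl

theorem sl2_nonScal_of_isConj {g h : Matrix.SpecialLinearGroup (Fin 2) F} (hc : IsConj g h)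
    (hg : NonScal (g : Matrix (Fin 2) (Fin 2) F)) :
    NonScal (h : Matrix (Fin 2) (Fin 2) F) := by
  by_contra hh
  have h1 := eq_smul_one_of_not_nonScal hh
  rw [isConj_iff] at hc
  obtain ⟨c, hc⟩ := hc
  have h2 : g = c⁻¹ * h * c := by rw [← hc]; group
  have h3 : (g : Matrix (Fin 2) (Fin 2) F) = (h : Matrix (Fin 2) (Fin 2) F) := by
    rw [h2, Matrix.SpecialLinearGroup.coe_mul, Matrix.SpecialLinearGroup.coe_mul, h1,
      Matrix.mul_smul, Matrix.mul_one, Matrix.smul_mul,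
      ← Matrix.SpecialLinearGroup.coe_mul, inv_mul_cancel]
    simp
  rw [h3] at hg
  exact hh hg

end Cfsg.Agent.Lib.Helper39
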