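import Mathlib
import Cfsg.Prelude.Def_Characters
import Cfsg.Prelude.Def_ParabolicCharacters
import Cfsg.Agent.Lib.Helper39.Ind
import Cfsg.Agent.Lib.Helper39.GL2Ind

set_option autoImplicit false

namespace Cfsg.Agent.Lib.Helper39

open Matrix
open scoped ComplexConjugate

variable {F : Type*} [Field F]

/-- the upper triangular subgroup of `SL₂`. -/
abbrev borelS (F : Type*) [Field F] : Subgroup (Matrix.SpecialLinearGroup (Fin 2) F) :=
  (Cfsg.upperTriangularGL 2 F).comap Matrix.SpecialLinearGroup.toGL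

theorem mem_borelS_iff (g : Matrix.SpecialLinearGroup (Fin 2) F) :
    g ∈ borelS F ↔ (g : Matrix (Fin 2) (Fin 2) F) 1 0 = 0 := by
  rw [Subgroup.mem_comap, mem_borel_iff]
  rfl

/-- the upper triangular element of `SL₂` with diagonal `a, a⁻¹` and corner `s`. -/
def bSL (a : Fˣ) (s : F) : Matrix.SpecialLinearGroup (Fin 2) F :=
  ⟨!![(a : F), s; 0, ((a⁻¹ : Fˣ) : F)], by simp [Matrix.det_fin_two]⟩

theorem bSL_coe (a : Fˣ) (s : F) :
    ((bSL a s : Matrix.SpecialLinearGroup (Fin 2) F) : Matrix (Fin 2) (Fin 2) F) =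
      !![(a : F), s; 0, ((a⁻¹ : Fˣ) : F)] := rfl

theorem bSL_mem (a : Fˣ) (s : F) : bSL a s ∈ borelS F := by
  rw [mem_borelS_iff, bSL_coe]; simp

/-- the parametrisation of the Borel subgroup of `SL₂`. -/
def sbMap (p : Fˣ × F) : borelS F := ⟨bSL p.1 p.2, bSL_mem _ _⟩

theorem sbMap_bijective : Function.Bijective (sbMap (F := F)) := by
  constructor
  · rintro ⟨a, s⟩ ⟨a', s'⟩ h
    have h1 : ((bSL a s : Matrix.SpecialLinearGroup (Fin 2) F) : Matrix (Fin 2) (Fin 2) F) =
        ((bSL a' s' : Matrix.SpecialLinearGroup (Fin 2) F) : Matrix (Fin 2) (Fin 2) F) :=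
      congrArg (fun b : borelS F =>
        ((b : Matrix.SpecialLinearGroup (Fin 2) F) : Matrix (Fin 2) (Fin 2) F)) h
    rw [bSL_coe, bSL_coe] at h1
    have e00 := congrFun (congrFun h1 0) 0
    have e01 := congrFun (congrFun h1 0) 1
    simp at e00 e01
    rw [Units.ext e00, e01]
  · rintro ⟨g, hg⟩
    rw [mem_borelS_iff] at hg
    have hd := g.det_coe
    rw [Matrix.det_fin_two, hg, mul_zero, sub_zero] at hd
    have h00 : (g : Matrix (Fin 2) (Fin 2) F) 0 0 ≠ 0 := by
      intro h0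
      rw [h0, zero_mul] at hd
      exact zero_ne_one hd
    refine ⟨(Units.mk0 _ h00, (g : Matrix (Fin 2) (Fin 2) F) 0 1), ?_⟩
    apply Subtype.ext
    apply Subtype.ext
    change ((bSL _ _ : Matrix.SpecialLinearGroup (Fin 2) F) : Matrix (Fin 2) (Fin 2) F) = _
    rw [bSL_coe]
    ext i j
    fin_cases i <;> fin_cases j
    · simp
    · simp
    · simp [hg]
    · simp
      exact (eq_inv_of_mul_eq_one_right hd).symm

/-- the parametrisation of the Borel subgroup of `SL₂`, as an equivalence. -/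
noncomputable def sbEquiv : Fˣ × F ≃ borelS F :=
  Equiv.ofBijective sbMap sbMap_bijective

theorem sbEquiv_coe (p : Fˣ × F) :
    (((sbEquiv p : borelS F) : Matrix.SpecialLinearGroup (Fin 2) F) : Matrix (Fin 2) (Fin 2) F) =
      !![(p.1 : F), p.2; 0, ((p.1⁻¹ : Fˣ) : F)] := rfl

theorem sbEquiv_val (p : Fˣ × F) :
    ((sbEquiv p : borelS F) : Matrix.SpecialLinearGroup (Fin 2) F) = bSL p.1 p.2 := rfl

/-- representatives of the non-trivial cosets of the Borel subgroup of `SL₂`. -/
def nSL (y : F) : Matrix.SpecialLinearGroup (Fin 2) F :=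
  ⟨!![y, -1; 1, 0], by simp [Matrix.det_fin_two]⟩

theorem nSL_coe (y : F) :
    ((nSL y : Matrix.SpecialLinearGroup (Fin 2) F) : Matrix (Fin 2) (Fin 2) F) = !![y, -1; 1, 0] :=
  rfl

theorem nSL_inv_coe (y : F) :
    (((nSL y)⁻¹ : Matrix.SpecialLinearGroup (Fin 2) F) : Matrix (Fin 2) (Fin 2) F) =
      !![0, 1; -1, y] := by
  rw [Matrix.SpecialLinearGroup.coe_inv, nSL_coe, Matrix.adjugate_fin_two]
  simp

/-- coset representatives. -/
def srep : Option F → Matrix.SpecialLinearGroup (Fin 2) F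
  | none => 1
  | some y => nSL y

theorem nSL_mul_bSL (y : F) (a : Fˣ) (s : F) :
    ((nSL y * bSL a s : Matrix.SpecialLinearGroup (Fin 2) F) : Matrix (Fin 2) (Fin 2) F) =
      !![y * a, y * s - ((a⁻¹ : Fˣ) : F); (a : F), s] := by
  rw [Matrix.SpecialLinearGroup.coe_mul, nSL_coe, bSL_coe]
  ext i j
  fin_cases i <;> fin_cases j <;> simp [Matrix.mul_apply, Fin.sum_univ_two] <;> ring

theorem srep_bijective :
    Function.Bijective (fun p : Option F × (Fˣ × F) =>
      srep p.1 * ((sbEquiv p.2 : borelS F) : Matrix.SpecialLinearGroup (Fin 2) F)) := by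
  constructor
  · rintro ⟨_ | y, a, s⟩ ⟨_ | y', a', s'⟩ h
    · simp only [srep, one_mul] at h
      have := sbEquiv.injective (Subtype.ext h)
      rw [this]
    · exfalso
      simp only [srep, one_mul, sbEquiv_val] at h
      have h1 := congrArg (fun g : Matrix.SpecialLinearGroup (Fin 2) F =>
        (g : Matrix (Fin 2) (Fin 2) F) 1 0) h
      simp only [nSL_mul_bSL, bSL_coe] at h1
      have h2 : (a' : F) = 0 := by simpa using h1.symm
      exact a'.ne_zero h2
    · exfalso
      simp only [srep, one_mul, sbEquiv_val] at h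
      have h1 := congrArg (fun g : Matrix.SpecialLinearGroup (Fin 2) F =>
        (g : Matrix (Fin 2) (Fin 2) F) 1 0) h
      simp only [nSL_mul_bSL, bSL_coe] at h1
      have h2 : (a : F) = 0 := by simpa using h1
      exact a.ne_zero h2
    · simp only [srep, sbEquiv_val] at h
      have h1 : ((nSL y * bSL a s : Matrix.SpecialLinearGroup (Fin 2) F) :
          Matrix (Fin 2) (Fin 2) F) =
          ((nSL y' * bSL a' s' : Matrix.SpecialLinearGroup (Fin 2) F) :
            Matrix (Fin 2) (Fin 2) F) :=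
        congrArg (fun g : Matrix.SpecialLinearGroup (Fin 2) F =>
          (g : Matrix (Fin 2) (Fin 2) F)) h
      rw [nSL_mul_bSL, nSL_mul_bSL] at h1
      have e00 := congrFun (congrFun h1 0) 0
      have e10 := congrFun (congrFun h1 1) 0
      have e11 := congrFun (congrFun h1 1) 1
      simp at e00 e10 e11
      have ha : a = a' := Units.ext e10
      subst ha
      subst e11
      have hy : y = y' := mul_right_cancel₀ a.ne_zero e00
      subst hy
      rfl
  · intro g
    by_cases hg : (g : Matrix (Fin 2) (Fin 2) F) 1 0 = 0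
    · have hmem : g ∈ borelS F := (mem_borelS_iff g).mpr hg
      refine ⟨(none, sbEquiv.symm ⟨g, hmem⟩), ?_⟩
      simp [srep]
    · have hd := g.det_coe
      rw [Matrix.det_fin_two] at hd
      set a : Fˣ := Units.mk0 _ hg with ha
      refine ⟨(some ((g : Matrix (Fin 2) (Fin 2) F) 0 0 / (g : Matrix (Fin 2) (Fin 2) F) 1 0),
        a, (g : Matrix (Fin 2) (Fin 2) F) 1 1), ?_⟩
      apply Subtype.ext
      change ((nSL _ * bSL _ _ : Matrix.SpecialLinearGroup (Fin 2) F) :
        Matrix (Fin 2) (Fin 2) F) = _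
      rw [nSL_mul_bSL]
      ext i j
      fin_cases i <;> fin_cases j
      · simp [ha]; field_simp
      · simp [ha]; field_simp; linear_combination hd
      · simp [ha]
      · simp

/-- the function `b ↦ α(b₁₁)` on the Borel subgroup of `SL₂`, extended by zero. -/
noncomputable def lamSFun (α : MulChar F ℂ) [DecidableEq F]
    (g : Matrix.SpecialLinearGroup (Fin 2) F) : ℂ :=
  if (g : Matrix (Fin 2) (Fin 2) F) 1 0 = 0 then α ((g : Matrix (Fin 2) (Fin 2) F) 0 0) else 0

/-- the function on the Borel subgroup of `SL₂`. -/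
noncomputable def lamS (α : MulChar F ℂ) (b : borelS F) : ℂ :=
  α (((b : Matrix.SpecialLinearGroup (Fin 2) F) : Matrix (Fin 2) (Fin 2) F) 0 0)

theorem extendByZero_lamS [DecidableEq F] (α : MulChar F ℂ) :
    Cfsg.extendByZero (borelS F) (lamS α) = lamSFun α := by
  funext g
  by_cases hg : g ∈ borelS F
  · rw [extendByZero_of_mem _ _ g hg]
    rw [mem_borelS_iff] at hg
    simp [lamSFun, lamS, hg]
  · rw [extendByZero_of_not_mem _ _ g hg]
    rw [mem_borelS_iff] at hg
    simp [lamSFun, hg]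

theorem lamSFun_conj_borel [DecidableEq F] (α : MulChar F ℂ)
    (g : Matrix.SpecialLinearGroup (Fin 2) F) (b : borelS F) :
    lamSFun α ((b : Matrix.SpecialLinearGroup (Fin 2) F)⁻¹ * g * b) = lamSFun α g := by
  obtain ⟨b, hb⟩ := b
  set z := b⁻¹ * g * b with hz
  have hbz : b * z = g * b := by rw [hz]; group
  have hbz' : (b : Matrix (Fin 2) (Fin 2) F) * (z : Matrix (Fin 2) (Fin 2) F) =
      (g : Matrix (Fin 2) (Fin 2) F) * (b : Matrix (Fin 2) (Fin 2) F) := by
    rw [← Matrix.SpecialLinearGroup.coe_mul, ← Matrix.SpecialLinearGroup.coe_mul, hbz]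
  rw [mem_borelS_iff] at hb
  have hd := b.det_coe
  rw [Matrix.det_fin_two, hb, mul_zero, sub_zero] at hd
  have h00 : (b : Matrix (Fin 2) (Fin 2) F) 0 0 ≠ 0 := by
    intro h0
    rw [h0, zero_mul] at hd
    exact zero_ne_one hd
  have h11 : (b : Matrix (Fin 2) (Fin 2) F) 1 1 ≠ 0 := by
    intro h0
    rw [h0, mul_zero] at hd
    exact zero_ne_one hd
  have e00 := congrFun (congrFun hbz' 0) 0
  have e10 := congrFun (congrFun hbz' 1) 0
  simp only [Matrix.mul_apply, Fin.sum_univ_two, hb, zero_mul, mul_zero, zero_add, add_zero]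
    at e00 e10
  change lamSFun α z = lamSFun α g
  unfold lamSFun
  by_cases hg : (g : Matrix (Fin 2) (Fin 2) F) 1 0 = 0
  · have hz10 : (z : Matrix (Fin 2) (Fin 2) F) 1 0 = 0 := by
      rw [hg, zero_mul] at e10
      exact (mul_eq_zero.mp e10).resolve_left h11
    rw [if_pos hg, if_pos hz10]
    rw [hz10, mul_zero, add_zero] at e00
    have hz00 : (z : Matrix (Fin 2) (Fin 2) F) 0 0 = (g : Matrix (Fin 2) (Fin 2) F) 0 0 := by
      apply mul_left_cancel₀ h00
      rw [e00, mul_comm]
    rw [hz00]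
  · have hz10 : (z : Matrix (Fin 2) (Fin 2) F) 1 0 ≠ 0 := by
      intro h0
      rw [h0, mul_zero] at e10
      exact hg ((mul_eq_zero.mp e10.symm).resolve_right h00)
    rw [if_neg hg, if_neg hz10]

theorem nSL_conj (y : F) (g : Matrix.SpecialLinearGroup (Fin 2) F) :
    (((nSL y)⁻¹ * g * nSL y : Matrix.SpecialLinearGroup (Fin 2) F) : Matrix (Fin 2) (Fin 2) F) =
      !![(g : Matrix (Fin 2) (Fin 2) F) 1 0 * y + (g : Matrix (Fin 2) (Fin 2) F) 1 1,
         -(g : Matrix (Fin 2) (Fin 2) F) 1 0;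
         (g : Matrix (Fin 2) (Fin 2) F) 1 0 * y ^ 2 + ((g : Matrix (Fin 2) (Fin 2) F) 1 1 -
           (g : Matrix (Fin 2) (Fin 2) F) 0 0) * y - (g : Matrix (Fin 2) (Fin 2) F) 0 1,
         (g : Matrix (Fin 2) (Fin 2) F) 0 0 - (g : Matrix (Fin 2) (Fin 2) F) 1 0 * y] := by
  rw [Matrix.SpecialLinearGroup.coe_mul, Matrix.SpecialLinearGroup.coe_mul, nSL_inv_coe, nSL_coe]
  conv_lhs => rw [Matrix.eta_fin_two (g : Matrix (Fin 2) (Fin 2) F)]
  exact conj_mat y _ _ _ _

/-- The explicit formula for the function induced from the Borel subgroup of `SL₂`. -/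
theorem indFun_lamS [Fintype F] [DecidableEq F] (α : MulChar F ℂ)
    (g : Matrix.SpecialLinearGroup (Fin 2) F) :
    Cfsg.indFun (borelS F) (lamS α) g =
      lamSFun α g + ∑ y : F,
        if (g : Matrix (Fin 2) (Fin 2) F) 1 0 * y ^ 2 + ((g : Matrix (Fin 2) (Fin 2) F) 1 1 -
           (g : Matrix (Fin 2) (Fin 2) F) 0 0) * y - (g : Matrix (Fin 2) (Fin 2) F) 0 1 = 0 then
          α ((g : Matrix (Fin 2) (Fin 2) F) 1 0 * y + (g : Matrix (Fin 2) (Fin 2) F) 1 1)
        else 0 := by
  rw [indFun_transversal (borelS F) sbEquiv (lamS α) srep srep_bijective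
    (by
      intro g b
      rw [extendByZero_lamS]
      exact lamSFun_conj_borel α g b) g]
  rw [extendByZero_lamS, Fintype.sum_option]
  congr 1
  · simp [srep]
  · refine Finset.sum_congr rfl (fun y _ => ?_)
    simp only [srep, lamSFun, nSL_conj]
    simp

end Cfsg.Agent.Lib.Helper39
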