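import Mathlib
import Cfsg.Agent.Lib.Helper39.SL2Ind
import Cfsg.Agent.Lib.Helper39.FFourier

set_option autoImplicit false

namespace Cfsg.Agent.Lib.Helper39

open Matrix

section BorelClass

variable {F : Type*} [Field F]

theorem bSL_mul (c a : Fˣ) (d s : F) :
    bSL c d * bSL a s = bSL (c * a) ((c : F) * s + d * ((a⁻¹ : Fˣ) : F)) := by
  apply Subtype.ext
  rw [Matrix.SpecialLinearGroup.coe_mul, bSL_coe, bSL_coe, bSL_coe]
  ext i j
  fin_cases i <;> fin_cases j <;> simp [Matrix.mul_apply, Fin.sum_univ_two, mul_comm]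

theorem bSL_inj {a a' : Fˣ} {s s' : F} (h : bSL a s = bSL a' s') : a = a' ∧ s = s' := by
  have h1 : sbMap (a, s) = sbMap (a', s') := Subtype.ext h
  have h2 := sbMap_bijective.1 h1
  exact ⟨congrArg Prod.fst h2, congrArg Prod.snd h2⟩

theorem isConj_sbEquiv_iff (a a' : Fˣ) (s s' : F) :
    IsConj (sbEquiv (a, s)) (sbEquiv (a', s')) ↔
      a = a' ∧ ∃ (c : Fˣ) (d : F),
        (c : F) * s + d * ((a⁻¹ : Fˣ) : F) = (a : F) * d + s' * ((c⁻¹ : Fˣ) : F) := by
  constructor
  · intro h
    obtain ⟨g, hg⟩ := isConj_iff.mp h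
    obtain ⟨⟨c, d⟩, rfl⟩ := sbEquiv.surjective g
    have h1 : sbEquiv (c, d) * sbEquiv (a, s) = sbEquiv (a', s') * sbEquiv (c, d) := by
      rw [← hg]
      group
    have h2 : bSL c d * bSL a s = bSL a' s' * bSL c d := congrArg Subtype.val h1
    rw [bSL_mul, bSL_mul] at h2
    obtain ⟨h3, h4⟩ := bSL_inj h2
    have h5 : a = a' := by
      rw [mul_comm] at h3
      exact mul_right_cancel h3
    subst h5
    exact ⟨rfl, c, d, h4⟩
  · rintro ⟨rfl, c, d, h⟩
    rw [isConj_iff]
    refine ⟨sbEquiv (c, d), ?_⟩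
    rw [mul_inv_eq_iff_eq_mul]
    apply Subtype.ext
    show bSL c d * bSL a s = bSL a s' * bSL c d
    rw [bSL_mul, bSL_mul, mul_comm c a, h]

theorem units_inv_eq_self_of_sq {a : Fˣ} (ha : a ^ 2 = 1) : ((a⁻¹ : Fˣ) : F) = (a : F) := by
  have h1 : a⁻¹ = a := by
    rw [inv_eq_iff_eq_inv, eq_inv_iff_mul_eq_one, ← sq]
    exact ha
  rw [h1]

/-- class representatives of the Borel subgroup of `SL₂` -/
noncomputable def borelRep (ε : F) :
    {a : Fˣ // a ^ 2 ≠ 1} ⊕ ({a : Fˣ // a ^ 2 = 1} × Fin 3) → borelS F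
  | Sum.inl a => sbEquiv (a.1, 0)
  | Sum.inr p => sbEquiv (p.1.1, ![0, 1, ε] p.2)

theorem borelRep_injective (ε : F) (hε : ¬ IsSquare ε) :
    Function.Injective (fun x => ConjClasses.mk (borelRep ε x)) := by
  have hε0 : ε ≠ 0 := by
    rintro rfl
    exact hε ⟨0, by simp⟩
  rintro (a | ⟨a, k⟩) (a' | ⟨a', k'⟩) h
  · simp only [borelRep, ConjClasses.mk_eq_mk_iff_isConj] at h
    rw [isConj_sbEquiv_iff] at h
    rw [Subtype.ext h.1]
  · exfalso
    simp only [borelRep, ConjClasses.mk_eq_mk_iff_isConj] at h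
    rw [isConj_sbEquiv_iff] at h
    apply a.2
    rw [h.1]
    exact a'.2
  · exfalso
    simp only [borelRep, ConjClasses.mk_eq_mk_iff_isConj] at h
    rw [isConj_sbEquiv_iff] at h
    apply a'.2
    rw [← h.1]
    exact a.2
  · simp only [borelRep, ConjClasses.mk_eq_mk_iff_isConj] at h
    rw [isConj_sbEquiv_iff] at h
    obtain ⟨h1, c, d, h2⟩ := h
    have ha : a = a' := Subtype.ext h1
    subst ha
    rw [units_inv_eq_self_of_sq a.2, mul_comm d] at h2
    have h3 : (c : F) * ![0, 1, ε] k = ![0, 1, ε] k' * ((c⁻¹ : Fˣ) : F) := by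
      rw [add_comm ((a : Fˣ) * d : F)] at h2
      exact add_right_cancel h2
    have h4 : ![0, 1, ε] k' = (c : F) ^ 2 * ![0, 1, ε] k := by
      have hc : (c : F) ≠ 0 := c.ne_zero
      rw [Units.val_inv_eq_inv_val] at h3
      field_simp at h3
      linear_combination -h3
    have hc : (c : F) ≠ 0 := c.ne_zero
    have hk : k = k' := by
      fin_cases k <;> fin_cases k'
      · rfl
      · exfalso
        have h5 : (1 : F) = (c : F) ^ 2 * 0 := h4
        rw [mul_zero] at h5
        exact one_ne_zero h5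
      · exfalso
        have h5 : ε = (c : F) ^ 2 * 0 := h4
        rw [mul_zero] at h5
        exact hε0 h5
      · exfalso
        have h5 : (0 : F) = (c : F) ^ 2 * 1 := h4
        rw [mul_one] at h5
        exact pow_ne_zero 2 hc h5.symm
      · rfl
      · exfalso
        have h5 : ε = (c : F) ^ 2 * 1 := h4
        exact hε ⟨c, by rw [h5]; ring⟩
      · exfalso
        have h5 : (0 : F) = (c : F) ^ 2 * ε := h4
        exact mul_ne_zero (pow_ne_zero 2 hc) hε0 h5.symm
      · exfalso
        have h5 : (1 : F) = (c : F) ^ 2 * ε := h4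
        apply hε
        refine ⟨(c : F)⁻¹, ?_⟩
        field_simp
        rw [h5]
        ring
      · rfl
    rw [hk]

theorem borelRep_surjective [Fintype F] [DecidableEq F] (ε : F) (hε : ¬ IsSquare ε) :
    Function.Surjective (fun x => ConjClasses.mk (borelRep ε x)) := by
  intro C
  obtain ⟨g, rfl⟩ := ConjClasses.mk_surjective C
  obtain ⟨⟨a, s⟩, rfl⟩ := sbEquiv.surjective g
  by_cases ha : a ^ 2 = 1
  · -- three classes
    have hκ : ∀ t u : F, u ≠ 0 → ConjClasses.mk (sbEquiv (a, t * u ^ 2)) =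
        ConjClasses.mk (sbEquiv (a, t)) := by
      intro t u hu
      rw [ConjClasses.mk_eq_mk_iff_isConj, isConj_sbEquiv_iff]
      refine ⟨rfl, (Units.mk0 u hu)⁻¹, 0, ?_⟩
      simp only [inv_inv, Units.val_mk0, zero_mul, add_zero, mul_zero, zero_add,
        Units.val_inv_eq_inv_val]
      field_simp
    by_cases hs0 : s = 0
    · refine ⟨Sum.inr (⟨a, ha⟩, 0), ?_⟩
      simp [borelRep, hs0]
    · by_cases hsq : IsSquare s
      · refine ⟨Sum.inr (⟨a, ha⟩, 1), ?_⟩
        have := sqclass_odd_sq (fun t => ConjClasses.mk (sbEquiv (a, t))) hκ s hs0 hsq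
        simp only [borelRep]
        simpa using this.symm
      · refine ⟨Sum.inr (⟨a, ha⟩, 2), ?_⟩
        have := sqclass_odd_nsq ε hε (fun t => ConjClasses.mk (sbEquiv (a, t))) hκ s hsq
        simp only [borelRep]
        simpa using this.symm
  · refine ⟨Sum.inl ⟨a, ha⟩, ?_⟩
    simp only [borelRep, ConjClasses.mk_eq_mk_iff_isConj]
    rw [isConj_sbEquiv_iff]
    have hne : ((a⁻¹ : Fˣ) : F) - (a : F) ≠ 0 := by
      intro h
      apply ha
      apply Units.ext
      rw [Units.val_inv_eq_inv_val, sub_eq_zero] at h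
      have ha0 : (a : F) ≠ 0 := a.ne_zero
      rw [Units.val_pow_eq_pow_val, Units.val_one, sq]
      nth_rewrite 1 [← h]
      exact inv_mul_cancel₀ ha0
    refine ⟨rfl, 1, s / (((a⁻¹ : Fˣ) : F) - (a : F)), ?_⟩
    simp only [Units.val_one, mul_zero, zero_add, inv_one, mul_one]
    field_simp
    ring

theorem card_units_sq_eq_one [Fintype F] [DecidableEq F] (h2 : ringChar F ≠ 2) :
    Fintype.card {a : Fˣ // a ^ 2 = 1} = 2 := by
  have h2' : (2 : F) ≠ 0 := Ring.two_ne_zero h2
  rw [Fintype.card_subtype]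
  have : (Finset.univ.filter (fun a : Fˣ => a ^ 2 = 1)) = {1, -1} := by
    ext a
    simp only [Finset.mem_filter, Finset.mem_univ, true_and, Finset.mem_insert,
      Finset.mem_singleton]
    constructor
    · intro h
      have h3 : ((a : Fˣ) : F) ^ 2 = 1 := by
        rw [← Units.val_pow_eq_pow_val, h, Units.val_one]
      rcases sq_eq_one_iff.mp h3 with h4 | h4
      · left
        exact Units.ext h4
      · right
        apply Units.ext
        rw [h4]
        simp
    · rintro (rfl | rfl) <;> simp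
  rw [this, Finset.card_pair]
  intro h
  have h3 := congrArg Units.val h
  simp only [Units.val_one, Units.val_neg] at h3
  apply h2'
  linear_combination h3

/-- the Borel subgroup of `SL₂(q)`, `q` odd, has `q + 3` conjugacy classes -/
theorem card_conjClasses_borelS [Fintype F] (hodd : Odd (Fintype.card F)) :
    Nat.card (ConjClasses (borelS F)) = Fintype.card F + 3 := by
  classical
  have h2 : ringChar F ≠ 2 := by
    intro hc
    have := FiniteField.even_card_of_char_two hc
    have := Nat.odd_iff.mp hodd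
    omega
  obtain ⟨ε, hε⟩ := FiniteField.exists_nonsquare h2
  rw [← Nat.card_congr (Equiv.ofBijective _ ⟨borelRep_injective ε hε, borelRep_surjective ε hε⟩),
    Nat.card_eq_fintype_card, Fintype.card_sum, Fintype.card_prod, Fintype.card_fin,
    Fintype.card_subtype_compl, card_units_sq_eq_one h2, Fintype.card_units]
  have hq : 3 ≤ Fintype.card F := by
    have h1 := Fintype.one_lt_card (α := F)
    have := Nat.odd_iff.mp hodd
    omega
  omega

end BorelClass

end Cfsg.Agent.Lib.Helper39
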