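import Mathlib
import Cfsg.Prelude.Def_Characters
import Cfsg.Prelude.Def_ParabolicCharacters
import Cfsg.Agent.Lib.Helper39.SL2Ind
import Cfsg.Agent.Lib.Helper39.MulCharAux
import Cfsg.Agent.Lib.Helper39.GL2Series
import Cfsg.Agent.Lib.Helper39.CharGen

set_option autoImplicit false

namespace Cfsg.Agent.Lib.Helper39

open Matrix Representation
open scoped ComplexConjugate

universe u

variable {F : Type u} [Field F] [Fintype F] [DecidableEq F]

theorem lamS_sbEquiv (α : MulChar F ℂ) (p : Fˣ × F) : lamS α (sbEquiv p) = α (p.1 : F) := by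
  unfold lamS
  rw [sbEquiv_coe]
  simp

theorem lamS_ne_zero (α : MulChar F ℂ) (b : borelS F) : lamS α b ≠ 0 := by
  obtain ⟨p, rfl⟩ := sbEquiv.surjective b
  rw [lamS_sbEquiv, ← MulChar.coe_toUnitHom]
  exact Units.ne_zero _

theorem lamS_mul (α : MulChar F ℂ) (a b : borelS F) :
    lamS α (a * b) = lamS α a * lamS α b := by
  unfold lamS
  have hb := (mem_borelS_iff _).mp b.2
  rw [Subgroup.coe_mul, Matrix.SpecialLinearGroup.coe_mul]
  simp only [Matrix.mul_apply, Fin.sum_univ_two, hb, mul_zero, add_zero, map_mul]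

/-- the linear character of the Borel subgroup of `SL₂` attached to a multiplicative character -/
noncomputable def lamSHom (α : MulChar F ℂ) : borelS F →* ℂˣ :=
  MonoidHom.mk' (fun b => Units.mk0 (lamS α b) (lamS_ne_zero α b))
    (fun a b => Units.ext (lamS_mul α a b))

theorem lamSHom_coe (α : MulChar F ℂ) :
    (fun b : borelS F => ((lamSHom α b : ℂˣ) : ℂ)) = lamS α := rfl

theorem isCharacter_indFun_lamS (α : MulChar F ℂ) :
    Cfsg.IsCharacter (Matrix.SpecialLinearGroup (Fin 2) F) (Cfsg.indFun (borelS F) (lamS α)) :=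
  Cfsg.Agent.Lib.Helper75.isCharacter_indFun _
    (Cfsg.Agent.Lib.Helper15.isCharacter_of_hom (lamSHom α))

/-- the value of the principal series function on the Borel subgroup -/
theorem indFun_lamS_borel (α : MulChar F ℂ) (a : Fˣ) (s : F) :
    Cfsg.indFun (borelS F) (lamS α) (bSL a s) = α (a : F) +
      (∑ y : F, if (((a⁻¹ : Fˣ) : F) - (a : F)) * y - s = 0 then (1 : ℂ) else 0) *
        α ((a⁻¹ : Fˣ) : F) := by
  rw [indFun_lamS]
  simp only [bSL_coe, lamSFun]
  simp only [Matrix.of_apply, Matrix.cons_val', Matrix.cons_val_zero, Matrix.cons_val_one,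
    Matrix.cons_val_fin_one, if_true, zero_mul, zero_add]
  congr 1
  rw [Finset.sum_mul]
  refine Finset.sum_congr rfl (fun y _ => ?_)
  split_ifs <;> simp

theorem card_borelS : (Nat.card (borelS F) : ℂ) = ((Fintype.card F : ℂ) - 1) * (Fintype.card F : ℂ) := by
  rw [Nat.card_congr (sbEquiv (F := F)).symm, Nat.card_prod, Nat.card_units,
    Nat.card_eq_fintype_card]
  push_cast [Nat.cast_sub (Fintype.card_pos (α := F))]
  ring

theorem sum_count_aux (u : F) :
    ∑ s : F, ∑ y : F, (if u * y - s = 0 then (1 : ℂ) else 0) = (Fintype.card F : ℂ) := by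
  rw [Finset.sum_comm]
  have h : ∀ y : F, ∑ s : F, (if u * y - s = 0 then (1 : ℂ) else 0) = 1 := by
    intro y
    rw [Finset.sum_eq_single (u * y)]
    · simp
    · intro s _ hs
      rw [if_neg]
      intro h
      exact hs (sub_eq_zero.mp h).symm
    · intro h
      exact absurd (Finset.mem_univ _) h
  simp only [h, Finset.sum_const, Finset.card_univ, nsmul_eq_mul, mul_one]

/-- the norm of the principal series function of `SL₂` (Mackey). -/
theorem classInner_indFun_lamS (α : MulChar F ℂ) [Decidable (α ^ 2 = 1)] :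
    Cfsg.classInner (Cfsg.indFun (borelS F) (lamS α)) (Cfsg.indFun (borelS F) (lamS α)) =
      if α ^ 2 = 1 then 2 else 1 := by
  classical
  letI : Fintype (borelS F) := Fintype.ofEquiv _ sbEquiv
  rw [Cfsg.Agent.Lib.Helper3.frobenius_reciprocity _ _ _
    (Cfsg.Agent.Lib.Helper3.isClassFunction_indFun _ _)]
  unfold Cfsg.classInner
  rw [card_borelS]
  have hq := card_sub_one_ne_zero (F := F)
  have hq0 : (Fintype.card F : ℂ) ≠ 0 := by
    have := Fintype.card_pos (α := F)
    exact_mod_cast this.ne'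
  have h1 : ∑ b : borelS F, lamS α b *
      conj (Cfsg.indFun (borelS F) (lamS α) (b : Matrix.SpecialLinearGroup (Fin 2) F)) =
      ∑ p : Fˣ × F, (1 + (∑ y : F, if (((p.1⁻¹ : Fˣ) : F) - (p.1 : F)) * y - p.2 = 0
        then (1 : ℂ) else 0) * (α ^ 2) (p.1 : F)) := by
    symm
    refine Fintype.sum_equiv sbEquiv _ _ (fun p => ?_)
    rw [lamS_sbEquiv, sbEquiv_val, indFun_lamS_borel, map_add, map_mul, mul_add]
    have hn : α (p.1 : F) * conj (α (p.1 : F)) = 1 := by
      rw [Complex.mul_conj, Complex.normSq_eq_norm_sq, mulChar_norm_unit]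
      simp
    have hinv : α ((p.1⁻¹ : Fˣ) : F) * α (p.1 : F) = 1 := by
      rw [← map_mul, ← Units.val_mul, inv_mul_cancel, Units.val_one, map_one]
    have hα0 : α (p.1 : F) ≠ 0 := by
      rw [← MulChar.coe_toUnitHom]
      exact Units.ne_zero _
    have hc : conj (α ((p.1⁻¹ : Fˣ) : F)) = α (p.1 : F) := by
      have h2 : conj (α ((p.1⁻¹ : Fˣ) : F)) * conj (α (p.1 : F)) = 1 := by
        rw [← map_mul, hinv, map_one]
      have h3 : conj (α (p.1 : F)) ≠ 0 := by
        intro h0
        rw [h0, mul_zero] at hn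
        exact zero_ne_one hn
      exact mul_right_cancel₀ h3 (h2.trans hn.symm)
    have hsum : conj (∑ y : F, if (((p.1⁻¹ : Fˣ) : F) - (p.1 : F)) * y - p.2 = 0
        then (1 : ℂ) else 0) = ∑ y : F, if (((p.1⁻¹ : Fˣ) : F) - (p.1 : F)) * y - p.2 = 0
        then (1 : ℂ) else 0 := by
      rw [map_sum]
      refine Finset.sum_congr rfl (fun y _ => ?_)
      split_ifs <;> simp
    rw [hn, hsum, hc, MulChar.pow_apply_coe]
    ring
  rw [h1, Fintype.sum_prod_type]
  simp only [Finset.sum_add_distrib, Finset.sum_const, Finset.card_univ, nsmul_eq_mul, mul_one,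
    ← Finset.sum_mul, sum_count_aux]
  rw [← Finset.mul_sum, mulChar_sum_units, Fintype.card_units,
    Nat.cast_sub (Fintype.card_pos (α := F)), Nat.cast_one]
  split_ifs with h
  · field_simp
    ring
  · field_simp
    ring

end Cfsg.Agent.Lib.Helper39
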