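import Mathlib
import Cfsg.Prelude.Def_Characters
import Cfsg.Prelude.Def_ParabolicCharacters
import Cfsg.Agent.Lib.Helper5.PSL2
import Cfsg.Agent.Lib.Helper39.SL2Ind
import Cfsg.Agent.Lib.Helper39.FFourier
import Cfsg.Agent.Lib.Helper39.CharGen

set_option autoImplicit false

namespace Cfsg.Agent.Lib.Helper39

open Matrix Representation
open scoped ComplexConjugate

universe u

section Elements

variable {F : Type u} [Field F]

/-- upper unitriangular element of `SL₂` -/
def tSL (x : F) : Matrix.SpecialLinearGroup (Fin 2) F :=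
  ⟨!![1, x; 0, 1], by simp [Matrix.det_fin_two]⟩

/-- lower unitriangular element of `SL₂` -/
def lSL (y : F) : Matrix.SpecialLinearGroup (Fin 2) F :=
  ⟨!![1, 0; y, 1], by simp [Matrix.det_fin_two]⟩

/-- the central element `-1` of `SL₂` -/
def zSL : Matrix.SpecialLinearGroup (Fin 2) F :=
  ⟨!![-1, 0; 0, -1], by simp [Matrix.det_fin_two]⟩

theorem tSL_coe (x : F) :
    ((tSL x : Matrix.SpecialLinearGroup (Fin 2) F) : Matrix (Fin 2) (Fin 2) F) = !![1, x; 0, 1] :=
  rfl

theorem lSL_coe (y : F) :
    ((lSL y : Matrix.SpecialLinearGroup (Fin 2) F) : Matrix (Fin 2) (Fin 2) F) = !![1, 0; y, 1] :=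
  rfl

theorem zSL_coe :
    ((zSL : Matrix.SpecialLinearGroup (Fin 2) F) : Matrix (Fin 2) (Fin 2) F) = !![-1, 0; 0, -1] :=
  rfl

theorem tSL_zero : tSL (0 : F) = 1 := by
  apply Subtype.ext
  rw [tSL_coe, Matrix.SpecialLinearGroup.coe_one]
  ext i j
  fin_cases i <;> fin_cases j <;> simp

theorem tSL_add (x y : F) : tSL (x + y) = tSL x * tSL y := by
  apply Subtype.ext
  rw [Matrix.SpecialLinearGroup.coe_mul, tSL_coe, tSL_coe, tSL_coe]
  ext i j
  fin_cases i <;> fin_cases j <;> simp [Matrix.mul_apply, Fin.sum_univ_two, add_comm]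

/-- the unipotent subgroup of `SL₂` as a homomorphism from the additive group of the field -/
def tHomS : Multiplicative F →* Matrix.SpecialLinearGroup (Fin 2) F where
  toFun x := tSL (Multiplicative.toAdd x)
  map_one' := tSL_zero
  map_mul' x y := tSL_add _ _

theorem tHomS_apply (x : Multiplicative F) : tHomS x = tSL (Multiplicative.toAdd x) := rfl

theorem zSL_comm (g : Matrix.SpecialLinearGroup (Fin 2) F) : zSL * g = g * zSL := by
  apply Subtype.ext
  rw [Matrix.SpecialLinearGroup.coe_mul, Matrix.SpecialLinearGroup.coe_mul, zSL_coe]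
  ext i j
  fin_cases i <;> fin_cases j <;> simp [Matrix.mul_apply, Fin.sum_univ_two]

theorem isConj_of_mul_eq {G : Type*} [Group G] {a b c : G} (h : c * a = b * c) : IsConj a b := by
  rw [isConj_iff]
  exact ⟨c, by rw [h, mul_inv_cancel_right]⟩

theorem tSL_isConj_sq (a : F) (ha : a ≠ 0) (x : F) : IsConj (tSL x) (tSL (a ^ 2 * x)) := by
  apply isConj_of_mul_eq (c := bSL (Units.mk0 a ha) 0)
  apply Subtype.ext
  rw [Matrix.SpecialLinearGroup.coe_mul, Matrix.SpecialLinearGroup.coe_mul, tSL_coe, tSL_coe,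
    bSL_coe]
  ext i j
  fin_cases i <;> fin_cases j <;> simp [Matrix.mul_apply, Fin.sum_univ_two]
  field_simp

theorem lSL_isConj (y : F) : IsConj (tSL (-y)) (lSL y) := by
  apply isConj_of_mul_eq (c := nSL 0)
  apply Subtype.ext
  rw [Matrix.SpecialLinearGroup.coe_mul, Matrix.SpecialLinearGroup.coe_mul, tSL_coe, lSL_coe,
    nSL_coe]
  ext i j
  fin_cases i <;> fin_cases j <;> simp [Matrix.mul_apply, Fin.sum_univ_two]

/-- the non-trivial unipotent elements of `SL₂`. -/
def uFam (p : Option F × Fˣ) : Matrix.SpecialLinearGroup (Fin 2) F :=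
  srep p.1 * tSL (p.2 : F) * (srep p.1)⁻¹

theorem uFam_none (x : Fˣ) : uFam ((none : Option F), x) = tSL (x : F) := by
  simp [uFam, srep]

theorem uFam_some_coe (y : F) (x : Fˣ) :
    ((uFam (some y, x) : Matrix.SpecialLinearGroup (Fin 2) F) : Matrix (Fin 2) (Fin 2) F) =
      !![1 - x * y, x * y ^ 2; -(x : F), 1 + x * y] := by
  simp only [uFam, srep]
  rw [Matrix.SpecialLinearGroup.coe_mul, Matrix.SpecialLinearGroup.coe_mul, nSL_inv_coe, nSL_coe,
    tSL_coe]
  ext i j
  fin_cases i <;> fin_cases j <;> simp [Matrix.mul_apply, Fin.sum_univ_two] <;> ring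

theorem uFam_trace (p : Option F × Fˣ) :
    ((uFam p : Matrix.SpecialLinearGroup (Fin 2) F) : Matrix (Fin 2) (Fin 2) F).trace = 2 := by
  obtain ⟨_ | y, x⟩ := p
  · rw [uFam_none, tSL_coe]
    simp [Matrix.trace_fin_two]
    norm_num
  · rw [uFam_some_coe]
    simp [Matrix.trace_fin_two]
    ring

theorem uFam_ne_one (p : Option F × Fˣ) : uFam p ≠ 1 := by
  obtain ⟨_ | y, x⟩ := p
  · rw [uFam_none]
    intro h
    have h1 := congrArg (fun g : Matrix.SpecialLinearGroup (Fin 2) F =>
      (g : Matrix (Fin 2) (Fin 2) F) 0 1) h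
    simp [tSL_coe] at h1
  · intro h
    have h1 := congrArg (fun g : Matrix.SpecialLinearGroup (Fin 2) F =>
      (g : Matrix (Fin 2) (Fin 2) F) 1 0) h
    simp only [uFam_some_coe] at h1
    simp at h1

theorem uFam_injective : Function.Injective (uFam (F := F)) := by
  rintro ⟨_ | y, x⟩ ⟨_ | y', x'⟩ h
  · rw [uFam_none, uFam_none] at h
    have h1 := congrArg (fun g : Matrix.SpecialLinearGroup (Fin 2) F =>
      (g : Matrix (Fin 2) (Fin 2) F) 0 1) h
    simp only [tSL_coe] at h1
    have h2 : (x : F) = x' := by simpa using h1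
    rw [Units.ext h2]
  · exfalso
    rw [uFam_none] at h
    have h1 := congrArg (fun g : Matrix.SpecialLinearGroup (Fin 2) F =>
      (g : Matrix (Fin 2) (Fin 2) F) 1 0) h
    simp only [tSL_coe, uFam_some_coe] at h1
    simp at h1
  · exfalso
    rw [uFam_none] at h
    have h1 := congrArg (fun g : Matrix.SpecialLinearGroup (Fin 2) F =>
      (g : Matrix (Fin 2) (Fin 2) F) 1 0) h
    simp only [tSL_coe, uFam_some_coe] at h1
    simp at h1
  · have h1 : ((uFam (some y, x) : Matrix.SpecialLinearGroup (Fin 2) F) :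
        Matrix (Fin 2) (Fin 2) F) =
        ((uFam (some y', x') : Matrix.SpecialLinearGroup (Fin 2) F) :
          Matrix (Fin 2) (Fin 2) F) :=
      congrArg (fun g : Matrix.SpecialLinearGroup (Fin 2) F => (g : Matrix (Fin 2) (Fin 2) F)) h
    rw [uFam_some_coe, uFam_some_coe] at h1
    have e10 := congrFun (congrFun h1 1) 0
    have e11 := congrFun (congrFun h1 1) 1
    simp at e10 e11
    have hx : x = x' := Units.ext e10
    subst hx
    have hy : y = y' := by
      apply mul_left_cancel₀ x.ne_zero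
      linear_combination e11
    rw [hy]

/-- the unipotent elements of `SL₂`, including the identity. -/
def uFam' : Option (Option F × Fˣ) → Matrix.SpecialLinearGroup (Fin 2) F
  | none => 1
  | some p => uFam p

theorem uFam'_injective : Function.Injective (uFam' (F := F)) := by
  rintro (_ | p) (_ | p') h
  · rfl
  · exact absurd h.symm (uFam_ne_one p')
  · exact absurd h (uFam_ne_one p)
  · simp only [uFam'] at h
    rw [uFam_injective h]

theorem uFam'_trace (i : Option (Option F × Fˣ)) :
    ((uFam' i : Matrix.SpecialLinearGroup (Fin 2) F) : Matrix (Fin 2) (Fin 2) F).trace = 2 := by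
  cases i with
  | none =>
    simp [uFam', Matrix.trace_fin_two]
  | some p => exact uFam_trace p

/-- the unipotent elements and their negatives -/
def zFam (p : Bool × Option (Option F × Fˣ)) : Matrix.SpecialLinearGroup (Fin 2) F :=
  (if p.1 then zSL else 1) * uFam' p.2

theorem zSL_mul_trace (g : Matrix.SpecialLinearGroup (Fin 2) F) :
    ((zSL * g : Matrix.SpecialLinearGroup (Fin 2) F) : Matrix (Fin 2) (Fin 2) F).trace =
      -(g : Matrix (Fin 2) (Fin 2) F).trace := by
  rw [Matrix.SpecialLinearGroup.coe_mul, zSL_coe, Matrix.trace_fin_two, Matrix.trace_fin_two]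
  simp only [Matrix.mul_apply, Fin.sum_univ_two]
  simp
  ring

theorem zFam_trace (p : Bool × Option (Option F × Fˣ)) :
    ((zFam p : Matrix.SpecialLinearGroup (Fin 2) F) : Matrix (Fin 2) (Fin 2) F).trace = 2 ∨
    ((zFam p : Matrix.SpecialLinearGroup (Fin 2) F) : Matrix (Fin 2) (Fin 2) F).trace = -2 := by
  obtain ⟨b, i⟩ := p
  cases b
  · left
    simp only [zFam, Bool.false_eq_true, if_false, one_mul]
    exact uFam'_trace i
  · right
    simp only [zFam, if_true]
    rw [zSL_mul_trace, uFam'_trace]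

theorem zFam_injective (h2 : (2 : F) ≠ 0) : Function.Injective (zFam (F := F)) := by
  have hne : (2 : F) ≠ -2 := by
    intro h
    have : (2 : F) * 2 = 0 := by linear_combination h
    exact h2 (mul_self_eq_zero.mp this)
  rintro ⟨b, i⟩ ⟨b', i'⟩ h
  cases b <;> cases b'
  · simp only [zFam, Bool.false_eq_true, if_false, one_mul] at h
    rw [uFam'_injective h]
  · exfalso
    have h1 := congrArg (fun g : Matrix.SpecialLinearGroup (Fin 2) F =>
      (g : Matrix (Fin 2) (Fin 2) F).trace) h
    simp only [zFam, Bool.false_eq_true, if_false, one_mul, if_true] at h1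
    rw [zSL_mul_trace, uFam'_trace, uFam'_trace] at h1
    exact hne h1
  · exfalso
    have h1 := congrArg (fun g : Matrix.SpecialLinearGroup (Fin 2) F =>
      (g : Matrix (Fin 2) (Fin 2) F).trace) h
    simp only [zFam, Bool.false_eq_true, if_false, one_mul, if_true] at h1
    rw [zSL_mul_trace, uFam'_trace, uFam'_trace] at h1
    exact hne h1.symm
  · simp only [zFam, if_true] at h
    rw [uFam'_injective (mul_left_cancel h)]

end Elements

end Cfsg.Agent.Lib.Helper39
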