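import Mathlib
import Cfsg.Prelude.Def_Characters
import Cfsg.Prelude.Def_ParabolicCharacters
import Cfsg.Agent.Lib.Helper39.SL2Char
import Cfsg.Agent.Lib.Helper39.GL2Char

set_option autoImplicit false

namespace Cfsg.Agent.Lib.Helper39

open Matrix Representation
open scoped ComplexConjugate

universe u

section Unip

variable {F : Type u} [Field F] [Fintype F] [DecidableEq F]
variable {V : Type*} [AddCommGroup V] [Module ℂ V] [FiniteDimensional ℂ V]

theorem card_SL2_real : (Fintype.card (Matrix.SpecialLinearGroup (Fin 2) F) : ℝ) =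
    (Fintype.card F : ℝ) * ((Fintype.card F : ℝ) ^ 2 - 1) := by
  have h : Fintype.card (Matrix.SpecialLinearGroup (Fin 2) F) =
      Fintype.card F * (Fintype.card F ^ 2 - 1) := by
    rw [← Nat.card_eq_fintype_card, Cfsg.Agent.Lib.Helper5.card_SL2]
  have hq := Fintype.one_lt_card (α := F)
  have h1 : 1 ≤ Fintype.card F ^ 2 := Nat.one_le_pow _ _ (by omega)
  rw [h]
  push_cast [Nat.cast_sub h1]
  ring

theorem sum_units_eq (φ : F → ℝ) : ∑ x : Fˣ, φ (x : F) = ∑ x : F, φ x - φ 0 := by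
  rw [← Finset.add_sum_erase Finset.univ φ (Finset.mem_univ (0 : F))]
  rw [add_sub_cancel_left]
  rw [Finset.sum_subtype (Finset.univ.erase (0 : F)) (p := fun x => x ≠ 0) (by simp)]
  exact Fintype.sum_equiv unitsEquivNeZero _ _ (fun x => rfl)

theorem sum_uFam' (ρ : Representation ℂ (Matrix.SpecialLinearGroup (Fin 2) F) V) :
    ∑ i : Option (Option F × Fˣ), Complex.normSq (ρ.character (uFam' i)) =
      Complex.normSq (ρ.character 1) + ((Fintype.card F : ℝ) + 1) *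
        (∑ x : F, Complex.normSq (ρ.character (tSL x)) - Complex.normSq (ρ.character 1)) := by
  rw [Fintype.sum_option]
  congr 1
  have h1 : ∀ p : Option F × Fˣ, Complex.normSq (ρ.character (uFam' (some p))) =
      Complex.normSq (ρ.character (tSL (p.2 : F))) := by
    intro p
    simp only [uFam', uFam]
    rw [char_conj]
  simp only [h1]
  rw [Fintype.sum_prod_type]
  simp only [Finset.sum_const, Finset.card_univ, nsmul_eq_mul, Fintype.card_option]
  rw [sum_units_eq (fun x => Complex.normSq (ρ.character (tSL x))), tSL_zero]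
  push_cast
  ring

/-- norm inequality from the unipotent elements -/
theorem sl2_norm_gen (ρ : Representation ℂ (Matrix.SpecialLinearGroup (Fin 2) F) V)
    [ρ.IsIrreducible] :
    Complex.normSq (ρ.character 1) + ((Fintype.card F : ℝ) + 1) *
        (∑ x : F, Complex.normSq (ρ.character (tSL x)) - Complex.normSq (ρ.character 1)) ≤
      (Fintype.card F : ℝ) * ((Fintype.card F : ℝ) ^ 2 - 1) := by
  have hle := irr_sum_normSq_le ρ _ (uFam'_injective (F := F))
  rw [sum_uFam', card_SL2_real] at hle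
  exact hle

theorem sum_zFam (ρ : Representation ℂ (Matrix.SpecialLinearGroup (Fin 2) F) V)
    [ρ.IsIrreducible] :
    ∑ p : Bool × Option (Option F × Fˣ), Complex.normSq (ρ.character (zFam p)) =
      2 * (Complex.normSq (ρ.character 1) + ((Fintype.card F : ℝ) + 1) *
        (∑ x : F, Complex.normSq (ρ.character (tSL x)) - Complex.normSq (ρ.character 1))) := by
  rw [Fintype.sum_prod_type]
  simp only [Fintype.sum_bool, zFam, if_true, Bool.false_eq_true, if_false, one_mul]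
  have h1 : ∀ i : Option (Option F × Fˣ), Complex.normSq (ρ.character (zSL * uFam' i)) =
      Complex.normSq (ρ.character (uFam' i)) :=
    fun i => normSq_central ρ zSL zSL_comm (uFam' i)
  simp only [h1]
  rw [sum_uFam']
  ring

/-- norm inequality from the unipotent elements and their negatives (odd characteristic) -/
theorem sl2_norm_odd (h2 : (2 : F) ≠ 0)
    (ρ : Representation ℂ (Matrix.SpecialLinearGroup (Fin 2) F) V) [ρ.IsIrreducible] :
    2 * (Complex.normSq (ρ.character 1) + ((Fintype.card F : ℝ) + 1) *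
        (∑ x : F, Complex.normSq (ρ.character (tSL x)) - Complex.normSq (ρ.character 1))) ≤
      (Fintype.card F : ℝ) * ((Fintype.card F : ℝ) ^ 2 - 1) := by
  have hle := irr_sum_normSq_le ρ _ (zFam_injective h2)
  rw [sum_zFam, card_SL2_real] at hle
  exact hle

/-- in the case of equality the character vanishes off the unipotent elements and their
negatives. -/
theorem sl2_norm_odd_eq (h2 : (2 : F) ≠ 0)
    (ρ : Representation ℂ (Matrix.SpecialLinearGroup (Fin 2) F) V) [ρ.IsIrreducible]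
    (heq : 2 * (Complex.normSq (ρ.character 1) + ((Fintype.card F : ℝ) + 1) *
        (∑ x : F, Complex.normSq (ρ.character (tSL x)) - Complex.normSq (ρ.character 1))) =
      (Fintype.card F : ℝ) * ((Fintype.card F : ℝ) ^ 2 - 1))
    (g : Matrix.SpecialLinearGroup (Fin 2) F)
    (hg1 : (g : Matrix (Fin 2) (Fin 2) F).trace ≠ 2)
    (hg2 : (g : Matrix (Fin 2) (Fin 2) F).trace ≠ -2) : ρ.character g = 0 := by
  apply irr_vanish_of_sum_eq ρ _ (zFam_injective h2)
  · rw [sum_zFam, card_SL2_real]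
    exact heq
  · intro p hp
    rcases zFam_trace p with h | h
    · rw [hp] at h
      exact hg1 h
    · rw [hp] at h
      exact hg2 h

/-- the Fourier coefficients of a function on the unipotent subgroup of `SL₂`. -/
noncomputable def uC (ψ : AddChar F ℂ) (f : Matrix.SpecialLinearGroup (Fin 2) F → ℂ) (c : F) : ℂ :=
  fhat ψ (fun x => f (tSL x)) c

theorem uC_sq (ψ : AddChar F ℂ) {f : Matrix.SpecialLinearGroup (Fin 2) F → ℂ}
    (hf : ∀ a b : Matrix.SpecialLinearGroup (Fin 2) F, IsConj a b → f a = f b) (c a : F)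
    (ha : a ≠ 0) : uC ψ f (c * a ^ 2) = uC ψ f c :=
  fhat_scale ψ _ (a ^ 2) (pow_ne_zero 2 ha) (fun x => (hf _ _ (tSL_isConj_sq a ha x)).symm) c

/-- the Fourier coefficients of a character on the unipotent subgroup are natural numbers. -/
theorem uC_nat (ψ : AddChar F ℂ) (ρ : Representation ℂ (Matrix.SpecialLinearGroup (Fin 2) F) V)
    (c : F) :
    ∃ k : ℕ, uC ψ ρ.character c = (k : ℂ) ∧ (c = 0 → k = 0 → ∑ x : F, ρ (tSL x) = 0) := by
  obtain ⟨k, hk1, hk2⟩ := avg_nat ρ (tHomS (F := F)) (AddChar.mulShift ψ c).toMonoidHom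
  refine ⟨k, ?_, ?_⟩
  · unfold uC fhat
    have e : ∑ x : F, ψ (-(c * x)) * ρ.character (tSL x) = (Fintype.card F : ℂ) * k := by
      rw [Fintype.card_multiplicative] at hk1
      rw [← hk1]
      refine Fintype.sum_equiv Multiplicative.ofAdd _ _ (fun x => ?_)
      simp [tHomS_apply, AddChar.mulShift_apply]
    rw [e, ← mul_assoc, inv_mul_cancel₀ card_ne_zero_complex, one_mul]
  · intro hc h0
    have h := hk2 h0
    rw [← h]
    refine Fintype.sum_equiv Multiplicative.ofAdd _ _ (fun x => ?_)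
    simp [tHomS_apply, AddChar.mulShift_apply, hc]

/-- the restriction of a character of `SL₂` to the unipotent subgroup, in terms of its natural
Fourier coefficients. -/
theorem sl2_unip_core (ψ : AddChar F ℂ) (hψ : ψ ≠ 1)
    (ρ : Representation ℂ (Matrix.SpecialLinearGroup (Fin 2) F) V) :
    ∃ k : F → ℕ, (∀ c : F, uC ψ ρ.character c = (k c : ℂ)) ∧
      (k 0 = 0 → ∑ x : F, ρ (tSL x) = 0) ∧
      (∀ c a : F, a ≠ 0 → k (c * a ^ 2) = k c) ∧
      (∀ x : F, ρ.character (tSL x) = ∑ c : F, (k c : ℂ) * ψ (c * x)) ∧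
      (∑ x : F, Complex.normSq (ρ.character (tSL x)) =
        (Fintype.card F : ℝ) * ∑ c : F, ((k c : ℝ)) ^ 2) ∧
      (∑ x : F, ρ.character (tSL x) = (Fintype.card F : ℂ) * k 0) ∧
      ((Module.finrank ℂ V : ℂ) = ∑ c : F, (k c : ℂ)) := by
  choose k hk1 hk2 using fun c => uC_nat ψ ρ c
  have hinv : ∀ x : F, ρ.character (tSL x) = ∑ c : F, (k c : ℂ) * ψ (c * x) := by
    intro x
    have h := fourier_inv ψ hψ (fun x => ρ.character (tSL x)) x
    simp only [← hk1]
    exact h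
  refine ⟨k, hk1, hk2 0 rfl, ?_, hinv, ?_, ?_, ?_⟩
  · intro c a ha
    have h := uC_sq ψ (f := ρ.character) (fun a b hab => char_eq_of_isConj ρ hab) c a ha
    rw [hk1, hk1] at h
    exact_mod_cast h
  · have h := parseval ψ hψ (fun x => ρ.character (tSL x)) (fun x => ρ.character (tSL x))
    have h1 : ∀ c : F, fhat ψ (fun x => ρ.character (tSL x)) c = (k c : ℂ) := hk1
    simp only [h1, Complex.mul_conj, Complex.conj_natCast] at h
    have h2 : ((∑ x : F, Complex.normSq (ρ.character (tSL x)) : ℝ) : ℂ) =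
        (((Fintype.card F : ℝ) * ∑ c : F, ((k c : ℝ)) ^ 2 : ℝ) : ℂ) := by
      push_cast
      rw [h]
      congr 1
      refine Finset.sum_congr rfl (fun c _ => ?_)
      ring
    exact_mod_cast h2
  · have h := hk1 0
    unfold uC fhat at h
    simp only [zero_mul, neg_zero, AddChar.map_zero_eq_one, one_mul] at h
    rw [← h, ← mul_assoc, mul_inv_cancel₀ card_ne_zero_complex, one_mul]
  · have h := hinv 0
    rw [tSL_zero, char_one] at h
    rw [h]
    simp

theorem unip_value_of_const (ψ : AddChar F ℂ) (hψ : ψ ≠ 1) (k : F → ℕ) (κ : ℕ)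
    (hk : ∀ c : F, c ≠ 0 → k c = κ) (x : F) (hx : x ≠ 0) :
    ∑ c : F, (k c : ℂ) * ψ (c * x) = (k 0 : ℂ) - κ := by
  rw [← Finset.add_sum_erase Finset.univ _ (Finset.mem_univ (0 : F))]
  have h1 : ∑ c ∈ Finset.univ.erase (0 : F), (k c : ℂ) * ψ (c * x) =
      ∑ c ∈ Finset.univ.erase (0 : F), (κ : ℂ) * ψ (c * x) := by
    refine Finset.sum_congr rfl (fun c hc => ?_)
    rw [hk c (Finset.ne_of_mem_erase hc)]
  have h2 := sum_addChar_mul ψ hψ x
  rw [if_neg hx, ← Finset.add_sum_erase Finset.univ _ (Finset.mem_univ (0 : F))] at h2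
  simp only [zero_mul, AddChar.map_zero_eq_one] at h2
  rw [h1, ← Finset.mul_sum]
  simp only [zero_mul, AddChar.map_zero_eq_one, mul_one]
  have h3 : ∑ c ∈ Finset.univ.erase (0 : F), ψ (c * x) = -1 := by linear_combination h2
  rw [h3]
  ring

theorem normSq_char_one (ρ : Representation ℂ (Matrix.SpecialLinearGroup (Fin 2) F) V) :
    Complex.normSq (ρ.character 1) = (Module.finrank ℂ V : ℝ) ^ 2 := by
  rw [char_one, Complex.normSq_natCast, sq]

/-- the restriction of an irreducible character of `SL₂(q)`, `q` even, to the unipotent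
subgroup. -/
theorem sl2_unip_even (h2 : ringChar F = 2) (r : ℕ) (hr : Fintype.card F = r + 1)
    (ρ : Representation ℂ (Matrix.SpecialLinearGroup (Fin 2) F) V) [ρ.IsIrreducible] :
    ∃ m k : ℕ, Module.finrank ℂ V = m + r * k ∧
      (∀ x : F, x ≠ 0 → ρ.character (tSL x) = (m : ℂ) - k) ∧
      (∑ x : F, ρ.character (tSL x) = (Fintype.card F : ℂ) * m) ∧
      (m = 0 → ∑ x : F, ρ (tSL x) = 0) ∧
      (r + 2) * (m ^ 2 + r * k ^ 2) ≤ r ^ 2 + 2 * r + (Module.finrank ℂ V) ^ 2 := by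
  obtain ⟨ψ, hψ⟩ := exists_addChar_ne_one (F := F)
  obtain ⟨k, -, hk0, hksq, hinv, hpars, hsum, hdeg⟩ := sl2_unip_core ψ hψ ρ
  have hconst : ∀ c : F, c ≠ 0 → k c = k 1 := fun c hc => sqclass_even h2 k hksq c hc
  have hS1 : ∑ c : F, (k c : ℂ) = (k 0 : ℂ) + (r : ℂ) * (k 1 : ℂ) := by
    rw [← Finset.add_sum_erase Finset.univ _ (Finset.mem_univ (0 : F))]
    congr 1
    rw [Finset.sum_congr rfl (fun c hc => by rw [hconst c (Finset.ne_of_mem_erase hc)]),
      Finset.sum_const, Finset.card_erase_of_mem (Finset.mem_univ _), Finset.card_univ, hr]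
    simp
  have hS2 : ∑ c : F, ((k c : ℝ)) ^ 2 = (k 0 : ℝ) ^ 2 + (r : ℝ) * (k 1 : ℝ) ^ 2 := by
    rw [← Finset.add_sum_erase Finset.univ _ (Finset.mem_univ (0 : F))]
    congr 1
    rw [Finset.sum_congr rfl (fun c hc => by rw [hconst c (Finset.ne_of_mem_erase hc)]),
      Finset.sum_const, Finset.card_erase_of_mem (Finset.mem_univ _), Finset.card_univ, hr]
    simp
  refine ⟨k 0, k 1, ?_, ?_, hsum, hk0, ?_⟩
  · rw [hS1] at hdeg
    exact_mod_cast hdeg
  · intro x hx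
    rw [hinv x, unip_value_of_const ψ hψ k (k 1) hconst x hx]
  · have hle := sl2_norm_gen ρ
    rw [hpars, hS2, normSq_char_one, hr] at hle
    push_cast at hle
    have hpos : (0 : ℝ) < (r : ℝ) + 1 := by positivity
    have key : ((r : ℝ) + 1) * (((r : ℝ) + 2) * ((k 0 : ℝ) ^ 2 + (r : ℝ) * (k 1 : ℝ) ^ 2)) ≤
        ((r : ℝ) + 1) * ((r : ℝ) ^ 2 + 2 * r + (Module.finrank ℂ V : ℝ) ^ 2) := by
      linarith
    have key2 := le_of_mul_le_mul_left key hpos
    exact_mod_cast key2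

theorem exists_nonsquare_aux (h2 : ringChar F ≠ 2) : ∃ ε : F, ¬ IsSquare ε :=
  FiniteField.exists_nonsquare h2

/-- the restriction of an irreducible character of `SL₂(q)`, `q` odd, to the unipotent
subgroup. -/
theorem sl2_unip_odd (h2 : ringChar F ≠ 2) (r : ℕ) (hr : Fintype.card F = 2 * r + 1)
    (ρ : Representation ℂ (Matrix.SpecialLinearGroup (Fin 2) F) V) [ρ.IsIrreducible] :
    ∃ m k₁ k₂ : ℕ, Module.finrank ℂ V = m + r * (k₁ + k₂) ∧
      (k₁ = k₂ → ∀ x : F, x ≠ 0 → ρ.character (tSL x) = (m : ℂ) - k₁) ∧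
      (∑ x : F, ρ.character (tSL x) = (Fintype.card F : ℂ) * m) ∧
      (m = 0 → ∑ x : F, ρ (tSL x) = 0) ∧
      (2 * r + 2) * (m ^ 2 + r * (k₁ ^ 2 + k₂ ^ 2)) ≤
        2 * r ^ 2 + 2 * r + (Module.finrank ℂ V) ^ 2 ∧
      ((2 * r + 2) * (m ^ 2 + r * (k₁ ^ 2 + k₂ ^ 2)) =
        2 * r ^ 2 + 2 * r + (Module.finrank ℂ V) ^ 2 →
        ∀ g : Matrix.SpecialLinearGroup (Fin 2) F, (g : Matrix (Fin 2) (Fin 2) F).trace ≠ 2 →
          (g : Matrix (Fin 2) (Fin 2) F).trace ≠ -2 → ρ.character g = 0) := by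
  obtain ⟨ψ, hψ⟩ := exists_addChar_ne_one (F := F)
  obtain ⟨k, -, hk0, hksq, hinv, hpars, hsum, hdeg⟩ := sl2_unip_core ψ hψ ρ
  obtain ⟨ε, hε⟩ := exists_nonsquare_aux h2
  have h2' : (2 : F) ≠ 0 := Ring.two_ne_zero h2
  have hqr : ((Fintype.card F : ℂ) - 1) / 2 = (r : ℂ) := by
    rw [hr]
    push_cast
    ring
  have hS1 : ∑ c : F, (k c : ℂ) = (k 0 : ℂ) + (r : ℂ) * ((k 1 : ℂ) + (k ε : ℂ)) := by
    rw [sqclass_sum h2 ε hε (fun c => (k c : ℂ)) (fun c a ha => by rw [hksq c a ha]), hqr]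
  have hS2c : ∑ c : F, ((k c : ℂ)) ^ 2 = (k 0 : ℂ) ^ 2 + (r : ℂ) * ((k 1 : ℂ) ^ 2 + (k ε : ℂ) ^ 2) := by
    rw [sqclass_sum h2 ε hε (fun c => (k c : ℂ) ^ 2) (fun c a ha => by rw [hksq c a ha]), hqr]
  have hS2 : ∑ c : F, ((k c : ℝ)) ^ 2 = (k 0 : ℝ) ^ 2 + (r : ℝ) * ((k 1 : ℝ) ^ 2 + (k ε : ℝ) ^ 2) := by
    exact_mod_cast hS2c
  have hreal : 2 * (Complex.normSq (ρ.character 1) + ((Fintype.card F : ℝ) + 1) *
        (∑ x : F, Complex.normSq (ρ.character (tSL x)) - Complex.normSq (ρ.character 1))) -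
      (Fintype.card F : ℝ) * ((Fintype.card F : ℝ) ^ 2 - 1) =
      2 * (2 * (r : ℝ) + 1) * (((2 * (r : ℝ) + 2) * ((k 0 : ℝ) ^ 2 + (r : ℝ) * ((k 1 : ℝ) ^ 2 + (k ε : ℝ) ^ 2))) -
        (2 * (r : ℝ) ^ 2 + 2 * r + (Module.finrank ℂ V : ℝ) ^ 2)) := by
    rw [hpars, hS2, normSq_char_one, hr]
    push_cast
    ring
  have hpos : (0 : ℝ) < 2 * (2 * (r : ℝ) + 1) := by positivity
  refine ⟨k 0, k 1, k ε, ?_, ?_, hsum, hk0, ?_, ?_⟩
  · rw [hS1] at hdeg
    exact_mod_cast hdeg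
  · intro h12 x hx
    have hconst : ∀ c : F, c ≠ 0 → k c = k 1 := by
      intro c hc
      by_cases hsq : IsSquare c
      · exact sqclass_odd_sq k hksq c hc hsq
      · rw [sqclass_odd_nsq ε hε k hksq c hsq, h12]
    rw [hinv x, unip_value_of_const ψ hψ k (k 1) hconst x hx]
  · have hle := sl2_norm_odd h2' ρ
    have h3 : 2 * (2 * (r : ℝ) + 1) * (((2 * (r : ℝ) + 2) * ((k 0 : ℝ) ^ 2 + (r : ℝ) * ((k 1 : ℝ) ^ 2 + (k ε : ℝ) ^ 2))) -
        (2 * (r : ℝ) ^ 2 + 2 * r + (Module.finrank ℂ V : ℝ) ^ 2)) ≤ 0 := by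
      rw [← hreal]
      linarith
    have h4 : ((2 * (r : ℝ) + 2) * ((k 0 : ℝ) ^ 2 + (r : ℝ) * ((k 1 : ℝ) ^ 2 + (k ε : ℝ) ^ 2))) -
        (2 * (r : ℝ) ^ 2 + 2 * r + (Module.finrank ℂ V : ℝ) ^ 2) ≤ 0 := by
      by_contra hcon
      push Not at hcon
      have := mul_pos hpos hcon
      linarith
    have h5 : ((2 * (r : ℝ) + 2) * ((k 0 : ℝ) ^ 2 + (r : ℝ) * ((k 1 : ℝ) ^ 2 + (k ε : ℝ) ^ 2))) ≤
        (2 * (r : ℝ) ^ 2 + 2 * r + (Module.finrank ℂ V : ℝ) ^ 2) := by linarith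
    exact_mod_cast h5
  · intro heq g hg1 hg2
    apply sl2_norm_odd_eq h2' ρ _ g hg1 hg2
    have heq' : ((2 * (r : ℝ) + 2) * ((k 0 : ℝ) ^ 2 + (r : ℝ) * ((k 1 : ℝ) ^ 2 + (k ε : ℝ) ^ 2))) =
        (2 * (r : ℝ) ^ 2 + 2 * r + (Module.finrank ℂ V : ℝ) ^ 2) := by exact_mod_cast heq
    have h3 := hreal
    rw [heq', sub_self, mul_zero] at h3
    linarith

end Unip

end Cfsg.Agent.Lib.Helper39
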