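import Mathlib
import Cfsg.Prelude.Def_Characters
import Cfsg.Prelude.Def_ParabolicCharacters
import Cfsg.Agent.Lib.Helper39.SL2Unip
import Cfsg.Agent.Lib.Helper39.SL2Mackey
import Cfsg.Agent.Lib.Helper39.GL2Princ

set_option autoImplicit false

namespace Cfsg.Agent.Lib.Helper39

open Matrix Representation
open scoped ComplexConjugate

universe u

section Gen

variable {F : Type u} [Field F]

theorem sl2_decomp (g : Matrix.SpecialLinearGroup (Fin 2) F)
    (hc : (g : Matrix (Fin 2) (Fin 2) F) 1 0 ≠ 0) :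
    g = tSL (((g : Matrix (Fin 2) (Fin 2) F) 0 0 - 1) / (g : Matrix (Fin 2) (Fin 2) F) 1 0) *
      lSL ((g : Matrix (Fin 2) (Fin 2) F) 1 0) *
      tSL (((g : Matrix (Fin 2) (Fin 2) F) 1 1 - 1) / (g : Matrix (Fin 2) (Fin 2) F) 1 0) := by
  have hd := g.det_coe
  rw [Matrix.det_fin_two] at hd
  apply Subtype.ext
  rw [Matrix.SpecialLinearGroup.coe_mul, Matrix.SpecialLinearGroup.coe_mul, tSL_coe, tSL_coe,
    lSL_coe]
  ext i j
  fin_cases i <;> fin_cases j
  · simp [Matrix.mul_apply, Fin.sum_univ_two]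
    field_simp
    ring
  · simp [Matrix.mul_apply, Fin.sum_univ_two]
    field_simp
    linear_combination -hd
  · simp [Matrix.mul_apply, Fin.sum_univ_two]
  · simp [Matrix.mul_apply, Fin.sum_univ_two]
    field_simp
    ring

/-- a homomorphism from `SL₂` that kills the unitriangular elements is trivial. -/
theorem sl2_hom_trivial {M : Type*} [Monoid M] (φ : Matrix.SpecialLinearGroup (Fin 2) F →* M)
    (hT : ∀ x : F, φ (tSL x) = 1) (hL : ∀ y : F, φ (lSL y) = 1)
    (g : Matrix.SpecialLinearGroup (Fin 2) F) : φ g = 1 := by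
  have key : ∀ g : Matrix.SpecialLinearGroup (Fin 2) F,
      (g : Matrix (Fin 2) (Fin 2) F) 1 0 ≠ 0 → φ g = 1 := by
    intro g hc
    rw [sl2_decomp g hc, map_mul, map_mul, hT, hT, hL, mul_one, mul_one]
  by_cases hc : (g : Matrix (Fin 2) (Fin 2) F) 1 0 = 0
  · have hd := g.det_coe
    rw [Matrix.det_fin_two, hc, mul_zero, sub_zero] at hd
    have h00 : (g : Matrix (Fin 2) (Fin 2) F) 0 0 ≠ 0 := by
      intro h0
      rw [h0, zero_mul] at hd
      exact zero_ne_one hd
    have h1 : φ (lSL 1 * g) = 1 := by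
      apply key
      rw [Matrix.SpecialLinearGroup.coe_mul, lSL_coe]
      simp [Matrix.mul_apply, Fin.sum_univ_two, hc]
      exact h00
    rw [map_mul, hL, one_mul] at h1
    exact h1
  · exact key g hc

end Gen

section Princ

variable {F : Type u} [Field F] [Fintype F] [DecidableEq F]

theorem sbEquiv_unip (s : F) :
    ((sbEquiv ((1 : Fˣ), s) : borelS F) : Matrix.SpecialLinearGroup (Fin 2) F) = tSL s := by
  apply Subtype.ext
  rw [sbEquiv_coe, tSL_coe]
  simp

omit [Fintype F] in
theorem sum_indicator_aux' [Fintype F] (c : ℂ) (g : Fˣ × F → ℂ) :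
    ∑ p : Fˣ × F, (if p.1 = 1 then c else 0) * g p = c * ∑ s : F, g (1, s) := by
  rw [Fintype.sum_prod_type, Finset.sum_eq_single 1]
  · simp only [if_true, Finset.mul_sum]
  · intro a _ ha
    simp [ha]
  · intro h
    exact absurd (Finset.mem_univ _) h

/-- a class function on `SL₂` with non-zero average on the unipotent subgroup pairs
non-trivially with some principal series function. -/
theorem exists_principal_S {χ : Matrix.SpecialLinearGroup (Fin 2) F → ℂ}
    (hχ : Cfsg.IsClassFunction (Matrix.SpecialLinearGroup (Fin 2) F) χ)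
    (hs : ∑ x : F, χ (tSL x) ≠ 0) :
    ∃ α : MulChar F ℂ, Cfsg.classInner (Cfsg.indFun (borelS F) (lamS α)) χ ≠ 0 := by
  classical
  by_contra hcon
  push Not at hcon
  letI : Fintype (MulChar F ℂ) := Fintype.ofFinite _
  letI : Fintype (borelS F) := Fintype.ofEquiv _ sbEquiv
  have h1 : ∀ α : MulChar F ℂ, ∑ p : Fˣ × F,
      α (p.1 : F) * conj (χ ((sbEquiv p : borelS F) : Matrix.SpecialLinearGroup (Fin 2) F)) = 0 := by
    intro α
    have h := hcon α
    rw [Cfsg.Agent.Lib.Helper3.frobenius_reciprocity _ _ χ hχ] at h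
    unfold Cfsg.classInner at h
    have hcard : (Nat.card (borelS F) : ℂ) ≠ 0 := by
      have := Nat.card_pos (α := borelS F)
      exact_mod_cast this.ne'
    have h2 := (mul_eq_zero.mp h).resolve_left (inv_ne_zero hcard)
    rw [← h2]
    refine Fintype.sum_equiv sbEquiv _ _ (fun p => ?_)
    rw [lamS_sbEquiv]
  have h2 : ∑ α : MulChar F ℂ, ∑ p : Fˣ × F,
      α (p.1 : F) * conj (χ ((sbEquiv p : borelS F) : Matrix.SpecialLinearGroup (Fin 2) F)) = 0 := by
    simp only [h1, Finset.sum_const_zero]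
  rw [Finset.sum_comm] at h2
  simp only [← Finset.sum_mul, sum_mulChar_unit] at h2
  rw [sum_indicator_aux'] at h2
  simp only [sbEquiv_unip] at h2
  have hq := card_sub_one_ne_zero (F := F)
  have h5 := (mul_eq_zero.mp h2).resolve_left hq
  apply hs
  have h6 : conj (∑ x : F, χ (tSL x)) = 0 := by
    rw [map_sum]
    exact h5
  exact (map_eq_zero (starRingEnd ℂ)).mp h6

/-- the degree of the principal series function of `SL₂` -/
theorem indFun_lamS_one (α : MulChar F ℂ) :
    Cfsg.indFun (borelS F) (lamS α) 1 = (Fintype.card F : ℂ) + 1 := by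
  rw [indFun_lamS]
  simp [lamSFun, add_comm]

/-- the principal series function of `SL₂` vanishes on elements without eigenvectors -/
theorem indFun_lamS_elliptic (α : MulChar F ℂ) (g : Matrix.SpecialLinearGroup (Fin 2) F)
    (hno : ∀ (c : F) (v : Fin 2 → F), v ≠ 0 → (g : Matrix (Fin 2) (Fin 2) F).mulVec v ≠ c • v) :
    Cfsg.indFun (borelS F) (lamS α) g = 0 := by
  rw [indFun_lamS]
  have h10 : (g : Matrix (Fin 2) (Fin 2) F) 1 0 ≠ 0 := by
    intro h10
    apply hno ((g : Matrix (Fin 2) (Fin 2) F) 0 0) ![1, 0]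
    · intro h
      have := congrFun h 0
      simp at this
    · ext i
      fin_cases i <;> simp [Matrix.mulVec, dotProduct, Fin.sum_univ_two, h10]
  have hl : lamSFun α g = 0 := by simp [lamSFun, h10]
  rw [hl, zero_add]
  apply Finset.sum_eq_zero
  intro y _
  rw [if_neg]
  intro h
  apply hno ((g : Matrix (Fin 2) (Fin 2) F) 1 0 * y + (g : Matrix (Fin 2) (Fin 2) F) 1 1) ![y, 1]
  · intro h
    have := congrFun h 1
    simp at this
  · ext i
    fin_cases i
    · simp [Matrix.mulVec, dotProduct, Fin.sum_univ_two]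
      linear_combination -h
    · simp [Matrix.mulVec, dotProduct, Fin.sum_univ_two]

/-- the principal series function of `SL₂` on diagonal elements with distinct entries -/
theorem indFun_lamS_split (α : MulChar F ℂ) (g : Matrix.SpecialLinearGroup (Fin 2) F)
    (h01 : (g : Matrix (Fin 2) (Fin 2) F) 0 1 = 0) (h10 : (g : Matrix (Fin 2) (Fin 2) F) 1 0 = 0)
    (hne : (g : Matrix (Fin 2) (Fin 2) F) 0 0 ≠ (g : Matrix (Fin 2) (Fin 2) F) 1 1) :
    Cfsg.indFun (borelS F) (lamS α) g =
      α ((g : Matrix (Fin 2) (Fin 2) F) 0 0) + α ((g : Matrix (Fin 2) (Fin 2) F) 1 1) := by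
  rw [indFun_lamS]
  simp only [lamSFun, h10, h01, if_true, zero_mul, zero_add, sub_zero]
  congr 1
  rw [Finset.sum_eq_single 0]
  · simp
  · intro y _ hy
    rw [if_neg]
    intro h
    rcases mul_eq_zero.mp h with h | h
    · exact hne (sub_eq_zero.mp h).symm
    · exact hy h
  · intro h
    exact absurd (Finset.mem_univ _) h

/-- the principal series function of `SL₂` on non-semisimple upper triangular elements -/
theorem indFun_lamS_unip (α : MulChar F ℂ) (g : Matrix.SpecialLinearGroup (Fin 2) F)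
    (h10 : (g : Matrix (Fin 2) (Fin 2) F) 1 0 = 0)
    (heq : (g : Matrix (Fin 2) (Fin 2) F) 0 0 = (g : Matrix (Fin 2) (Fin 2) F) 1 1)
    (h01 : (g : Matrix (Fin 2) (Fin 2) F) 0 1 ≠ 0) :
    Cfsg.indFun (borelS F) (lamS α) g = α ((g : Matrix (Fin 2) (Fin 2) F) 0 0) := by
  rw [indFun_lamS]
  simp only [lamSFun, h10, heq, if_true, zero_mul, zero_add, sub_self]
  rw [Finset.sum_eq_zero, add_zero]
  intro y _
  rw [if_neg]
  intro h
  apply h01
  have : -(g : Matrix (Fin 2) (Fin 2) F) 0 1 = 0 := by simpa using h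
  exact neg_eq_zero.mp this

end Princ

end Cfsg.Agent.Lib.Helper39
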