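import Mathlib
import Cfsg.Prelude.Def_Characters
import Cfsg.Prelude.Def_ParabolicCharacters
import Cfsg.Agent.Lib.Helper39.SL2
import Cfsg.Agent.Lib.Helper39.SL2Princ
import Cfsg.Agent.Lib.Helper81.CharOps

set_option autoImplicit false

namespace Cfsg.Agent.Lib.Helper39

open Matrix Representation
open scoped ComplexConjugate

universe u

section Conj

variable {F : Type u} [Field F]

/-- conjugation by `diag(e, 1)` on `SL₂`, as a function. -/
def dconjFun (e : Fˣ) (g : Matrix.SpecialLinearGroup (Fin 2) F) :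
    Matrix.SpecialLinearGroup (Fin 2) F :=
  ⟨!![(g : Matrix (Fin 2) (Fin 2) F) 0 0, ((e⁻¹ : Fˣ) : F) * (g : Matrix (Fin 2) (Fin 2) F) 0 1;
      (e : F) * (g : Matrix (Fin 2) (Fin 2) F) 1 0, (g : Matrix (Fin 2) (Fin 2) F) 1 1], by
    have hd := g.det_coe
    rw [Matrix.det_fin_two] at hd
    rw [Matrix.det_fin_two_of]
    have he : ((e⁻¹ : Fˣ) : F) * (e : F) = 1 := by simp
    linear_combination hd - ((g : Matrix (Fin 2) (Fin 2) F) 0 1 *
      (g : Matrix (Fin 2) (Fin 2) F) 1 0) * he⟩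

theorem dconjFun_coe (e : Fˣ) (g : Matrix.SpecialLinearGroup (Fin 2) F) :
    ((dconjFun e g : Matrix.SpecialLinearGroup (Fin 2) F) : Matrix (Fin 2) (Fin 2) F) =
      !![(g : Matrix (Fin 2) (Fin 2) F) 0 0, ((e⁻¹ : Fˣ) : F) * (g : Matrix (Fin 2) (Fin 2) F) 0 1;
        (e : F) * (g : Matrix (Fin 2) (Fin 2) F) 1 0, (g : Matrix (Fin 2) (Fin 2) F) 1 1] := rfl

theorem dconjFun_mul (e : Fˣ) (g h : Matrix.SpecialLinearGroup (Fin 2) F) :
    dconjFun e (g * h) = dconjFun e g * dconjFun e h := by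
  apply Subtype.ext
  rw [Matrix.SpecialLinearGroup.coe_mul, dconjFun_coe, dconjFun_coe, dconjFun_coe,
    Matrix.SpecialLinearGroup.coe_mul]
  have he : ((e⁻¹ : Fˣ) : F) * (e : F) = 1 := by simp
  ext i j
  fin_cases i <;> fin_cases j
  · simp only [Matrix.mul_apply, Fin.sum_univ_two, Fin.zero_eta, Fin.isValue, Matrix.of_apply,
      Matrix.cons_val', Matrix.cons_val_zero, Matrix.cons_val_fin_one, Matrix.cons_val_one]
    linear_combination (-((g : Matrix (Fin 2) (Fin 2) F) 0 1 *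
      (h : Matrix (Fin 2) (Fin 2) F) 1 0)) * he
  · simp only [Matrix.mul_apply, Fin.sum_univ_two, Fin.zero_eta, Fin.isValue, Matrix.of_apply,
      Matrix.cons_val', Matrix.cons_val_zero, Matrix.cons_val_fin_one, Matrix.cons_val_one,
      Fin.mk_one]
    ring
  · simp only [Matrix.mul_apply, Fin.sum_univ_two, Fin.zero_eta, Fin.isValue, Matrix.of_apply,
      Matrix.cons_val', Matrix.cons_val_zero, Matrix.cons_val_fin_one, Matrix.cons_val_one,
      Fin.mk_one]
    ring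
  · simp only [Matrix.mul_apply, Fin.sum_univ_two, Fin.zero_eta, Fin.isValue, Matrix.of_apply,
      Matrix.cons_val', Matrix.cons_val_zero, Matrix.cons_val_fin_one, Matrix.cons_val_one,
      Fin.mk_one]
    linear_combination (-((g : Matrix (Fin 2) (Fin 2) F) 1 0 *
      (h : Matrix (Fin 2) (Fin 2) F) 0 1)) * he

theorem dconjFun_inv (e : Fˣ) (g : Matrix.SpecialLinearGroup (Fin 2) F) :
    dconjFun e⁻¹ (dconjFun e g) = g := by
  apply Subtype.ext
  rw [dconjFun_coe, dconjFun_coe]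
  ext i j
  fin_cases i <;> fin_cases j <;> simp

/-- conjugation by `diag(e, 1)` on `SL₂`. -/
def dconj (e : Fˣ) :
    Matrix.SpecialLinearGroup (Fin 2) F ≃* Matrix.SpecialLinearGroup (Fin 2) F where
  toFun := dconjFun e
  invFun := dconjFun e⁻¹
  left_inv := dconjFun_inv e
  right_inv := fun g => by
    have h := dconjFun_inv e⁻¹ g
    rw [inv_inv] at h
    exact h
  map_mul' := dconjFun_mul e

theorem dconj_coe (e : Fˣ) (g : Matrix.SpecialLinearGroup (Fin 2) F) :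
    ((dconj e g : Matrix.SpecialLinearGroup (Fin 2) F) : Matrix (Fin 2) (Fin 2) F) =
      !![(g : Matrix (Fin 2) (Fin 2) F) 0 0, ((e⁻¹ : Fˣ) : F) * (g : Matrix (Fin 2) (Fin 2) F) 0 1;
        (e : F) * (g : Matrix (Fin 2) (Fin 2) F) 1 0, (g : Matrix (Fin 2) (Fin 2) F) 1 1] := rfl

theorem dconj_tSL (e : Fˣ) (y : F) : dconj e (tSL y) = tSL (((e⁻¹ : Fˣ) : F) * y) := by
  apply Subtype.ext
  rw [dconj_coe, tSL_coe, tSL_coe]
  ext i j
  fin_cases i <;> fin_cases j <;> simp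

theorem dconj_trace (e : Fˣ) (g : Matrix.SpecialLinearGroup (Fin 2) F) :
    ((dconj e g : Matrix.SpecialLinearGroup (Fin 2) F) : Matrix (Fin 2) (Fin 2) F).trace =
      (g : Matrix (Fin 2) (Fin 2) F).trace := by
  rw [dconj_coe]
  simp [Matrix.trace_fin_two]

/-- conjugation by `diag(e, 1)` in `GL₂` is `dconj`. -/
theorem dconj_of_toGL (e : Fˣ) (g h : Matrix.SpecialLinearGroup (Fin 2) F)
    (hgh : Matrix.SpecialLinearGroup.toGL h =
      bGL e 1 0 * Matrix.SpecialLinearGroup.toGL g * (bGL e 1 0)⁻¹) : dconj e h = g := by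
  have h1 : Matrix.SpecialLinearGroup.toGL h * bGL e 1 0 =
      bGL e 1 0 * Matrix.SpecialLinearGroup.toGL g := by
    rw [hgh, inv_mul_cancel_right]
  have h2 : (h : Matrix (Fin 2) (Fin 2) F) * !![(e : F), 0; 0, 1] =
      !![(e : F), 0; 0, 1] * (g : Matrix (Fin 2) (Fin 2) F) := by
    have := congrArg (fun x : GL (Fin 2) F => (x : Matrix (Fin 2) (Fin 2) F)) h1
    simpa [bGL_coe] using this
  have e00 := congrFun (congrFun h2 0) 0
  have e01 := congrFun (congrFun h2 0) 1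
  have e10 := congrFun (congrFun h2 1) 0
  have e11 := congrFun (congrFun h2 1) 1
  simp only [Matrix.mul_apply, Fin.sum_univ_two, Fin.isValue, Matrix.of_apply,
      Matrix.cons_val', Matrix.cons_val_zero, Matrix.cons_val_fin_one, Matrix.cons_val_one,
      mul_zero, mul_one, add_zero, zero_add, zero_mul, one_mul] at e00 e01 e10 e11
  have he0 : (e : F) ≠ 0 := e.ne_zero
  apply Subtype.ext
  rw [dconj_coe]
  ext i j
  fin_cases i <;> fin_cases j
  · simp
    apply mul_right_cancel₀ he0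
    rw [e00, mul_comm]
  · simp
    rw [e01]
    field_simp
  · simp
    rw [← e10, mul_comm]
  · simp
    exact e11

theorem lamSFun_dconj [DecidableEq F] (α : MulChar F ℂ) (e : Fˣ)
    (g : Matrix.SpecialLinearGroup (Fin 2) F) : lamSFun α (dconj e g) = lamSFun α g := by
  unfold lamSFun
  rw [dconj_coe]
  have he0 : (e : F) ≠ 0 := e.ne_zero
  by_cases h : (g : Matrix (Fin 2) (Fin 2) F) 1 0 = 0
  · simp [h]
  · simp [h, he0]

/-- the principal series functions of `SL₂` are invariant under `dconj`. -/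
theorem indFun_lamS_dconj [Fintype F] [DecidableEq F] (α : MulChar F ℂ) (e : Fˣ)
    (g : Matrix.SpecialLinearGroup (Fin 2) F) :
    Cfsg.indFun (borelS F) (lamS α) (dconj e g) = Cfsg.indFun (borelS F) (lamS α) g := by
  rw [indFun_lamS, indFun_lamS, lamSFun_dconj]
  congr 1
  have he0 : (e : F) ≠ 0 := e.ne_zero
  refine Fintype.sum_equiv (Equiv.mulLeft₀ (e : F) he0) _ _ (fun y => ?_)
  simp only [Equiv.mulLeft₀_apply, dconj_coe, Fin.isValue, Matrix.of_apply,
      Matrix.cons_val', Matrix.cons_val_zero, Matrix.cons_val_fin_one, Matrix.cons_val_one]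
  have hiff : ((e : F) * (g : Matrix (Fin 2) (Fin 2) F) 1 0 * y ^ 2 +
      ((g : Matrix (Fin 2) (Fin 2) F) 1 1 - (g : Matrix (Fin 2) (Fin 2) F) 0 0) * y -
      ((e⁻¹ : Fˣ) : F) * (g : Matrix (Fin 2) (Fin 2) F) 0 1 = 0) ↔
      ((g : Matrix (Fin 2) (Fin 2) F) 1 0 * ((e : F) * y) ^ 2 +
      ((g : Matrix (Fin 2) (Fin 2) F) 1 1 - (g : Matrix (Fin 2) (Fin 2) F) 0 0) * ((e : F) * y) -
      (g : Matrix (Fin 2) (Fin 2) F) 0 1 = 0) := by
    have he : (e : F) * ((e⁻¹ : Fˣ) : F) = 1 := by simp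
    constructor
    · intro h
      linear_combination (e : F) * h + (g : Matrix (Fin 2) (Fin 2) F) 0 1 * he
    · intro h
      have h3 : (e : F) * ((e : F) * (g : Matrix (Fin 2) (Fin 2) F) 1 0 * y ^ 2 +
          ((g : Matrix (Fin 2) (Fin 2) F) 1 1 - (g : Matrix (Fin 2) (Fin 2) F) 0 0) * y -
          ((e⁻¹ : Fˣ) : F) * (g : Matrix (Fin 2) (Fin 2) F) 0 1) = 0 := by
        linear_combination h - (g : Matrix (Fin 2) (Fin 2) F) 0 1 * he
      exact (mul_eq_zero.mp h3).resolve_left he0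
  by_cases h : (e : F) * (g : Matrix (Fin 2) (Fin 2) F) 1 0 * y ^ 2 +
      ((g : Matrix (Fin 2) (Fin 2) F) 1 1 - (g : Matrix (Fin 2) (Fin 2) F) 0 0) * y -
      ((e⁻¹ : Fˣ) : F) * (g : Matrix (Fin 2) (Fin 2) F) 0 1 = 0
  · rw [if_pos h, if_pos (hiff.mp h)]
    congr 1
    ring
  · rw [if_neg h, if_neg (fun h' => h (hiff.mpr h'))]

theorem classInner_dconj [Fintype F] [DecidableEq F] (e : Fˣ)
    (f₁ f₂ : Matrix.SpecialLinearGroup (Fin 2) F → ℂ) :
    Cfsg.classInner (fun g => f₁ (dconj e g)) (fun g => f₂ (dconj e g)) =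
      Cfsg.classInner f₁ f₂ := by
  unfold Cfsg.classInner
  congr 1
  exact Fintype.sum_equiv (dconj e).toEquiv _ _ (fun g => rfl)

theorem uC_dconj [Fintype F] [DecidableEq F] (ψ : AddChar F ℂ) (f : Matrix.SpecialLinearGroup (Fin 2) F → ℂ)
    (e : Fˣ) (c : F) : uC ψ (fun g => f (dconj e g)) c = uC ψ f (c * (e : F)) := by
  unfold uC
  have h := fhat_dilate ψ (fun x => f (tSL x)) ((e⁻¹ : Fˣ) : F) (Units.ne_zero _) (c * (e : F))
  rw [← h]
  have h1 : c * (e : F) * ((e⁻¹ : Fˣ) : F) = c := by simp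
  rw [h1]
  simp only [dconj_tSL]

theorem uC_add [Fintype F] [DecidableEq F] (ψ : AddChar F ℂ) (f₁ f₂ : Matrix.SpecialLinearGroup (Fin 2) F → ℂ)
    (c : F) : uC ψ (f₁ + f₂) c = uC ψ f₁ c + uC ψ f₂ c := by
  unfold uC
  exact fhat_add ψ _ _ c

theorem uC_sub [Fintype F] [DecidableEq F] (ψ : AddChar F ℂ) (f₁ f₂ : Matrix.SpecialLinearGroup (Fin 2) F → ℂ)
    (c : F) : uC ψ (f₁ - f₂) c = uC ψ f₁ c - uC ψ f₂ c := by
  unfold uC
  exact fhat_sub ψ _ _ c

/-- a function whose non-trivial Fourier coefficients on the unipotent subgroup vanish is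
constant there. -/
theorem unip_const_of_uC [Fintype F] [DecidableEq F] (ψ : AddChar F ℂ) (hψ : ψ ≠ 1)
    (f : Matrix.SpecialLinearGroup (Fin 2) F → ℂ) (h : ∀ c : F, c ≠ 0 → uC ψ f c = 0) (x : F) :
    f (tSL x) = f 1 := by
  have key : ∀ x : F, f (tSL x) = uC ψ f 0 := by
    intro x
    have h1 := fourier_inv ψ hψ (fun x => f (tSL x)) x
    rw [Finset.sum_eq_single 0] at h1
    · simpa [uC] using h1
    · intro c _ hc
      have h2 := h c hc
      unfold uC at h2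
      rw [h2, zero_mul]
    · intro h0
      exact absurd (Finset.mem_univ _) h0
  rw [key x, ← tSL_zero, key 0]

/-- a character of `SL₂` which is constant on the unipotent subgroup is constant. -/
theorem char_const_of_unip [Fintype F] [DecidableEq F] {θ : Matrix.SpecialLinearGroup (Fin 2) F → ℂ}
    (hθ : Cfsg.IsCharacter (Matrix.SpecialLinearGroup (Fin 2) F) θ)
    (h : ∀ x : F, θ (tSL x) = θ 1) (g : Matrix.SpecialLinearGroup (Fin 2) F) : θ g = θ 1 := by
  obtain ⟨n, ρ, rfl⟩ := hθ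
  have hT : ∀ x : F, ρ (tSL x) = 1 := fun x =>
    (Cfsg.Agent.Lib.Helper3.character_eq_finrank_iff ρ (tSL x)).mp (by rw [h x, char_one])
  have hL : ∀ y : F, ρ (lSL y) = 1 := fun y =>
    (Cfsg.Agent.Lib.Helper3.character_eq_finrank_iff ρ (lSL y)).mp
      (by rw [← char_eq_of_isConj ρ (lSL_isConj y), h, char_one])
  have h1 := sl2_hom_trivial ρ hT hL g
  have h0 : ρ 1 = 1 := map_one ρ
  change LinearMap.trace ℂ _ (ρ g) = LinearMap.trace ℂ _ (ρ 1)
  rw [h1, h0]

end Conj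

section Ell

variable {F : Type u} [Field F]

theorem exists_quad' [Fintype F] (hodd : Odd (Fintype.card F)) (t : F) (ht : t ^ 2 ≠ 4) (δ : F) :
    ∃ x y : F, x ^ 2 + t * x * y + y ^ 2 = δ := by
  have h2 : (2 : F) ≠ 0 := by
    have hc : ringChar F ≠ 2 := by
      intro hc
      have := FiniteField.even_card_of_char_two hc
      have := Nat.odd_iff.mp hodd
      omega
    exact Ring.two_ne_zero hc
  have h4 : (4 : F) ≠ 0 := by
    have : (4 : F) = 2 * 2 := by norm_num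
    rw [this]; exact mul_ne_zero h2 h2
  set c : F := 1 - t ^ 2 / 4 with hc
  have hc0 : c ≠ 0 := by
    intro h0
    apply ht
    rw [hc] at h0
    field_simp at h0
    linear_combination -h0
  have hf : (Polynomial.X ^ 2 : Polynomial F).degree = 2 := Polynomial.degree_X_pow 2
  have hg : (Polynomial.C c * Polynomial.X ^ 2 + Polynomial.C 0 * Polynomial.X + Polynomial.C (-δ)
      : Polynomial F).degree = 2 := Polynomial.degree_quadratic hc0
  obtain ⟨a, b, hab⟩ := FiniteField.exists_root_sum_quadratic hf hg (Nat.odd_iff.mp hodd)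
  simp at hab
  refine ⟨a - t / 2 * b, b, ?_⟩
  rw [hc] at hab
  field_simp at hab ⊢
  linear_combination hab

/-- a non-scalar element of `SL₂(q)`, `q` odd, whose trace is not `±2` is conjugate to the
standard element of its trace. -/
theorem sl2_isConj_twSL [Fintype F] (hodd : Odd (Fintype.card F))
    (g : Matrix.SpecialLinearGroup (Fin 2) F) (hg : NonScal (g : Matrix (Fin 2) (Fin 2) F))
    (ht : (g : Matrix (Fin 2) (Fin 2) F).trace ^ 2 ≠ 4) :
    IsConj g (twSL (g : Matrix (Fin 2) (Fin 2) F).trace 1) := by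
  obtain ⟨x, y, hxy⟩ := exists_cyc_of_nonScal hg
  obtain ⟨x', y', h'⟩ := exists_quad' hodd (g : Matrix (Fin 2) (Fin 2) F).trace ht
    (cycMat (g : Matrix (Fin 2) (Fin 2) F) x y).det
  apply sl2_isConj_of_cyc g _ x y x' y'
  · rw [twSL_coe, twMat_trace]
  · rw [twSL_coe, twMat_cyc_det, ← h']
    simp
  · exact hxy

theorem elliptic_c_ne (g : Matrix.SpecialLinearGroup (Fin 2) F)
    (hno : ∀ (c : F) (v : Fin 2 → F), v ≠ 0 → (g : Matrix (Fin 2) (Fin 2) F).mulVec v ≠ c • v) :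
    (g : Matrix (Fin 2) (Fin 2) F) 1 0 ≠ 0 := by
  intro h10
  apply hno ((g : Matrix (Fin 2) (Fin 2) F) 0 0) ![1, 0]
  · intro h
    have := congrFun h 0
    simp at this
  · ext i
    fin_cases i <;> simp [Matrix.mulVec, dotProduct, Fin.sum_univ_two, h10]

theorem elliptic_trace (h2 : (2 : F) ≠ 0) (g : Matrix.SpecialLinearGroup (Fin 2) F)
    (hno : ∀ (c : F) (v : Fin 2 → F), v ≠ 0 → (g : Matrix (Fin 2) (Fin 2) F).mulVec v ≠ c • v) :
    (g : Matrix (Fin 2) (Fin 2) F).trace ^ 2 ≠ 4 := by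
  intro h4
  have h10 := elliptic_c_ne g hno
  have hd := g.det_coe
  rw [Matrix.det_fin_two] at hd
  rw [Matrix.trace_fin_two] at h4
  apply hno (((g : Matrix (Fin 2) (Fin 2) F) 0 0 + (g : Matrix (Fin 2) (Fin 2) F) 1 1) / 2)
    ![((g : Matrix (Fin 2) (Fin 2) F) 0 0 + (g : Matrix (Fin 2) (Fin 2) F) 1 1) / 2 -
      (g : Matrix (Fin 2) (Fin 2) F) 1 1, (g : Matrix (Fin 2) (Fin 2) F) 1 0]
  · intro h
    have := congrFun h 1
    simp at this
    exact h10 this
  · ext i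
    fin_cases i
    · simp [Matrix.mulVec, dotProduct, Fin.sum_univ_two]
      field_simp
      linear_combination h4 - 4 * hd
    · simp [Matrix.mulVec, dotProduct, Fin.sum_univ_two]
      ring

/-- an element of `SL₂(q)`, `q` odd, without eigenvectors is conjugate in `SL₂` to its conjugate
under `diag(e, 1)`. -/
theorem elliptic_isConj_dconj [Fintype F] (hodd : Odd (Fintype.card F)) (e : Fˣ)
    (g : Matrix.SpecialLinearGroup (Fin 2) F)
    (hno : ∀ (c : F) (v : Fin 2 → F), v ≠ 0 → (g : Matrix (Fin 2) (Fin 2) F).mulVec v ≠ c • v) :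
    IsConj g (dconj e g) := by
  have h2 : (2 : F) ≠ 0 := by
    have hc : ringChar F ≠ 2 := by
      intro hc
      have := FiniteField.even_card_of_char_two hc
      have := Nat.odd_iff.mp hodd
      omega
    exact Ring.two_ne_zero hc
  have h10 := elliptic_c_ne g hno
  have ht := elliptic_trace h2 g hno
  have h1 := sl2_isConj_twSL hodd g (Or.inr (Or.inl h10)) ht
  have h2' := sl2_isConj_twSL hodd (dconj e g)
    (Or.inr (Or.inl (by
      rw [dconj_coe]
      simpa using h10)))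
    (by rw [dconj_trace]; exact ht)
  rw [dconj_trace] at h2'
  exact h1.trans h2'.symm

end Ell

section Twin

variable {F : Type u} [Field F] [Fintype F] [DecidableEq F]

/-- the conjugate of an irreducible constituent of a principal series character of `SL₂` with
different multiplicities on the two square classes. -/
theorem sl2_twin (ψ : AddChar F ℂ) (e : Fˣ) {χ : Matrix.SpecialLinearGroup (Fin 2) F → ℂ}
    (hχ : Cfsg.IsIrrCharacter (Matrix.SpecialLinearGroup (Fin 2) F) χ) (α : MulChar F ℂ)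
    (hne : Cfsg.classInner (Cfsg.indFun (borelS F) (lamS α)) χ ≠ 0)
    (hk : uC ψ χ 1 ≠ uC ψ χ (e : F)) :
    Cfsg.IsIrrCharacter (Matrix.SpecialLinearGroup (Fin 2) F) (fun g => χ (dconj e g)) ∧
    (fun g => χ (dconj e g)) ≠ χ ∧
    Cfsg.IsCharacter (Matrix.SpecialLinearGroup (Fin 2) F)
      (Cfsg.indFun (borelS F) (lamS α) - χ - fun g => χ (dconj e g)) := by
  have hirr' : Cfsg.IsIrrCharacter (Matrix.SpecialLinearGroup (Fin 2) F)
      (fun g => χ (dconj e g)) :=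
    Cfsg.Agent.Lib.Helper81.isIrrCharacter_comp_mulEquiv (dconj e) hχ
  have hne' : (fun g => χ (dconj e g)) ≠ χ := by
    intro h
    apply hk
    have h1 := uC_dconj ψ χ e 1
    rw [one_mul, h] at h1
    exact h1
  refine ⟨hirr', hne', ?_⟩
  have hπ := isCharacter_indFun_lamS α
  have h1 := isCharacter_sub_irr hπ hχ hne
  apply isCharacter_sub_irr h1 hirr'
  have e1 : Cfsg.classInner (Cfsg.indFun (borelS F) (lamS α)) (fun g => χ (dconj e g)) =
      Cfsg.classInner (Cfsg.indFun (borelS F) (lamS α)) χ := by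
    rw [← classInner_dconj e (Cfsg.indFun (borelS F) (lamS α)) χ]
    congr 1
    funext g
    exact (indFun_lamS_dconj α e g).symm
  have e2 : Cfsg.classInner χ (fun g => χ (dconj e g)) = 0 :=
    Cfsg.Agent.Lib.Helper3.classInner_irr_ne hχ hirr' (Ne.symm hne')
  have e3 : Cfsg.indFun (borelS F) (lamS α) = (Cfsg.indFun (borelS F) (lamS α) - χ) + χ := by
    simp
  have e4 := Cfsg.Agent.Lib.Helper75.classInner_add_left
    (Cfsg.indFun (borelS F) (lamS α) - χ) χ (fun g => χ (dconj e g))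
  rw [← e3, e2, add_zero, e1] at e4
  rw [← e4]
  exact hne

end Twin

section Unip'

variable {F : Type u} [Field F] [Fintype F] [DecidableEq F]
variable {V : Type*} [AddCommGroup V] [Module ℂ V] [FiniteDimensional ℂ V]

/-- the restriction of an irreducible character of `SL₂(q)`, `q` odd, to the unipotent
subgroup, with the multiplicities expressed as Fourier coefficients. -/
theorem sl2_unip_odd' (h2 : ringChar F ≠ 2) (r : ℕ) (hr : Fintype.card F = 2 * r + 1)
    (ψ : AddChar F ℂ) (hψ : ψ ≠ 1) (ε : F) (hε : ¬ IsSquare ε)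
    (ρ : Representation ℂ (Matrix.SpecialLinearGroup (Fin 2) F) V) [ρ.IsIrreducible] :
    ∃ m k₁ k₂ : ℕ, uC ψ ρ.character 0 = (m : ℂ) ∧ uC ψ ρ.character 1 = (k₁ : ℂ) ∧
      uC ψ ρ.character ε = (k₂ : ℂ) ∧
      Module.finrank ℂ V = m + r * (k₁ + k₂) ∧
      (k₁ = k₂ → ∀ x : F, x ≠ 0 → ρ.character (tSL x) = (m : ℂ) - k₁) ∧
      (∑ x : F, ρ.character (tSL x) = (Fintype.card F : ℂ) * m) ∧
      (m = 0 → ∑ x : F, ρ (tSL x) = 0) ∧
      (2 * r + 2) * (m ^ 2 + r * (k₁ ^ 2 + k₂ ^ 2)) ≤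
        2 * r ^ 2 + 2 * r + (Module.finrank ℂ V) ^ 2 ∧
      ((2 * r + 2) * (m ^ 2 + r * (k₁ ^ 2 + k₂ ^ 2)) =
        2 * r ^ 2 + 2 * r + (Module.finrank ℂ V) ^ 2 →
        ∀ g : Matrix.SpecialLinearGroup (Fin 2) F, (g : Matrix (Fin 2) (Fin 2) F).trace ≠ 2 →
          (g : Matrix (Fin 2) (Fin 2) F).trace ≠ -2 → ρ.character g = 0) := by
  obtain ⟨k, hkc, hk0, hksq, hinv, hpars, hsum, hdeg⟩ := sl2_unip_core ψ hψ ρ
  have h2' : (2 : F) ≠ 0 := Ring.two_ne_zero h2
  have hqr : ((Fintype.card F : ℂ) - 1) / 2 = (r : ℂ) := by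
    rw [hr]
    push_cast
    ring
  have hS1 : ∑ c : F, (k c : ℂ) = (k 0 : ℂ) + (r : ℂ) * ((k 1 : ℂ) + (k ε : ℂ)) := by
    rw [sqclass_sum h2 ε hε (fun c => (k c : ℂ)) (fun c a ha => by rw [hksq c a ha]), hqr]
  have hS2c : ∑ c : F, ((k c : ℂ)) ^ 2 = (k 0 : ℂ) ^ 2 + (r : ℂ) * ((k 1 : ℂ) ^ 2 + (k ε : ℂ) ^ 2) := by
    rw [sqclass_sum h2 ε hε (fun c => (k c : ℂ) ^ 2) (fun c a ha => by rw [hksq c a ha]), hqr]
  have hS2 : ∑ c : F, ((k c : ℝ)) ^ 2 = (k 0 : ℝ) ^ 2 + (r : ℝ) * ((k 1 : ℝ) ^ 2 + (k ε : ℝ) ^ 2) := by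
    exact_mod_cast hS2c
  have hreal : 2 * (Complex.normSq (ρ.character 1) + ((Fintype.card F : ℝ) + 1) *
        (∑ x : F, Complex.normSq (ρ.character (tSL x)) - Complex.normSq (ρ.character 1))) -
      (Fintype.card F : ℝ) * ((Fintype.card F : ℝ) ^ 2 - 1) =
      2 * (2 * (r : ℝ) + 1) * (((2 * (r : ℝ) + 2) * ((k 0 : ℝ) ^ 2 + (r : ℝ) * ((k 1 : ℝ) ^ 2 + (k ε : ℝ) ^ 2))) -
        (2 * (r : ℝ) ^ 2 + 2 * r + (Module.finrank ℂ V : ℝ) ^ 2)) := by
    rw [hpars, hS2, normSq_char_one, hr]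
    push_cast
    ring
  have hpos : (0 : ℝ) < 2 * (2 * (r : ℝ) + 1) := by positivity
  refine ⟨k 0, k 1, k ε, hkc 0, hkc 1, hkc ε, ?_, ?_, hsum, hk0, ?_, ?_⟩
  · rw [hS1] at hdeg
    exact_mod_cast hdeg
  · intro h12 x hx
    have hconst : ∀ c : F, c ≠ 0 → k c = k 1 := by
      intro c hc
      by_cases hsq : IsSquare c
      · exact sqclass_odd_sq k hksq c hc hsq
      · rw [sqclass_odd_nsq ε hε k hksq c hsq, h12]
    rw [hinv x, unip_value_of_const ψ hψ k (k 1) hconst x hx]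
  · have hle := sl2_norm_odd h2' ρ
    have h3 : 2 * (2 * (r : ℝ) + 1) * (((2 * (r : ℝ) + 2) * ((k 0 : ℝ) ^ 2 + (r : ℝ) * ((k 1 : ℝ) ^ 2 + (k ε : ℝ) ^ 2))) -
        (2 * (r : ℝ) ^ 2 + 2 * r + (Module.finrank ℂ V : ℝ) ^ 2)) ≤ 0 := by
      rw [← hreal]
      linarith
    have h4 : ((2 * (r : ℝ) + 2) * ((k 0 : ℝ) ^ 2 + (r : ℝ) * ((k 1 : ℝ) ^ 2 + (k ε : ℝ) ^ 2))) -
        (2 * (r : ℝ) ^ 2 + 2 * r + (Module.finrank ℂ V : ℝ) ^ 2) ≤ 0 := by
      by_contra hcon
      push Not at hcon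
      have := mul_pos hpos hcon
      linarith
    have h5 : ((2 * (r : ℝ) + 2) * ((k 0 : ℝ) ^ 2 + (r : ℝ) * ((k 1 : ℝ) ^ 2 + (k ε : ℝ) ^ 2))) ≤
        (2 * (r : ℝ) ^ 2 + 2 * r + (Module.finrank ℂ V : ℝ) ^ 2) := by linarith
    exact_mod_cast h5
  · intro heq g hg1 hg2
    apply sl2_norm_odd_eq h2' ρ _ g hg1 hg2
    have heq' : ((2 * (r : ℝ) + 2) * ((k 0 : ℝ) ^ 2 + (r : ℝ) * ((k 1 : ℝ) ^ 2 + (k ε : ℝ) ^ 2))) =
        (2 * (r : ℝ) ^ 2 + 2 * r + (Module.finrank ℂ V : ℝ) ^ 2) := by exact_mod_cast heq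
    have h3 := hreal
    rw [heq', sub_self, mul_zero] at h3
    linarith

/-- the Fourier coefficients of a class function of `SL₂(q)`, `q` odd, at non-zero arguments
are determined by those at `1` and at a non-square. -/
theorem uC_sqclass (ψ : AddChar F ℂ) {f : Matrix.SpecialLinearGroup (Fin 2) F → ℂ}
    (hf : ∀ a b : Matrix.SpecialLinearGroup (Fin 2) F, IsConj a b → f a = f b)
    (ε : F) (hε : ¬ IsSquare ε) (c : F) (hc : c ≠ 0) :
    uC ψ f c = uC ψ f 1 ∨ uC ψ f c = uC ψ f ε := by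
  by_cases hsq : IsSquare c
  · left
    exact sqclass_odd_sq (uC ψ f) (fun c a ha => uC_sq ψ hf c a ha) c hc hsq
  · right
    exact sqclass_odd_nsq ε hε (uC ψ f) (fun c a ha => uC_sq ψ hf c a ha) c hsq

end Unip'

end Cfsg.Agent.Lib.Helper39
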