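import Mathlib
import Cfsg.Prelude.Def_Characters
import Cfsg.Prelude.Def_ParabolicCharacters
import Cfsg.Agent.Lib.Helper39.SL2Conj

set_option autoImplicit false

namespace Cfsg.Agent.Lib.Helper39

open Matrix Representation
open scoped ComplexConjugate

universe u

section Gen

variable {G : Type u} [Group G] [Fintype G]

/-- a non-zero character has an irreducible constituent. -/
theorem exists_irr_constituent {π : G → ℂ} (hπ : Cfsg.IsCharacter G π) (h1 : π 1 ≠ 0) :
    ∃ χ : G → ℂ, Cfsg.IsIrrCharacter G χ ∧ Cfsg.classInner π χ ≠ 0 := by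
  classical
  have hfin := Cfsg.Agent.Lib.Helper3.irr_finite (G := G)
  letI : Fintype (Cfsg.IrrCharacter G) := Fintype.ofFinite _
  obtain ⟨m, hm, hsum⟩ := Cfsg.Agent.Lib.Helper75.char_eq_sum_irr hπ
  by_contra hcon
  push Not at hcon
  have h0 : ∀ ψ : Cfsg.IrrCharacter G, m ψ = 0 := by
    intro ψ
    have h3 := hcon ψ.1 ψ.2
    rw [hm ψ] at h3
    exact_mod_cast h3
  apply h1
  rw [hsum]
  simp [h0]

end Gen

section Split

variable {F : Type u} [Field F] [Fintype F] [DecidableEq F]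

/-- the values of the principal series characters of `SL₂` on the unipotent subgroup. -/
theorem indFun_lamS_tSL (α : MulChar F ℂ) (x : F) :
    Cfsg.indFun (borelS F) (lamS α) (tSL x) = 1 + if x = 0 then (Fintype.card F : ℂ) else 0 := by
  by_cases hx : x = 0
  · subst hx
    rw [tSL_zero, indFun_lamS_one, if_pos rfl]
    ring
  · rw [indFun_lamS_unip α (tSL x) (by rw [tSL_coe]; simp) (by rw [tSL_coe]; simp)
      (by rw [tSL_coe]; simpa using hx), if_neg hx, tSL_coe]
    simp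

/-- the non-trivial Fourier coefficients of a principal series character of `SL₂` on the
unipotent subgroup are equal to one. -/
theorem uC_indFun_lamS (ψ : AddChar F ℂ) (hψ : ψ ≠ 1) (α : MulChar F ℂ) (c : F) (hc : c ≠ 0) :
    uC ψ (Cfsg.indFun (borelS F) (lamS α)) c = 1 := by
  unfold uC fhat
  simp only [indFun_lamS_tSL, mul_add, mul_one, Finset.sum_add_distrib]
  have h1 : ∑ x : F, ψ (-(c * x)) = 0 := by
    have h := sum_addChar_mul ψ hψ (-c)
    rw [if_neg (neg_ne_zero.mpr hc)] at h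
    rw [← h]
    refine Finset.sum_congr rfl (fun x _ => ?_)
    congr 1
    ring
  have h2 : ∑ x : F, ψ (-(c * x)) * (if x = 0 then (Fintype.card F : ℂ) else 0) =
      (Fintype.card F : ℂ) := by
    rw [Finset.sum_eq_single 0]
    · simp
    · intro x _ hx
      rw [if_neg hx, mul_zero]
    · intro h
      exact absurd (Finset.mem_univ _) h
  rw [h1, h2, mul_zero, zero_add]
  exact inv_mul_cancel₀ card_ne_zero_complex

/-- a principal series character of `SL₂` for a non-trivial character is orthogonal to the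
constants. -/
theorem classInner_indFun_lamS_const (α : MulChar F ℂ) (hα1 : α ≠ 1) (c : ℂ) :
    Cfsg.classInner (Cfsg.indFun (borelS F) (lamS α)) (fun _ => c) = 0 := by
  classical
  letI : Fintype (borelS F) := Fintype.ofEquiv _ sbEquiv
  rw [Cfsg.Agent.Lib.Helper3.frobenius_reciprocity _ _ _ (fun _ _ => rfl)]
  unfold Cfsg.classInner
  have h1 : ∑ b : borelS F, lamS α b * conj c = ∑ p : Fˣ × F, α (p.1 : F) * conj c := by
    symm
    refine Fintype.sum_equiv sbEquiv _ _ (fun p => ?_)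
    rw [lamS_sbEquiv]
  rw [h1, Fintype.sum_prod_type]
  simp only [Finset.sum_const, Finset.card_univ, nsmul_eq_mul]
  rw [← Finset.mul_sum, ← Finset.sum_mul, mulChar_sum_units, if_neg hα1]
  simp

/-- a constant character which is a summand of a principal series character of `SL₂` for a
non-trivial character vanishes. -/
theorem const_char_zero (α : MulChar F ℂ) (hα1 : α ≠ 1)
    {χ' θ : Matrix.SpecialLinearGroup (Fin 2) F → ℂ}
    (hχ' : Cfsg.IsCharacter (Matrix.SpecialLinearGroup (Fin 2) F) χ')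
    (hθ : Cfsg.IsCharacter (Matrix.SpecialLinearGroup (Fin 2) F) θ)
    (hconst : ∀ g, θ g = θ 1)
    (hπ : Cfsg.indFun (borelS F) (lamS α) = χ' + θ) : θ = 0 := by
  obtain ⟨n, hn⟩ := isCharacter_one_nat hθ
  have hθf : θ = fun _ => (n : ℂ) := funext fun g => by rw [hconst g, hn]
  have h1 : Cfsg.classInner (Cfsg.indFun (borelS F) (lamS α)) θ = 0 := by
    rw [hθf]
    exact classInner_indFun_lamS_const α hα1 _
  obtain ⟨j, hj⟩ := Cfsg.Agent.Lib.Helper75.classInner_char_nat hχ' hθ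
  have h2 : Cfsg.classInner θ θ = (n : ℂ) * n := by
    rw [hθf]
    unfold Cfsg.classInner
    simp only [Finset.sum_const, Finset.card_univ, nsmul_eq_mul, Complex.conj_natCast]
    rw [Nat.card_eq_fintype_card, ← mul_assoc, inv_mul_cancel₀, one_mul]
    have := Fintype.card_pos (α := Matrix.SpecialLinearGroup (Fin 2) F)
    exact_mod_cast this.ne'
  rw [hπ, Cfsg.Agent.Lib.Helper75.classInner_add_left, hj, h2] at h1
  have h3 : j + n * n = 0 := by exact_mod_cast h1
  have hn0 : n = 0 := by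
    have : n * n = 0 := by omega
    exact mul_self_eq_zero.mp this
  apply isCharacter_eq_zero_of_one hθ
  rw [hn, hn0]
  simp

/-- Over a finite field of odd order, the principal series character of `SL₂` for the
character of order two is the sum of two distinct irreducible characters, conjugate under
`diag(e, 1)`. -/
theorem sl2_split (hodd : Odd (Fintype.card F)) (α : MulChar F ℂ) (hα : α ^ 2 = 1)
    (hα1 : α ≠ 1) :
    ∃ (χ₁ : Matrix.SpecialLinearGroup (Fin 2) F → ℂ) (e : Fˣ),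
      Cfsg.IsIrrCharacter (Matrix.SpecialLinearGroup (Fin 2) F) χ₁ ∧
      Cfsg.IsIrrCharacter (Matrix.SpecialLinearGroup (Fin 2) F) (fun g => χ₁ (dconj e g)) ∧
      (fun g => χ₁ (dconj e g)) ≠ χ₁ ∧
      Cfsg.indFun (borelS F) (lamS α) = χ₁ + fun g => χ₁ (dconj e g) := by
  classical
  have h2 : ringChar F ≠ 2 := by
    intro hc
    have := FiniteField.even_card_of_char_two hc
    have := Nat.odd_iff.mp hodd
    omega
  obtain ⟨r, hr⟩ : ∃ r : ℕ, Fintype.card F = 2 * r + 1 := ⟨Fintype.card F / 2, by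
    have := Nat.odd_iff.mp hodd
    omega⟩
  obtain ⟨ψ, hψ⟩ := exists_addChar_ne_one (F := F)
  obtain ⟨ε, hε⟩ := exists_nonsquare_aux h2
  have hε0 : ε ≠ 0 := by
    rintro rfl
    exact hε ⟨0, by simp⟩
  have hπ : Cfsg.IsCharacter (Matrix.SpecialLinearGroup (Fin 2) F)
      (Cfsg.indFun (borelS F) (lamS α)) := isCharacter_indFun_lamS α
  have hπ1 : Cfsg.indFun (borelS F) (lamS α) 1 ≠ 0 := by
    rw [indFun_lamS_one]
    have h3 : ((Fintype.card F + 1 : ℕ) : ℂ) ≠ 0 := by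
      exact_mod_cast Nat.succ_ne_zero (Fintype.card F)
    push_cast at h3
    exact h3
  obtain ⟨χ₁, hχ₁, hne⟩ := exists_irr_constituent hπ hπ1
  have hχ₁c := Cfsg.Agent.Lib.Helper3.isCharacter_of_irr hχ₁
  have hχ₁cl : ∀ a b : Matrix.SpecialLinearGroup (Fin 2) F, IsConj a b → χ₁ a = χ₁ b :=
    fun a b hab => isCharacter_isConj hχ₁c hab
  obtain ⟨m, k₁, k₂, hu0, hu1, hue⟩ : ∃ m k₁ k₂ : ℕ, uC ψ χ₁ 0 = (m : ℂ) ∧
      uC ψ χ₁ 1 = (k₁ : ℂ) ∧ uC ψ χ₁ ε = (k₂ : ℂ) := by
    obtain ⟨n, ρ, hirr, hρ⟩ := hχ₁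
    haveI := hirr
    obtain ⟨m, k₁, k₂, hu0, hu1, hue, -⟩ := sl2_unip_odd' h2 r hr ψ hψ ε hε ρ
    rw [hρ] at hu0 hu1 hue
    exact ⟨m, k₁, k₂, hu0, hu1, hue⟩
  have hθ' := isCharacter_sub_irr hπ hχ₁ hne
  obtain ⟨j₁, j₂, hj₁, hj₂⟩ : ∃ j₁ j₂ : ℕ, (1 : ℂ) - k₁ = j₁ ∧ (1 : ℂ) - k₂ = j₂ := by
    obtain ⟨n', ρ', hρ'⟩ := hθ'
    obtain ⟨j₁, hj₁, -⟩ := uC_nat ψ ρ' 1
    obtain ⟨j₂, hj₂, -⟩ := uC_nat ψ ρ' ε
    rw [hρ', uC_sub, uC_indFun_lamS ψ hψ α 1 one_ne_zero, hu1] at hj₁
    rw [hρ', uC_sub, uC_indFun_lamS ψ hψ α ε hε0, hue] at hj₂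
    exact ⟨j₁, j₂, hj₁, hj₂⟩
  have hk1 : k₁ + j₁ = 1 := by
    have : ((k₁ + j₁ : ℕ) : ℂ) = ((1 : ℕ) : ℂ) := by push_cast; linear_combination -hj₁
    exact_mod_cast this
  have hk2 : k₂ + j₂ = 1 := by
    have : ((k₂ + j₂ : ℕ) : ℂ) = ((1 : ℕ) : ℂ) := by push_cast; linear_combination -hj₂
    exact_mod_cast this
  have hk12 : k₁ ≠ k₂ := by
    intro h12
    rcases Nat.eq_zero_or_pos k₁ with h0 | h0
    · have hc : ∀ c : F, c ≠ 0 → uC ψ χ₁ c = 0 := by
        intro c hc
        rcases uC_sqclass ψ hχ₁cl ε hε c hc with h | h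
        · rw [h, hu1, h0]
          simp
        · rw [h, hue, ← h12, h0]
          simp
      have hconst : ∀ g, χ₁ g = χ₁ 1 :=
        char_const_of_unip hχ₁c (unip_const_of_uC ψ hψ χ₁ hc)
      apply hne
      have h3 : χ₁ = fun _ => χ₁ 1 := funext hconst
      rw [h3]
      exact classInner_indFun_lamS_const α hα1 _
    · have hk1' : k₁ = 1 := by omega
      have hcl : ∀ a b : Matrix.SpecialLinearGroup (Fin 2) F, IsConj a b →
          (Cfsg.indFun (borelS F) (lamS α) - χ₁) a = (Cfsg.indFun (borelS F) (lamS α) - χ₁) b :=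
        fun a b hab => isCharacter_isConj hθ' hab
      have hc : ∀ c : F, c ≠ 0 → uC ψ (Cfsg.indFun (borelS F) (lamS α) - χ₁) c = 0 := by
        intro c hc
        rcases uC_sqclass ψ hcl ε hε c hc with h | h
        · rw [h, uC_sub, uC_indFun_lamS ψ hψ α 1 one_ne_zero, hu1, hk1']
          simp
        · rw [h, uC_sub, uC_indFun_lamS ψ hψ α ε hε0, hue, ← h12, hk1']
          simp
      have hconst := char_const_of_unip hθ' (unip_const_of_uC ψ hψ _ hc)
      have h0 := const_char_zero α hα1 hχ₁c hθ' hconst (by simp)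
      have hπχ : Cfsg.indFun (borelS F) (lamS α) = χ₁ := by
        funext g
        have h3 := congrFun h0 g
        simp only [Pi.sub_apply, Pi.zero_apply] at h3
        linear_combination h3
      have hnorm := classInner_indFun_lamS α
      rw [if_pos hα, hπχ, Cfsg.Agent.Lib.Helper3.classInner_irr_self hχ₁] at hnorm
      norm_num at hnorm
  have hk : uC ψ χ₁ 1 ≠ uC ψ χ₁ ((Units.mk0 ε hε0 : Fˣ) : F) := by
    rw [Units.val_mk0, hu1, hue]
    exact_mod_cast hk12
  obtain ⟨hirr₂, hne₂, hθ''⟩ := sl2_twin ψ (Units.mk0 ε hε0) hχ₁ α hne hk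
  refine ⟨χ₁, Units.mk0 ε hε0, hχ₁, hirr₂, hne₂, ?_⟩
  have hk12' : k₁ + k₂ = 1 := by omega
  have hk12c : (k₁ : ℂ) + k₂ = 1 := by exact_mod_cast hk12'
  have hu1' : uC ψ (fun g => χ₁ (dconj (Units.mk0 ε hε0) g)) 1 = (k₂ : ℂ) := by
    rw [uC_dconj, one_mul, Units.val_mk0, hue]
  have hue' : uC ψ (fun g => χ₁ (dconj (Units.mk0 ε hε0) g)) ε = (k₁ : ℂ) := by
    rw [uC_dconj, Units.val_mk0]
    have h3 := uC_sq ψ hχ₁cl 1 ε hε0
    rw [one_mul, sq] at h3
    rw [h3, hu1]
  have hcl : ∀ a b : Matrix.SpecialLinearGroup (Fin 2) F, IsConj a b →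
      (Cfsg.indFun (borelS F) (lamS α) - χ₁ - fun g => χ₁ (dconj (Units.mk0 ε hε0) g)) a =
      (Cfsg.indFun (borelS F) (lamS α) - χ₁ - fun g => χ₁ (dconj (Units.mk0 ε hε0) g)) b :=
    fun a b hab => isCharacter_isConj hθ'' hab
  have hc : ∀ c : F, c ≠ 0 → uC ψ (Cfsg.indFun (borelS F) (lamS α) - χ₁ -
      fun g => χ₁ (dconj (Units.mk0 ε hε0) g)) c = 0 := by
    intro c hc
    rcases uC_sqclass ψ hcl ε hε c hc with h | h
    · rw [h, uC_sub, uC_sub, uC_indFun_lamS ψ hψ α 1 one_ne_zero, hu1, hu1']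
      linear_combination -hk12c
    · rw [h, uC_sub, uC_sub, uC_indFun_lamS ψ hψ α ε hε0, hue, hue']
      linear_combination -hk12c
  have hconst := char_const_of_unip hθ'' (unip_const_of_uC ψ hψ _ hc)
  have h0 := const_char_zero α hα1
    (Cfsg.Agent.Lib.Helper75.isCharacter_add hχ₁c (Cfsg.Agent.Lib.Helper3.isCharacter_of_irr hirr₂))
    hθ'' hconst (by
      funext g
      simp only [Pi.add_apply, Pi.sub_apply]
      ring)
  funext g
  have h3 := congrFun h0 g
  simp only [Pi.sub_apply, Pi.zero_apply] at h3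
  simp only [Pi.add_apply]
  linear_combination h3

end Split

end Cfsg.Agent.Lib.Helper39
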