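import Mathlib
import Cfsg.Prelude.Def_Characters
import Cfsg.Prelude.Def_ParabolicCharacters
import Cfsg.Agent.Lib.Helper39.SL2Conj

set_option autoImplicit false

namespace Cfsg.Agent.Lib.Helper39

open Matrix Representation
open scoped ComplexConjugate

universe u

section Types

variable {F : Type u} [Field F] [Fintype F] [DecidableEq F]

/-- the restriction to the unipotent subgroup of the irreducible characters of `SL₂(q)`,
`q ≥ 5` odd, of the degrees `q + 1`, `q`, `q - 1`, `(q + 1) / 2`, `(q - 1) / 2`. -/
theorem sl2_type_odd (h2 : ringChar F ≠ 2) (r : ℕ) (hr : Fintype.card F = 2 * r + 1)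
    (hr2 : 2 ≤ r) (ψ : AddChar F ℂ) (hψ : ψ ≠ 1) (ε : F) (hε : ¬ IsSquare ε) (n : ℕ)
    (ρ : Representation ℂ (Matrix.SpecialLinearGroup (Fin 2) F) (Fin n → ℂ)) [ρ.IsIrreducible] :
    ∃ m k₁ k₂ : ℕ, uC ψ ρ.character 0 = (m : ℂ) ∧ uC ψ ρ.character 1 = (k₁ : ℂ) ∧
      uC ψ ρ.character ε = (k₂ : ℂ) ∧
      (∑ x : F, ρ.character (tSL x) = (Fintype.card F : ℂ) * m) ∧
      (m = 0 → ∑ x : F, ρ (tSL x) = 0) ∧
      (n = 2 * r + 2 → m = 2 ∧ k₁ = 1 ∧ k₂ = 1) ∧
      (n = 2 * r + 1 → m = 1 ∧ k₁ = 1 ∧ k₂ = 1) ∧
      (n = 2 * r → m = 0 ∧ k₁ = 1 ∧ k₂ = 1) ∧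
      (n = r + 1 → m = 1 ∧ k₁ + k₂ = 1) ∧
      (n = r → m = 0 ∧ k₁ + k₂ = 1) := by
  have hfr : Module.finrank ℂ (Fin n → ℂ) = n := by simp
  obtain ⟨m, k₁, k₂, hu0, hu1, hue, hdeg, -, hs, hm0, hN, -⟩ :=
    sl2_unip_odd' h2 r hr ψ hψ ε hε ρ
  rw [hfr] at hdeg hN
  refine ⟨m, k₁, k₂, hu0, hu1, hue, hs, hm0, ?_, ?_, ?_, ?_, ?_⟩
  · intro hn1
    subst hn1
    have hk1 : k₁ ≤ 3 := by
      by_contra hk
      have hk3 : 4 ≤ k₁ := by omega
      nlinarith
    have hk2 : k₂ ≤ 3 := by
      by_contra hk
      have hk3 : 4 ≤ k₂ := by omega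
      nlinarith
    interval_cases k₁ <;> interval_cases k₂ <;>
      first
      | (have hm : m = 2 := by omega
         exact ⟨hm, rfl, rfl⟩)
      | (exfalso; nlinarith)
      | (exfalso
         have hm : m + 3 * r = 2 * r + 2 := by omega
         have hr' : r = 2 := by omega
         have hm' : m = 0 := by omega
         subst hr' hm'
         omega)
      | (exfalso
         have hm : m = r + 2 := by omega
         subst hm
         nlinarith)
      | (exfalso
         have hm : m = 2 := by omega
         subst hm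
         nlinarith)
      | (exfalso
         have hm : m = 2 * r + 2 := by omega
         subst hm
         nlinarith)
  · intro hn1
    subst hn1
    have hk1 : k₁ ≤ 2 := by
      by_contra hk
      have hk3 : 3 ≤ k₁ := by omega
      nlinarith
    have hk2 : k₂ ≤ 2 := by
      by_contra hk
      have hk3 : 3 ≤ k₂ := by omega
      nlinarith
    interval_cases k₁ <;> interval_cases k₂ <;>
      first
      | (have hm : m = 1 := by omega
         exact ⟨hm, rfl, rfl⟩)
      | (exfalso; omega)
      | (exfalso
         have hm : m = 2 * r + 1 := by omega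
         subst hm
         nlinarith)
      | (exfalso
         have hm : m = r + 1 := by omega
         subst hm
         nlinarith)
      | (exfalso
         have hm : m = 1 := by omega
         subst hm
         nlinarith)
  · intro hn1
    subst hn1
    have hk1 : k₁ ≤ 2 := by
      by_contra hk
      have hk3 : 3 ≤ k₁ := by omega
      nlinarith
    have hk2 : k₂ ≤ 2 := by
      by_contra hk
      have hk3 : 3 ≤ k₂ := by omega
      nlinarith
    interval_cases k₁ <;> interval_cases k₂ <;>
      first
      | (have hm : m = 0 := by omega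
         exact ⟨hm, rfl, rfl⟩)
      | (exfalso; omega)
      | (exfalso
         have hm : m = 2 * r := by omega
         subst hm
         nlinarith)
      | (exfalso
         have hm : m = r := by omega
         subst hm
         nlinarith)
      | (exfalso
         have hm : m = 0 := by omega
         subst hm
         nlinarith)
  · intro hn1
    subst hn1
    have hk1 : k₁ ≤ 2 := by
      by_contra hk
      have hk3 : 3 ≤ k₁ := by omega
      nlinarith
    have hk2 : k₂ ≤ 2 := by
      by_contra hk
      have hk3 : 3 ≤ k₂ := by omega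
      nlinarith
    interval_cases k₁ <;> interval_cases k₂ <;>
      first
      | (have hm : m = 1 := by omega
         exact ⟨hm, rfl⟩)
      | (exfalso; omega)
      | (exfalso
         have hm : m = r + 1 := by omega
         subst hm
         nlinarith)
  · intro hn1
    subst hn1
    have hk1 : k₁ ≤ 1 := by
      by_contra hk
      have hk3 : 2 ≤ k₁ := by omega
      nlinarith
    have hk2 : k₂ ≤ 1 := by
      by_contra hk
      have hk3 : 2 ≤ k₂ := by omega
      nlinarith
    interval_cases k₁ <;> interval_cases k₂ <;>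
      first
      | (have hm : m = 0 := by omega
         exact ⟨hm, rfl⟩)
      | (exfalso; omega)
      | (exfalso
         have hm : m = n := by omega
         subst hm
         nlinarith)

/-- the sum of a function over the upper unitriangular matrices of `SL₂`. -/
theorem sum_unitriangular (f : Matrix.SpecialLinearGroup (Fin 2) F → ℂ) :
    (∑ g : Matrix.SpecialLinearGroup (Fin 2) F,
      if (g : Matrix (Fin 2) (Fin 2) F) 1 0 = 0 ∧ (g : Matrix (Fin 2) (Fin 2) F) 0 0 = 1 ∧
        (g : Matrix (Fin 2) (Fin 2) F) 1 1 = 1 then f g else 0) = ∑ x : F, f (tSL x) := by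
  have hinj : Function.Injective (tSL (F := F)) := by
    intro x y hxy
    have h1 := congrArg (fun g : Matrix.SpecialLinearGroup (Fin 2) F =>
      (g : Matrix (Fin 2) (Fin 2) F) 0 1) hxy
    simpa [tSL_coe] using h1
  rw [← Finset.sum_filter]
  symm
  rw [← Finset.sum_image (s := Finset.univ) (g := tSL (F := F)) (f := f)
    (fun x _ y _ hxy => hinj hxy)]
  refine Finset.sum_congr ?_ (fun _ _ => rfl)
  ext g
  simp only [Finset.mem_image, Finset.mem_univ, true_and, Finset.mem_filter]
  constructor
  · rintro ⟨x, rfl⟩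
    rw [tSL_coe]
    simp
  · rintro ⟨h10, h00, h11⟩
    refine ⟨(g : Matrix (Fin 2) (Fin 2) F) 0 1, ?_⟩
    apply Subtype.ext
    rw [tSL_coe]
    ext i j
    fin_cases i <;> fin_cases j <;> simp [h10, h00, h11]

end Types

end Cfsg.Agent.Lib.Helper39
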