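import Mathlib
import Cfsg.Prelude.Def_Characters
import Cfsg.Prelude.Def_ParabolicCharacters
import Cfsg.Agent.Lib.Helper39.SL2Split
import Cfsg.Agent.Lib.Helper39.SL2Types
import Cfsg.Agent.Lib.Helper81.CharCore

set_option autoImplicit false

namespace Cfsg.Agent.Lib.Helper39

open Matrix Representation
open scoped ComplexConjugate

universe u

section Quad

variable {F : Type u} [Field F] [Fintype F] [DecidableEq F]

/-- a multiplicative character of order two is the quadratic character. -/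
theorem quad_mulChar (α : MulChar F ℂ) (hα : α ^ 2 = 1) (hα1 : α ≠ 1) (a : F) (ha : a ≠ 0) :
    (IsSquare a → α a = 1) ∧ (¬ IsSquare a → α a = -1) := by
  have h1 : ∀ b : F, b ≠ 0 → α b ^ 2 = 1 := by
    intro b hb
    have h := congrArg (fun β : MulChar F ℂ => β b) hα
    simp only [MulChar.pow_apply' _ two_ne_zero] at h
    rw [h, MulChar.one_apply (isUnit_iff_ne_zero.mpr hb)]
  have hsq : ∀ c b : F, b ≠ 0 → α (c * b ^ 2) = α c := by
    intro c b hb
    rw [map_mul, map_pow, h1 b hb, mul_one]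
  have hS : ∀ b : F, b ≠ 0 → IsSquare b → α b = 1 := by
    intro b hb hbs
    obtain ⟨c, rfl⟩ := hbs
    have hc : c ≠ 0 := by
      rintro rfl
      simp at hb
    rw [map_mul, ← sq, h1 c hc]
  obtain ⟨b₀, hb₀, hb₀1⟩ : ∃ b₀ : F, b₀ ≠ 0 ∧ α b₀ ≠ 1 := by
    by_contra hcon
    push Not at hcon
    apply hα1
    apply MulChar.ext
    intro u
    rw [hcon (u : F) u.ne_zero, MulChar.one_apply_coe]
  have hb₀ns : ¬ IsSquare b₀ := fun h => hb₀1 (hS b₀ hb₀ h)
  have hb₀v : α b₀ = -1 := by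
    have h := h1 b₀ hb₀
    have h3 : (α b₀ - 1) * (α b₀ + 1) = 0 := by linear_combination h
    rcases mul_eq_zero.mp h3 with h4 | h4
    · exact absurd (sub_eq_zero.mp h4) hb₀1
    · linear_combination h4
  refine ⟨fun h => hS a ha h, fun h => ?_⟩
  rw [sqclass_odd_nsq b₀ hb₀ns (fun c => α c) hsq a h, hb₀v]

theorem quad_mulChar_unique (α β : MulChar F ℂ) (hα : α ^ 2 = 1) (hα1 : α ≠ 1)
    (hβ : β ^ 2 = 1) (hβ1 : β ≠ 1) : α = β := by
  apply MulChar.ext
  intro u
  by_cases h : IsSquare (u : F)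
  · rw [(quad_mulChar α hα hα1 u u.ne_zero).1 h, (quad_mulChar β hβ hβ1 u u.ne_zero).1 h]
  · rw [(quad_mulChar α hα hα1 u u.ne_zero).2 h, (quad_mulChar β hβ hβ1 u u.ne_zero).2 h]

/-- the principal series character of `SL₂` for the trivial character contains the trivial
character once. -/
theorem classInner_indFun_lamS_one_one :
    Cfsg.classInner (Cfsg.indFun (borelS F) (lamS (1 : MulChar F ℂ))) (fun _ => (1 : ℂ)) = 1 := by
  classical
  letI : Fintype (borelS F) := Fintype.ofEquiv _ sbEquiv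
  rw [Cfsg.Agent.Lib.Helper3.frobenius_reciprocity _ _ _ (fun _ _ => rfl)]
  unfold Cfsg.classInner
  have h1 : ∑ b : borelS F, lamS (1 : MulChar F ℂ) b * conj (1 : ℂ) =
      ∑ p : Fˣ × F, (1 : ℂ) := by
    symm
    refine Fintype.sum_equiv sbEquiv _ _ (fun p => ?_)
    rw [lamS_sbEquiv, MulChar.one_apply_coe]
    simp
  rw [h1, Finset.sum_const, Finset.card_univ, nsmul_eq_mul, mul_one,
    Nat.card_congr (sbEquiv (F := F)).symm, Nat.card_eq_fintype_card]
  apply inv_mul_cancel₀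
  have := Fintype.card_pos (α := Fˣ × F)
  exact_mod_cast this.ne'

end Quad

section Half

variable {F : Type u} [Field F] [Fintype F] [DecidableEq F]

/-- an irreducible character of `SL₂(q)`, `q ≥ 5` odd, of degree `(q + 1) / 2` is one of the two
constituents of the principal series character for the character of order two. -/
theorem sl2_half_twin (h2 : ringChar F ≠ 2) (r : ℕ) (hr : Fintype.card F = 2 * r + 1)
    (hr2 : 2 ≤ r) (ε : Fˣ) (hε : ¬ IsSquare (ε : F))
    (ρ : Representation ℂ (Matrix.SpecialLinearGroup (Fin 2) F) (Fin (r + 1) → ℂ))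
    [hirr : ρ.IsIrreducible] :
    ∃ α : MulChar F ℂ, α ^ 2 = 1 ∧ α ≠ 1 ∧
      Cfsg.indFun (borelS F) (lamS α) = ρ.character + fun g => ρ.character (dconj ε g) := by
  classical
  obtain ⟨ψ, hψ⟩ := exists_addChar_ne_one (F := F)
  obtain ⟨m, k₁, k₂, hu0, hu1, hue, hs, -, -, -, -, t4, -⟩ :=
    sl2_type_odd h2 r hr hr2 ψ hψ (ε : F) hε (r + 1) ρ
  obtain ⟨hm, hk⟩ := t4 rfl
  have hn : ρ.character 1 = ((r + 1 : ℕ) : ℂ) := by rw [char_one]; simp
  have hχc : Cfsg.IsCharacter (Matrix.SpecialLinearGroup (Fin 2) F) ρ.character :=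
    ⟨r + 1, ρ, rfl⟩
  have hχi : Cfsg.IsIrrCharacter (Matrix.SpecialLinearGroup (Fin 2) F) ρ.character :=
    ⟨r + 1, ρ, hirr, rfl⟩
  obtain ⟨α, hne⟩ := exists_principal_S
    (Cfsg.Agent.Lib.Helper3.isClassFunction_of_isCharacter hχc) (by
      rw [hs, hm]
      apply mul_ne_zero
      · exact_mod_cast (Fintype.card_pos (α := F)).ne'
      · norm_num)
  have hk12 : uC ψ ρ.character 1 ≠ uC ψ ρ.character (ε : F) := by
    rw [hu1, hue]
    have : k₁ ≠ k₂ := by omega
    exact_mod_cast this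
  obtain ⟨hirr', hne', hθ⟩ := sl2_twin ψ ε hχi α hne hk12
  have hθ1 : (Cfsg.indFun (borelS F) (lamS α) - ρ.character -
      fun g => ρ.character (dconj ε g)) 1 = 0 := by
    rw [Pi.sub_apply, Pi.sub_apply, indFun_lamS_one, map_one, hn, hr]
    push_cast
    ring
  have h0 := isCharacter_eq_zero_of_one hθ hθ1
  have hsum : Cfsg.indFun (borelS F) (lamS α) =
      ρ.character + fun g => ρ.character (dconj ε g) := by
    funext g
    have h3 := congrFun h0 g
    simp only [Pi.sub_apply, Pi.zero_apply] at h3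
    simp only [Pi.add_apply]
    linear_combination h3
  refine ⟨α, ?_, ?_, hsum⟩
  · by_contra hα
    have hnorm := classInner_indFun_lamS α
    rw [if_neg hα] at hnorm
    have hfin := Cfsg.Agent.Lib.Helper3.irr_finite
      (G := Matrix.SpecialLinearGroup (Fin 2) F)
    letI : Fintype (Cfsg.IrrCharacter (Matrix.SpecialLinearGroup (Fin 2) F)) :=
      Fintype.ofFinite _
    have hπirr := Cfsg.Agent.Lib.Helper75.isIrrCharacter_of_classInner_self
      (isCharacter_indFun_lamS α) hnorm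
    have heq : Cfsg.indFun (borelS F) (lamS α) = ρ.character := by
      by_contra hneq
      exact hne (Cfsg.Agent.Lib.Helper3.classInner_irr_ne hπirr hχi hneq)
    have h1 := congrFun heq 1
    rw [indFun_lamS_one, hn, hr] at h1
    have h5 : ((2 * r + 1 + 1 : ℕ) : ℂ) = ((r + 1 : ℕ) : ℂ) := by
      push_cast
      push_cast at h1
      linear_combination h1
    have h6 : 2 * r + 1 + 1 = r + 1 := by exact_mod_cast h5
    omega
  · rintro rfl
    have h1 := classInner_indFun_lamS_one_one (F := F)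
    rw [hsum, Cfsg.Agent.Lib.Helper75.classInner_add_left] at h1
    have hone := Cfsg.Agent.Lib.Helper81.isIrrCharacter_one
      (G := Matrix.SpecialLinearGroup (Fin 2) F)
    have hdeg : ∀ χ : Matrix.SpecialLinearGroup (Fin 2) F → ℂ, χ 1 = ((r + 1 : ℕ) : ℂ) →
        χ ≠ fun _ => (1 : ℂ) := by
      intro χ hχ1 heq
      rw [heq] at hχ1
      have h7 : ((1 : ℕ) : ℂ) = ((r + 1 : ℕ) : ℂ) := by
        rw [← hχ1]
        simp
      have h6 : (1 : ℕ) = r + 1 := by exact_mod_cast h7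
      omega
    rw [Cfsg.Agent.Lib.Helper3.classInner_irr_ne hχi hone (hdeg _ hn),
      Cfsg.Agent.Lib.Helper3.classInner_irr_ne hirr' hone
        (hdeg _ (by change ρ.character (dconj ε 1) = _; rw [map_one, hn]))] at h1
    norm_num at h1

/-- two distinct irreducible characters of `SL₂(q)`, `q ≥ 5` odd, of degree `(q + 1) / 2` are
conjugate under `diag(ε, 1)`. -/
theorem sl2_half_conj (h2 : ringChar F ≠ 2) (r : ℕ) (hr : Fintype.card F = 2 * r + 1)
    (hr2 : 2 ≤ r) (ε : Fˣ) (hε : ¬ IsSquare (ε : F))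
    (ρ₁ ρ₂ : Representation ℂ (Matrix.SpecialLinearGroup (Fin 2) F) (Fin (r + 1) → ℂ))
    [hirr₁ : ρ₁.IsIrreducible] [hirr₂ : ρ₂.IsIrreducible] (hne : ρ₁.character ≠ ρ₂.character) :
    ρ₂.character = fun g => ρ₁.character (dconj ε g) := by
  obtain ⟨α₁, hα₁, hα₁1, hs₁⟩ := sl2_half_twin h2 r hr hr2 ε hε ρ₁
  obtain ⟨α₂, hα₂, hα₂1, hs₂⟩ := sl2_half_twin h2 r hr hr2 ε hε ρ₂
  have hαeq : α₁ = α₂ := quad_mulChar_unique α₁ α₂ hα₁ hα₁1 hα₂ hα₂1
  subst hαeq
  have hχ₁ : Cfsg.IsIrrCharacter (Matrix.SpecialLinearGroup (Fin 2) F) ρ₁.character :=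
    ⟨r + 1, ρ₁, hirr₁, rfl⟩
  have hχ₂ : Cfsg.IsIrrCharacter (Matrix.SpecialLinearGroup (Fin 2) F) ρ₂.character :=
    ⟨r + 1, ρ₂, hirr₂, rfl⟩
  have hχ₁' : Cfsg.IsIrrCharacter (Matrix.SpecialLinearGroup (Fin 2) F)
      (fun g => ρ₁.character (dconj ε g)) :=
    Cfsg.Agent.Lib.Helper81.isIrrCharacter_comp_mulEquiv (dconj ε) hχ₁
  have hχ₂' : Cfsg.IsIrrCharacter (Matrix.SpecialLinearGroup (Fin 2) F)
      (fun g => ρ₂.character (dconj ε g)) :=
    Cfsg.Agent.Lib.Helper81.isIrrCharacter_comp_mulEquiv (dconj ε) hχ₂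
  by_contra hcon
  -- `ρ₂.character` is orthogonal to both constituents
  have e1 : Cfsg.classInner (Cfsg.indFun (borelS F) (lamS α₁)) ρ₂.character = 0 := by
    rw [hs₁, Cfsg.Agent.Lib.Helper75.classInner_add_left,
      Cfsg.Agent.Lib.Helper3.classInner_irr_ne hχ₁ hχ₂ hne,
      Cfsg.Agent.Lib.Helper3.classInner_irr_ne hχ₁' hχ₂ (fun h => hcon h.symm)]
    simp
  have e2 : Cfsg.classInner (Cfsg.indFun (borelS F) (lamS α₁)) ρ₂.character ≠ 0 := by
    rw [hs₂, Cfsg.Agent.Lib.Helper75.classInner_add_left,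
      Cfsg.Agent.Lib.Helper3.classInner_irr_self hχ₂]
    by_cases h : (fun g => ρ₂.character (dconj ε g)) = ρ₂.character
    · rw [h, Cfsg.Agent.Lib.Helper3.classInner_irr_self hχ₂]
      norm_num
    · rw [Cfsg.Agent.Lib.Helper3.classInner_irr_ne hχ₂' hχ₂ h]
      norm_num
  exact e2 e1

end Half

section Gauss

variable {F : Type u} [Field F] [Fintype F] [DecidableEq F]

/-- the quadratic Gauss sum -/
noncomputable def gsum (ψ : AddChar F ℂ) : ℂ :=
  ∑ c : F, ((quadraticChar F c : ℤ) : ℂ) * ψ c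

theorem gsum_sq (h2 : ringChar F ≠ 2) (ψ : AddChar F ℂ) (hψ : ψ ≠ 1) :
    gsum ψ ^ 2 = (-1 : ℂ) ^ ((Fintype.card F - 1) / 2) * (Fintype.card F : ℂ) := by
  have h1 : gsum ψ = gaussSum ((quadraticChar F).ringHomComp (Int.castRingHom ℂ)) ψ := by
    unfold gsum gaussSum
    rfl
  have hne : (quadraticChar F).ringHomComp (Int.castRingHom ℂ) ≠ 1 := by
    rw [MulChar.ringHomComp_ne_one_iff (RingHom.injective_int (Int.castRingHom ℂ))]
    exact quadraticChar_ne_one h2
  have hq : ((quadraticChar F).ringHomComp (Int.castRingHom ℂ)).IsQuadratic :=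
    (quadraticChar_isQuadratic F).comp _
  rw [h1, gaussSum_sq hne hq (AddChar.IsPrimitive.of_ne_one hψ)]
  congr 1
  have hodd := FiniteField.odd_card_of_char_ne_two h2
  rw [MulChar.ringHomComp_apply, quadraticChar_neg_one h2,
    ZMod.χ₄_eq_neg_one_pow hodd]
  have h5 : Fintype.card F / 2 = (Fintype.card F - 1) / 2 := by omega
  rw [h5]
  simp

/-- the value at the standard unipotent element of a class function on `SL₂(q)`, `q` odd, in
terms of its Fourier coefficients and the quadratic Gauss sum. -/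
theorem unip_value_gauss (h2 : ringChar F ≠ 2) (ψ : AddChar F ℂ) (hψ : ψ ≠ 1)
    {f : Matrix.SpecialLinearGroup (Fin 2) F → ℂ}
    (hf : ∀ a b : Matrix.SpecialLinearGroup (Fin 2) F, IsConj a b → f a = f b)
    (ε : F) (hε : ¬ IsSquare ε) :
    2 * f (tSL 1) = 2 * uC ψ f 0 - (uC ψ f 1 + uC ψ f ε) +
      (uC ψ f 1 - uC ψ f ε) * gsum ψ := by
  have hinv := fourier_inv ψ hψ (fun x => f (tSL x)) 1
  have hu : ∀ c : F, fhat ψ (fun x => f (tSL x)) c = uC ψ f c := fun c => rfl
  simp only [hu, mul_one] at hinv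
  rw [hinv, ← Finset.add_sum_erase Finset.univ _ (Finset.mem_univ (0 : F))]
  have hpt : ∀ c ∈ Finset.univ.erase (0 : F), uC ψ f c * ψ c =
      ((uC ψ f 1 + uC ψ f ε) / 2) * ψ c +
        ((uC ψ f 1 - uC ψ f ε) / 2) * (((quadraticChar F c : ℤ) : ℂ) * ψ c) := by
    intro c hc
    have hc0 : c ≠ 0 := Finset.ne_of_mem_erase hc
    rcases quadraticChar_dichotomy hc0 with h | h
    · rw [h, sqclass_odd_sq (uC ψ f) (fun c a ha => uC_sq ψ hf c a ha) c hc0
        ((quadraticChar_one_iff_isSquare hc0).mp h)]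
      push_cast
      ring
    · rw [h, sqclass_odd_nsq ε hε (uC ψ f) (fun c a ha => uC_sq ψ hf c a ha) c
        (quadraticChar_neg_one_iff_not_isSquare.mp h)]
      push_cast
      ring
  rw [Finset.sum_congr rfl hpt, Finset.sum_add_distrib, ← Finset.mul_sum, ← Finset.mul_sum]
  have hs1 : ∑ c ∈ Finset.univ.erase (0 : F), ψ c = -1 := by
    have h := AddChar.sum_eq_zero_of_ne_one hψ
    rw [← Finset.add_sum_erase Finset.univ _ (Finset.mem_univ (0 : F))] at h
    simp only [AddChar.map_zero_eq_one] at h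
    linear_combination h
  have hs2 : ∑ c ∈ Finset.univ.erase (0 : F), ((quadraticChar F c : ℤ) : ℂ) * ψ c = gsum ψ := by
    unfold gsum
    rw [← Finset.add_sum_erase Finset.univ _ (Finset.mem_univ (0 : F))]
    simp
  rw [hs1, hs2]
  simp only [zero_mul, AddChar.map_zero_eq_one, mul_one]
  ring

end Gauss

end Cfsg.Agent.Lib.Helper39
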