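import Mathlib
import Cfsg.Prelude.Def_Characters
import Cfsg.Prelude.Def_ParabolicCharacters
import Cfsg.Agent.Lib.Helper39.SL2Half
import Cfsg.Agent.Lib.Helper39.RFourier
import Cfsg.Agent.Lib.Helper41.SL2TorusCyclic

set_option autoImplicit false

namespace Cfsg.Agent.Lib.Helper39

open Matrix Representation
open scoped ComplexConjugate

universe u

section CuspA

variable {F : Type u} [Field F] [Fintype F] [DecidableEq F]
variable {V : Type*} [AddCommGroup V] [Module ℂ V] [FiniteDimensional ℂ V]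

/-- a character of `SL₂` without fixed vectors under the unipotent subgroup vanishes at the
diagonal elements with distinct eigenvalues. -/
theorem sl2_zero_of_diag (ρ : Representation ℂ (Matrix.SpecialLinearGroup (Fin 2) F) V)
    (hsum : ∑ x : F, ρ (tSL x) = 0) (g : Matrix.SpecialLinearGroup (Fin 2) F)
    (h01 : (g : Matrix (Fin 2) (Fin 2) F) 0 1 = 0) (h10 : (g : Matrix (Fin 2) (Fin 2) F) 1 0 = 0)
    (hsq : (g : Matrix (Fin 2) (Fin 2) F) 0 0 ^ 2 ≠ 1) : ρ.character g = 0 := by
  have hd := g.det_coe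
  rw [Matrix.det_fin_two, h10, mul_zero, sub_zero] at hd
  have hne : (g : Matrix (Fin 2) (Fin 2) F) 0 0 ≠ (g : Matrix (Fin 2) (Fin 2) F) 1 1 := by
    intro h
    apply hsq
    rw [sq]
    rw [← h] at hd
    exact hd
  have hconj : ∀ x : F, ρ.character (g * tSL x) = ρ.character g := by
    intro x
    apply char_eq_of_isConj
    apply isConj_of_mul_eq (c := tSL ((g : Matrix (Fin 2) (Fin 2) F) 0 0 * x /
      ((g : Matrix (Fin 2) (Fin 2) F) 0 0 - (g : Matrix (Fin 2) (Fin 2) F) 1 1)))
    have hsub : (g : Matrix (Fin 2) (Fin 2) F) 0 0 - (g : Matrix (Fin 2) (Fin 2) F) 1 1 ≠ 0 :=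
      sub_ne_zero.mpr hne
    apply Subtype.ext
    simp only [Matrix.SpecialLinearGroup.coe_mul, tSL_coe]
    ext i j
    fin_cases i <;> fin_cases j
    · simp [Matrix.mul_apply, Fin.sum_univ_two, h01, h10]
    · simp [Matrix.mul_apply, Fin.sum_univ_two, h01, h10]
      field_simp
      ring
    · simp [Matrix.mul_apply, Fin.sum_univ_two, h01, h10]
    · simp [Matrix.mul_apply, Fin.sum_univ_two, h01, h10]
  have hq0 : (Fintype.card F : ℂ) ≠ 0 := by
    have := Fintype.card_pos (α := F)
    exact_mod_cast this.ne'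
  have h5 : (Fintype.card F : ℂ) * ρ.character g = 0 := by
    calc (Fintype.card F : ℂ) * ρ.character g = ∑ x : F, ρ.character (g * tSL x) := by
          simp only [hconj, Finset.sum_const, Finset.card_univ, nsmul_eq_mul]
      _ = LinearMap.trace ℂ _ (ρ g * ∑ x : F, ρ (tSL x)) := by
          simp only [character, map_mul, Finset.mul_sum, map_sum]
      _ = 0 := by rw [hsum, mul_zero, map_zero]
  exact (mul_eq_zero.mp h5).resolve_left hq0

/-- a character of `SL₂` without fixed vectors under the unipotent subgroup vanishes at the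
elements with two distinct eigenvalues in the field. -/
theorem sl2_zero_of_split (ρ : Representation ℂ (Matrix.SpecialLinearGroup (Fin 2) F) V)
    (hsum : ∑ x : F, ρ (tSL x) = 0) (g : Matrix.SpecialLinearGroup (Fin 2) F) (l : F)
    (hl : l * l - g.1.trace * l + 1 = 0) (hl2 : l * l ≠ 1) : ρ.character g = 0 := by
  have hl0 : l ≠ 0 := by
    rintro rfl
    simp at hl
  obtain ⟨P, hP⟩ := Cfsg.Agent.Lib.Helper41.split_conj_diag g (Units.mk0 l hl0) hl hl2
  rw [← char_conj ρ g P, hP]
  apply sl2_zero_of_diag ρ hsum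
  · rw [Cfsg.Agent.Lib.Helper41.diagD_coe]
    simp
  · rw [Cfsg.Agent.Lib.Helper41.diagD_coe]
    simp
  · rw [Cfsg.Agent.Lib.Helper41.diagD_coe]
    simpa [sq] using hl2

theorem zSL_mul_self : (zSL : Matrix.SpecialLinearGroup (Fin 2) F) * zSL = 1 := by
  apply Subtype.ext
  rw [Matrix.SpecialLinearGroup.coe_mul, zSL_coe]
  ext i j
  fin_cases i <;> fin_cases j <;> simp [Matrix.mul_apply, Fin.sum_univ_two]

theorem zSL_eq_negOne : (zSL : Matrix.SpecialLinearGroup (Fin 2) F) =
    Cfsg.Agent.Lib.Helper41.negOne := by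
  apply Subtype.ext
  rw [zSL_coe, Cfsg.Agent.Lib.Helper41.negOne_coe]
  ext i j
  fin_cases i <;> fin_cases j <;> simp

/-- the central involution of `SL₂` acts as a sign in an irreducible representation. -/
theorem sl2_central_scalar (ρ : Representation ℂ (Matrix.SpecialLinearGroup (Fin 2) F) V)
    [ρ.IsIrreducible] :
    ∃ ω : ℂ, (ω = 1 ∨ ω = -1) ∧
      (∀ g : Matrix.SpecialLinearGroup (Fin 2) F, ρ.character (zSL * g) = ω * ρ.character g) := by
  obtain ⟨c, hc⟩ := schur_scalar' ρ (ρ zSL) (fun g => by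
    rw [← Module.End.mul_eq_comp, ← Module.End.mul_eq_comp, ← map_mul, ← map_mul, zSL_comm])
  have hnt : Nontrivial V := nontrivial_of_irr ρ
  have hcc : c * c = 1 := by
    have h1 : ρ zSL * ρ zSL = 1 := by rw [← map_mul, zSL_mul_self, map_one]
    obtain ⟨v, hv⟩ := exists_ne (0 : V)
    have h2 := LinearMap.congr_fun h1 v
    rw [hc] at h2
    simp only [Module.End.mul_apply, LinearMap.smul_apply, LinearMap.id_coe, id_eq,
      Module.End.one_apply, smul_smul] at h2
    have h3 : (c * c - 1) • v = 0 := by rw [sub_smul, h2, one_smul, sub_self]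
    rcases smul_eq_zero.mp h3 with h4 | h4
    · linear_combination h4
    · exact absurd h4 hv
  refine ⟨c, ?_, ?_⟩
  · have h3 : (c - 1) * (c + 1) = 0 := by linear_combination hcc
    rcases mul_eq_zero.mp h3 with h4 | h4
    · left; linear_combination h4
    · right; linear_combination h4
  · intro g
    unfold Representation.character
    have hmul : (c • LinearMap.id : V →ₗ[ℂ] V) * ρ g = c • ρ g := by
      ext v
      simp
    rw [map_mul, hc, hmul, map_smul, smul_eq_mul]

end CuspA

section CuspB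

variable {F : Type u} [Field F] [Fintype F] [DecidableEq F]

/-- a non-central element commuting with a regular element is regular. -/
theorem regular_of_mem_centralizer (h2 : (2 : F) ≠ 0) (x : Matrix.SpecialLinearGroup (Fin 2) F)
    (hτ : x.1.trace * x.1.trace ≠ 4) (k : Matrix.SpecialLinearGroup (Fin 2) F)
    (hk : k ∈ Subgroup.centralizer ({x} : Set (Matrix.SpecialLinearGroup (Fin 2) F)))
    (hkc : k ∉ Subgroup.center (Matrix.SpecialLinearGroup (Fin 2) F)) :
    k.1.trace * k.1.trace ≠ 4 := by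
  have hx := Cfsg.Agent.Lib.Helper41.not_mem_center_of_trace h2 x hτ
  have heq := Cfsg.Agent.Lib.Helper41.centralizer_eq_of_mem x k hx hkc hk
  have hq := Fintype.one_lt_card (α := F)
  intro h4
  rcases Cfsg.Agent.Lib.Helper41.card_centralizer_cases h2 k hkc with ⟨_, hck⟩ | ⟨⟨l, hl, hl2⟩, _⟩ |
    ⟨hno, _⟩
  · rw [heq] at hck
    rcases Cfsg.Agent.Lib.Helper41.card_centralizer_cases h2 x hx with ⟨h, _⟩ | ⟨_, hcx⟩ |
      ⟨_, hcx⟩
    · exact hτ h
    · omega
    · omega
  · apply hl2
    have h3 : (k.1.trace - 2) * (k.1.trace + 2) = 0 := by linear_combination h4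
    rcases mul_eq_zero.mp h3 with h5 | h5
    · have h6 : (l - 1) * (l - 1) = 0 := by linear_combination hl + l * h5
      have h7 : l = 1 := by
        have := mul_self_eq_zero.mp h6
        linear_combination this
      rw [h7]; ring
    · have h6 : (l + 1) * (l + 1) = 0 := by linear_combination hl + l * h5
      have h7 : l = -1 := by
        have := mul_self_eq_zero.mp h6
        linear_combination this
      rw [h7]; ring
  · exact Cfsg.Agent.Lib.Helper41.trace_sq_ne_four_of_nonsplit hno h4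

theorem trace_conj' (y g : Matrix.SpecialLinearGroup (Fin 2) F) :
    (y⁻¹ * g * y).1.trace = g.1.trace := by
  have h := Cfsg.Agent.Lib.Helper41.trace_conj y⁻¹ g
  rw [inv_inv] at h
  exact h

open Classical in
/-- the number of elements conjugating a given element into the non-central part of the
centralizer of a regular element is at most the order of the normalizer. -/
theorem card_conj_into_le (h2 : (2 : F) ≠ 0) (x : Matrix.SpecialLinearGroup (Fin 2) F)
    (hτ : x.1.trace * x.1.trace ≠ 4) (g' : Matrix.SpecialLinearGroup (Fin 2) F) :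
    (Finset.univ.filter (fun y : Matrix.SpecialLinearGroup (Fin 2) F =>
      y⁻¹ * g' * y ∈ Subgroup.centralizer ({x} : Set (Matrix.SpecialLinearGroup (Fin 2) F)) ∧
      y⁻¹ * g' * y ∉ Subgroup.center (Matrix.SpecialLinearGroup (Fin 2) F))).card ≤
      2 * Nat.card (Subgroup.centralizer ({x} : Set (Matrix.SpecialLinearGroup (Fin 2) F))) := by
  classical
  have hx := Cfsg.Agent.Lib.Helper41.not_mem_center_of_trace h2 x hτ
  rcases Finset.eq_empty_or_nonempty (Finset.univ.filter
    (fun y : Matrix.SpecialLinearGroup (Fin 2) F =>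
      y⁻¹ * g' * y ∈ Subgroup.centralizer ({x} : Set (Matrix.SpecialLinearGroup (Fin 2) F)) ∧
      y⁻¹ * g' * y ∉ Subgroup.center (Matrix.SpecialLinearGroup (Fin 2) F))) with he | hne
  · rw [he]
    simp
  · obtain ⟨y₀, hy₀⟩ := hne
    rw [Finset.mem_filter] at hy₀
    obtain ⟨-, hy₀C, hy₀Z⟩ := hy₀
    have hC₀ := Cfsg.Agent.Lib.Helper41.centralizer_eq_of_mem x _ hx hy₀Z hy₀C
    rw [← Cfsg.Agent.Lib.Helper41.card_normalizer_centralizer h2 x hτ]
    rw [Nat.subtype_card (p := fun n : Matrix.SpecialLinearGroup (Fin 2) F =>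
      n ∈ Subgroup.normalizer
        (Subgroup.centralizer ({x} : Set (Matrix.SpecialLinearGroup (Fin 2) F)) :
          Set (Matrix.SpecialLinearGroup (Fin 2) F)))
      (Finset.univ.filter (fun n : Matrix.SpecialLinearGroup (Fin 2) F =>
      n ∈ Subgroup.normalizer
        (Subgroup.centralizer ({x} : Set (Matrix.SpecialLinearGroup (Fin 2) F)) :
          Set (Matrix.SpecialLinearGroup (Fin 2) F)))) (fun n => by simp)]
    refine le_trans (Finset.card_le_card (t := Finset.image (fun n => y₀ * n)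
      (Finset.univ.filter (fun n : Matrix.SpecialLinearGroup (Fin 2) F =>
      n ∈ Subgroup.normalizer
        (Subgroup.centralizer ({x} : Set (Matrix.SpecialLinearGroup (Fin 2) F)) :
          Set (Matrix.SpecialLinearGroup (Fin 2) F))))) ?_)
      (le_of_eq (Finset.card_image_of_injective _ (mul_right_injective y₀)))
    intro y hy
    rw [Finset.mem_filter] at hy
    obtain ⟨-, hyC, hyZ⟩ := hy
    have hC := Cfsg.Agent.Lib.Helper41.centralizer_eq_of_mem x _ hx hyZ hyC
    rw [Finset.mem_image]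
    refine ⟨y₀⁻¹ * y, ?_, by group⟩
    rw [Finset.mem_filter]
    refine ⟨Finset.mem_univ _, ?_⟩
    rw [Subgroup.mem_normalizer_iff]
    intro h
    have hrel : y₀⁻¹ * y * (y⁻¹ * g' * y) * (y₀⁻¹ * y)⁻¹ = y₀⁻¹ * g' * y₀ := by group
    constructor
    · intro hh
      rw [← hC₀, Subgroup.mem_centralizer_singleton_iff, ← hrel]
      rw [← hC, Subgroup.mem_centralizer_singleton_iff] at hh
      calc y₀⁻¹ * y * h * (y₀⁻¹ * y)⁻¹ * (y₀⁻¹ * y * (y⁻¹ * g' * y) * (y₀⁻¹ * y)⁻¹)
          = y₀⁻¹ * y * (h * (y⁻¹ * g' * y)) * (y₀⁻¹ * y)⁻¹ := by group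
        _ = y₀⁻¹ * y * ((y⁻¹ * g' * y) * h) * (y₀⁻¹ * y)⁻¹ := by rw [hh]
        _ = y₀⁻¹ * y * (y⁻¹ * g' * y) * (y₀⁻¹ * y)⁻¹ * (y₀⁻¹ * y * h * (y₀⁻¹ * y)⁻¹) := by group
    · intro hh
      rw [← hC₀, Subgroup.mem_centralizer_singleton_iff, ← hrel] at hh
      rw [← hC, Subgroup.mem_centralizer_singleton_iff]
      have h3 : (y₀⁻¹ * y)⁻¹ * (y₀⁻¹ * y * h * (y₀⁻¹ * y)⁻¹ *
          (y₀⁻¹ * y * (y⁻¹ * g' * y) * (y₀⁻¹ * y)⁻¹)) * (y₀⁻¹ * y) =
          (y₀⁻¹ * y)⁻¹ * ((y₀⁻¹ * y * (y⁻¹ * g' * y) * (y₀⁻¹ * y)⁻¹) *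
          (y₀⁻¹ * y * h * (y₀⁻¹ * y)⁻¹)) * (y₀⁻¹ * y) := by rw [hh]
      calc h * (y⁻¹ * g' * y)
          = (y₀⁻¹ * y)⁻¹ * (y₀⁻¹ * y * h * (y₀⁻¹ * y)⁻¹ *
          (y₀⁻¹ * y * (y⁻¹ * g' * y) * (y₀⁻¹ * y)⁻¹)) * (y₀⁻¹ * y) := by group
        _ = (y₀⁻¹ * y)⁻¹ * ((y₀⁻¹ * y * (y⁻¹ * g' * y) * (y₀⁻¹ * y)⁻¹) *
          (y₀⁻¹ * y * h * (y₀⁻¹ * y)⁻¹)) * (y₀⁻¹ * y) := h3
        _ = (y⁻¹ * g' * y) * h := by group

open Classical in
/-- the sum of a non-negative class function over the non-central part of the centralizer of a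
regular element is controlled by its sum over the regular elements. -/
theorem sum_centralizer_le (h2 : (2 : F) ≠ 0) (x : Matrix.SpecialLinearGroup (Fin 2) F)
    (hτ : x.1.trace * x.1.trace ≠ 4) (Φ : Matrix.SpecialLinearGroup (Fin 2) F → ℝ)
    (hΦ0 : ∀ g, 0 ≤ Φ g)
    (hΦ : ∀ g y : Matrix.SpecialLinearGroup (Fin 2) F, Φ (y⁻¹ * g * y) = Φ g) :
    (Fintype.card (Matrix.SpecialLinearGroup (Fin 2) F) : ℝ) *
      ∑ k : Matrix.SpecialLinearGroup (Fin 2) F,
        (if k ∈ Subgroup.centralizer ({x} : Set (Matrix.SpecialLinearGroup (Fin 2) F)) ∧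
          k ∉ Subgroup.center (Matrix.SpecialLinearGroup (Fin 2) F) then Φ k else 0) ≤
      2 * (Nat.card (Subgroup.centralizer ({x} : Set (Matrix.SpecialLinearGroup (Fin 2) F))) : ℝ) *
        ∑ g : Matrix.SpecialLinearGroup (Fin 2) F,
          (if g.1.trace * g.1.trace ≠ 4 then Φ g else 0) := by
  classical
  have step1 : ∀ y : Matrix.SpecialLinearGroup (Fin 2) F,
      ∑ g' : Matrix.SpecialLinearGroup (Fin 2) F,
        (if y⁻¹ * g' * y ∈ Subgroup.centralizer
            ({x} : Set (Matrix.SpecialLinearGroup (Fin 2) F)) ∧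
          y⁻¹ * g' * y ∉ Subgroup.center (Matrix.SpecialLinearGroup (Fin 2) F) then Φ g' else 0) =
      ∑ k : Matrix.SpecialLinearGroup (Fin 2) F,
        (if k ∈ Subgroup.centralizer ({x} : Set (Matrix.SpecialLinearGroup (Fin 2) F)) ∧
          k ∉ Subgroup.center (Matrix.SpecialLinearGroup (Fin 2) F) then Φ k else 0) := by
    intro y
    refine Fintype.sum_equiv ⟨fun g => y⁻¹ * g * y, fun k => y * k * y⁻¹,
      fun g => by group, fun k => by group⟩ _ _ (fun g' => ?_)
    simp only [Equiv.coe_fn_mk, hΦ]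
  have step2 : (Fintype.card (Matrix.SpecialLinearGroup (Fin 2) F) : ℝ) *
      ∑ k : Matrix.SpecialLinearGroup (Fin 2) F,
        (if k ∈ Subgroup.centralizer ({x} : Set (Matrix.SpecialLinearGroup (Fin 2) F)) ∧
          k ∉ Subgroup.center (Matrix.SpecialLinearGroup (Fin 2) F) then Φ k else 0) =
      ∑ g' : Matrix.SpecialLinearGroup (Fin 2) F,
        ((Finset.univ.filter (fun y : Matrix.SpecialLinearGroup (Fin 2) F =>
          y⁻¹ * g' * y ∈ Subgroup.centralizer
            ({x} : Set (Matrix.SpecialLinearGroup (Fin 2) F)) ∧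
          y⁻¹ * g' * y ∉ Subgroup.center (Matrix.SpecialLinearGroup (Fin 2) F))).card : ℝ) *
          Φ g' := by
    have h1 : (Fintype.card (Matrix.SpecialLinearGroup (Fin 2) F) : ℝ) *
      ∑ k : Matrix.SpecialLinearGroup (Fin 2) F,
        (if k ∈ Subgroup.centralizer ({x} : Set (Matrix.SpecialLinearGroup (Fin 2) F)) ∧
          k ∉ Subgroup.center (Matrix.SpecialLinearGroup (Fin 2) F) then Φ k else 0) =
        ∑ y : Matrix.SpecialLinearGroup (Fin 2) F, ∑ g' : Matrix.SpecialLinearGroup (Fin 2) F,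
        (if y⁻¹ * g' * y ∈ Subgroup.centralizer
            ({x} : Set (Matrix.SpecialLinearGroup (Fin 2) F)) ∧
          y⁻¹ * g' * y ∉ Subgroup.center (Matrix.SpecialLinearGroup (Fin 2) F) then Φ g' else 0) := by
      simp only [step1, Finset.sum_const, Finset.card_univ, nsmul_eq_mul]
    rw [h1, Finset.sum_comm]
    refine Finset.sum_congr rfl (fun g' _ => ?_)
    rw [← Finset.sum_filter, Finset.sum_const, nsmul_eq_mul]
  rw [step2, Finset.mul_sum]
  apply Finset.sum_le_sum
  intro g' _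
  by_cases htr : g'.1.trace * g'.1.trace ≠ 4
  · rw [if_pos htr]
    apply mul_le_mul_of_nonneg_right _ (hΦ0 g')
    have := card_conj_into_le h2 x hτ g'
    exact_mod_cast this
  · rw [if_neg htr, mul_zero]
    push Not at htr
    have hempty : Finset.univ.filter (fun y : Matrix.SpecialLinearGroup (Fin 2) F =>
          y⁻¹ * g' * y ∈ Subgroup.centralizer
            ({x} : Set (Matrix.SpecialLinearGroup (Fin 2) F)) ∧
          y⁻¹ * g' * y ∉ Subgroup.center (Matrix.SpecialLinearGroup (Fin 2) F)) = ∅ := by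
      rw [Finset.filter_eq_empty_iff]
      rintro y - ⟨hyC, hyZ⟩
      have := regular_of_mem_centralizer h2 x hτ _ hyC hyZ
      rw [trace_conj'] at this
      exact this htr
    rw [hempty]
    simp

end CuspB


section Cyc

variable {G : Type*} [Group G]

theorem pow_val_injective (k₀ : G) (N : ℕ) [NeZero N] (h : orderOf k₀ = N) :
    Function.Injective (fun j : ZMod N => k₀ ^ j.val) := by
  intro a b hab
  apply ZMod.val_injective N
  apply pow_injOn_Iio_orderOf (x := k₀)
  · rw [Set.mem_Iio, h]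
    exact ZMod.val_lt a
  · rw [Set.mem_Iio, h]
    exact ZMod.val_lt b
  · exact hab

theorem pow_val_add (k₀ : G) (N : ℕ) [NeZero N] (h : orderOf k₀ = N) (a b : ZMod N) :
    k₀ ^ (a + b).val = k₀ ^ a.val * k₀ ^ b.val := by
  rw [← pow_add, ZMod.val_add]
  have := pow_mod_orderOf k₀ (a.val + b.val)
  rw [h] at this
  exact this

theorem pow_val_neg (k₀ : G) (N : ℕ) [NeZero N] (h : orderOf k₀ = N) (a : ZMod N) :
    k₀ ^ (-a).val = (k₀ ^ a.val)⁻¹ := by
  rw [eq_inv_iff_mul_eq_one, ← pow_val_add k₀ N h, neg_add_cancel, ZMod.val_zero, pow_zero]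

/-- the homomorphism from `ZMod N` onto the cyclic group generated by an element of order `N`. -/
def cycHom (k₀ : G) (N : ℕ) [NeZero N] (h : orderOf k₀ = N) : Multiplicative (ZMod N) →* G where
  toFun j := k₀ ^ (Multiplicative.toAdd j).val
  map_one' := by simp
  map_mul' a b := pow_val_add k₀ N h _ _

theorem cycHom_apply (k₀ : G) (N : ℕ) [NeZero N] (h : orderOf k₀ = N)
    (j : Multiplicative (ZMod N)) : cycHom k₀ N h j = k₀ ^ (Multiplicative.toAdd j).val := rfl

/-- the Fourier coefficients of the restriction of a character to a cyclic subgroup are natural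
numbers. -/
theorem cyc_fhat_nat {V : Type*} [AddCommGroup V] [Module ℂ V] [FiniteDimensional ℂ V]
    (ρ : Representation ℂ G V) (k₀ : G) (N : ℕ) [NeZero N] (h : orderOf k₀ = N)
    (ψ : AddChar (ZMod N) ℂ) (c : ZMod N) :
    ∃ d : ℕ, fhatR ψ (fun j => ρ.character (k₀ ^ j.val)) c = (d : ℂ) := by
  obtain ⟨d, hd, -⟩ := avg_nat ρ (cycHom k₀ N h) (AddChar.mulShift ψ c).toMonoidHom
  refine ⟨d, ?_⟩
  unfold fhatR
  have e : ∑ x : ZMod N, ψ (-(c * x)) * ρ.character (k₀ ^ x.val) =
      (Fintype.card (ZMod N) : ℂ) * d := by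
    rw [Fintype.card_multiplicative] at hd
    rw [← hd]
    refine Fintype.sum_equiv Multiplicative.ofAdd _ _ (fun x => ?_)
    simp [cycHom_apply, AddChar.mulShift_apply]
  rw [e, ← mul_assoc, inv_mul_cancel₀ card_ne_zero_complexR, one_mul]

theorem exists_param [Finite G] (C : Subgroup G) {ι : Type*} [Fintype ι] (κ : ι → G)
    (hinj : Function.Injective κ) (hmem : ∀ j, κ j ∈ C) (hcard : Nat.card C = Fintype.card ι)
    (k : G) (hk : k ∈ C) : ∃ j, κ j = k := by
  classical
  have : Fintype C := Fintype.ofFinite C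
  have hbij : Function.Bijective (fun j : ι => (⟨κ j, hmem j⟩ : C)) := by
    rw [Fintype.bijective_iff_injective_and_card]
    refine ⟨fun a b hab => hinj (congrArg Subtype.val hab), ?_⟩
    rw [← hcard, Nat.card_eq_fintype_card]
  obtain ⟨j, hj⟩ := hbij.2 ⟨k, hk⟩
  exact ⟨j, congrArg Subtype.val hj⟩

open Classical in
/-- a sum over a subgroup in terms of an injective parametrization. -/
theorem sum_subgroup_param [Fintype G] (C : Subgroup G) {ι : Type*} [Fintype ι] (κ : ι → G)
    (hinj : Function.Injective κ) (hmem : ∀ j, κ j ∈ C) (hcard : Nat.card C = Fintype.card ι)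
    {M : Type*} [AddCommMonoid M] (Ψ : G → M) :
    ∑ k : G, (if k ∈ C then Ψ k else 0) = ∑ j : ι, Ψ (κ j) := by
  rw [← Finset.sum_filter]
  have himg : Finset.univ.filter (fun k : G => k ∈ C) = Finset.univ.image κ := by
    ext k
    simp only [Finset.mem_filter, Finset.mem_univ, true_and, Finset.mem_image]
    constructor
    · intro hk
      exact exists_param C κ hinj hmem hcard k hk
    · rintro ⟨j, rfl⟩
      exact hmem j
  rw [himg, Finset.sum_image (fun a _ b _ hab => hinj hab)]

open Classical in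
theorem sum_ite_mem_subgroup [Fintype G] (S : Subgroup G) :
    ∑ g : G, (if g ∈ S then (1 : ℂ) else 0) = (Nat.card S : ℂ) := by
  rw [Finset.sum_boole, Nat.subtype_card (p := fun g : G => g ∈ S)
    (Finset.univ.filter (fun g : G => g ∈ S)) (fun g => by simp)]

end Cyc

section CuspC

variable {F : Type u} [Field F] [Fintype F] [DecidableEq F]
variable {V : Type*} [AddCommGroup V] [Module ℂ V] [FiniteDimensional ℂ V]

open Classical in
/-- the values of an irreducible character on the regular elements are controlled by its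
values on the unipotent elements and their negatives. -/
theorem sl2_regular_norm_le (h2 : (2 : F) ≠ 0)
    (ρ : Representation ℂ (Matrix.SpecialLinearGroup (Fin 2) F) V) [ρ.IsIrreducible] :
    ∑ g : Matrix.SpecialLinearGroup (Fin 2) F,
      (if g.1.trace * g.1.trace ≠ 4 then Complex.normSq (ρ.character g) else 0) +
      2 * (Complex.normSq (ρ.character 1) + ((Fintype.card F : ℝ) + 1) *
        (∑ x : F, Complex.normSq (ρ.character (tSL x)) - Complex.normSq (ρ.character 1))) ≤
      (Fintype.card (Matrix.SpecialLinearGroup (Fin 2) F) : ℝ) := by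
  rw [← sum_zFam ρ, ← irr_sum_normSq ρ]
  have h1 : ∑ p : Bool × Option (Option F × Fˣ), Complex.normSq (ρ.character (zFam p)) =
      ∑ g ∈ Finset.univ.image (zFam (F := F)), Complex.normSq (ρ.character g) := by
    rw [Finset.sum_image (fun a _ b _ h => zFam_injective h2 h)]
  rw [h1, ← Finset.sum_filter, ← Finset.sum_union]
  · apply Finset.sum_le_sum_of_subset_of_nonneg (Finset.subset_univ _)
    intro g _ _
    exact Complex.normSq_nonneg _
  · rw [Finset.disjoint_left]
    intro g hg hg'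
    rw [Finset.mem_filter] at hg
    rw [Finset.mem_image] at hg'
    obtain ⟨p, -, rfl⟩ := hg'
    rcases zFam_trace p with h | h
    · apply hg.2
      rw [h]
      norm_num
    · apply hg.2
      rw [h]
      norm_num

/-- the square sum of a character over the unipotent subgroup in terms of the multiplicities. -/
theorem sum_normSq_unip (h2 : ringChar F ≠ 2) (r : ℕ) (hr : Fintype.card F = 2 * r + 1)
    (ψ : AddChar F ℂ) (hψ : ψ ≠ 1) (ε : F) (hε : ¬ IsSquare ε)
    (ρ : Representation ℂ (Matrix.SpecialLinearGroup (Fin 2) F) V) (m k₁ k₂ : ℕ)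
    (hu0 : uC ψ ρ.character 0 = (m : ℂ)) (hu1 : uC ψ ρ.character 1 = (k₁ : ℂ))
    (hue : uC ψ ρ.character ε = (k₂ : ℂ)) :
    ∑ x : F, Complex.normSq (ρ.character (tSL x)) =
      (Fintype.card F : ℝ) * ((m : ℝ) ^ 2 + r * ((k₁ : ℝ) ^ 2 + (k₂ : ℝ) ^ 2)) := by
  obtain ⟨k, hkc, -, hksq, -, hpars, -, -⟩ := sl2_unip_core ψ hψ ρ
  have e0 : k 0 = m := by
    have := hkc 0
    rw [hu0] at this
    exact_mod_cast this.symm
  have e1 : k 1 = k₁ := by
    have := hkc 1
    rw [hu1] at this
    exact_mod_cast this.symm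
  have e2 : k ε = k₂ := by
    have := hkc ε
    rw [hue] at this
    exact_mod_cast this.symm
  have hqr : ((Fintype.card F : ℂ) - 1) / 2 = (r : ℂ) := by
    rw [hr]
    push_cast
    ring
  have hS2c : ∑ c : F, ((k c : ℂ)) ^ 2 =
      (k 0 : ℂ) ^ 2 + (r : ℂ) * ((k 1 : ℂ) ^ 2 + (k ε : ℂ) ^ 2) := by
    rw [sqclass_sum h2 ε hε (fun c => (k c : ℂ) ^ 2) (fun c a ha => by rw [hksq c a ha]), hqr]
  have hS2 : ∑ c : F, ((k c : ℝ)) ^ 2 =
      (k 0 : ℝ) ^ 2 + (r : ℝ) * ((k 1 : ℝ) ^ 2 + (k ε : ℝ) ^ 2) := by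
    exact_mod_cast hS2c
  rw [hpars, hS2, e0, e1, e2]

open Classical in
/-- the square sum of an irreducible character of degree `(q - 1) / 2` over the non-central
elements of a non-split torus. -/
theorem sl2_cusp_torus_bound (h2 : ringChar F ≠ 2) (r : ℕ) (hr : Fintype.card F = 2 * r + 1)
    (hr2 : 2 ≤ r)
    (ρ : Representation ℂ (Matrix.SpecialLinearGroup (Fin 2) F) (Fin r → ℂ)) [ρ.IsIrreducible]
    (x : Matrix.SpecialLinearGroup (Fin 2) F) (hx : ∀ a : F, a * a - x.1.trace * a + 1 ≠ 0) :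
    ∑ k : Matrix.SpecialLinearGroup (Fin 2) F,
        (if k ∈ Subgroup.centralizer ({x} : Set (Matrix.SpecialLinearGroup (Fin 2) F)) ∧
          k ∉ Subgroup.center (Matrix.SpecialLinearGroup (Fin 2) F) then
          Complex.normSq (ρ.character k) else 0) ≤ 2 * (r : ℝ) := by
  have h2' : (2 : F) ≠ 0 := Ring.two_ne_zero h2
  obtain ⟨ψ, hψ⟩ := exists_addChar_ne_one (F := F)
  obtain ⟨ε, hε⟩ := exists_nonsquare_aux h2
  obtain ⟨m, k₁, k₂, hu0, hu1, hue, -, -, -, -, -, -, t5⟩ :=
    sl2_type_odd h2 r hr hr2 ψ hψ ε hε r ρ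
  obtain ⟨hm, hk⟩ := t5 rfl
  have hunip := sum_normSq_unip h2 r hr ψ hψ ε hε ρ m k₁ k₂ hu0 hu1 hue
  have hk' : (k₁ : ℝ) ^ 2 + (k₂ : ℝ) ^ 2 = 1 := by
    have : k₁ = 0 ∧ k₂ = 1 ∨ k₁ = 1 ∧ k₂ = 0 := by omega
    rcases this with ⟨ha, hb⟩ | ⟨ha, hb⟩ <;> simp [ha, hb]
  rw [hm, hk'] at hunip
  have hreg := sl2_regular_norm_le h2' ρ
  have hone : Complex.normSq (ρ.character 1) = (r : ℝ) ^ 2 := by
    rw [normSq_char_one]
    simp
  rw [hunip, hone, card_SL2_real, hr] at hreg
  push_cast at hreg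
  have hτ : x.1.trace * x.1.trace ≠ 4 := Cfsg.Agent.Lib.Helper41.trace_sq_ne_four_of_nonsplit hx
  have hxc := Cfsg.Agent.Lib.Helper41.not_mem_center_of_trace h2' x hτ
  have hcard : Nat.card (Subgroup.centralizer
      ({x} : Set (Matrix.SpecialLinearGroup (Fin 2) F))) = 2 * r + 2 := by
    rcases Cfsg.Agent.Lib.Helper41.card_centralizer_cases h2' x hxc with ⟨h, _⟩ | ⟨⟨l, hl, _⟩, _⟩ |
      ⟨_, hc⟩
    · exact absurd h hτ
    · exact absurd hl (hx l)
    · rw [hc, hr]
  have hle := sum_centralizer_le h2' x hτ (fun g => Complex.normSq (ρ.character g))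
    (fun g => Complex.normSq_nonneg _) (fun g y => by
      have := char_conj ρ g y⁻¹
      rw [inv_inv] at this
      rw [this])
  rw [hcard, card_SL2_real, hr] at hle
  push_cast at hle
  have hr0 : (2 : ℝ) ≤ (r : ℝ) := by exact_mod_cast hr2
  set S := ∑ k : Matrix.SpecialLinearGroup (Fin 2) F,
        (if k ∈ Subgroup.centralizer ({x} : Set (Matrix.SpecialLinearGroup (Fin 2) F)) ∧
          k ∉ Subgroup.center (Matrix.SpecialLinearGroup (Fin 2) F) then
          Complex.normSq (ρ.character k) else 0) with hS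
  set T := ∑ g : Matrix.SpecialLinearGroup (Fin 2) F,
      (if g.1.trace * g.1.trace ≠ 4 then Complex.normSq (ρ.character g) else 0) with hT
  have hT' : T ≤ 2 * (r : ℝ) ^ 2 * (2 * r + 1) := by nlinarith
  have hpos : (0 : ℝ) < (2 * (r : ℝ) + 1) * ((2 * (r : ℝ) + 1) ^ 2 - 1) := by nlinarith
  have hfin : (2 * (r : ℝ) + 1) * ((2 * (r : ℝ) + 1) ^ 2 - 1) * S ≤
      (2 * (r : ℝ) + 1) * ((2 * (r : ℝ) + 1) ^ 2 - 1) * (2 * (r : ℝ)) := by
    have h3 : 2 * (2 * (r : ℝ) + 2) * T ≤ 2 * (2 * (r : ℝ) + 2) * (2 * (r : ℝ) ^ 2 * (2 * r + 1)) :=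
      mul_le_mul_of_nonneg_left hT' (by positivity)
    nlinarith
  exact le_of_mul_le_mul_left hfin hpos

open Classical in
/-- averaging a character over the normalizer of a torus. -/
theorem sl2_normalizer_avg (h2 : (2 : F) ≠ 0)
    (ρ : Representation ℂ (Matrix.SpecialLinearGroup (Fin 2) F) V)
    (x : Matrix.SpecialLinearGroup (Fin 2) F) (hτ : x.1.trace * x.1.trace ≠ 4) :
    ∃ d : ℕ, ∑ k : Matrix.SpecialLinearGroup (Fin 2) F,
        (if k ∈ Subgroup.centralizer ({x} : Set (Matrix.SpecialLinearGroup (Fin 2) F)) then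
          ρ.character k else 0) +
      (Nat.card (Subgroup.centralizer
        ({x} : Set (Matrix.SpecialLinearGroup (Fin 2) F))) : ℂ) *
        ρ.character Cfsg.Agent.Lib.Helper41.weylW =
      2 * (Nat.card (Subgroup.centralizer
        ({x} : Set (Matrix.SpecialLinearGroup (Fin 2) F))) : ℂ) * d := by
  set C := Subgroup.centralizer ({x} : Set (Matrix.SpecialLinearGroup (Fin 2) F)) with hC
  set N' := Subgroup.normalizer (C : Set (Matrix.SpecialLinearGroup (Fin 2) F)) with hN'
  obtain ⟨d, hd, -⟩ := avg_nat ρ N'.subtype (1 : N' →* ℂ)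
  refine ⟨d, ?_⟩
  have hcardN : Nat.card N' = 2 * Nat.card C :=
    Cfsg.Agent.Lib.Helper41.card_normalizer_centralizer h2 x hτ
  have hle : C ≤ N' := Cfsg.Agent.Lib.Helper41.centralizer_le_normalizer_centralizer h2 x hτ
  have hw0 : (Cfsg.Agent.Lib.Helper41.weylW : Matrix.SpecialLinearGroup (Fin 2) F).1.trace = 0 := by
    rw [Cfsg.Agent.Lib.Helper41.weylW_coe]
    simp [Matrix.trace_fin_two]
  have e1 : ∑ n : N', (1 : N' →* ℂ) n⁻¹ * ρ.character (N'.subtype n) =
      ∑ g : Matrix.SpecialLinearGroup (Fin 2) F, (if g ∈ N' then ρ.character g else 0) := by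
    rw [← Finset.sum_filter]
    rw [Finset.sum_subtype (Finset.univ.filter (fun g : Matrix.SpecialLinearGroup (Fin 2) F =>
      g ∈ N')) (p := fun g => g ∈ N') (by simp)]
    refine Finset.sum_congr rfl (fun n _ => ?_)
    simp
  have e2 : ∀ g : Matrix.SpecialLinearGroup (Fin 2) F, (if g ∈ N' then ρ.character g else 0) =
      (if g ∈ C then ρ.character g else 0) +
        ((if g ∈ N' then (1 : ℂ) else 0) - (if g ∈ C then (1 : ℂ) else 0)) *
          ρ.character Cfsg.Agent.Lib.Helper41.weylW := by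
    intro g
    by_cases hgC : g ∈ C
    · rw [if_pos hgC, if_pos (hle hgC), if_pos hgC, if_pos (hle hgC)]
      ring
    · by_cases hgN : g ∈ N'
      · rw [if_pos hgN, if_neg hgC, if_pos hgN, if_neg hgC]
        have hsq := Cfsg.Agent.Lib.Helper41.sq_of_mem_normalizer_of_not_mem h2 x hτ g hgN hgC
        have htr : g.1.trace = 0 := Cfsg.Agent.Lib.Helper41.trace_zero_of_sq g (by
          rw [← Matrix.SpecialLinearGroup.coe_mul]
          exact hsq)
        obtain ⟨P, hP⟩ := Cfsg.Agent.Lib.Helper41.conj_of_trace_zero h2 g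
          Cfsg.Agent.Lib.Helper41.weylW htr hw0
        rw [← hP, char_conj]
        ring
      · rw [if_neg hgN, if_neg hgC, if_neg hgN, if_neg hgC]
        ring
  rw [e1] at hd
  simp only [e2] at hd
  rw [Finset.sum_add_distrib, ← Finset.sum_mul, Finset.sum_sub_distrib, sum_ite_mem_subgroup,
    sum_ite_mem_subgroup, hcardN] at hd
  have hcN : (Fintype.card N' : ℂ) = 2 * (Nat.card C : ℂ) := by
    rw [← Nat.card_eq_fintype_card, hcardN]
    push_cast
    ring
  rw [hcN] at hd
  rw [← hd]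
  push_cast
  ring

end CuspC


section CuspD

variable {F : Type u} [Field F] [Fintype F] [DecidableEq F]

theorem zmod_facts (r : ℕ) (hr2 : 2 ≤ r) (N : ℕ) [NeZero N] (hN : N = 2 * r + 2) :
    ((r + 1 : ℕ) : ZMod N).val = r + 1 ∧ (1 : ZMod N).val = 1 ∧
    ((r + 1 : ℕ) : ZMod N) + ((r + 1 : ℕ) : ZMod N) = 0 ∧
    (1 : ZMod N) ≠ 0 ∧ (1 : ZMod N) ≠ ((r + 1 : ℕ) : ZMod N) ∧
    (-1 : ZMod N) ≠ 0 ∧ (-1 : ZMod N) ≠ ((r + 1 : ℕ) : ZMod N) ∧
    ((r + 1 : ℕ) : ZMod N) ≠ 0 := by
  have hv : ((r + 1 : ℕ) : ZMod N).val = r + 1 := ZMod.val_natCast_of_lt (by omega)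
  have h1v : (1 : ZMod N).val = 1 := by
    have h : (1 : ZMod N) = ((1 : ℕ) : ZMod N) := by simp
    rw [h]
    exact ZMod.val_natCast_of_lt (by omega)
  have h10 : (1 : ZMod N) ≠ 0 := by
    intro h
    have := congrArg ZMod.val h
    rw [h1v, ZMod.val_zero] at this
    omega
  refine ⟨hv, h1v, ?_, h10, ?_, neg_ne_zero.mpr h10, ?_, ?_⟩
  · rw [← Nat.cast_add]
    exact (ZMod.natCast_eq_zero_iff _ _).mpr ⟨1, by omega⟩
  · intro h
    have := congrArg ZMod.val h
    rw [h1v, hv] at this
    omega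
  · intro h
    have h3 : ((r + 2 : ℕ) : ZMod N) = 0 := by
      push_cast
      push_cast at h
      linear_combination (-1 : ZMod N) * h
    have h4 := (ZMod.natCast_eq_zero_iff _ _).mp h3
    have := Nat.le_of_dvd (by omega) h4
    omega
  · intro h
    have := congrArg ZMod.val h
    rw [hv, ZMod.val_zero] at this
    omega

open Classical in
/-- the values of an irreducible character of degree `(q - 1) / 2` of `SL₂(q)`, `q ≥ 5` odd, on a
non-split torus. -/
theorem sl2_cusp_torus_param (h2 : ringChar F ≠ 2) (r : ℕ) (hr : Fintype.card F = 2 * r + 1)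
    (hr2 : 2 ≤ r)
    (ρ : Representation ℂ (Matrix.SpecialLinearGroup (Fin 2) F) (Fin r → ℂ)) [ρ.IsIrreducible]
    (x : Matrix.SpecialLinearGroup (Fin 2) F) (hx : ∀ a : F, a * a - x.1.trace * a + 1 ≠ 0)
    (N : ℕ) [NeZero N] (hN : N = 2 * r + 2)
    (k₀ : Matrix.SpecialLinearGroup (Fin 2) F)
    (hk₀ : k₀ ∈ Subgroup.centralizer ({x} : Set (Matrix.SpecialLinearGroup (Fin 2) F)))
    (hord : orderOf k₀ = N) :
    k₀ ^ (r + 1) = zSL ∧ ρ.character zSL = (-1) ^ (r + 1) * r ∧
    (∀ j : ZMod N, j ≠ 0 → j ≠ ((r + 1 : ℕ) : ZMod N) →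
      ρ.character (k₀ ^ j.val) = -(-1) ^ j.val) := by
  have h2' : (2 : F) ≠ 0 := Ring.two_ne_zero h2
  obtain ⟨hv, h1v, hhh, h10, h1h, hm10, hm1h, hh0⟩ := zmod_facts r hr2 N hN
  set hh : ZMod N := ((r + 1 : ℕ) : ZMod N) with hhdef
  -- type information
  obtain ⟨ψF, hψF⟩ := exists_addChar_ne_one (F := F)
  obtain ⟨ε, hε⟩ := exists_nonsquare_aux h2
  obtain ⟨m, k₁, k₂, -, -, -, -, hm0, -, -, -, -, t5⟩ :=
    sl2_type_odd h2 r hr hr2 ψF hψF ε hε r ρ
  have hsum : ∑ x : F, ρ (tSL x) = 0 := hm0 (t5 rfl).1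
  -- the torus
  have hτ : x.1.trace * x.1.trace ≠ 4 := Cfsg.Agent.Lib.Helper41.trace_sq_ne_four_of_nonsplit hx
  have hxc := Cfsg.Agent.Lib.Helper41.not_mem_center_of_trace h2' x hτ
  have hcard : Nat.card (Subgroup.centralizer
      ({x} : Set (Matrix.SpecialLinearGroup (Fin 2) F))) = 2 * r + 2 := by
    rcases Cfsg.Agent.Lib.Helper41.card_centralizer_cases h2' x hxc with ⟨h, _⟩ | ⟨⟨l, hl, _⟩, _⟩ |
      ⟨_, hc⟩
    · exact absurd h hτ
    · exact absurd hl (hx l)
    · rw [hc, hr]
  set C := Subgroup.centralizer ({x} : Set (Matrix.SpecialLinearGroup (Fin 2) F)) with hC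
  set κ : ZMod N → Matrix.SpecialLinearGroup (Fin 2) F := fun j => k₀ ^ j.val with hκ
  have hinj : Function.Injective κ := pow_val_injective k₀ N hord
  have hmem : ∀ j, κ j ∈ C := fun j => Subgroup.pow_mem _ hk₀ _
  have hcardι : Nat.card C = Fintype.card (ZMod N) := by rw [ZMod.card, hcard, hN]
  -- the central element
  have hkh : k₀ ^ (r + 1) = zSL := by
    have h1 : k₀ ^ (r + 1) * k₀ ^ (r + 1) = 1 := by
      rw [← pow_add]
      have : r + 1 + (r + 1) = orderOf k₀ := by
        rw [hord, hN]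
        ring
      rw [this, pow_orderOf_eq_one]
    rcases Cfsg.Agent.Lib.Helper41.sq_eq_one_cases h2' _ h1 with h3 | h3
    · exfalso
      have hdvd := orderOf_dvd_of_pow_eq_one h3
      rw [hord, hN] at hdvd
      have := Nat.le_of_dvd (by omega) hdvd
      omega
    · rw [h3, zSL_eq_negOne]
  have hκ0 : κ 0 = 1 := by simp [hκ]
  have hκh : κ hh = zSL := by
    simp only [hκ]
    rw [hv]
    exact hkh
  have hzc : (zSL : Matrix.SpecialLinearGroup (Fin 2) F) ∈
      Subgroup.center (Matrix.SpecialLinearGroup (Fin 2) F) := by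
    rw [Subgroup.mem_center_iff]
    intro g
    exact (zSL_comm g).symm
  have hZ : ∀ j, κ j ∈ Subgroup.center (Matrix.SpecialLinearGroup (Fin 2) F) ↔
      j = 0 ∨ j = hh := by
    intro j
    constructor
    · intro hj
      rw [Cfsg.Agent.Lib.Helper41.sl2_mem_center_iff] at hj
      rcases hj with h3 | h3
      · left
        apply hinj
        rw [hκ0]
        exact Subtype.ext h3
      · right
        apply hinj
        rw [hκh]
        apply Subtype.ext
        rw [h3, zSL_eq_negOne, Cfsg.Agent.Lib.Helper41.negOne_coe]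
    · rintro (rfl | rfl)
      · rw [hκ0]
        exact Subgroup.one_mem _
      · rw [hκh]
        exact hzc
  -- the central character
  obtain ⟨ω, hω, hωg⟩ := sl2_central_scalar ρ
  have hdeg : ρ.character 1 = (r : ℂ) := by
    rw [char_one]
    simp
  have hχz : ρ.character zSL = ω * r := by
    have := hωg 1
    rw [mul_one, hdeg] at this
    exact this
  -- the functions
  set ψ : AddChar (ZMod N) ℂ := ZMod.stdAddChar with hψdef
  have hψ : ψ.IsPrimitive := ZMod.isPrimitive_stdAddChar N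
  set f : ZMod N → ℂ := fun j => ρ.character (κ j) with hf
  set e : ZMod N → ℂ := fun j => (if j = 0 then ((r : ℂ) + 1) else 0) +
    (if j = hh then ω * ((r : ℂ) + 1) else 0) with he
  have hNc : (Fintype.card (ZMod N) : ℂ) = 2 * ((r : ℂ) + 1) := by
    rw [ZMod.card, hN]
    push_cast
    ring
  have hr1 : (r : ℂ) + 1 ≠ 0 := Nat.cast_add_one_ne_zero r
  have hfe : ∀ c : ZMod N, fhatR ψ e c = (1 + ω * ψ (-(c * hh))) / 2 := by
    intro c
    unfold fhatR
    rw [hNc]
    simp only [he, mul_add, Finset.sum_add_distrib, mul_ite, mul_zero, Finset.sum_ite_eq',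
      Finset.mem_univ, if_true]
    rw [neg_zero, AddChar.map_zero_eq_one]
    field_simp
  have hτsq : ∀ c : ZMod N, ψ (-(c * hh)) = 1 ∨ ψ (-(c * hh)) = -1 := by
    intro c
    have h3 : ψ (-(c * hh)) * ψ (-(c * hh)) = 1 := by
      rw [← AddChar.map_add_eq_mul]
      have h4 : -(c * hh) + -(c * hh) = 0 := by
        have : -(c * hh) + -(c * hh) = -(c * (hh + hh)) := by ring
        rw [this, hhh, mul_zero, neg_zero]
      rw [h4, AddChar.map_zero_eq_one]
    have h4 : (ψ (-(c * hh)) - 1) * (ψ (-(c * hh)) + 1) = 0 := by linear_combination h3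
    rcases mul_eq_zero.mp h4 with h5 | h5
    · left
      linear_combination h5
    · right
      linear_combination h5
  have hfeint : ∀ c : ZMod N, ∃ z : ℤ, fhatR ψ e c = (z : ℂ) := by
    intro c
    rw [hfe c]
    rcases hτsq c with h3 | h3 <;> rcases hω with h4 | h4
    · exact ⟨1, by rw [h3, h4]; norm_num⟩
    · exact ⟨0, by rw [h3, h4]; norm_num⟩
    · exact ⟨0, by rw [h3, h4]; norm_num⟩
    · exact ⟨1, by rw [h3, h4]; norm_num⟩
  have hint : ∀ c : ZMod N, ∃ z : ℤ, fhatR ψ (e - f) c = (z : ℂ) := by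
    intro c
    obtain ⟨z, hz⟩ := hfeint c
    obtain ⟨d, hd⟩ := cyc_fhat_nat ρ k₀ N hord ψ c
    refine ⟨z - d, ?_⟩
    rw [fhatR_sub, hz]
    have hd' : fhatR ψ f c = (d : ℂ) := hd
    rw [hd']
    push_cast
    ring
  -- values of `e - f`
  have hg0 : (e - f) 0 = ((1 : ℕ) : ℂ) := by
    simp only [Pi.sub_apply, he, hf]
    rw [if_pos trivial, if_neg (Ne.symm hh0), hκ0, hdeg]
    push_cast
    ring
  have hgh : (e - f) hh = ω := by
    simp only [Pi.sub_apply, he, hf]
    rw [if_neg hh0, if_pos trivial, hκh, hχz]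
    ring
  have hgj : ∀ j, j ≠ 0 → j ≠ hh → (e - f) j = - ρ.character (κ j) := by
    intro j hj0 hjh
    simp only [Pi.sub_apply, he, hf]
    rw [if_neg hj0, if_neg hjh]
    ring
  -- the square sum
  have hbound := sl2_cusp_torus_bound h2 r hr hr2 ρ x hx
  have hsq : ∑ j : ZMod N, Complex.normSq ((e - f) j) ≤
      (Fintype.card (ZMod N) : ℝ) * ((1 : ℕ) : ℝ) := by
    have hpt : ∀ j : ZMod N, Complex.normSq ((e - f) j) =
        (if j = 0 then (1 : ℝ) else 0) + (if j = hh then (1 : ℝ) else 0) +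
        (if κ j ∉ Subgroup.center (Matrix.SpecialLinearGroup (Fin 2) F) then
          Complex.normSq (ρ.character (κ j)) else 0) := by
      intro j
      by_cases hj0 : j = 0
      · rw [hj0, hg0, if_pos rfl, if_neg (Ne.symm hh0),
          if_neg (by rw [not_not, hZ]; left; rfl)]
        simp
      · by_cases hjh : j = hh
        · rw [hjh, hgh, if_neg hh0, if_pos rfl, if_neg (by rw [not_not, hZ]; right; rfl)]
          rcases hω with h4 | h4 <;> simp [h4]
        · rw [hgj j hj0 hjh, if_neg hj0, if_neg hjh,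
            if_pos (by rw [hZ]; push Not; exact ⟨hj0, hjh⟩)]
          simp
    simp only [hpt]
    rw [Finset.sum_add_distrib, Finset.sum_add_distrib, Finset.sum_ite_eq', Finset.sum_ite_eq']
    simp only [Finset.mem_univ, if_true]
    have hparam := sum_subgroup_param C κ hinj hmem hcardι
      (fun k => if k ∉ Subgroup.center (Matrix.SpecialLinearGroup (Fin 2) F) then
        Complex.normSq (ρ.character k) else 0)
    rw [← hparam]
    have hconv : ∑ k : Matrix.SpecialLinearGroup (Fin 2) F,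
        (if k ∈ C then (if k ∉ Subgroup.center (Matrix.SpecialLinearGroup (Fin 2) F) then
          Complex.normSq (ρ.character k) else 0) else 0) =
        ∑ k : Matrix.SpecialLinearGroup (Fin 2) F,
        (if k ∈ C ∧ k ∉ Subgroup.center (Matrix.SpecialLinearGroup (Fin 2) F) then
          Complex.normSq (ρ.character k) else 0) := by
      refine Finset.sum_congr rfl (fun k _ => ?_)
      rw [ite_and]
    rw [hconv]
    have hNr : (Fintype.card (ZMod N) : ℝ) = 2 * (r : ℝ) + 2 := by
      rw [ZMod.card, hN]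
      push_cast
      ring
    rw [hNr]
    push_cast
    linarith
  obtain ⟨M, hM1, hMg⟩ := fourier_zero_one ψ hψ (e - f) hint 1 hg0 hsq
  obtain ⟨c₀, hc₀⟩ := Finset.card_eq_one.mp hM1
  have hgψ : ∀ j, (e - f) j = ψ (c₀ * j) := by
    intro j
    rw [hMg j, hc₀, Finset.sum_singleton]
  -- reality
  set σ := ψ c₀ with hσ
  have hk₀reg : k₀.1.trace * k₀.1.trace ≠ 4 := by
    apply regular_of_mem_centralizer h2' x hτ k₀ hk₀
    intro hcon
    have h3 : κ 1 ∈ Subgroup.center (Matrix.SpecialLinearGroup (Fin 2) F) := by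
      simp only [hκ]
      rw [h1v, pow_one]
      exact hcon
    rcases (hZ 1).mp h3 with h4 | h4
    · exact h10 h4
    · exact h1h h4
  have hreal : ρ.character (k₀⁻¹) = ρ.character k₀ := by
    obtain ⟨P, hP⟩ := Cfsg.Agent.Lib.Helper41.conj_of_trace_eq h2' k₀ k₀⁻¹ hk₀reg
      (Cfsg.Agent.Lib.Helper41.trace_inv k₀)
    rw [← hP, char_conj]
  have hσσ : σ * σ = 1 := by
    have h3 : (e - f) 1 = (e - f) (-1) := by
      rw [hgj 1 h10 h1h, hgj (-1) hm10 hm1h]
      simp only [hκ]
      rw [pow_val_neg k₀ N hord, h1v, pow_one, hreal]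
    rw [hgψ 1, hgψ (-1), mul_one, mul_neg, mul_one] at h3
    have h4 : ψ c₀ * ψ (-c₀) = 1 := by
      rw [← AddChar.map_add_eq_mul, add_neg_cancel, AddChar.map_zero_eq_one]
    rw [← h3] at h4
    exact h4
  have hσ' : σ = 1 ∨ σ = -1 := by
    have h4 : (σ - 1) * (σ + 1) = 0 := by linear_combination hσσ
    rcases mul_eq_zero.mp h4 with h5 | h5
    · left
      linear_combination h5
    · right
      linear_combination h5
  have hgσ : ∀ j : ZMod N, (e - f) j = σ ^ j.val := by
    intro j
    rw [hgψ j]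
    have h3 : c₀ * j = j.val • c₀ := by rw [nsmul_eq_mul, ZMod.natCast_zmod_val, mul_comm]
    rw [h3, AddChar.map_nsmul_eq_pow]
  have hωσ : ω = σ ^ (r + 1) := by rw [← hgh, hgσ hh, hv]
  -- exclude `σ = 1`
  have hσm : σ = -1 := by
    rcases hσ' with h3 | h3
    swap
    · exact h3
    exfalso
    have hω1 : ω = 1 := by rw [hωσ, h3, one_pow]
    have hfj : ∀ j, j ≠ 0 → j ≠ hh → ρ.character (κ j) = -1 := by
      intro j hj0 hjh
      have h4 := hgj j hj0 hjh
      rw [hgσ j, h3, one_pow] at h4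
      linear_combination h4
    have hsumC : ∑ k : Matrix.SpecialLinearGroup (Fin 2) F,
        (if k ∈ C then ρ.character k else 0) = 0 := by
      rw [sum_subgroup_param C κ hinj hmem hcardι (fun k => ρ.character k)]
      have hpt : ∀ j : ZMod N, ρ.character (κ j) = (if j = 0 then ((r : ℂ) + 1) else 0) +
          (if j = hh then ((r : ℂ) + 1) else 0) - 1 := by
        intro j
        by_cases hj0 : j = 0
        · rw [hj0, hκ0, hdeg, if_pos rfl, if_neg (Ne.symm hh0)]
          ring
        · by_cases hjh : j = hh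
          · rw [hjh, hκh, hχz, hω1, if_neg hh0, if_pos rfl]
            ring
          · rw [hfj j hj0 hjh, if_neg hj0, if_neg hjh]
            ring
      simp only [hpt]
      rw [Finset.sum_sub_distrib, Finset.sum_add_distrib, Finset.sum_ite_eq',
        Finset.sum_ite_eq']
      simp only [Finset.mem_univ, if_true, Finset.sum_const, Finset.card_univ, nsmul_eq_mul,
        mul_one]
      rw [hNc]
      ring
    obtain ⟨d, hd⟩ := sl2_normalizer_avg h2' ρ x hτ
    rw [hsumC, zero_add] at hd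
    have hcardC : (Nat.card C : ℂ) = 2 * ((r : ℂ) + 1) := by
      rw [hcard]
      push_cast
      ring
    have hcne : (Nat.card C : ℂ) ≠ 0 := by
      rw [hcardC]
      exact mul_ne_zero two_ne_zero hr1
    have hw : ρ.character Cfsg.Agent.Lib.Helper41.weylW = 2 * d := by
      apply mul_left_cancel₀ hcne
      rw [hd]
      ring
    have hw0 : (Cfsg.Agent.Lib.Helper41.weylW :
        Matrix.SpecialLinearGroup (Fin 2) F).1.trace = 0 := by
      rw [Cfsg.Agent.Lib.Helper41.weylW_coe]
      simp [Matrix.trace_fin_two]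
    by_cases hi : ∃ i : F, i * i + 1 = 0
    · obtain ⟨i, hi⟩ := hi
      have hwz : ρ.character Cfsg.Agent.Lib.Helper41.weylW = 0 := by
        apply sl2_zero_of_split ρ hsum Cfsg.Agent.Lib.Helper41.weylW i
        · rw [hw0]
          linear_combination hi
        · intro h3
          have : (2 : F) = 0 := by linear_combination hi - h3
          exact h2' this
      have hτw : (Cfsg.Agent.Lib.Helper41.weylW :
          Matrix.SpecialLinearGroup (Fin 2) F).1.trace *
          (Cfsg.Agent.Lib.Helper41.weylW :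
          Matrix.SpecialLinearGroup (Fin 2) F).1.trace ≠ 4 := by
        rw [hw0]
        intro h3
        have h4 : (2 : F) * 2 = 0 := by linear_combination -h3
        exact h2' (mul_self_eq_zero.mp h4)
      have hwc := Cfsg.Agent.Lib.Helper41.not_mem_center_of_trace h2'
        Cfsg.Agent.Lib.Helper41.weylW hτw
      have hcardw : Nat.card (Subgroup.centralizer
          ({Cfsg.Agent.Lib.Helper41.weylW} : Set (Matrix.SpecialLinearGroup (Fin 2) F))) =
          2 * r := by
        rcases Cfsg.Agent.Lib.Helper41.card_centralizer_cases h2'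
          Cfsg.Agent.Lib.Helper41.weylW hwc with ⟨h, _⟩ | ⟨_, hc⟩ | ⟨hno, _⟩
        · exact absurd h hτw
        · rw [hc, hr]
          omega
        · exfalso
          apply hno i
          rw [hw0]
          linear_combination hi
      obtain ⟨d', hd'⟩ := sl2_normalizer_avg h2' ρ Cfsg.Agent.Lib.Helper41.weylW hτw
      rw [hwz, mul_zero, add_zero, hcardw] at hd'
      have hz1 : (zSL : Matrix.SpecialLinearGroup (Fin 2) F) ≠ 1 := by
        rw [zSL_eq_negOne]
        exact Cfsg.Agent.Lib.Helper41.negOne_ne_one h2'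
      have hsumw : ∑ k : Matrix.SpecialLinearGroup (Fin 2) F,
          (if k ∈ Subgroup.centralizer
            ({Cfsg.Agent.Lib.Helper41.weylW} : Set (Matrix.SpecialLinearGroup (Fin 2) F)) then
            ρ.character k else 0) = 2 * (r : ℂ) := by
        have hpt : ∀ k : Matrix.SpecialLinearGroup (Fin 2) F,
            (if k ∈ Subgroup.centralizer
              ({Cfsg.Agent.Lib.Helper41.weylW} : Set (Matrix.SpecialLinearGroup (Fin 2) F)) then
              ρ.character k else 0) =
            (if k = 1 then (r : ℂ) else 0) + (if k = zSL then (r : ℂ) else 0) := by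
          intro k
          by_cases hk1 : k = 1
          · rw [hk1, if_pos (Subgroup.one_mem _), if_pos rfl, if_neg (Ne.symm hz1), hdeg]
            ring
          · by_cases hkz : k = zSL
            · rw [hkz, if_pos (by
                rw [zSL_eq_negOne]
                exact Cfsg.Agent.Lib.Helper41.negOne_mem_centralizer _), if_neg hz1, if_pos rfl,
                hχz, hω1]
              ring
            · rw [if_neg hk1, if_neg hkz, add_zero]
              by_cases hkC : k ∈ Subgroup.centralizer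
                ({Cfsg.Agent.Lib.Helper41.weylW} : Set (Matrix.SpecialLinearGroup (Fin 2) F))
              · rw [if_pos hkC]
                have hkc : k ∉ Subgroup.center (Matrix.SpecialLinearGroup (Fin 2) F) := by
                  intro hcon
                  rw [Cfsg.Agent.Lib.Helper41.sl2_mem_center_iff] at hcon
                  rcases hcon with h3 | h3
                  · exact hk1 (Subtype.ext h3)
                  · exact hkz (Subtype.ext (by
                      rw [h3, zSL_eq_negOne, Cfsg.Agent.Lib.Helper41.negOne_coe]))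
                have heq := Cfsg.Agent.Lib.Helper41.centralizer_eq_of_mem
                  Cfsg.Agent.Lib.Helper41.weylW k hwc hkc hkC
                rcases Cfsg.Agent.Lib.Helper41.card_centralizer_cases h2' k hkc with
                  ⟨_, hc⟩ | ⟨⟨l, hl, hl2⟩, _⟩ | ⟨_, hc⟩
                · rw [heq, hcardw, hr] at hc
                  omega
                · exact sl2_zero_of_split ρ hsum k l hl hl2
                · rw [heq, hcardw, hr] at hc
                  omega
              · rw [if_neg hkC]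
        simp only [hpt]
        rw [Finset.sum_add_distrib, Finset.sum_ite_eq', Finset.sum_ite_eq']
        simp only [Finset.mem_univ, if_true]
        ring
      rw [hsumw] at hd'
      have h5 : 2 * r = 2 * (2 * r) * d' := by exact_mod_cast hd'
      have h6 : 2 * r * 1 = 2 * r * (2 * d') := by linarith
      have h7 := Nat.eq_of_mul_eq_mul_left (by omega : 0 < 2 * r) h6
      omega
    · push Not at hi
      have hwns : ∀ a : F, a * a - (Cfsg.Agent.Lib.Helper41.weylW :
          Matrix.SpecialLinearGroup (Fin 2) F).1.trace * a + 1 ≠ 0 := by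
        intro a h3
        apply hi a
        rw [hw0] at h3
        linear_combination h3
      obtain ⟨P, hP⟩ := Cfsg.Agent.Lib.Helper41.nonsplit_conj_mem h2' x hx
        Cfsg.Agent.Lib.Helper41.weylW hwns
      obtain ⟨j, hj⟩ := exists_param C κ hinj hmem hcardι _ hP
      have htr : (κ j).1.trace = 0 := by
        rw [hj, Cfsg.Agent.Lib.Helper41.trace_conj, hw0]
      have hj0 : j ≠ 0 := by
        intro h3
        rw [h3, hκ0] at htr
        simp [Matrix.trace_fin_two] at htr
        exact h2' (by linear_combination htr)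
      have hjh : j ≠ hh := by
        intro h3
        rw [h3, hκh, zSL_coe] at htr
        simp [Matrix.trace_fin_two] at htr
        exact h2' (by linear_combination -htr)
      have h5 := hfj j hj0 hjh
      rw [hj, char_conj, hw] at h5
      have h6 : ((2 * d + 1 : ℕ) : ℂ) = 0 := by
        push_cast
        linear_combination h5
      have h7 : 2 * d + 1 = 0 := by exact_mod_cast h6
      omega
  refine ⟨hkh, ?_, ?_⟩
  · rw [hχz, hωσ, hσm]
  · intro j hj0 hjh
    have h3 := hgj j hj0 hjh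
    rw [hgσ j, hσm] at h3
    show ρ.character (κ j) = _
    linear_combination h3

/-- the values of an irreducible character of degree `(q - 1) / 2` of `SL₂(q)`, `q ≥ 5` odd, at
the central involution and at the elements without eigenvalues in the field. -/
theorem sl2_cusp_half_value (h2 : ringChar F ≠ 2) (r : ℕ) (hr : Fintype.card F = 2 * r + 1)
    (hr2 : 2 ≤ r)
    (ρ : Representation ℂ (Matrix.SpecialLinearGroup (Fin 2) F) (Fin r → ℂ)) [ρ.IsIrreducible]
    (g : Matrix.SpecialLinearGroup (Fin 2) F) (hg : ∀ a : F, a * a - g.1.trace * a + 1 ≠ 0) :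
    ρ.character zSL = (-1) ^ (r + 1) * r ∧ (g ^ (r + 1) = 1 → ρ.character g = -1) ∧
      (g ^ (r + 1) ≠ 1 → ρ.character g = 1) := by
  have h2' : (2 : F) ≠ 0 := Ring.two_ne_zero h2
  have hτ : g.1.trace * g.1.trace ≠ 4 := Cfsg.Agent.Lib.Helper41.trace_sq_ne_four_of_nonsplit hg
  have hgc := Cfsg.Agent.Lib.Helper41.not_mem_center_of_trace h2' g hτ
  have hcard : Nat.card (Subgroup.centralizer
      ({g} : Set (Matrix.SpecialLinearGroup (Fin 2) F))) = 2 * r + 2 := by
    rcases Cfsg.Agent.Lib.Helper41.card_centralizer_cases h2' g hgc with ⟨h, _⟩ | ⟨⟨l, hl, _⟩, _⟩ |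
      ⟨_, hc⟩
    · exact absurd h hτ
    · exact absurd hl (hg l)
    · rw [hc, hr]
  obtain ⟨k₀, hk₀, hord⟩ := Cfsg.Agent.Lib.Helper41.exists_mem_centralizer_orderOf h2' g hτ
  rw [hcard] at hord
  have hNZ : NeZero (2 * r + 2) := ⟨by omega⟩
  obtain ⟨hkh, hz, hval⟩ := sl2_cusp_torus_param h2 r hr hr2 ρ g hg (2 * r + 2) rfl k₀ hk₀ hord
  refine ⟨hz, ?_⟩
  have hgC : g ∈ Subgroup.centralizer ({g} : Set (Matrix.SpecialLinearGroup (Fin 2) F)) := by
    rw [Subgroup.mem_centralizer_singleton_iff]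
  obtain ⟨j, hj⟩ := exists_param (Subgroup.centralizer
      ({g} : Set (Matrix.SpecialLinearGroup (Fin 2) F)))
    (fun j : ZMod (2 * r + 2) => k₀ ^ j.val) (pow_val_injective k₀ _ hord)
    (fun j => Subgroup.pow_mem _ hk₀ _) (by rw [ZMod.card, hcard]) g hgC
  replace hj : k₀ ^ j.val = g := hj
  obtain ⟨hv, -, -, -, -, -, -, -⟩ := zmod_facts r hr2 (2 * r + 2) rfl
  have hzc : (zSL : Matrix.SpecialLinearGroup (Fin 2) F) ∈
      Subgroup.center (Matrix.SpecialLinearGroup (Fin 2) F) := by
    rw [Subgroup.mem_center_iff]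
    intro y
    exact (zSL_comm y).symm
  have hj0 : j ≠ 0 := by
    intro h3
    rw [h3, ZMod.val_zero, pow_zero] at hj
    apply hgc
    rw [← hj]
    exact Subgroup.one_mem _
  have hjh : j ≠ ((r + 1 : ℕ) : ZMod (2 * r + 2)) := by
    intro h3
    rw [h3, hv, hkh] at hj
    apply hgc
    rw [← hj]
    exact hzc
  have hχ := hval j hj0 hjh
  rw [hj] at hχ
  have hpow : g ^ (r + 1) = zSL ^ j.val := by
    rw [← hj, ← pow_mul, mul_comm, pow_mul, hkh]
  rcases Nat.even_or_odd j.val with hev | hod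
  · obtain ⟨t, ht⟩ := hev
    have h1 : g ^ (r + 1) = 1 := by
      rw [hpow, ht, ← two_mul, pow_mul, sq, zSL_mul_self, one_pow]
    have h3 : (-1 : ℂ) ^ j.val = 1 := by
      rw [ht, ← two_mul, pow_mul]
      norm_num
    exact ⟨fun _ => by rw [hχ, h3], fun hne => absurd h1 hne⟩
  · obtain ⟨t, ht⟩ := hod
    have h1 : g ^ (r + 1) = zSL := by
      rw [hpow, ht, pow_succ, pow_mul, sq, zSL_mul_self, one_pow, one_mul]
    have hz1 : (zSL : Matrix.SpecialLinearGroup (Fin 2) F) ≠ 1 := by
      rw [zSL_eq_negOne]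
      exact Cfsg.Agent.Lib.Helper41.negOne_ne_one h2'
    have h3 : (-1 : ℂ) ^ j.val = -1 := by
      rw [ht, pow_succ, pow_mul]
      norm_num
    exact ⟨fun h => absurd (h1.symm.trans h) hz1, fun _ => by rw [hχ, h3]; norm_num⟩

/-- the value at the central involution of an irreducible character of degree `(q - 1) / 2` of
`SL₂(q)`, `q ≥ 5` odd. -/
theorem sl2_cusp_half_central (h2 : ringChar F ≠ 2) (r : ℕ) (hr : Fintype.card F = 2 * r + 1)
    (hr2 : 2 ≤ r)
    (ρ : Representation ℂ (Matrix.SpecialLinearGroup (Fin 2) F) (Fin r → ℂ)) [ρ.IsIrreducible] :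
    ρ.character zSL = (-1) ^ (r + 1) * r := by
  obtain ⟨W, -, hW, -, -⟩ := Cfsg.Agent.Lib.Helper41.exists_nonsplit_torus (F := F)
    (Ring.two_ne_zero h2)
  exact (sl2_cusp_half_value h2 r hr hr2 ρ W hW).1

end CuspD

end Cfsg.Agent.Lib.Helper39
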