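import Mathlib
import Cfsg.Prelude.Def_Characters
import Cfsg.Prelude.Def_ParabolicCharacters
import Cfsg.Agent.Lib.Helper39.SL2Cusp

set_option autoImplicit false

namespace Cfsg.Agent.Lib.Helper39

open Matrix Representation
open scoped ComplexConjugate

universe u

section Gen

variable {G : Type u} [Group G] [Fintype G]

/-- the square norm of the difference of two distinct irreducible characters. -/
theorem irr_sum_normSq_sub {χ₁ χ₂ : G → ℂ} (h₁ : Cfsg.IsIrrCharacter G χ₁)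
    (h₂ : Cfsg.IsIrrCharacter G χ₂) (hne : χ₁ ≠ χ₂) :
    ∑ g : G, Complex.normSq (χ₁ g - χ₂ g) = 2 * (Fintype.card G : ℝ) := by
  have h0 := Cfsg.Agent.Lib.Helper3.classInner_irr_ne h₁ h₂ hne
  unfold Cfsg.classInner at h0
  have hG : (Nat.card G : ℂ) ≠ 0 := by
    simp [Nat.card_eq_fintype_card]
  have h3 : ∑ g : G, χ₁ g * conj (χ₂ g) = 0 := by
    rcases mul_eq_zero.mp h0 with h | h
    · exact absurd (inv_eq_zero.mp h) hG
    · exact h
  have hs₁ : ∑ g : G, Complex.normSq (χ₁ g) = (Fintype.card G : ℝ) := by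
    obtain ⟨n, ρ, hirr, rfl⟩ := h₁
    exact irr_sum_normSq ρ
  have hs₂ : ∑ g : G, Complex.normSq (χ₂ g) = (Fintype.card G : ℝ) := by
    obtain ⟨n, ρ, hirr, rfl⟩ := h₂
    exact irr_sum_normSq ρ
  simp only [Complex.normSq_sub]
  rw [Finset.sum_sub_distrib, Finset.sum_add_distrib, hs₁, hs₂, ← Finset.mul_sum,
    ← Complex.re_sum, h3]
  simp
  ring

end Gen

section Uniq

variable {F : Type u} [Field F] [Fintype F] [DecidableEq F]

theorem sl2_cusp_half_unip_sum (h2 : ringChar F ≠ 2) (r : ℕ) (hr : Fintype.card F = 2 * r + 1)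
    (hr2 : 2 ≤ r)
    (ρ : Representation ℂ (Matrix.SpecialLinearGroup (Fin 2) F) (Fin r → ℂ)) [ρ.IsIrreducible] :
    ∑ x : F, Complex.normSq (ρ.character (tSL x)) = (Fintype.card F : ℝ) * r := by
  obtain ⟨ψ, hψ⟩ := exists_addChar_ne_one (F := F)
  obtain ⟨ε, hε⟩ := exists_nonsquare_aux h2
  obtain ⟨m, k₁, k₂, hu0, hu1, hue, -, -, -, -, -, -, t5⟩ :=
    sl2_type_odd h2 r hr hr2 ψ hψ ε hε r ρ
  obtain ⟨hm, hk⟩ := t5 rfl
  have hunip := sum_normSq_unip h2 r hr ψ hψ ε hε ρ m k₁ k₂ hu0 hu1 hue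
  have hk' : (k₁ : ℝ) ^ 2 + (k₂ : ℝ) ^ 2 = 1 := by
    have : k₁ = 0 ∧ k₂ = 1 ∨ k₁ = 1 ∧ k₂ = 0 := by omega
    rcases this with ⟨ha, hb⟩ | ⟨ha, hb⟩ <;> simp [ha, hb]
  rw [hm, hk'] at hunip
  rw [hunip]
  push_cast
  ring

open Classical in
/-- an irreducible character of degree `(q - 1) / 2` of `SL₂(q)`, `q ≥ 5` odd, is determined by
its restriction to the unipotent subgroup. -/
theorem sl2_cusp_half_unique (h2 : ringChar F ≠ 2) (r : ℕ) (hr : Fintype.card F = 2 * r + 1)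
    (hr2 : 2 ≤ r)
    (ρ₁ ρ₂ : Representation ℂ (Matrix.SpecialLinearGroup (Fin 2) F) (Fin r → ℂ))
    [hi₁ : ρ₁.IsIrreducible] [hi₂ : ρ₂.IsIrreducible]
    (hU : ∀ x : F, ρ₁.character (tSL x) = ρ₂.character (tSL x)) :
    ρ₁.character = ρ₂.character := by
  by_contra hne
  have h2' : (2 : F) ≠ 0 := Ring.two_ne_zero h2
  have hr0 : (r : ℂ) ≠ 0 := by exact_mod_cast (by omega : r ≠ 0)
  have hdeg : ∀ (ρ : Representation ℂ (Matrix.SpecialLinearGroup (Fin 2) F) (Fin r → ℂ)),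
      ρ.character 1 = (r : ℂ) := by
    intro ρ
    rw [char_one]
    simp
  have hcen : ∀ (ρ : Representation ℂ (Matrix.SpecialLinearGroup (Fin 2) F) (Fin r → ℂ))
      [ρ.IsIrreducible] (g : Matrix.SpecialLinearGroup (Fin 2) F),
      ρ.character (zSL * g) = (-1) ^ (r + 1) * ρ.character g := by
    intro ρ _ g
    obtain ⟨ω, -, hω⟩ := sl2_central_scalar ρ
    have hz := sl2_cusp_half_central h2 r hr hr2 ρ
    have h1 := hω 1
    rw [mul_one, hz, hdeg ρ] at h1
    have hω' : ω = (-1) ^ (r + 1) := (mul_right_cancel₀ hr0 h1).symm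
    rw [hω g, hω']
  have hA : ∀ p, ρ₁.character (zFam p) = ρ₂.character (zFam p) := by
    rintro ⟨b, i⟩
    have hu : ρ₁.character (uFam' i) = ρ₂.character (uFam' i) := by
      cases i with
      | none =>
        simp only [uFam']
        rw [hdeg ρ₁, hdeg ρ₂]
      | some p =>
        simp only [uFam', uFam]
        rw [char_conj, char_conj]
        exact hU _
    cases b
    · simp only [zFam, Bool.false_eq_true, if_false, one_mul]
      exact hu
    · simp only [zFam, if_true]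
      rw [hcen ρ₁, hcen ρ₂, hu]
  have hχ₁ : Cfsg.IsIrrCharacter (Matrix.SpecialLinearGroup (Fin 2) F) ρ₁.character :=
    ⟨r, ρ₁, hi₁, rfl⟩
  have hχ₂ : Cfsg.IsIrrCharacter (Matrix.SpecialLinearGroup (Fin 2) F) ρ₂.character :=
    ⟨r, ρ₂, hi₂, rfl⟩
  have hsub := irr_sum_normSq_sub hχ₁ hχ₂ hne
  have hN : ∀ (ρ : Representation ℂ (Matrix.SpecialLinearGroup (Fin 2) F) (Fin r → ℂ))
      [ρ.IsIrreducible], ∑ g ∈ Finset.univ.image (zFam (F := F)),
        Complex.normSq (ρ.character g) =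
      2 * ((r : ℝ) ^ 2 + (2 * (r : ℝ) + 2) * ((2 * (r : ℝ) + 1) * r - (r : ℝ) ^ 2)) := by
    intro ρ _
    rw [Finset.sum_image (fun a _ b _ h => zFam_injective h2' h), sum_zFam ρ,
      sl2_cusp_half_unip_sum h2 r hr hr2 ρ, hdeg ρ, hr]
    simp
    ring
  have hpt : ∀ g : Matrix.SpecialLinearGroup (Fin 2) F,
      Complex.normSq (ρ₁.character g - ρ₂.character g) ≤
      2 * Complex.normSq (ρ₁.character g) + 2 * Complex.normSq (ρ₂.character g) -
      (if g ∈ Finset.univ.image (zFam (F := F)) then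
        2 * Complex.normSq (ρ₁.character g) + 2 * Complex.normSq (ρ₂.character g) else 0) := by
    intro g
    by_cases hg : g ∈ Finset.univ.image (zFam (F := F))
    · rw [if_pos hg]
      obtain ⟨p, -, rfl⟩ := Finset.mem_image.mp hg
      rw [hA p, sub_self]
      simp
    · rw [if_neg hg, sub_zero]
      rw [Complex.normSq_apply, Complex.normSq_apply, Complex.normSq_apply]
      simp only [Complex.sub_re, Complex.sub_im]
      nlinarith [sq_nonneg ((ρ₁.character g).re + (ρ₂.character g).re),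
        sq_nonneg ((ρ₁.character g).im + (ρ₂.character g).im)]
  have hsum := Finset.sum_le_sum (fun g (_ : g ∈ Finset.univ) => hpt g)
  rw [hsub, Finset.sum_sub_distrib, Finset.sum_add_distrib, ← Finset.mul_sum, ← Finset.mul_sum,
    irr_sum_normSq ρ₁, irr_sum_normSq ρ₂, ← Finset.sum_filter] at hsum
  have hfil : Finset.univ.filter (fun g : Matrix.SpecialLinearGroup (Fin 2) F =>
      g ∈ Finset.univ.image (zFam (F := F))) = Finset.univ.image (zFam (F := F)) := by
    ext g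
    simp
  rw [hfil, Finset.sum_add_distrib, ← Finset.mul_sum, ← Finset.mul_sum, hN ρ₁, hN ρ₂,
    card_SL2_real, hr] at hsum
  push_cast at hsum
  have hr' : (2 : ℝ) ≤ r := by exact_mod_cast hr2
  nlinarith [sq_nonneg (r : ℝ)]

end Uniq

end Cfsg.Agent.Lib.Helper39
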