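import Mathlib
import Cfsg.Prelude.Def_Characters
import Cfsg.Prelude.Def_ParabolicCharacters
import Cfsg.Agent.Lib.Helper39.SL2Mackey

set_option autoImplicit false

namespace Cfsg.Agent.Lib.Helper39

open Matrix Representation
open scoped ComplexConjugate

universe u

variable {F : Type u} [Field F] [Fintype F] [DecidableEq F]

/-- the inner product of two principal series functions of `SL₂` (Mackey). -/
theorem classInner_indFun_lamS_two (α β : MulChar F ℂ) [Decidable (α = β)]
    [Decidable (α = β⁻¹)] :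
    Cfsg.classInner (Cfsg.indFun (borelS F) (lamS α)) (Cfsg.indFun (borelS F) (lamS β)) =
      (if α = β then 1 else 0) + (if α = β⁻¹ then 1 else 0) := by
  classical
  letI : Fintype (borelS F) := Fintype.ofEquiv _ sbEquiv
  rw [Cfsg.Agent.Lib.Helper3.frobenius_reciprocity _ _ _
    (Cfsg.Agent.Lib.Helper3.isClassFunction_indFun _ _)]
  unfold Cfsg.classInner
  rw [card_borelS]
  have hq := card_sub_one_ne_zero (F := F)
  have hq0 : (Fintype.card F : ℂ) ≠ 0 := by
    have := Fintype.card_pos (α := F)
    exact_mod_cast this.ne'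
  have h1 : ∑ b : borelS F, lamS α b *
      conj (Cfsg.indFun (borelS F) (lamS β) (b : Matrix.SpecialLinearGroup (Fin 2) F)) =
      ∑ p : Fˣ × F, (α (p.1 : F) * conj (β (p.1 : F)) +
        (∑ y : F, if (((p.1⁻¹ : Fˣ) : F) - (p.1 : F)) * y - p.2 = 0
        then (1 : ℂ) else 0) * (α * β) (p.1 : F)) := by
    symm
    refine Fintype.sum_equiv sbEquiv _ _ (fun p => ?_)
    rw [lamS_sbEquiv, sbEquiv_val, indFun_lamS_borel, map_add, map_mul, mul_add]
    have hn : β (p.1 : F) * conj (β (p.1 : F)) = 1 := by
      rw [Complex.mul_conj, Complex.normSq_eq_norm_sq, mulChar_norm_unit]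
      simp
    have hinv : β ((p.1⁻¹ : Fˣ) : F) * β (p.1 : F) = 1 := by
      rw [← map_mul, ← Units.val_mul, inv_mul_cancel, Units.val_one, map_one]
    have hc : conj (β ((p.1⁻¹ : Fˣ) : F)) = β (p.1 : F) := by
      have h2 : conj (β ((p.1⁻¹ : Fˣ) : F)) * conj (β (p.1 : F)) = 1 := by
        rw [← map_mul, hinv, map_one]
      have h3 : conj (β (p.1 : F)) ≠ 0 := by
        intro h0
        rw [h0, mul_zero] at hn
        exact zero_ne_one hn
      exact mul_right_cancel₀ h3 (h2.trans hn.symm)
    have hsum : conj (∑ y : F, if (((p.1⁻¹ : Fˣ) : F) - (p.1 : F)) * y - p.2 = 0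
        then (1 : ℂ) else 0) = ∑ y : F, if (((p.1⁻¹ : Fˣ) : F) - (p.1 : F)) * y - p.2 = 0
        then (1 : ℂ) else 0 := by
      rw [map_sum]
      refine Finset.sum_congr rfl (fun y _ => ?_)
      split_ifs <;> simp
    rw [hsum, hc, MulChar.mul_apply]
    ring
  rw [h1, Fintype.sum_prod_type]
  simp only [Finset.sum_add_distrib, Finset.sum_const, Finset.card_univ, nsmul_eq_mul,
    ← Finset.sum_mul, sum_count_aux]
  rw [← Finset.mul_sum, ← Finset.mul_sum, mulChar_orth, mulChar_sum_units]
  have hiff : α * β = 1 ↔ α = β⁻¹ := mul_eq_one_iff_eq_inv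
  by_cases hab : α = β
  · by_cases hab' : α = β⁻¹
    · simp only [if_pos hab, if_pos hab', if_pos (hiff.mpr hab')]
      field_simp
      try ring
    · simp only [if_pos hab, if_neg hab', if_neg (fun h => hab' (hiff.mp h))]
      field_simp
      try ring
  · by_cases hab' : α = β⁻¹
    · simp only [if_neg hab, if_pos hab', if_pos (hiff.mpr hab')]
      field_simp
      try ring
    · simp only [if_neg hab, if_neg hab', if_neg (fun h => hab' (hiff.mp h))]
      simp

end Cfsg.Agent.Lib.Helper39
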