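import Mathlib
import Cfsg.Prelude.Def_Characters
import Cfsg.Prelude.Def_ParabolicCharacters
import Cfsg.Agent.Lib.Helper39.SL2CuspUniq
import Cfsg.Agent.Lib.Helper39.SL2Mackey2
import Cfsg.Agent.Lib.Helper25.IndFun
import Cfsg.Agent.Lib.Helper25.LinChar
import Cfsg.Agent.Lib.Helper80.CharOps
import Cfsg.Agent.Lib.Lead.Frobenius

set_option autoImplicit false

namespace Cfsg.Agent.Lib.Helper39

open Matrix Representation
open scoped ComplexConjugate

universe u

section IndGen

variable {G : Type u} [Group G] [Fintype G]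

/-- an induced function vanishes at the elements which are not conjugate into the subgroup. -/
theorem indFun_eq_zero_of_not_conj (H : Subgroup G) (θ : H → ℂ) (g : G)
    (h : ∀ x : G, x⁻¹ * g * x ∉ H) : Cfsg.indFun H θ g = 0 := by
  unfold Cfsg.indFun
  rw [Finset.sum_eq_zero, mul_zero]
  intro x _
  exact extendByZero_of_not_mem H θ _ (h x)

/-- the central character of an induced function. -/
theorem indFun_central_mul (H : Subgroup G) (θ : H → ℂ) (z : G) (hzH : z ∈ H)
    (hz : ∀ g : G, z * g = g * z) (c : ℂ) (hθ : ∀ h : H, θ (⟨z, hzH⟩ * h) = c * θ h) (g : G) :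
    Cfsg.indFun H θ (z * g) = c * Cfsg.indFun H θ g := by
  unfold Cfsg.indFun
  rw [← mul_assoc, mul_comm c, mul_assoc]
  congr 1
  rw [Finset.mul_sum]
  refine Finset.sum_congr rfl (fun x _ => ?_)
  have e : x⁻¹ * (z * g) * x = z * (x⁻¹ * g * x) := by
    rw [← mul_assoc x⁻¹ z g, ← hz x⁻¹]
    group
  rw [e]
  by_cases hm : x⁻¹ * g * x ∈ H
  · rw [extendByZero_of_mem H θ _ (H.mul_mem hzH hm), extendByZero_of_mem H θ _ hm]
    exact hθ ⟨_, hm⟩
  · have hm' : z * (x⁻¹ * g * x) ∉ H := by
      intro h'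
      apply hm
      have := H.mul_mem (H.inv_mem hzH) h'
      rwa [inv_mul_cancel_left] at this
    rw [extendByZero_of_not_mem H θ _ hm', extendByZero_of_not_mem H θ _ hm, mul_zero]

/-- the projection formula. -/
theorem indFun_mul_classFunction (H : Subgroup G) (θ : H → ℂ) (f : G → ℂ)
    (hf : Cfsg.IsClassFunction G f) (g : G) :
    Cfsg.indFun H (fun h => f h * θ h) g = f g * Cfsg.indFun H θ g := by
  unfold Cfsg.indFun
  rw [← mul_assoc, mul_comm (f g), mul_assoc]
  congr 1
  rw [Finset.mul_sum]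
  refine Finset.sum_congr rfl (fun x _ => ?_)
  have hfx : f (x⁻¹ * g * x) = f g := by
    have := hf g x⁻¹
    rwa [inv_inv] at this
  by_cases hm : x⁻¹ * g * x ∈ H
  · rw [extendByZero_of_mem H _ _ hm, extendByZero_of_mem H θ _ hm]
    simp only
    rw [hfx]
  · rw [extendByZero_of_not_mem H _ _ hm, extendByZero_of_not_mem H θ _ hm, mul_zero]

/-- the value of an induced function at a central element of the subgroup. -/
theorem indFun_central (H : Subgroup G) (θ : H → ℂ) (z : G) (hzH : z ∈ H)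
    (hz : ∀ g : G, z * g = g * z) :
    Cfsg.indFun H θ z = (Nat.card H : ℂ)⁻¹ * (Fintype.card G : ℂ) * θ ⟨z, hzH⟩ := by
  unfold Cfsg.indFun
  have h1 : ∀ x : G, Cfsg.extendByZero H θ (x⁻¹ * z * x) = θ ⟨z, hzH⟩ := by
    intro x
    have e : x⁻¹ * z * x = z := by
      rw [mul_assoc, hz x, ← mul_assoc, inv_mul_cancel, one_mul]
    rw [e, extendByZero_of_mem H θ z hzH]
  simp only [h1, Finset.sum_const, Finset.card_univ, nsmul_eq_mul]
  ring

end IndGen

section Torus

variable {F : Type u} [Field F] [Fintype F] [DecidableEq F]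

theorem no_eigenvector_of_no_root (g : Matrix.SpecialLinearGroup (Fin 2) F)
    (h : ∀ a : F, a * a - g.1.trace * a + 1 ≠ 0) :
    ∀ (c : F) (v : Fin 2 → F), v ≠ 0 → (g : Matrix (Fin 2) (Fin 2) F).mulVec v ≠ c • v := by
  intro c v hv hgv
  have h1 : (g.1 * g.1).mulVec v = (g.1.trace • g.1 - 1).mulVec v := by
    rw [Cfsg.Agent.Lib.Helper41.cayley2_det_one g.det_coe]
  rw [← Matrix.mulVec_mulVec, hgv, Matrix.mulVec_smul, hgv, Matrix.sub_mulVec,
    Matrix.smul_mulVec, hgv, Matrix.one_mulVec] at h1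
  have h3 : (c * c - g.1.trace * c + 1) • v = 0 := by
    rw [add_smul, sub_smul, one_smul, mul_smul, mul_smul, h1]
    abel
  rcases smul_eq_zero.mp h3 with h4 | h4
  · exact h c h4
  · exact hv h4

theorem card_centralizer_nonsplit (h2 : (2 : F) ≠ 0) (x : Matrix.SpecialLinearGroup (Fin 2) F)
    (hx : ∀ a : F, a * a - x.1.trace * a + 1 ≠ 0) :
    Nat.card (Subgroup.centralizer ({x} : Set (Matrix.SpecialLinearGroup (Fin 2) F))) =
      Fintype.card F + 1 := by
  have hτ : x.1.trace * x.1.trace ≠ 4 := Cfsg.Agent.Lib.Helper41.trace_sq_ne_four_of_nonsplit hx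
  have hxc := Cfsg.Agent.Lib.Helper41.not_mem_center_of_trace h2 x hτ
  rcases Cfsg.Agent.Lib.Helper41.card_centralizer_cases h2 x hxc with ⟨h, _⟩ | ⟨⟨l, hl, _⟩, _⟩ |
    ⟨_, hc⟩
  · exact absurd h hτ
  · exact absurd hl (hx l)
  · exact hc

/-- the non-central elements of a non-split torus have no eigenvalues in the field. -/
theorem nonsplit_of_mem_centralizer (h2 : (2 : F) ≠ 0)
    (x : Matrix.SpecialLinearGroup (Fin 2) F) (hx : ∀ a : F, a * a - x.1.trace * a + 1 ≠ 0)
    (k : Matrix.SpecialLinearGroup (Fin 2) F)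
    (hk : k ∈ Subgroup.centralizer ({x} : Set (Matrix.SpecialLinearGroup (Fin 2) F)))
    (hkc : k ∉ Subgroup.center (Matrix.SpecialLinearGroup (Fin 2) F)) :
    ∀ a : F, a * a - k.1.trace * a + 1 ≠ 0 := by
  have hτ : x.1.trace * x.1.trace ≠ 4 := Cfsg.Agent.Lib.Helper41.trace_sq_ne_four_of_nonsplit hx
  have hxc := Cfsg.Agent.Lib.Helper41.not_mem_center_of_trace h2 x hτ
  have heq := Cfsg.Agent.Lib.Helper41.centralizer_eq_of_mem x k hxc hkc hk
  have hcard := card_centralizer_nonsplit h2 x hx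
  have hq := Fintype.one_lt_card (α := F)
  rcases Cfsg.Agent.Lib.Helper41.card_centralizer_cases h2 k hkc with ⟨_, hc⟩ | ⟨_, hc⟩ | ⟨hno, _⟩
  · rw [heq, hcard] at hc
    omega
  · rw [heq, hcard] at hc
    omega
  · exact hno

/-- an element conjugating a non-central element of a torus into the torus normalizes it. -/
theorem mem_normalizer_of_conj_mem (h2 : (2 : F) ≠ 0)
    (x : Matrix.SpecialLinearGroup (Fin 2) F) (hτ : x.1.trace * x.1.trace ≠ 4)
    (c y : Matrix.SpecialLinearGroup (Fin 2) F)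
    (hc : c ∈ Subgroup.centralizer ({x} : Set (Matrix.SpecialLinearGroup (Fin 2) F)))
    (hcc : c ∉ Subgroup.center (Matrix.SpecialLinearGroup (Fin 2) F))
    (hy : y⁻¹ * c * y ∈ Subgroup.centralizer ({x} : Set (Matrix.SpecialLinearGroup (Fin 2) F))) :
    y ∈ Subgroup.normalizer
      (Subgroup.centralizer ({x} : Set (Matrix.SpecialLinearGroup (Fin 2) F)) :
        Set (Matrix.SpecialLinearGroup (Fin 2) F)) := by
  have hxc := Cfsg.Agent.Lib.Helper41.not_mem_center_of_trace h2 x hτ
  have hcc' : y⁻¹ * c * y ∉ Subgroup.center (Matrix.SpecialLinearGroup (Fin 2) F) := by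
    intro h
    apply hcc
    rw [Subgroup.mem_center_iff] at h ⊢
    intro g
    have h3 := h (y⁻¹ * g * y)
    have h4 : y * (y⁻¹ * g * y * (y⁻¹ * c * y)) * y⁻¹ = y * (y⁻¹ * c * y * (y⁻¹ * g * y)) * y⁻¹ := by
      rw [h3]
    calc g * c = y * (y⁻¹ * g * y * (y⁻¹ * c * y)) * y⁻¹ := by group
      _ = y * (y⁻¹ * c * y * (y⁻¹ * g * y)) * y⁻¹ := h4
      _ = c * g := by group
  have hC₁ := Cfsg.Agent.Lib.Helper41.centralizer_eq_of_mem x c hxc hcc hc
  have hC₂ := Cfsg.Agent.Lib.Helper41.centralizer_eq_of_mem x _ hxc hcc' hy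
  rw [Subgroup.mem_normalizer_iff]
  intro h
  constructor
  · intro hh
    rw [← hC₂, Subgroup.mem_centralizer_singleton_iff] at hh
    rw [← hC₁, Subgroup.mem_centralizer_singleton_iff]
    have h4 : y * (h * (y⁻¹ * c * y)) * y⁻¹ = y * (y⁻¹ * c * y * h) * y⁻¹ := by rw [hh]
    calc y * h * y⁻¹ * c = y * (h * (y⁻¹ * c * y)) * y⁻¹ := by group
      _ = y * (y⁻¹ * c * y * h) * y⁻¹ := h4
      _ = c * (y * h * y⁻¹) := by group
  · intro hh
    rw [← hC₁, Subgroup.mem_centralizer_singleton_iff] at hh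
    rw [← hC₂, Subgroup.mem_centralizer_singleton_iff]
    have h4 : y⁻¹ * (y * h * y⁻¹ * c) * y = y⁻¹ * (c * (y * h * y⁻¹)) * y := by rw [hh]
    calc h * (y⁻¹ * c * y) = y⁻¹ * (y * h * y⁻¹ * c) * y := by group
      _ = y⁻¹ * (c * (y * h * y⁻¹)) * y := h4
      _ = y⁻¹ * c * y * h := by group

open Classical in
/-- the value of a function induced from a torus at a non-central element of the torus. -/
theorem indFun_torus_noncentral (h2 : (2 : F) ≠ 0)
    (x : Matrix.SpecialLinearGroup (Fin 2) F) (hτ : x.1.trace * x.1.trace ≠ 4)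
    (C : Subgroup (Matrix.SpecialLinearGroup (Fin 2) F))
    (hC : C = Subgroup.centralizer ({x} : Set (Matrix.SpecialLinearGroup (Fin 2) F)))
    (θ : C → ℂ) (c : Matrix.SpecialLinearGroup (Fin 2) F) (hc : c ∈ C)
    (hcc : c ∉ Subgroup.center (Matrix.SpecialLinearGroup (Fin 2) F)) :
    Cfsg.indFun C θ c = θ ⟨c, hc⟩ + θ ⟨c⁻¹, inv_mem hc⟩ := by
  subst hC
  have hxc := Cfsg.Agent.Lib.Helper41.not_mem_center_of_trace h2 x hτ
  have hcardN := Cfsg.Agent.Lib.Helper41.card_normalizer_centralizer h2 x hτ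
  have hle := Cfsg.Agent.Lib.Helper41.centralizer_le_normalizer_centralizer h2 x hτ
  have key : ∀ y : Matrix.SpecialLinearGroup (Fin 2) F,
      Cfsg.extendByZero (Subgroup.centralizer
        ({x} : Set (Matrix.SpecialLinearGroup (Fin 2) F))) θ (y⁻¹ * c * y) =
      (if y ∈ Subgroup.centralizer ({x} : Set (Matrix.SpecialLinearGroup (Fin 2) F))
        then (1 : ℂ) else 0) * θ ⟨c, hc⟩ +
        ((if y ∈ Subgroup.normalizer
          (Subgroup.centralizer ({x} : Set (Matrix.SpecialLinearGroup (Fin 2) F)) :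
            Set (Matrix.SpecialLinearGroup (Fin 2) F)) then (1 : ℂ) else 0) -
          (if y ∈ Subgroup.centralizer ({x} : Set (Matrix.SpecialLinearGroup (Fin 2) F))
            then (1 : ℂ) else 0)) * θ ⟨c⁻¹, inv_mem hc⟩ := by
    intro y
    by_cases hyC : y ∈ Subgroup.centralizer ({x} : Set (Matrix.SpecialLinearGroup (Fin 2) F))
    · rw [if_pos hyC, if_pos (hle hyC)]
      have e : y⁻¹ * c * y = c := by
        rw [mul_assoc, Cfsg.Agent.Lib.Helper41.centralizer_comm x hxc c y hc hyC, ← mul_assoc,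
          inv_mul_cancel, one_mul]
      rw [extendByZero_of_mem _ θ _ (by rw [e]; exact hc)]
      simp only [e]
      ring
    · by_cases hyN : y ∈ Subgroup.normalizer
          (Subgroup.centralizer ({x} : Set (Matrix.SpecialLinearGroup (Fin 2) F)) :
            Set (Matrix.SpecialLinearGroup (Fin 2) F))
      · rw [if_neg hyC, if_pos hyN]
        have hyN' := inv_mem hyN
        have hyC' : y⁻¹ ∉ Subgroup.centralizer
            ({x} : Set (Matrix.SpecialLinearGroup (Fin 2) F)) :=
          fun h => hyC (by simpa using inv_mem h)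
        have hinv : y⁻¹ * x * y⁻¹⁻¹ = x⁻¹ := by
          rcases (Cfsg.Agent.Lib.Helper41.mem_normalizer_centralizer_iff h2 x hτ y⁻¹).mp hyN' with
            h | h
          · exact absurd ((Cfsg.Agent.Lib.Helper41.conj_eq_iff_mem_centralizer x y⁻¹).mpr h) hyC'
          · exact h
        have e : y⁻¹ * c * y = c⁻¹ := by
          have := Cfsg.Agent.Lib.Helper41.inv_conj_of_mem x y⁻¹ c hxc hinv hc
          rwa [inv_inv] at this
        rw [extendByZero_of_mem _ θ _ (by rw [e]; exact inv_mem hc)]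
        simp only [e]
        ring
      · rw [if_neg hyC, if_neg hyN]
        rw [extendByZero_of_not_mem _ θ _ (fun h =>
          hyN (mem_normalizer_of_conj_mem h2 x hτ c y hc hcc h))]
        ring
  show (Nat.card (Subgroup.centralizer
    ({x} : Set (Matrix.SpecialLinearGroup (Fin 2) F))) : ℂ)⁻¹ *
    ∑ y : Matrix.SpecialLinearGroup (Fin 2) F,
    Cfsg.extendByZero (Subgroup.centralizer
      ({x} : Set (Matrix.SpecialLinearGroup (Fin 2) F))) θ (y⁻¹ * c * y) = _
  rw [Finset.sum_congr rfl (fun y _ => key y)]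
  rw [Finset.sum_add_distrib, ← Finset.sum_mul, ← Finset.sum_mul, Finset.sum_sub_distrib,
    sum_ite_mem_subgroup, sum_ite_mem_subgroup, hcardN]
  have hcne : (Nat.card (Subgroup.centralizer
      ({x} : Set (Matrix.SpecialLinearGroup (Fin 2) F))) : ℂ) ≠ 0 := by
    have : 0 < Nat.card (Subgroup.centralizer
      ({x} : Set (Matrix.SpecialLinearGroup (Fin 2) F))) := Nat.card_pos
    exact_mod_cast this.ne'
  push_cast
  field_simp
  ring

end Torus

section Cons

variable {F : Type u} [Field F] [Fintype F] [DecidableEq F]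

theorem card_SL2_complex : (Fintype.card (Matrix.SpecialLinearGroup (Fin 2) F) : ℂ) =
    (Fintype.card F : ℂ) * ((Fintype.card F : ℂ) ^ 2 - 1) := by
  have h := card_SL2_real (F := F)
  have h' : (((Fintype.card (Matrix.SpecialLinearGroup (Fin 2) F) : ℝ)) : ℂ) =
      (((Fintype.card F : ℝ) * ((Fintype.card F : ℝ) ^ 2 - 1) : ℝ) : ℂ) := by rw [h]
  push_cast at h'
  exact h'

theorem zSL_mem_center : (zSL : Matrix.SpecialLinearGroup (Fin 2) F) ∈
    Subgroup.center (Matrix.SpecialLinearGroup (Fin 2) F) := by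
  rw [Subgroup.mem_center_iff]
  intro g
  exact (zSL_comm g).symm

theorem zSL_mem_centralizer (x : Matrix.SpecialLinearGroup (Fin 2) F) :
    zSL ∈ Subgroup.centralizer ({x} : Set (Matrix.SpecialLinearGroup (Fin 2) F)) := by
  rw [Subgroup.mem_centralizer_singleton_iff]
  exact zSL_comm x

theorem mem_center_iff_one_or_zSL (g : Matrix.SpecialLinearGroup (Fin 2) F) :
    g ∈ Subgroup.center (Matrix.SpecialLinearGroup (Fin 2) F) ↔ g = 1 ∨ g = zSL := by
  rw [Cfsg.Agent.Lib.Helper41.sl2_mem_center_iff]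
  constructor
  · rintro (h | h)
    · left
      exact Subtype.ext h
    · right
      apply Subtype.ext
      rw [h, zSL_eq_negOne, Cfsg.Agent.Lib.Helper41.negOne_coe]
  · rintro (rfl | rfl)
    · left
      rfl
    · right
      rw [zSL_eq_negOne, Cfsg.Agent.Lib.Helper41.negOne_coe]

theorem zSL_ne_one (h2 : (2 : F) ≠ 0) : (zSL : Matrix.SpecialLinearGroup (Fin 2) F) ≠ 1 := by
  rw [zSL_eq_negOne]
  exact Cfsg.Agent.Lib.Helper41.negOne_ne_one h2

theorem zSL_mem_borelS : (zSL : Matrix.SpecialLinearGroup (Fin 2) F) ∈ borelS F := by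
  rw [mem_borelS_iff, zSL_coe]
  simp

/-- the central character of a principal series function of `SL₂`. -/
theorem indFun_lamS_zSL_mul (α : MulChar F ℂ) (g : Matrix.SpecialLinearGroup (Fin 2) F) :
    Cfsg.indFun (borelS F) (lamS α) (zSL * g) =
      α (-1) * Cfsg.indFun (borelS F) (lamS α) g := by
  apply indFun_central_mul (borelS F) (lamS α) zSL zSL_mem_borelS zSL_comm
  intro h
  unfold lamS
  rw [Subgroup.coe_mul, Matrix.SpecialLinearGroup.coe_mul, zSL_coe, ← map_mul]
  congr 1
  simp [Matrix.mul_apply, Fin.sum_univ_two]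

/-- the generalized character `(π₁ - 2) π_α` of `SL₂`. -/
noncomputable def phiFun (α : MulChar F ℂ) : Matrix.SpecialLinearGroup (Fin 2) F → ℂ :=
  fun g => (Cfsg.indFun (borelS F) (lamS (1 : MulChar F ℂ)) g - 2) *
    Cfsg.indFun (borelS F) (lamS α) g

/-- the cuspidal character of `SL₂` attached to a character of a non-split torus. -/
noncomputable def cuspFun (C : Subgroup (Matrix.SpecialLinearGroup (Fin 2) F)) (θ : C →* ℂˣ)
    (α : MulChar F ℂ) : Matrix.SpecialLinearGroup (Fin 2) F → ℂ :=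
  fun g => phiFun α g - Cfsg.indFun C (fun c => ((θ c : ℂˣ) : ℂ)) g

theorem isClassFunction_phiFun (α : MulChar F ℂ) :
    Cfsg.IsClassFunction (Matrix.SpecialLinearGroup (Fin 2) F) (phiFun α) := by
  intro g h
  unfold phiFun
  rw [Cfsg.Agent.Lib.Helper25.isClassFunction_indFun (borelS F) (lamS (1 : MulChar F ℂ)) g h,
    Cfsg.Agent.Lib.Helper25.isClassFunction_indFun (borelS F) (lamS α) g h]

theorem phiFun_one (α : MulChar F ℂ) :
    phiFun α 1 = ((Fintype.card F : ℂ) - 1) * ((Fintype.card F : ℂ) + 1) := by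
  unfold phiFun
  rw [indFun_lamS_one, indFun_lamS_one]
  ring

theorem phiFun_zSL (α : MulChar F ℂ) :
    phiFun α zSL = ((Fintype.card F : ℂ) - 1) * (α (-1) * ((Fintype.card F : ℂ) + 1)) := by
  unfold phiFun
  have h1 := indFun_lamS_zSL_mul (1 : MulChar F ℂ) 1
  have h2 := indFun_lamS_zSL_mul α 1
  rw [mul_one, indFun_lamS_one] at h1 h2
  rw [h1, h2]
  have h3 : (1 : MulChar F ℂ) (-1 : F) = 1 := by
    have : ((-1 : Fˣ) : F) = -1 := by simp
    rw [← this, MulChar.one_apply_coe]
  rw [h3]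
  ring

theorem phiFun_nonsplit (α : MulChar F ℂ) (g : Matrix.SpecialLinearGroup (Fin 2) F)
    (hg : ∀ a : F, a * a - g.1.trace * a + 1 ≠ 0) : phiFun α g = 0 := by
  unfold phiFun
  rw [indFun_lamS_elliptic α g (no_eigenvector_of_no_root g hg), mul_zero]

open Classical in
/-- the norm of the character induced from a character of a non-split torus whose square is
non-trivial. -/
theorem classInner_torus_self (h2 : (2 : F) ≠ 0) (x : Matrix.SpecialLinearGroup (Fin 2) F)
    (hx : ∀ a : F, a * a - x.1.trace * a + 1 ≠ 0)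
    (C : Subgroup (Matrix.SpecialLinearGroup (Fin 2) F))
    (hC : C = Subgroup.centralizer ({x} : Set (Matrix.SpecialLinearGroup (Fin 2) F)))
    (θ : C →* ℂˣ) (hθ : ∃ c : C, θ c ^ 2 ≠ 1) :
    Cfsg.classInner (Cfsg.indFun C (fun c => ((θ c : ℂˣ) : ℂ)))
      (Cfsg.indFun C (fun c => ((θ c : ℂˣ) : ℂ))) = 2 * (Fintype.card F : ℂ) - 3 := by
  have hτ := Cfsg.Agent.Lib.Helper41.trace_sq_ne_four_of_nonsplit hx
  have hcardC : Nat.card C = Fintype.card F + 1 := by
    rw [hC]
    exact card_centralizer_nonsplit h2 x hx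
  have h1C : (1 : Matrix.SpecialLinearGroup (Fin 2) F) ∈ C := C.one_mem
  have hzC : zSL ∈ C := by
    rw [hC]
    exact zSL_mem_centralizer x
  have hz1 := zSL_ne_one h2
  rw [Cfsg.Agent.Lib.Helper25.classInner_indFun_left C _ _
    (Cfsg.Agent.Lib.Helper25.isClassFunction_indFun C _)]
  have hq0 : (Fintype.card F : ℂ) + 1 ≠ 0 := Nat.cast_add_one_ne_zero _
  have hθz : ((θ ⟨zSL, hzC⟩ : ℂˣ) : ℂ) * ((θ ⟨zSL, hzC⟩ : ℂˣ) : ℂ) = 1 := by
    rw [← Units.val_mul, ← map_mul]
    have : (⟨zSL, hzC⟩ : C) * ⟨zSL, hzC⟩ = 1 := Subtype.ext zSL_mul_self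
    rw [this, map_one, Units.val_one]
  have hΘc : ∀ (z : Matrix.SpecialLinearGroup (Fin 2) F) (hz : z ∈ C),
      z ∈ Subgroup.center (Matrix.SpecialLinearGroup (Fin 2) F) →
      Cfsg.indFun C (fun c => ((θ c : ℂˣ) : ℂ)) z =
        (Fintype.card F : ℂ) * ((Fintype.card F : ℂ) - 1) * ((θ ⟨z, hz⟩ : ℂˣ) : ℂ) := by
    intro z hz hzc
    rw [indFun_central C _ z hz (fun g => ((Subgroup.mem_center_iff.mp hzc) g).symm), hcardC,
      card_SL2_complex]
    push_cast
    field_simp
    ring
  have key : ∀ g : Matrix.SpecialLinearGroup (Fin 2) F,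
      Cfsg.extendByZero C (fun c => ((θ c : ℂˣ) : ℂ)) g *
        conj (Cfsg.indFun C (fun c => ((θ c : ℂˣ) : ℂ)) g) =
      (if g ∈ C then (1 : ℂ) else 0) +
        Cfsg.extendByZero C (fun c => (((θ * θ) c : ℂˣ) : ℂ)) g * 1 +
      ((if g = 1 then (1 : ℂ) else 0) + (if g = zSL then (1 : ℂ) else 0)) *
        ((Fintype.card F : ℂ) * ((Fintype.card F : ℂ) - 1) - 2) := by
    intro g
    by_cases hgC : g ∈ C
    · rw [extendByZero_of_mem C _ g hgC, extendByZero_of_mem C _ g hgC, if_pos hgC]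
      by_cases hg1 : g = 1
      · subst hg1
        rw [hΘc 1 hgC (Subgroup.one_mem _), if_pos rfl, if_neg (Ne.symm hz1)]
        have e1 : (⟨1, hgC⟩ : C) = 1 := rfl
        rw [e1, map_one, map_one, Units.val_one]
        simp
        ring
      · by_cases hgz : g = zSL
        · subst hgz
          rw [hΘc zSL hgC zSL_mem_center, if_neg hg1, if_pos rfl]
          have e3 : ((θ ⟨zSL, hgC⟩ : ℂˣ) : ℂ) * (((θ ⟨zSL, hgC⟩)⁻¹ : ℂˣ) : ℂ) = 1 := by
            rw [← Units.val_mul, mul_inv_cancel, Units.val_one]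
          rw [map_mul, map_mul, map_sub, map_one, Complex.conj_natCast,
            Cfsg.Agent.Lib.Helper25.conj_linChar, MonoidHom.mul_apply, Units.val_mul]
          linear_combination ((Fintype.card F : ℂ) * ((Fintype.card F : ℂ) - 1)) * e3 - hθz
        · have hgc : g ∉ Subgroup.center (Matrix.SpecialLinearGroup (Fin 2) F) := by
            rw [mem_center_iff_one_or_zSL]
            push Not
            exact ⟨hg1, hgz⟩
          rw [indFun_torus_noncentral h2 x hτ C hC _ g hgC hgc, if_neg hg1, if_neg hgz]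
          have e1 : (⟨g⁻¹, inv_mem hgC⟩ : C) = (⟨g, hgC⟩ : C)⁻¹ := rfl
          have e3 : ((θ ⟨g, hgC⟩ : ℂˣ) : ℂ) * (((θ ⟨g, hgC⟩)⁻¹ : ℂˣ) : ℂ) = 1 := by
            rw [← Units.val_mul, mul_inv_cancel, Units.val_one]
          rw [e1, map_add, Cfsg.Agent.Lib.Helper25.conj_linChar,
            Cfsg.Agent.Lib.Helper25.conj_linChar, map_inv, inv_inv, MonoidHom.mul_apply,
            Units.val_mul]
          linear_combination e3
    · rw [extendByZero_of_not_mem C _ g hgC, extendByZero_of_not_mem C _ g hgC, if_neg hgC,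
        if_neg (fun h : g = 1 => hgC (by rw [h]; exact h1C)),
        if_neg (fun h : g = zSL => hgC (by rw [h]; exact hzC))]
      ring
  rw [Finset.sum_congr rfl (fun g _ => key g)]
  rw [Finset.sum_add_distrib, Finset.sum_add_distrib, sum_ite_mem_subgroup]
  have e5 : ∑ g : Matrix.SpecialLinearGroup (Fin 2) F,
      ((if g = 1 then (1 : ℂ) else 0) + (if g = zSL then (1 : ℂ) else 0)) *
        ((Fintype.card F : ℂ) * ((Fintype.card F : ℂ) - 1) - 2) =
      2 * ((Fintype.card F : ℂ) * ((Fintype.card F : ℂ) - 1) - 2) := by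
    rw [← Finset.sum_mul, Finset.sum_add_distrib, Finset.sum_ite_eq', Finset.sum_ite_eq']
    simp only [Finset.mem_univ, if_true]
    ring
  letI : Fintype C := Fintype.ofFinite C
  rw [e5, sum_extendByZero_mul C (Equiv.refl C) _ (fun _ => 1)]
  simp only [Equiv.refl_apply, mul_one]
  have hθθ : θ * θ ≠ 1 := by
    obtain ⟨c, hc⟩ := hθ
    intro h
    apply hc
    have h3 := congrArg (fun f : C →* ℂˣ => f c) h
    simpa [sq] using h3
  rw [Cfsg.Agent.Lib.Helper25.sum_linChar_eq_zero (θ * θ) hθθ, hcardC]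
  push_cast
  field_simp
  ring

open Classical in
/-- the inner product of the character induced from a non-split torus with `(π₁ - 2) π_α`. -/
theorem classInner_torus_phi (h2 : (2 : F) ≠ 0) (x : Matrix.SpecialLinearGroup (Fin 2) F)
    (hx : ∀ a : F, a * a - x.1.trace * a + 1 ≠ 0)
    (C : Subgroup (Matrix.SpecialLinearGroup (Fin 2) F))
    (hC : C = Subgroup.centralizer ({x} : Set (Matrix.SpecialLinearGroup (Fin 2) F)))
    (θ : C →* ℂˣ) (α : MulChar F ℂ) (hzC : zSL ∈ C)
    (hα : α (-1) = ((θ ⟨zSL, hzC⟩ : ℂˣ) : ℂ)) :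
    Cfsg.classInner (Cfsg.indFun C (fun c => ((θ c : ℂˣ) : ℂ))) (phiFun α) =
      2 * ((Fintype.card F : ℂ) - 1) := by
  have hcardC : Nat.card C = Fintype.card F + 1 := by
    rw [hC]
    exact card_centralizer_nonsplit h2 x hx
  have h1C : (1 : Matrix.SpecialLinearGroup (Fin 2) F) ∈ C := C.one_mem
  have hz1 := zSL_ne_one h2
  have hq0 : (Fintype.card F : ℂ) + 1 ≠ 0 := Nat.cast_add_one_ne_zero _
  rw [Cfsg.Agent.Lib.Helper25.classInner_indFun_left C _ _ (isClassFunction_phiFun α)]
  have key : ∀ g : Matrix.SpecialLinearGroup (Fin 2) F,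
      Cfsg.extendByZero C (fun c => ((θ c : ℂˣ) : ℂ)) g * conj (phiFun α g) =
      ((if g = 1 then (1 : ℂ) else 0) + (if g = zSL then (1 : ℂ) else 0)) *
        (((Fintype.card F : ℂ) - 1) * ((Fintype.card F : ℂ) + 1)) := by
    intro g
    by_cases hgC : g ∈ C
    · rw [extendByZero_of_mem C _ g hgC]
      by_cases hg1 : g = 1
      · subst hg1
        rw [phiFun_one, if_pos rfl, if_neg (Ne.symm hz1)]
        have e1 : (⟨1, hgC⟩ : C) = 1 := rfl
        rw [e1, map_one, Units.val_one]
        simp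
      · by_cases hgz : g = zSL
        · subst hgz
          rw [phiFun_zSL, if_neg hg1, if_pos rfl, hα]
          have e3 : ((θ ⟨zSL, hgC⟩ : ℂˣ) : ℂ) * (((θ ⟨zSL, hgC⟩)⁻¹ : ℂˣ) : ℂ) = 1 := by
            rw [← Units.val_mul, mul_inv_cancel, Units.val_one]
          rw [map_mul, map_mul, map_sub, map_add, map_one, Complex.conj_natCast,
            Cfsg.Agent.Lib.Helper25.conj_linChar]
          linear_combination (((Fintype.card F : ℂ) - 1) * ((Fintype.card F : ℂ) + 1)) * e3
        · have hgc : g ∉ Subgroup.center (Matrix.SpecialLinearGroup (Fin 2) F) := by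
            rw [mem_center_iff_one_or_zSL]
            push Not
            exact ⟨hg1, hgz⟩
          have hns := nonsplit_of_mem_centralizer h2 x hx g (by rw [← hC]; exact hgC) hgc
          rw [phiFun_nonsplit α g hns, if_neg hg1, if_neg hgz]
          simp
    · rw [extendByZero_of_not_mem C _ g hgC,
        if_neg (fun h : g = 1 => hgC (by rw [h]; exact h1C)),
        if_neg (fun h : g = zSL => hgC (by rw [h]; exact hzC))]
      ring
  rw [Finset.sum_congr rfl (fun g _ => key g), ← Finset.sum_mul, Finset.sum_add_distrib,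
    Finset.sum_ite_eq', Finset.sum_ite_eq']
  simp only [Finset.mem_univ, if_true]
  rw [hcardC]
  push_cast
  field_simp
  ring

theorem phiFun_eq_indFun (α : MulChar F ℂ) :
    phiFun α = Cfsg.indFun (borelS F) (fun b =>
      (Cfsg.indFun (borelS F) (lamS (1 : MulChar F ℂ))
        (b : Matrix.SpecialLinearGroup (Fin 2) F) - 2) * lamS α b) := by
  funext g
  have hf : Cfsg.IsClassFunction (Matrix.SpecialLinearGroup (Fin 2) F)
      (fun g => Cfsg.indFun (borelS F) (lamS (1 : MulChar F ℂ)) g - 2) := by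
    intro g h
    simp only
    rw [Cfsg.Agent.Lib.Helper25.isClassFunction_indFun (borelS F) (lamS (1 : MulChar F ℂ)) g h]
  rw [indFun_mul_classFunction (borelS F) (lamS α)
    (fun g => Cfsg.indFun (borelS F) (lamS (1 : MulChar F ℂ)) g - 2) hf g]
  rfl

/-- the norm of `(π₁ - 2) π_α`. -/
theorem classInner_phi_self (h2 : (2 : F) ≠ 0) (α : MulChar F ℂ) :
    Cfsg.classInner (phiFun α) (phiFun α) = 2 * (Fintype.card F : ℂ) := by
  classical
  letI : Fintype (borelS F) := Fintype.ofEquiv _ sbEquiv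
  have hq := card_sub_one_ne_zero (F := F)
  have hq0 : (Fintype.card F : ℂ) ≠ 0 := by
    have := Fintype.card_pos (α := F)
    exact_mod_cast this.ne'
  have e0 : Cfsg.classInner (phiFun α) (phiFun α) =
      Cfsg.classInner (Cfsg.indFun (borelS F) (fun b =>
      (Cfsg.indFun (borelS F) (lamS (1 : MulChar F ℂ))
        (b : Matrix.SpecialLinearGroup (Fin 2) F) - 2) * lamS α b)) (phiFun α) := by
    rw [← phiFun_eq_indFun]
  rw [e0, Cfsg.Agent.Lib.Helper25.classInner_indFun_left (borelS F) _ _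
    (isClassFunction_phiFun α),
    sum_extendByZero_mul (borelS F) sbEquiv _ (fun g => conj (phiFun α g)), card_borelS]
  -- the terms
  have hterm : ∀ p : Fˣ × F,
      (Cfsg.indFun (borelS F) (lamS (1 : MulChar F ℂ))
        ((sbEquiv p : borelS F) : Matrix.SpecialLinearGroup (Fin 2) F) - 2) *
        lamS α (sbEquiv p) *
        conj (phiFun α ((sbEquiv p : borelS F) : Matrix.SpecialLinearGroup (Fin 2) F)) =
      ((∑ y : F, if (((p.1⁻¹ : Fˣ) : F) - (p.1 : F)) * y - p.2 = 0 then (1 : ℂ) else 0) - 1) ^ 2 *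
        (1 + (∑ y : F, if (((p.1⁻¹ : Fˣ) : F) - (p.1 : F)) * y - p.2 = 0 then (1 : ℂ) else 0) *
          (α (p.1 : F) * α (p.1 : F))) := by
    intro p
    unfold phiFun
    rw [lamS_sbEquiv, sbEquiv_val, indFun_lamS_borel, indFun_lamS_borel]
    have hn : α (p.1 : F) * conj (α (p.1 : F)) = 1 := by
      rw [Complex.mul_conj, Complex.normSq_eq_norm_sq, mulChar_norm_unit]
      simp
    have hinv : α ((p.1⁻¹ : Fˣ) : F) * α (p.1 : F) = 1 := by
      rw [← map_mul, ← Units.val_mul, inv_mul_cancel, Units.val_one, map_one]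
    have hc : conj (α ((p.1⁻¹ : Fˣ) : F)) = α (p.1 : F) := by
      have h3 : conj (α ((p.1⁻¹ : Fˣ) : F)) * conj (α (p.1 : F)) = 1 := by
        rw [← map_mul, hinv, map_one]
      have h4 : conj (α (p.1 : F)) ≠ 0 := by
        intro h0
        rw [h0, mul_zero] at hn
        exact zero_ne_one hn
      exact mul_right_cancel₀ h4 (h3.trans hn.symm)
    have hsum : conj (∑ y : F, if (((p.1⁻¹ : Fˣ) : F) - (p.1 : F)) * y - p.2 = 0
        then (1 : ℂ) else 0) = ∑ y : F, if (((p.1⁻¹ : Fˣ) : F) - (p.1 : F)) * y - p.2 = 0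
        then (1 : ℂ) else 0 := by
      rw [map_sum]
      refine Finset.sum_congr rfl (fun y _ => ?_)
      split_ifs <;> simp
    rw [MulChar.one_apply_coe, MulChar.one_apply_coe, map_mul, map_sub, map_add, map_add,
      map_mul, map_mul, hsum, hc]
    simp only [map_one, map_ofNat]
    linear_combination ((∑ y : F, if (((p.1⁻¹ : Fˣ) : F) - (p.1 : F)) * y - p.2 = 0
        then (1 : ℂ) else 0) - 1) ^ 2 * hn
  rw [Finset.sum_congr rfl (fun p _ => hterm p), Fintype.sum_prod_type]
  -- the sum over the unipotent radical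
  have hT : ∀ a : Fˣ, ∑ s : F,
      ((∑ y : F, if (((a⁻¹ : Fˣ) : F) - (a : F)) * y - s = 0 then (1 : ℂ) else 0) - 1) ^ 2 *
        (1 + (∑ y : F, if (((a⁻¹ : Fˣ) : F) - (a : F)) * y - s = 0 then (1 : ℂ) else 0) *
          (α (a : F) * α (a : F))) =
      (if a = 1 then (((Fintype.card F : ℂ) - 1) ^ 2 * ((Fintype.card F : ℂ) + 1) +
        ((Fintype.card F : ℂ) - 1)) else 0) +
      (if a = -1 then (((Fintype.card F : ℂ) - 1) ^ 2 * ((Fintype.card F : ℂ) + 1) +
        ((Fintype.card F : ℂ) - 1)) else 0) := by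
    intro a
    have hcount : ∀ s : F, ∑ y : F, (if (0 : F) * y - s = 0 then (1 : ℂ) else 0) =
        if s = 0 then (Fintype.card F : ℂ) else 0 := by
      intro s
      by_cases hs : s = 0
      · rw [if_pos hs, hs]
        simp
      · rw [if_neg hs]
        apply Finset.sum_eq_zero
        intro y _
        rw [if_neg]
        rw [zero_mul, zero_sub, neg_eq_zero]
        exact hs
    have hspecial : (((a⁻¹ : Fˣ) : F) - (a : F)) = 0 → α (a : F) * α (a : F) = 1 → ∑ s : F,
      ((∑ y : F, if (((a⁻¹ : Fˣ) : F) - (a : F)) * y - s = 0 then (1 : ℂ) else 0) - 1) ^ 2 *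
        (1 + (∑ y : F, if (((a⁻¹ : Fˣ) : F) - (a : F)) * y - s = 0 then (1 : ℂ) else 0) *
          (α (a : F) * α (a : F))) = ((Fintype.card F : ℂ) - 1) ^ 2 * ((Fintype.card F : ℂ) + 1) +
        ((Fintype.card F : ℂ) - 1) := by
      intro h0 hαa
      rw [h0, hαa]
      simp only [hcount]
      have hpt : ∀ s : F, ((if s = 0 then (Fintype.card F : ℂ) else 0) - 1) ^ 2 *
          (1 + (if s = 0 then (Fintype.card F : ℂ) else 0) * 1) =
          1 + (if s = 0 then (((Fintype.card F : ℂ) - 1) ^ 2 * ((Fintype.card F : ℂ) + 1) - 1)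
            else 0) := by
        intro s
        split_ifs <;> ring
      rw [Finset.sum_congr rfl (fun s _ => hpt s), Finset.sum_add_distrib, Finset.sum_ite_eq']
      simp only [Finset.sum_const, Finset.card_univ, nsmul_eq_mul, mul_one, Finset.mem_univ,
        if_true]
      ring
    have hne : (1 : Fˣ) ≠ -1 := by
      intro h
      have h3 := congrArg (fun u : Fˣ => (u : F)) h
      simp only [Units.val_one, Units.val_neg] at h3
      apply h2
      linear_combination h3
    by_cases ha1 : a = 1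
    · rw [if_pos ha1, if_neg (by rw [ha1]; exact hne), add_zero]
      apply hspecial
      · rw [ha1]
        simp
      · rw [ha1]
        simp
    · by_cases ha2 : a = -1
      · rw [if_neg ha1, if_pos ha2, zero_add]
        apply hspecial
        · rw [ha2]
          simp
        · rw [ha2]
          rw [← map_mul]
          simp
      · rw [if_neg ha1, if_neg ha2, add_zero]
        have hu : (((a⁻¹ : Fˣ) : F) - (a : F)) ≠ 0 := by
          intro h0
          have h3 : (a : F) * (a : F) = 1 := by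
            have h4 : ((a⁻¹ : Fˣ) : F) * (a : F) = 1 := by
              rw [← Units.val_mul, inv_mul_cancel, Units.val_one]
            have h5 : ((a⁻¹ : Fˣ) : F) = (a : F) := sub_eq_zero.mp h0
            rw [h5] at h4
            exact h4
          have h6 : ((a : F) - 1) * ((a : F) + 1) = 0 := by linear_combination h3
          rcases mul_eq_zero.mp h6 with h7 | h7
          · apply ha1
            apply Units.ext
            rw [Units.val_one]
            linear_combination h7
          · apply ha2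
            apply Units.ext
            rw [Units.val_neg, Units.val_one]
            linear_combination h7
        apply Finset.sum_eq_zero
        intro s _
        rw [sum_ite_linear _ _ hu]
        ring
  rw [Finset.sum_congr rfl (fun a _ => hT a), Finset.sum_add_distrib, Finset.sum_ite_eq',
    Finset.sum_ite_eq']
  simp only [Finset.mem_univ, if_true]
  field_simp
  ring

end Cons

end Cfsg.Agent.Lib.Helper39
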