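import Mathlib
import Cfsg.Prelude.Def_Characters
import Cfsg.Prelude.Def_ParabolicCharacters
import Cfsg.Agent.Lib.Helper39.SL2CuspCons
import Cfsg.Agent.Lib.Helper15.LinChar
import Cfsg.Agent.Lib.Helper25.SignedIrr
import Cfsg.Agent.Lib.Helper3.CharRegular

set_option autoImplicit false

namespace Cfsg.Agent.Lib.Helper39

open Matrix Representation
open scoped ComplexConjugate

universe u

section Cons2

variable {F : Type u} [Field F] [Fintype F] [DecidableEq F]

theorem cuspFun_eq (C : Subgroup (Matrix.SpecialLinearGroup (Fin 2) F)) (θ : C →* ℂˣ)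
    (α : MulChar F ℂ) :
    cuspFun C θ α = phiFun α - Cfsg.indFun C (fun c => ((θ c : ℂˣ) : ℂ)) := rfl

open Classical in
/-- the norm of the cuspidal function is one. -/
theorem classInner_cuspFun_self (h2 : (2 : F) ≠ 0) (x : Matrix.SpecialLinearGroup (Fin 2) F)
    (hx : ∀ a : F, a * a - x.1.trace * a + 1 ≠ 0)
    (C : Subgroup (Matrix.SpecialLinearGroup (Fin 2) F))
    (hC : C = Subgroup.centralizer ({x} : Set (Matrix.SpecialLinearGroup (Fin 2) F)))
    (θ : C →* ℂˣ) (hθ : ∃ c : C, θ c ^ 2 ≠ 1) (α : MulChar F ℂ) (hzC : zSL ∈ C)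
    (hα : α (-1) = ((θ ⟨zSL, hzC⟩ : ℂˣ) : ℂ)) :
    Cfsg.classInner (cuspFun C θ α) (cuspFun C θ α) = 1 := by
  have h1 := classInner_phi_self h2 α
  have h2' := classInner_torus_self h2 x hx C hC θ hθ
  have h3 := classInner_torus_phi h2 x hx C hC θ α hzC hα
  have h4 : Cfsg.classInner (phiFun α) (Cfsg.indFun C (fun c => ((θ c : ℂˣ) : ℂ))) =
      2 * ((Fintype.card F : ℂ) - 1) := by
    rw [← Cfsg.Agent.Lib.Helper80.classInner_conj_symm, h3]
    rw [map_mul, map_sub, map_one, Complex.conj_natCast]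
    congr 1
    exact Complex.conj_ofNat 2
  rw [cuspFun_eq, Cfsg.Agent.Lib.Helper80.classInner_sub_left,
    Cfsg.Agent.Lib.Helper25.classInner_sub_right,
    Cfsg.Agent.Lib.Helper25.classInner_sub_right, h1, h2', h3, h4]
  ring

theorem isClassFunction_cuspFun (C : Subgroup (Matrix.SpecialLinearGroup (Fin 2) F))
    (θ : C →* ℂˣ) (α : MulChar F ℂ) :
    Cfsg.IsClassFunction (Matrix.SpecialLinearGroup (Fin 2) F) (cuspFun C θ α) := by
  intro g h
  unfold cuspFun
  rw [isClassFunction_phiFun α g h,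
    Cfsg.Agent.Lib.Helper25.isClassFunction_indFun C _ g h]

/-- the cuspidal function has integral inner products with the characters. -/
theorem cuspFun_int (C : Subgroup (Matrix.SpecialLinearGroup (Fin 2) F))
    (θ : C →* ℂˣ) (α : MulChar F ℂ) (ψ : Matrix.SpecialLinearGroup (Fin 2) F → ℂ)
    (hψ : Cfsg.IsCharacter (Matrix.SpecialLinearGroup (Fin 2) F) ψ) :
    ∃ m : ℤ, Cfsg.classInner (cuspFun C θ α) ψ = m := by
  have hχ1 : Cfsg.IsCharacter (Matrix.SpecialLinearGroup (Fin 2) F)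
      (Cfsg.indFun (borelS F) (lamS (1 : MulChar F ℂ)) * Cfsg.indFun (borelS F) (lamS α)) :=
    Cfsg.Agent.Lib.Helper80.isCharacter_mul (isCharacter_indFun_lamS 1) (isCharacter_indFun_lamS α)
  have hχ2 : Cfsg.IsCharacter (Matrix.SpecialLinearGroup (Fin 2) F)
      (((2 : ℕ) : ℂ) • Cfsg.indFun (borelS F) (lamS α) +
        Cfsg.indFun C (fun c => ((θ c : ℂˣ) : ℂ))) :=
    Cfsg.Agent.Lib.Helper80.isCharacter_add
      (Cfsg.Agent.Lib.Helper80.isCharacter_nsmul (isCharacter_indFun_lamS α) 2)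
      (Cfsg.Agent.Lib.Helper75.isCharacter_indFun C
        (Cfsg.Agent.Lib.Helper15.isCharacter_of_hom θ))
  have e : cuspFun C θ α =
      Cfsg.indFun (borelS F) (lamS (1 : MulChar F ℂ)) * Cfsg.indFun (borelS F) (lamS α) -
      (((2 : ℕ) : ℂ) • Cfsg.indFun (borelS F) (lamS α) +
        Cfsg.indFun C (fun c => ((θ c : ℂˣ) : ℂ))) := by
    funext g
    unfold cuspFun phiFun
    simp only [Pi.sub_apply, Pi.mul_apply, Pi.add_apply, Pi.smul_apply, smul_eq_mul]
    push_cast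
    ring
  obtain ⟨m1, hm1⟩ := Cfsg.Agent.Lib.Helper80.classInner_nat hχ1 hψ
  obtain ⟨m2, hm2⟩ := Cfsg.Agent.Lib.Helper80.classInner_nat hχ2 hψ
  refine ⟨(m1 : ℤ) - m2, ?_⟩
  rw [e, Cfsg.Agent.Lib.Helper80.classInner_sub_left, hm1, hm2]
  push_cast
  ring

open Classical in
/-- the degree of the cuspidal function. -/
theorem cuspFun_one (h2 : (2 : F) ≠ 0) (x : Matrix.SpecialLinearGroup (Fin 2) F)
    (hx : ∀ a : F, a * a - x.1.trace * a + 1 ≠ 0)
    (C : Subgroup (Matrix.SpecialLinearGroup (Fin 2) F))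
    (hC : C = Subgroup.centralizer ({x} : Set (Matrix.SpecialLinearGroup (Fin 2) F)))
    (θ : C →* ℂˣ) (α : MulChar F ℂ) :
    cuspFun C θ α 1 = (Fintype.card F : ℂ) - 1 := by
  have hcardC : Nat.card C = Fintype.card F + 1 := by
    rw [hC]
    exact card_centralizer_nonsplit h2 x hx
  have hq0 : (Fintype.card F : ℂ) + 1 ≠ 0 := Nat.cast_add_one_ne_zero _
  unfold cuspFun
  rw [phiFun_one, indFun_central C _ 1 C.one_mem (fun g => by rw [one_mul, mul_one]), hcardC,
    card_SL2_complex]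
  have e1 : (⟨1, C.one_mem⟩ : C) = 1 := rfl
  rw [e1, map_one, Units.val_one]
  push_cast
  field_simp
  ring

open Classical in
/-- the cuspidal function is an irreducible character. -/
theorem isIrrCharacter_cuspFun (h2 : (2 : F) ≠ 0) (x : Matrix.SpecialLinearGroup (Fin 2) F)
    (hx : ∀ a : F, a * a - x.1.trace * a + 1 ≠ 0)
    (C : Subgroup (Matrix.SpecialLinearGroup (Fin 2) F))
    (hC : C = Subgroup.centralizer ({x} : Set (Matrix.SpecialLinearGroup (Fin 2) F)))
    (θ : C →* ℂˣ) (hθ : ∃ c : C, θ c ^ 2 ≠ 1) (α : MulChar F ℂ) (hzC : zSL ∈ C)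
    (hα : α (-1) = ((θ ⟨zSL, hzC⟩ : ℂˣ) : ℂ)) :
    Cfsg.IsIrrCharacter (Matrix.SpecialLinearGroup (Fin 2) F) (cuspFun C θ α) := by
  haveI : Fintype (Cfsg.IrrCharacter (Matrix.SpecialLinearGroup (Fin 2) F)) := Fintype.ofFinite _
  apply Cfsg.Agent.Lib.Lead.isIrrCharacter_of_int (isClassFunction_cuspFun C θ α)
  · intro ψ
    exact cuspFun_int C θ α ψ.1 (Cfsg.Agent.Lib.Helper3.isCharacter_of_irr ψ.2)
  · exact classInner_cuspFun_self h2 x hx C hC θ hθ α hzC hα
  · rw [cuspFun_one h2 x hx C hC θ α]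
    have hq := Fintype.one_lt_card (α := F)
    have : ((Fintype.card F : ℂ) - 1) = (((Fintype.card F : ℝ) - 1 : ℝ) : ℂ) := by push_cast; ring
    rw [this, Complex.ofReal_re]
    have : (1 : ℝ) < (Fintype.card F : ℝ) := by exact_mod_cast hq
    linarith

open Classical in
/-- the values of the cuspidal function on the non-central elements of the torus. -/
theorem cuspFun_torus (h2 : (2 : F) ≠ 0) (x : Matrix.SpecialLinearGroup (Fin 2) F)
    (hx : ∀ a : F, a * a - x.1.trace * a + 1 ≠ 0)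
    (C : Subgroup (Matrix.SpecialLinearGroup (Fin 2) F))
    (hC : C = Subgroup.centralizer ({x} : Set (Matrix.SpecialLinearGroup (Fin 2) F)))
    (θ : C →* ℂˣ) (α : MulChar F ℂ) (c : Matrix.SpecialLinearGroup (Fin 2) F) (hc : c ∈ C)
    (hcc : c ∉ Subgroup.center (Matrix.SpecialLinearGroup (Fin 2) F)) :
    cuspFun C θ α c = -(((θ ⟨c, hc⟩ : ℂˣ) : ℂ) + (((θ ⟨c, hc⟩)⁻¹ : ℂˣ) : ℂ)) := by
  have hτ := Cfsg.Agent.Lib.Helper41.trace_sq_ne_four_of_nonsplit hx
  have hns := nonsplit_of_mem_centralizer h2 x hx c (by rw [← hC]; exact hc) hcc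
  unfold cuspFun
  rw [phiFun_nonsplit α c hns, indFun_torus_noncentral h2 x hτ C hC _ c hc hcc]
  have e : (⟨c⁻¹, inv_mem hc⟩ : C) = (⟨c, hc⟩ : C)⁻¹ := rfl
  rw [e, map_inv]
  ring

theorem one_mulChar_neg_one : (1 : MulChar F ℂ) (-1 : F) = 1 := by
  have : ((-1 : Fˣ) : F) = -1 := by simp
  rw [← this, MulChar.one_apply_coe]

/-- the central character of the cuspidal function. -/
theorem cuspFun_zSL_mul (C : Subgroup (Matrix.SpecialLinearGroup (Fin 2) F))
    (θ : C →* ℂˣ) (α : MulChar F ℂ) (hzC : zSL ∈ C)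
    (hα : α (-1) = ((θ ⟨zSL, hzC⟩ : ℂˣ) : ℂ)) (g : Matrix.SpecialLinearGroup (Fin 2) F) :
    cuspFun C θ α (zSL * g) = ((θ ⟨zSL, hzC⟩ : ℂˣ) : ℂ) * cuspFun C θ α g := by
  unfold cuspFun phiFun
  rw [indFun_lamS_zSL_mul, indFun_lamS_zSL_mul,
    indFun_central_mul C _ zSL hzC zSL_comm ((θ ⟨zSL, hzC⟩ : ℂˣ) : ℂ)
      (fun h => by rw [map_mul, Units.val_mul]) g, hα, one_mulChar_neg_one]
  ring

/-- elements of a non-split torus are central or have no eigenvalue. -/
theorem torus_not_mem_of_root (h2 : (2 : F) ≠ 0) (x : Matrix.SpecialLinearGroup (Fin 2) F)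
    (hx : ∀ a : F, a * a - x.1.trace * a + 1 ≠ 0)
    (C : Subgroup (Matrix.SpecialLinearGroup (Fin 2) F))
    (hC : C = Subgroup.centralizer ({x} : Set (Matrix.SpecialLinearGroup (Fin 2) F)))
    (g : Matrix.SpecialLinearGroup (Fin 2) F)
    (hgc : g ∉ Subgroup.center (Matrix.SpecialLinearGroup (Fin 2) F))
    (a : F) (ha : a * a - g.1.trace * a + 1 = 0) (y : Matrix.SpecialLinearGroup (Fin 2) F) :
    y⁻¹ * g * y ∉ C := by
  intro hk
  have hkc : y⁻¹ * g * y ∉ Subgroup.center (Matrix.SpecialLinearGroup (Fin 2) F) := by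
    intro hc
    apply hgc
    have h3 := Subgroup.Normal.conj_mem (inferInstance :
      (Subgroup.center (Matrix.SpecialLinearGroup (Fin 2) F)).Normal) _ hc y
    have e : y * (y⁻¹ * g * y) * y⁻¹ = g := by group
    rwa [e] at h3
  have hns := nonsplit_of_mem_centralizer h2 x hx _ (by rw [← hC]; exact hk) hkc
  have htr : (y⁻¹ * g * y).1.trace = g.1.trace := by
    have := Cfsg.Agent.Lib.Helper41.trace_conj y⁻¹ g
    rwa [inv_inv] at this
  apply hns a
  rw [htr]
  exact ha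

open Classical in
/-- the cuspidal function vanishes on the non-central diagonal elements. -/
theorem cuspFun_split (h2 : (2 : F) ≠ 0) (x : Matrix.SpecialLinearGroup (Fin 2) F)
    (hx : ∀ a : F, a * a - x.1.trace * a + 1 ≠ 0)
    (C : Subgroup (Matrix.SpecialLinearGroup (Fin 2) F))
    (hC : C = Subgroup.centralizer ({x} : Set (Matrix.SpecialLinearGroup (Fin 2) F)))
    (θ : C →* ℂˣ) (α : MulChar F ℂ) (g : Matrix.SpecialLinearGroup (Fin 2) F)
    (h01 : (g : Matrix (Fin 2) (Fin 2) F) 0 1 = 0) (h10 : (g : Matrix (Fin 2) (Fin 2) F) 1 0 = 0)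
    (hne : (g : Matrix (Fin 2) (Fin 2) F) 0 0 ^ 2 ≠ 1) :
    cuspFun C θ α g = 0 := by
  have hd := g.det_coe
  rw [Matrix.det_fin_two, h01, h10, mul_zero, sub_zero] at hd
  have h00 : (g : Matrix (Fin 2) (Fin 2) F) 0 0 ≠ 0 := by
    intro h0
    rw [h0, zero_mul] at hd
    exact zero_ne_one hd
  have h11 : (g : Matrix (Fin 2) (Fin 2) F) 1 1 ≠ 0 := by
    intro h0
    rw [h0, mul_zero] at hd
    exact zero_ne_one hd
  have hne' : (g : Matrix (Fin 2) (Fin 2) F) 0 0 ≠ (g : Matrix (Fin 2) (Fin 2) F) 1 1 := by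
    intro h
    apply hne
    rw [sq]
    rw [← h] at hd
    exact hd
  have hgc : g ∉ Subgroup.center (Matrix.SpecialLinearGroup (Fin 2) F) := by
    rw [Cfsg.Agent.Lib.Helper41.sl2_mem_center_iff]
    rintro (h | h)
    · apply hne
      rw [h]
      simp
    · apply hne
      rw [h]
      simp
  have hroot : (g : Matrix (Fin 2) (Fin 2) F) 0 0 * (g : Matrix (Fin 2) (Fin 2) F) 0 0 -
      g.1.trace * (g : Matrix (Fin 2) (Fin 2) F) 0 0 + 1 = 0 := by
    rw [Matrix.trace_fin_two]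
    linear_combination -hd
  unfold cuspFun phiFun
  rw [indFun_lamS_split 1 g h01 h10 hne', MulChar.one_apply (isUnit_iff_ne_zero.mpr h00),
    MulChar.one_apply (isUnit_iff_ne_zero.mpr h11),
    indFun_eq_zero_of_not_conj C _ g (torus_not_mem_of_root h2 x hx C hC g hgc _ hroot)]
  ring

open Classical in
/-- the cuspidal function takes the value `-1` on the non-trivial unitriangular elements. -/
theorem cuspFun_unip (h2 : (2 : F) ≠ 0) (x : Matrix.SpecialLinearGroup (Fin 2) F)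
    (hx : ∀ a : F, a * a - x.1.trace * a + 1 ≠ 0)
    (C : Subgroup (Matrix.SpecialLinearGroup (Fin 2) F))
    (hC : C = Subgroup.centralizer ({x} : Set (Matrix.SpecialLinearGroup (Fin 2) F)))
    (θ : C →* ℂˣ) (α : MulChar F ℂ) (g : Matrix.SpecialLinearGroup (Fin 2) F)
    (h10 : (g : Matrix (Fin 2) (Fin 2) F) 1 0 = 0) (h00 : (g : Matrix (Fin 2) (Fin 2) F) 0 0 = 1)
    (h11 : (g : Matrix (Fin 2) (Fin 2) F) 1 1 = 1)
    (h01 : (g : Matrix (Fin 2) (Fin 2) F) 0 1 ≠ 0) :
    cuspFun C θ α g = -1 := by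
  have hgc : g ∉ Subgroup.center (Matrix.SpecialLinearGroup (Fin 2) F) := by
    rw [Cfsg.Agent.Lib.Helper41.sl2_mem_center_iff]
    rintro (h | h)
    · apply h01
      rw [h]
      simp
    · apply h01
      rw [h]
      simp
  have hroot : (1 : F) * 1 - g.1.trace * 1 + 1 = 0 := by
    rw [Matrix.trace_fin_two, h00, h11]
    ring
  unfold cuspFun phiFun
  rw [indFun_lamS_unip 1 g h10 (by rw [h00, h11]) h01,
    indFun_lamS_unip α g h10 (by rw [h00, h11]) h01, h00, map_one, map_one,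
    indFun_eq_zero_of_not_conj C _ g (torus_not_mem_of_root h2 x hx C hC g hgc _ hroot)]
  ring

end Cons2

end Cfsg.Agent.Lib.Helper39
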