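import Mathlib
import Cfsg.Prelude.Def_Characters
import Cfsg.Prelude.Def_ParabolicCharacters
import Cfsg.Prelude.Def_Blocks
import Cfsg.Agent.Lib.Helper39.SL2CuspCons2
import Cfsg.Agent.Lib.Helper39.SL2Types
import Cfsg.Agent.Lib.Helper39.SL2Half
import Cfsg.Agent.Lib.Helper39.SL2Split

set_option autoImplicit false

namespace Cfsg.Agent.Lib.Helper39

open Matrix Representation
open scoped ComplexConjugate

universe u

section GenDeg

variable {G : Type u} [Group G]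

theorem irr_rep_data {χ : G → ℂ} (h : Cfsg.IsIrrCharacter G χ) :
    ∃ (n : ℕ) (ρ : Representation ℂ G (Fin n → ℂ)), ρ.IsIrreducible ∧ ρ.character = χ ∧
      χ 1 = (n : ℂ) ∧ Cfsg.charDegree χ = n := by
  obtain ⟨n, ρ, hirr, hχ⟩ := h
  have h1 : χ 1 = (n : ℂ) := by
    rw [← hχ, char_one]
    simp
  refine ⟨n, ρ, hirr, hχ, h1, ?_⟩
  unfold Cfsg.charDegree
  rw [h1]
  simp

theorem charDegree_of_one {χ : G → ℂ} {n : ℕ} (h : χ 1 = (n : ℂ)) : Cfsg.charDegree χ = n := by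
  unfold Cfsg.charDegree
  rw [h]
  simp

end GenDeg

section OddClass

variable {F : Type u} [Field F] [Fintype F] [DecidableEq F]

theorem exists_quad_mulChar (h2 : ringChar F ≠ 2) :
    ∃ α : MulChar F ℂ, α ^ 2 = 1 ∧ α ≠ 1 := by
  refine ⟨(quadraticChar F).ringHomComp (Int.castRingHom ℂ), ?_, ?_⟩
  · exact ((quadraticChar_isQuadratic F).comp _).sq_eq_one
  · rw [MulChar.ringHomComp_ne_one_iff (RingHom.injective_int (Int.castRingHom ℂ))]
    exact quadraticChar_ne_one h2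

theorem isIrrCharacter_indFun_lamS (α : MulChar F ℂ) (hα : α ^ 2 ≠ 1) :
    Cfsg.IsIrrCharacter (Matrix.SpecialLinearGroup (Fin 2) F)
      (Cfsg.indFun (borelS F) (lamS α)) := by
  classical
  have hfin := Cfsg.Agent.Lib.Helper3.irr_finite (G := Matrix.SpecialLinearGroup (Fin 2) F)
  have hft : Fintype (Cfsg.IrrCharacter (Matrix.SpecialLinearGroup (Fin 2) F)) :=
    Fintype.ofFinite _
  have key := classInner_indFun_lamS α
  rw [if_neg hα] at key
  exact Cfsg.Agent.Lib.Helper75.isIrrCharacter_of_classInner_self (isCharacter_indFun_lamS α) key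

theorem sl2_steinberg_exists :
    ∃ St : Matrix.SpecialLinearGroup (Fin 2) F → ℂ,
      Cfsg.IsIrrCharacter (Matrix.SpecialLinearGroup (Fin 2) F) St ∧
      Cfsg.indFun (borelS F) (lamS (1 : MulChar F ℂ)) = (fun _ => (1 : ℂ)) + St := by
  classical
  have hfin := Cfsg.Agent.Lib.Helper3.irr_finite (G := Matrix.SpecialLinearGroup (Fin 2) F)
  have hft : Fintype (Cfsg.IrrCharacter (Matrix.SpecialLinearGroup (Fin 2) F)) :=
    Fintype.ofFinite _
  have h1 := classInner_indFun_lamS (1 : MulChar F ℂ)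
  rw [if_pos (one_pow 2)] at h1
  have h2 := classInner_indFun_lamS_one_one (F := F)
  have hone : Cfsg.IsIrrCharacter (Matrix.SpecialLinearGroup (Fin 2) F) (fun _ => (1 : ℂ)) :=
    Cfsg.Agent.Lib.Helper80.isIrrCharacter_one
  have hc : Cfsg.IsCharacter (Matrix.SpecialLinearGroup (Fin 2) F)
      (Cfsg.indFun (borelS F) (lamS (1 : MulChar F ℂ)) - fun _ => (1 : ℂ)) :=
    isCharacter_sub_irr (isCharacter_indFun_lamS 1) hone (by rw [h2]; exact one_ne_zero)
  refine ⟨Cfsg.indFun (borelS F) (lamS (1 : MulChar F ℂ)) - fun _ => (1 : ℂ), ?_, ?_⟩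
  · apply Cfsg.Agent.Lib.Helper75.isIrrCharacter_of_classInner_self hc
    have h3 : Cfsg.classInner (fun _ : Matrix.SpecialLinearGroup (Fin 2) F => (1 : ℂ))
        (Cfsg.indFun (borelS F) (lamS (1 : MulChar F ℂ))) = 1 := by
      rw [← Cfsg.Agent.Lib.Helper80.classInner_conj_symm, h2, map_one]
    rw [Cfsg.Agent.Lib.Helper80.classInner_sub_left,
      Cfsg.Agent.Lib.Helper25.classInner_sub_right,
      Cfsg.Agent.Lib.Helper25.classInner_sub_right, h1, h2, h3,
      Cfsg.Agent.Lib.Helper3.classInner_irr_self hone]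
    norm_num
  · funext g
    simp

/-- the non-cuspidal irreducible characters of `SL₂(q)`, `q` odd. -/
theorem sl2_odd_noncusp (hodd : Odd (Fintype.card F)) (r : ℕ)
    (hr : Fintype.card F = 2 * r + 1) :
    ∃ St χ₁ χ₂ : Matrix.SpecialLinearGroup (Fin 2) F → ℂ,
      Cfsg.IsIrrCharacter (Matrix.SpecialLinearGroup (Fin 2) F) St ∧
      Cfsg.IsIrrCharacter (Matrix.SpecialLinearGroup (Fin 2) F) χ₁ ∧
      Cfsg.IsIrrCharacter (Matrix.SpecialLinearGroup (Fin 2) F) χ₂ ∧ χ₁ ≠ χ₂ ∧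
      Cfsg.charDegree St = 2 * r + 1 ∧ Cfsg.charDegree χ₁ = r + 1 ∧
      Cfsg.charDegree χ₂ = r + 1 ∧
      ∀ χ : Matrix.SpecialLinearGroup (Fin 2) F → ℂ,
        Cfsg.IsIrrCharacter (Matrix.SpecialLinearGroup (Fin 2) F) χ →
        ∑ x : F, χ (tSL x) ≠ 0 →
        χ = (fun _ => (1 : ℂ)) ∨ χ = St ∨ χ = χ₁ ∨ χ = χ₂ ∨
          ∃ α : MulChar F ℂ, α ^ 2 ≠ 1 ∧ χ = Cfsg.indFun (borelS F) (lamS α) := by
  classical
  have h2 : ringChar F ≠ 2 := by
    intro hc
    have := FiniteField.even_card_of_char_two hc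
    have := Nat.odd_iff.mp hodd
    omega
  obtain ⟨St, hSt, hπ1⟩ := sl2_steinberg_exists (F := F)
  obtain ⟨α₀, hα₀, hα₀1⟩ := exists_quad_mulChar h2
  obtain ⟨χ₁, e, h₁, h₂, hne, hπ₀⟩ := sl2_split hodd α₀ hα₀ hα₀1
  have hone : Cfsg.IsIrrCharacter (Matrix.SpecialLinearGroup (Fin 2) F) (fun _ => (1 : ℂ)) :=
    Cfsg.Agent.Lib.Helper80.isIrrCharacter_one
  refine ⟨St, χ₁, fun g => χ₁ (dconj e g), hSt, h₁, h₂, fun h => hne h.symm, ?_, ?_, ?_, ?_⟩
  · apply charDegree_of_one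
    have h := congrFun hπ1 1
    rw [indFun_lamS_one, hr] at h
    simp only [Pi.add_apply] at h
    push_cast at h ⊢
    linear_combination -h
  · obtain ⟨n, ρ, -, -, hn, hd⟩ := irr_rep_data h₁
    rw [hd]
    have h := congrFun hπ₀ 1
    rw [indFun_lamS_one, hr] at h
    simp only [Pi.add_apply, map_one] at h
    rw [hn] at h
    have h' : ((2 * r + 1 : ℕ) : ℂ) + 1 = ((n + n : ℕ) : ℂ) := by
      push_cast
      push_cast at h
      exact h
    have h'' : 2 * r + 1 + 1 = n + n := by exact_mod_cast h'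
    omega
  · obtain ⟨n, ρ, -, -, hn, hd⟩ := irr_rep_data h₁
    apply charDegree_of_one
    have h := congrFun hπ₀ 1
    rw [indFun_lamS_one, hr] at h
    simp only [Pi.add_apply, map_one] at h
    rw [hn] at h
    have h' : ((2 * r + 1 : ℕ) : ℂ) + 1 = ((n + n : ℕ) : ℂ) := by
      push_cast
      push_cast at h
      exact h
    have h'' : 2 * r + 1 + 1 = n + n := by exact_mod_cast h'
    have hnr : n = r + 1 := by omega
    simp only [map_one]
    rw [hn, hnr]
  · intro χ hχ hs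
    obtain ⟨α, hα⟩ := exists_principal_S
      (Cfsg.Agent.Lib.Helper3.isClassFunction_of_isCharacter
        (Cfsg.Agent.Lib.Helper3.isCharacter_of_irr hχ)) hs
    by_cases hα2 : α ^ 2 = 1
    · by_cases hα1 : α = 1
      · subst hα1
        rw [hπ1, Cfsg.Agent.Lib.Helper80.classInner_add_left] at hα
        by_contra hcon
        push Not at hcon
        apply hα
        rw [Cfsg.Agent.Lib.Helper3.classInner_irr_ne hone hχ (fun h => hcon.1 h.symm),
          Cfsg.Agent.Lib.Helper3.classInner_irr_ne hSt hχ (fun h => hcon.2.1 h.symm), add_zero]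
      · have hαα : α = α₀ := quad_mulChar_unique α α₀ hα2 hα1 hα₀ hα₀1
        subst hαα
        rw [hπ₀, Cfsg.Agent.Lib.Helper80.classInner_add_left] at hα
        by_contra hcon
        push Not at hcon
        apply hα
        rw [Cfsg.Agent.Lib.Helper3.classInner_irr_ne h₁ hχ (fun h => hcon.2.2.1 h.symm),
          Cfsg.Agent.Lib.Helper3.classInner_irr_ne h₂ hχ (fun h => hcon.2.2.2.1 h.symm), add_zero]
    · right; right; right; right
      refine ⟨α, hα2, ?_⟩
      by_contra hcon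
      apply hα
      exact Cfsg.Agent.Lib.Helper3.classInner_irr_ne (isIrrCharacter_indFun_lamS α hα2) hχ
        (fun h => hcon h.symm)

/-- the type of an irreducible character of `SL₂(q)`, `q ≥ 5` odd. -/
theorem sl2_type_sum (h2 : ringChar F ≠ 2) (r : ℕ) (hr : Fintype.card F = 2 * r + 1)
    (hr2 : 2 ≤ r) {χ : Matrix.SpecialLinearGroup (Fin 2) F → ℂ}
    (hχ : Cfsg.IsIrrCharacter (Matrix.SpecialLinearGroup (Fin 2) F) χ) :
    ∃ m s : ℕ, Cfsg.charDegree χ = m + r * s ∧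
      (∑ x : F, χ (tSL x) = (Fintype.card F : ℂ) * m) ∧
      (Cfsg.charDegree χ = 2 * r + 2 → m ≠ 0) ∧ (Cfsg.charDegree χ = 2 * r + 1 → m ≠ 0) ∧
      (Cfsg.charDegree χ = r + 1 → m ≠ 0) ∧ (Cfsg.charDegree χ = 1 → m ≠ 0) := by
  obtain ⟨n, ρ, hirr, hρ, hn, hd⟩ := irr_rep_data hχ
  haveI := hirr
  obtain ⟨ψ, hψ⟩ := exists_addChar_ne_one (F := F)
  obtain ⟨ε, hε⟩ := exists_nonsquare_aux h2
  obtain ⟨m, k₁, k₂, hu0, hu1, hue, hdeg, -, hs, -, -, -⟩ := sl2_unip_odd' h2 r hr ψ hψ ε hε ρ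
  obtain ⟨m', k₁', k₂', hu0', hu1', hue', -, -, t1, t2, -, t4, -⟩ :=
    sl2_type_odd h2 r hr hr2 ψ hψ ε hε n ρ
  have hm : m' = m := by
    have : (m' : ℂ) = m := by rw [← hu0', hu0]
    exact_mod_cast this
  subst hm
  have hfr : Module.finrank ℂ (Fin n → ℂ) = n := by simp
  rw [hfr] at hdeg
  refine ⟨m', k₁ + k₂, by rw [hd]; exact hdeg, by rw [← hρ]; exact hs, ?_, ?_, ?_, ?_⟩
  · intro h
    rw [hd] at h
    rw [(t1 h).1]
    norm_num
  · intro h
    rw [hd] at h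
    rw [(t2 h).1]
    norm_num
  · intro h
    rw [hd] at h
    rw [(t4 h).1]
    norm_num
  · intro h hm0
    rw [hd] at h
    subst hm0
    rw [h] at hdeg
    rcases Nat.eq_zero_or_pos (k₁ + k₂) with h0 | h0
    · rw [h0] at hdeg
      omega
    · nlinarith

theorem exists_mulChar_orderOf : ∃ ω : MulChar F ℂ, orderOf ω = Fintype.card F - 1 := by
  obtain ⟨e⟩ := MulChar.mulEquiv_units F ℂ
  obtain ⟨g, hg⟩ := IsCyclic.exists_generator (α := Fˣ)
  refine ⟨e.symm g, ?_⟩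
  rw [MulEquiv.orderOf_eq, orderOf_eq_card_of_forall_mem_zpowers hg, Nat.card_eq_fintype_card,
    Fintype.card_units]

/-- a family of `r - 1` different irreducible principal series characters. -/
theorem sl2_principal_family (r : ℕ) (hr : Fintype.card F = 2 * r + 1) :
    ∃ f : Fin (r - 1) → MulChar F ℂ, (∀ j, f j ^ 2 ≠ 1) ∧
      Function.Injective (fun j => Cfsg.indFun (borelS F) (lamS (f j))) := by
  classical
  have hfin := Cfsg.Agent.Lib.Helper3.irr_finite (G := Matrix.SpecialLinearGroup (Fin 2) F)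
  have hft : Fintype (Cfsg.IrrCharacter (Matrix.SpecialLinearGroup (Fin 2) F)) :=
    Fintype.ofFinite _
  obtain ⟨ω, hω⟩ := exists_mulChar_orderOf (F := F)
  have hω' : orderOf ω = 2 * r := by rw [hω, hr]; omega
  have hsq : ∀ j : Fin (r - 1), (ω ^ (j.1 + 1)) ^ 2 ≠ 1 := by
    intro j hj
    rw [← pow_mul] at hj
    have hdvd := orderOf_dvd_of_pow_eq_one hj
    rw [hω'] at hdvd
    have hj2 := j.2
    have := Nat.le_of_dvd (by omega) hdvd
    omega
  refine ⟨fun j => ω ^ (j.1 + 1), hsq, ?_⟩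
  intro i j hij
  simp only at hij
  have h1 := classInner_indFun_lamS_two (ω ^ (i.1 + 1)) (ω ^ (j.1 + 1))
  rw [hij] at h1
  have h3 := classInner_indFun_lamS (ω ^ (j.1 + 1))
  rw [if_neg (hsq j)] at h3
  rw [h3] at h1
  have hi2 := i.2
  have hj2 := j.2
  by_cases e1 : ω ^ (i.1 + 1) = ω ^ (j.1 + 1)
  · rw [pow_inj_mod, hω'] at e1
    rw [Nat.mod_eq_of_lt (by omega), Nat.mod_eq_of_lt (by omega)] at e1
    exact Fin.ext (by omega)
  · by_cases e2 : ω ^ (i.1 + 1) = (ω ^ (j.1 + 1))⁻¹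
    · exfalso
      have e3 : ω ^ (i.1 + 1 + (j.1 + 1)) = 1 := by
        rw [pow_add, e2, inv_mul_cancel]
      have hdvd := orderOf_dvd_of_pow_eq_one e3
      rw [hω'] at hdvd
      have := Nat.le_of_dvd (by omega) hdvd
      omega
    · rw [if_neg e1, if_neg e2] at h1
      norm_num at h1

theorem exists_mulChar_neg_one (h2 : (2 : F) ≠ 0) (c : ℂ) (hc : c ^ 2 = 1) :
    ∃ α : MulChar F ℂ, α (-1) = c := by
  rcases sq_eq_one_iff.mp hc with rfl | rfl
  · exact ⟨1, one_mulChar_neg_one⟩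
  · have hne : (-1 : F) ≠ 1 := by
      intro h
      apply h2
      linear_combination (-1 : F) * h
    obtain ⟨α, hα⟩ := MulChar.exists_apply_ne_one_of_hasEnoughRootsOfUnity F ℂ hne
    refine ⟨α, ?_⟩
    have hsq : α (-1) ^ 2 = 1 := by
      rw [← map_pow]
      simp
    rcases sq_eq_one_iff.mp hsq with h | h
    · exact absurd h hα
    · exact h

theorem units_add_inv_eq {A B : ℂˣ}
    (h : ((A : ℂˣ) : ℂ) + ((A⁻¹ : ℂˣ) : ℂ) = ((B : ℂˣ) : ℂ) + ((B⁻¹ : ℂˣ) : ℂ)) :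
    A = B ∨ A * B = 1 := by
  have hA : ((A : ℂˣ) : ℂ) * ((A⁻¹ : ℂˣ) : ℂ) = 1 := by
    rw [← Units.val_mul, mul_inv_cancel, Units.val_one]
  have hB : ((B : ℂˣ) : ℂ) * ((B⁻¹ : ℂˣ) : ℂ) = 1 := by
    rw [← Units.val_mul, mul_inv_cancel, Units.val_one]
  have h3 : (((A : ℂˣ) : ℂ) - ((B : ℂˣ) : ℂ)) * (((A : ℂˣ) : ℂ) * ((B : ℂˣ) : ℂ) - 1) = 0 := by
    linear_combination ((A : ℂˣ) : ℂ) * ((B : ℂˣ) : ℂ) * h +
      (-((B : ℂˣ) : ℂ)) * hA + ((A : ℂˣ) : ℂ) * hB
  rcases mul_eq_zero.mp h3 with h4 | h4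
  · left
    exact Units.ext (sub_eq_zero.mp h4)
  · right
    apply Units.ext
    rw [Units.val_mul, Units.val_one]
    exact sub_eq_zero.mp h4

open Classical in
/-- a family of `r` different cuspidal characters of degree `q - 1`. -/
theorem sl2_cusp_family (h2 : (2 : F) ≠ 0) (r : ℕ) (hr : Fintype.card F = 2 * r + 1)
    (hr1 : 1 ≤ r)
    (x : Matrix.SpecialLinearGroup (Fin 2) F) (hx : ∀ a : F, a * a - x.1.trace * a + 1 ≠ 0)
    (C : Subgroup (Matrix.SpecialLinearGroup (Fin 2) F))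
    (hC : C = Subgroup.centralizer ({x} : Set (Matrix.SpecialLinearGroup (Fin 2) F)))
    (k₀ : C) (hk₀ : ∀ c : C, c ∈ Subgroup.zpowers k₀) :
    ∃ (θ : Fin r → (C →* ℂˣ)) (α : Fin r → MulChar F ℂ) (hzC : zSL ∈ C),
      (∀ j, ∃ c : C, θ j c ^ 2 ≠ 1) ∧ (∀ j, α j (-1) = ((θ j ⟨zSL, hzC⟩ : ℂˣ) : ℂ)) ∧
      Function.Injective (fun j => cuspFun C (θ j) (α j)) := by
  have hcardC : Nat.card C = Fintype.card F + 1 := by
    rw [hC]
    exact card_centralizer_nonsplit h2 x hx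
  have hord : orderOf k₀ = 2 * r + 2 := by
    rw [orderOf_eq_card_of_forall_mem_zpowers hk₀, hcardC, hr]
  have hzC : zSL ∈ C := by
    rw [hC]
    exact zSL_mem_centralizer x
  have hk₀c : (k₀ : Matrix.SpecialLinearGroup (Fin 2) F) ∉
      Subgroup.center (Matrix.SpecialLinearGroup (Fin 2) F) := by
    intro hc
    have h1 : (k₀ : Matrix.SpecialLinearGroup (Fin 2) F) *
        (k₀ : Matrix.SpecialLinearGroup (Fin 2) F) = 1 := by
      rcases (mem_center_iff_one_or_zSL _).mp hc with h | h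
      · rw [h, one_mul]
      · rw [h, zSL_mul_self]
    have h2' : k₀ ^ 2 = 1 := by
      apply Subtype.ext
      rw [sq]
      exact h1
    have hd := orderOf_dvd_of_pow_eq_one h2'
    rw [hord] at hd
    have := Nat.le_of_dvd (by norm_num) hd
    omega
  have hN : (2 * r + 2) ≠ 0 := by omega
  have hζ := Complex.isPrimitiveRoot_exp (2 * r + 2) hN
  obtain ⟨u, hup⟩ : ∃ u : ℂˣ, IsPrimitiveRoot u (2 * r + 2) :=
    ⟨(hζ.isUnit hN).unit, IsPrimitiveRoot.isUnit_unit hN hζ⟩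
  have huo : orderOf u = 2 * r + 2 := hup.eq_orderOf.symm
  have hdv : ∀ j : Fin r, orderOf (u ^ (j.1 + 1)) ∣ orderOf k₀ := by
    intro j
    rw [hord, ← huo]
    exact orderOf_pow_dvd _
  let θ : Fin r → (C →* ℂˣ) := fun j => monoidHomOfForallMemZpowers hk₀ (hdv j)
  have hθk : ∀ j, θ j k₀ = u ^ (j.1 + 1) := fun j =>
    monoidHomOfForallMemZpowers_apply_gen hk₀ (hdv j)
  have hθsq : ∀ j, ∃ c : C, θ j c ^ 2 ≠ 1 := by
    intro j
    refine ⟨k₀, ?_⟩
    rw [hθk, ← pow_mul]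
    intro h
    have hd := (hup.pow_eq_one_iff_dvd _).mp h
    have := Nat.le_of_dvd (by omega) hd
    have := j.2
    omega
  have hz2 : ∀ j, (((θ j ⟨zSL, hzC⟩ : ℂˣ) : ℂ)) ^ 2 = 1 := by
    intro j
    rw [← Units.val_pow_eq_pow_val, ← map_pow]
    have : (⟨zSL, hzC⟩ : C) ^ 2 = 1 := by
      apply Subtype.ext
      rw [sq]
      exact zSL_mul_self
    rw [this, map_one, Units.val_one]
  choose α hα using fun j => exists_mulChar_neg_one h2 _ (hz2 j)
  refine ⟨θ, α, hzC, hθsq, hα, ?_⟩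
  intro i j hij
  simp only at hij
  have h1 := congrFun hij (k₀ : Matrix.SpecialLinearGroup (Fin 2) F)
  rw [cuspFun_torus h2 x hx C hC (θ i) (α i) k₀ k₀.2 hk₀c,
    cuspFun_torus h2 x hx C hC (θ j) (α j) k₀ k₀.2 hk₀c] at h1
  have e : (⟨(k₀ : Matrix.SpecialLinearGroup (Fin 2) F), k₀.2⟩ : C) = k₀ := rfl
  rw [e, hθk, hθk] at h1
  have h3 := units_add_inv_eq (neg_injective h1)
  have hi2 := i.2
  have hj2 := j.2
  rcases h3 with h4 | h4
  · have := hup.pow_inj (by omega) (by omega) h4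
    exact Fin.ext (by omega)
  · exfalso
    rw [← pow_add] at h4
    have hd := (hup.pow_eq_one_iff_dvd _).mp h4
    have := Nat.le_of_dvd (by omega) hd
    omega

theorem sum_ite_const_card {ι : Type*} (s : Finset ι) (p : ι → Prop) [DecidablePred p] (c : ℕ) :
    ∑ i ∈ s, (if p i then c else 0) = (s.filter p).card * c := by
  rw [← Finset.sum_filter, Finset.sum_const, smul_eq_mul]

theorem sq_indicator_decomp (r : ℕ) (hr2 : 2 ≤ r) (n : ℕ) :
    n ^ 2 = (if n = 1 then 1 ^ 2 else 0) + (if n = 2 * r + 1 then (2 * r + 1) ^ 2 else 0) +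
      (if n = 2 * r + 2 then (2 * r + 2) ^ 2 else 0) + (if n = 2 * r then (2 * r) ^ 2 else 0) +
      (if n = r + 1 then (r + 1) ^ 2 else 0) + (if n = r then r ^ 2 else 0) +
      (if n = 1 ∨ n = 2 * r + 1 ∨ n = 2 * r + 2 ∨ n = 2 * r ∨ n = r + 1 ∨ n = r then 0
        else n ^ 2) := by
  split_ifs <;> first | omega | (subst_vars; ring)

/-- the arithmetic at the end of the classification. -/
theorem sl2_count_arith (r N3 N4 N6 R : ℕ) (hr2 : 2 ≤ r) (h3 : r - 1 ≤ N3) (h4 : r ≤ N4)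
    (hR : R = 0 ∨ 9 * r ^ 2 ≤ R)
    (hsum : 1 * 1 ^ 2 + 1 * (2 * r + 1) ^ 2 + N3 * (2 * r + 2) ^ 2 + N4 * (2 * r) ^ 2 +
      2 * (r + 1) ^ 2 + N6 * r ^ 2 + R = (2 * r + 1) * (2 * r) * (2 * r + 2)) :
    R = 0 ∧ N3 = r - 1 ∧ N4 = r ∧ N6 = 2 := by
  obtain ⟨t, rfl⟩ : ∃ t, r = t + 2 := ⟨r - 2, by omega⟩
  have e1 : t + 2 - 1 = t + 1 := by omega
  rw [e1] at h3 ⊢
  have k3 := Nat.mul_le_mul_right ((2 * (t + 2) + 2) ^ 2) h3
  have k4 := Nat.mul_le_mul_right ((2 * (t + 2)) ^ 2) h4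
  have hR0 : R = 0 := by
    rcases hR with h | h
    · exact h
    · exfalso
      nlinarith
  subst hR0
  have hN3 : N3 = t + 1 := by
    by_contra hne
    have h3' : t + 2 ≤ N3 := by omega
    have k3' := Nat.mul_le_mul_right ((2 * (t + 2) + 2) ^ 2) h3'
    nlinarith
  subst hN3
  have h5 : (t + 2) ^ 2 * (4 * N4 + N6) = (t + 2) ^ 2 * (4 * (t + 2) + 2) := by
    nlinarith
  have h6 : 4 * N4 + N6 = 4 * (t + 2) + 2 :=
    Nat.eq_of_mul_eq_mul_left (by positivity) h5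
  refine ⟨rfl, rfl, ?_, ?_⟩ <;> omega

open Classical in
/-- the classification of the irreducible characters of `SL₂(q)`, `q ≥ 5` odd, by degrees,
together with the parametrization of the characters of degree `q - 1` by the characters of a
non-split torus. -/
theorem sl2_odd_class_aux (hodd : Odd (Fintype.card F)) (r : ℕ)
    (hr : Fintype.card F = 2 * r + 1) (hr2 : 2 ≤ r)
    (x : Matrix.SpecialLinearGroup (Fin 2) F) (hx : ∀ a : F, a * a - x.1.trace * a + 1 ≠ 0)
    (C : Subgroup (Matrix.SpecialLinearGroup (Fin 2) F))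
    (hC : C = Subgroup.centralizer ({x} : Set (Matrix.SpecialLinearGroup (Fin 2) F)))
    (k₀ : C) (hk₀ : ∀ c : C, c ∈ Subgroup.zpowers k₀) :
    (∀ χ : Cfsg.IrrCharacter (Matrix.SpecialLinearGroup (Fin 2) F),
      Cfsg.charDegree χ.1 = 1 ∨ Cfsg.charDegree χ.1 = 2 * r + 1 ∨
      Cfsg.charDegree χ.1 = 2 * r + 2 ∨ Cfsg.charDegree χ.1 = 2 * r ∨
      Cfsg.charDegree χ.1 = r + 1 ∨ Cfsg.charDegree χ.1 = r) ∧
    Nat.card {χ : Cfsg.IrrCharacter (Matrix.SpecialLinearGroup (Fin 2) F) //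
      Cfsg.charDegree χ.1 = 1} = 1 ∧
    Nat.card {χ : Cfsg.IrrCharacter (Matrix.SpecialLinearGroup (Fin 2) F) //
      Cfsg.charDegree χ.1 = 2 * r + 1} = 1 ∧
    Nat.card {χ : Cfsg.IrrCharacter (Matrix.SpecialLinearGroup (Fin 2) F) //
      Cfsg.charDegree χ.1 = 2 * r + 2} = r - 1 ∧
    Nat.card {χ : Cfsg.IrrCharacter (Matrix.SpecialLinearGroup (Fin 2) F) //
      Cfsg.charDegree χ.1 = 2 * r} = r ∧
    Nat.card {χ : Cfsg.IrrCharacter (Matrix.SpecialLinearGroup (Fin 2) F) //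
      Cfsg.charDegree χ.1 = r + 1} = 2 ∧
    Nat.card {χ : Cfsg.IrrCharacter (Matrix.SpecialLinearGroup (Fin 2) F) //
      Cfsg.charDegree χ.1 = r} = 2 ∧
    (∀ χ : Matrix.SpecialLinearGroup (Fin 2) F → ℂ,
      Cfsg.IsIrrCharacter (Matrix.SpecialLinearGroup (Fin 2) F) χ →
      Cfsg.charDegree χ = 2 * r →
      ∃ (θ : C →* ℂˣ) (α : MulChar F ℂ) (hzC : zSL ∈ C), (∃ c : C, θ c ^ 2 ≠ 1) ∧
        α (-1) = ((θ ⟨zSL, hzC⟩ : ℂˣ) : ℂ) ∧ χ = cuspFun C θ α) := by
  have hfin := Cfsg.Agent.Lib.Helper3.irr_finite (G := Matrix.SpecialLinearGroup (Fin 2) F)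
  letI hft : Fintype (Cfsg.IrrCharacter (Matrix.SpecialLinearGroup (Fin 2) F)) :=
    Fintype.ofFinite _
  have h2 : ringChar F ≠ 2 := by
    intro hc
    have := FiniteField.even_card_of_char_two hc
    have := Nat.odd_iff.mp hodd
    omega
  have h2' : (2 : F) ≠ 0 := Ring.two_ne_zero h2
  have hq0 : (Fintype.card F : ℂ) ≠ 0 := by
    exact_mod_cast (Fintype.card_pos (α := F)).ne'
  obtain ⟨St, χ₁, χ₂, hSt, h₁, h₂, hne, dSt, d₁, d₂, hNC⟩ := sl2_odd_noncusp hodd r hr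
  have hone : Cfsg.IsIrrCharacter (Matrix.SpecialLinearGroup (Fin 2) F) (fun _ => (1 : ℂ)) :=
    Cfsg.Agent.Lib.Helper80.isIrrCharacter_one
  have d_one : Cfsg.charDegree (fun _ : Matrix.SpecialLinearGroup (Fin 2) F => (1 : ℂ)) = 1 :=
    charDegree_of_one (n := 1) (by simp)
  have d_ps : ∀ α : MulChar F ℂ,
      Cfsg.charDegree (Cfsg.indFun (borelS F) (lamS α)) = 2 * r + 2 := by
    intro α
    apply charDegree_of_one
    rw [indFun_lamS_one, hr]
    push_cast
    ring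
  -- the alternatives for an irreducible character
  have hcl : ∀ χ : Cfsg.IrrCharacter (Matrix.SpecialLinearGroup (Fin 2) F),
      (χ = ⟨fun _ => (1 : ℂ), hone⟩ ∧ Cfsg.charDegree χ.1 = 1) ∨
      (χ = ⟨St, hSt⟩ ∧ Cfsg.charDegree χ.1 = 2 * r + 1) ∨
      (χ = ⟨χ₁, h₁⟩ ∧ Cfsg.charDegree χ.1 = r + 1) ∨
      (χ = ⟨χ₂, h₂⟩ ∧ Cfsg.charDegree χ.1 = r + 1) ∨
      Cfsg.charDegree χ.1 = 2 * r + 2 ∨
      ((∃ s, Cfsg.charDegree χ.1 = r * s) ∧ Cfsg.charDegree χ.1 ≠ 1 ∧
        Cfsg.charDegree χ.1 ≠ 2 * r + 1 ∧ Cfsg.charDegree χ.1 ≠ 2 * r + 2 ∧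
        Cfsg.charDegree χ.1 ≠ r + 1) := by
    intro χ
    obtain ⟨m, s, hd, hs, t1, t2, t3, t4⟩ := sl2_type_sum h2 r hr hr2 χ.2
    by_cases hm : m = 0
    · right; right; right; right; right
      subst hm
      exact ⟨⟨s, by rw [hd]; ring⟩, fun h => t4 h rfl, fun h => t2 h rfl, fun h => t1 h rfl,
        fun h => t3 h rfl⟩
    · have hs' : ∑ x : F, χ.1 (tSL x) ≠ 0 := by
        rw [hs]
        exact mul_ne_zero hq0 (by exact_mod_cast hm)
      rcases hNC χ.1 χ.2 hs' with h | h | h | h | ⟨α, -, h⟩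
      · left
        exact ⟨Subtype.ext h, by rw [h]; exact d_one⟩
      · right; left
        exact ⟨Subtype.ext h, by rw [h]; exact dSt⟩
      · right; right; left
        exact ⟨Subtype.ext h, by rw [h]; exact d₁⟩
      · right; right; right; left
        exact ⟨Subtype.ext h, by rw [h]; exact d₂⟩
      · right; right; right; right; left
        rw [h]
        exact d_ps α
  -- the sets of the characters of the degrees 1, q, (q + 1) / 2
  have B1 : (Finset.univ.filter (fun χ : Cfsg.IrrCharacter (Matrix.SpecialLinearGroup (Fin 2) F) =>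
      Cfsg.charDegree χ.1 = 1)) = {⟨fun _ => (1 : ℂ), hone⟩} := by
    ext χ
    simp only [Finset.mem_filter, Finset.mem_univ, true_and, Finset.mem_singleton]
    constructor
    · intro hd
      rcases hcl χ with h | h | h | h | h | h
      · exact h.1
      all_goals (exfalso; omega)
    · rintro rfl
      exact d_one
  have B2 : (Finset.univ.filter (fun χ : Cfsg.IrrCharacter (Matrix.SpecialLinearGroup (Fin 2) F) =>
      Cfsg.charDegree χ.1 = 2 * r + 1)) = {⟨St, hSt⟩} := by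
    ext χ
    simp only [Finset.mem_filter, Finset.mem_univ, true_and, Finset.mem_singleton]
    constructor
    · intro hd
      rcases hcl χ with h | h | h | h | h | h
      · exfalso; omega
      · exact h.1
      all_goals (exfalso; omega)
    · rintro rfl
      exact dSt
  have B5 : (Finset.univ.filter (fun χ : Cfsg.IrrCharacter (Matrix.SpecialLinearGroup (Fin 2) F) =>
      Cfsg.charDegree χ.1 = r + 1)) = {⟨χ₁, h₁⟩, ⟨χ₂, h₂⟩} := by
    ext χ
    simp only [Finset.mem_filter, Finset.mem_univ, true_and, Finset.mem_insert,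
      Finset.mem_singleton]
    constructor
    · intro hd
      rcases hcl χ with h | h | h | h | h | h
      · exfalso; omega
      · exfalso; omega
      · exact Or.inl h.1
      · exact Or.inr h.1
      all_goals (exfalso; omega)
    · rintro (rfl | rfl)
      · exact d₁
      · exact d₂
  have N1 := congrArg Finset.card B1
  have N2 := congrArg Finset.card B2
  have N5 := congrArg Finset.card B5
  rw [Finset.card_singleton] at N1 N2
  rw [Finset.card_pair (fun h => hne (congrArg Subtype.val h))] at N5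
  -- the principal series
  have N3 : r - 1 ≤ (Finset.univ.filter
      (fun χ : Cfsg.IrrCharacter (Matrix.SpecialLinearGroup (Fin 2) F) =>
      Cfsg.charDegree χ.1 = 2 * r + 2)).card := by
    obtain ⟨f, hf2, hfinj⟩ := sl2_principal_family r hr
    have hle := Finset.card_le_card_of_injOn (s := (Finset.univ : Finset (Fin (r - 1))))
      (t := Finset.univ.filter
        (fun χ : Cfsg.IrrCharacter (Matrix.SpecialLinearGroup (Fin 2) F) =>
        Cfsg.charDegree χ.1 = 2 * r + 2))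
      (fun j => (⟨Cfsg.indFun (borelS F) (lamS (f j)),
        isIrrCharacter_indFun_lamS (f j) (hf2 j)⟩ :
          Cfsg.IrrCharacter (Matrix.SpecialLinearGroup (Fin 2) F)))
      (fun j _ => by
        simp only [Finset.coe_filter, Finset.mem_univ, true_and, Set.mem_setOf_eq]
        exact d_ps (f j))
      (fun i _ j _ h => hfinj (congrArg Subtype.val h))
    rwa [Finset.card_univ, Fintype.card_fin] at hle
  -- the cuspidal characters
  obtain ⟨θ, α, hzC, hθ, hα, hinj⟩ := sl2_cusp_family h2' r hr (by omega) x hx C hC k₀ hk₀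
  have hgirr : ∀ j : Fin r, Cfsg.IsIrrCharacter (Matrix.SpecialLinearGroup (Fin 2) F)
      (cuspFun C (θ j) (α j)) := fun j =>
    isIrrCharacter_cuspFun h2' x hx C hC (θ j) (hθ j) (α j) hzC (hα j)
  have hgdeg : ∀ j : Fin r, Cfsg.charDegree (cuspFun C (θ j) (α j)) = 2 * r := by
    intro j
    apply charDegree_of_one
    rw [cuspFun_one h2' x hx C hC (θ j) (α j), hr]
    push_cast
    ring
  have hgmem : ∀ j ∈ (Finset.univ : Finset (Fin r)),
      (⟨cuspFun C (θ j) (α j), hgirr j⟩ :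
        Cfsg.IrrCharacter (Matrix.SpecialLinearGroup (Fin 2) F)) ∈
      Finset.univ.filter
        (fun χ : Cfsg.IrrCharacter (Matrix.SpecialLinearGroup (Fin 2) F) =>
        Cfsg.charDegree χ.1 = 2 * r) := by
    intro j _
    simp only [Finset.mem_filter, Finset.mem_univ, true_and]
    exact hgdeg j
  have hginj : Function.Injective (fun j : Fin r => (⟨cuspFun C (θ j) (α j), hgirr j⟩ :
        Cfsg.IrrCharacter (Matrix.SpecialLinearGroup (Fin 2) F))) :=
    fun i j h => hinj (congrArg Subtype.val h)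
  have himg : (Finset.univ.image (fun j : Fin r => (⟨cuspFun C (θ j) (α j), hgirr j⟩ :
        Cfsg.IrrCharacter (Matrix.SpecialLinearGroup (Fin 2) F)))).card = r := by
    rw [Finset.card_image_of_injective _ hginj, Finset.card_univ, Fintype.card_fin]
  have hsub : Finset.univ.image (fun j : Fin r => (⟨cuspFun C (θ j) (α j), hgirr j⟩ :
        Cfsg.IrrCharacter (Matrix.SpecialLinearGroup (Fin 2) F))) ⊆
      Finset.univ.filter
        (fun χ : Cfsg.IrrCharacter (Matrix.SpecialLinearGroup (Fin 2) F) =>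
        Cfsg.charDegree χ.1 = 2 * r) := by
    intro χ hχ
    obtain ⟨j, hj, rfl⟩ := Finset.mem_image.mp hχ
    exact hgmem j hj
  have N4 : r ≤ (Finset.univ.filter
      (fun χ : Cfsg.IrrCharacter (Matrix.SpecialLinearGroup (Fin 2) F) =>
      Cfsg.charDegree χ.1 = 2 * r)).card := by
    have hle := Finset.card_le_card hsub
    rw [himg] at hle
    exact hle
  -- the sum of the squares of the degrees
  have hG : Nat.card (Matrix.SpecialLinearGroup (Fin 2) F) =
      (2 * r + 1) * (2 * r) * (2 * r + 2) := by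
    have h := card_SL2_complex (F := F)
    rw [hr] at h
    rw [Nat.card_eq_fintype_card]
    have h' : ((Fintype.card (Matrix.SpecialLinearGroup (Fin 2) F) : ℕ) : ℂ) =
        (((2 * r + 1) * (2 * r) * (2 * r + 2) : ℕ) : ℂ) := by
      rw [h]
      push_cast
      ring
    exact_mod_cast h'
  have hsum := Cfsg.Agent.Lib.Helper80.sum_charDegree_sq
    (G := Matrix.SpecialLinearGroup (Fin 2) F)
  rw [hG, Finset.sum_congr rfl (fun χ _ => sq_indicator_decomp r hr2 (Cfsg.charDegree χ.1))]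
    at hsum
  simp only [Finset.sum_add_distrib, sum_ite_const_card] at hsum
  rw [N1, N2, N5] at hsum
  -- the remainder
  have hR : (∑ χ : Cfsg.IrrCharacter (Matrix.SpecialLinearGroup (Fin 2) F),
      (if Cfsg.charDegree χ.1 = 1 ∨ Cfsg.charDegree χ.1 = 2 * r + 1 ∨
        Cfsg.charDegree χ.1 = 2 * r + 2 ∨ Cfsg.charDegree χ.1 = 2 * r ∨
        Cfsg.charDegree χ.1 = r + 1 ∨ Cfsg.charDegree χ.1 = r then 0
        else Cfsg.charDegree χ.1 ^ 2)) = 0 ∨ 9 * r ^ 2 ≤
      (∑ χ : Cfsg.IrrCharacter (Matrix.SpecialLinearGroup (Fin 2) F),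
      (if Cfsg.charDegree χ.1 = 1 ∨ Cfsg.charDegree χ.1 = 2 * r + 1 ∨
        Cfsg.charDegree χ.1 = 2 * r + 2 ∨ Cfsg.charDegree χ.1 = 2 * r ∨
        Cfsg.charDegree χ.1 = r + 1 ∨ Cfsg.charDegree χ.1 = r then 0
        else Cfsg.charDegree χ.1 ^ 2)) := by
    by_cases hall : ∀ χ : Cfsg.IrrCharacter (Matrix.SpecialLinearGroup (Fin 2) F),
        Cfsg.charDegree χ.1 = 1 ∨ Cfsg.charDegree χ.1 = 2 * r + 1 ∨
        Cfsg.charDegree χ.1 = 2 * r + 2 ∨ Cfsg.charDegree χ.1 = 2 * r ∨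
        Cfsg.charDegree χ.1 = r + 1 ∨ Cfsg.charDegree χ.1 = r
    · left
      exact Finset.sum_eq_zero (fun χ _ => if_pos (hall χ))
    · right
      push Not at hall
      obtain ⟨χ₀, hχ₀⟩ := hall
      have hle := Finset.single_le_sum (f := fun χ : Cfsg.IrrCharacter
          (Matrix.SpecialLinearGroup (Fin 2) F) =>
        (if Cfsg.charDegree χ.1 = 1 ∨ Cfsg.charDegree χ.1 = 2 * r + 1 ∨
          Cfsg.charDegree χ.1 = 2 * r + 2 ∨ Cfsg.charDegree χ.1 = 2 * r ∨
          Cfsg.charDegree χ.1 = r + 1 ∨ Cfsg.charDegree χ.1 = r then 0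
          else Cfsg.charDegree χ.1 ^ 2)) (fun χ _ => Nat.zero_le _) (Finset.mem_univ χ₀)
      rw [if_neg (by
        push Not
        exact hχ₀)] at hle
      refine le_trans ?_ hle
      have hpos := Cfsg.Agent.Lib.Helper80.charDegree_pos χ₀.2
      rcases hcl χ₀ with h | h | h | h | h | ⟨⟨s, hs⟩, -⟩
      · exact absurd h.2 hχ₀.1
      · exact absurd h.2 hχ₀.2.1
      · exact absurd h.2 hχ₀.2.2.2.2.1
      · exact absurd h.2 hχ₀.2.2.2.2.1
      · exact absurd h hχ₀.2.2.1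
      · have hs3 : 3 ≤ s := by
          by_contra hcon
          have hs' : s = 0 ∨ s = 1 ∨ s = 2 := by omega
          rcases hs' with rfl | rfl | rfl
          · rw [hs] at hpos
            omega
          · exact hχ₀.2.2.2.2.2 (by rw [hs]; ring)
          · exact hχ₀.2.2.2.1 (by rw [hs]; ring)
        rw [hs]
        nlinarith [Nat.mul_le_mul_left r hs3]
  obtain ⟨hR0, hN3, hN4, hN6⟩ := sl2_count_arith r _ _ _ _ hr2 N3 N4 hR hsum
  have hcard : ∀ a : ℕ,
      Nat.card {χ : Cfsg.IrrCharacter (Matrix.SpecialLinearGroup (Fin 2) F) //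
        Cfsg.charDegree χ.1 = a} = (Finset.univ.filter
        (fun χ : Cfsg.IrrCharacter (Matrix.SpecialLinearGroup (Fin 2) F) =>
        Cfsg.charDegree χ.1 = a)).card := by
    intro a
    rw [Nat.card_eq_fintype_card, Fintype.card_subtype]
  refine ⟨?_, ?_, ?_, ?_, ?_, ?_, ?_, ?_⟩
  · intro χ
    by_contra hχ
    have h0 := (Finset.sum_eq_zero_iff_of_nonneg (fun χ _ => Nat.zero_le _)).mp hR0 χ
      (Finset.mem_univ χ)
    rw [if_neg hχ] at h0
    have hpos := Cfsg.Agent.Lib.Helper80.charDegree_pos χ.2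
    have : Cfsg.charDegree χ.1 = 0 := by
      exact pow_eq_zero_iff (by norm_num) |>.mp h0
    omega
  · rw [hcard, N1]
  · rw [hcard, N2]
  · rw [hcard, hN3]
  · rw [hcard, hN4]
  · rw [hcard, N5]
  · rw [hcard, hN6]
  · intro χ hχ hd
    have heq := Finset.eq_of_subset_of_card_le hsub (by rw [himg, hN4])
    have hmem : (⟨χ, hχ⟩ : Cfsg.IrrCharacter (Matrix.SpecialLinearGroup (Fin 2) F)) ∈
        Finset.univ.filter
        (fun χ : Cfsg.IrrCharacter (Matrix.SpecialLinearGroup (Fin 2) F) =>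
        Cfsg.charDegree χ.1 = 2 * r) := by
      simp only [Finset.mem_filter, Finset.mem_univ, true_and]
      exact hd
    rw [← heq] at hmem
    obtain ⟨j, -, hj⟩ := Finset.mem_image.mp hmem
    exact ⟨θ j, α j, hzC, hθ j, hα j, (congrArg Subtype.val hj).symm⟩

/-- a cyclic subgroup of order `q + 1` of `SL₂(q)`, `q` odd, is a non-split torus. -/
theorem torus_of_cyclic (h2 : (2 : F) ≠ 0) (hq : 3 ≤ Fintype.card F)
    (C : Subgroup (Matrix.SpecialLinearGroup (Fin 2) F)) (hC : IsCyclic C)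
    (hcard : Nat.card C = Fintype.card F + 1) :
    ∃ x : Matrix.SpecialLinearGroup (Fin 2) F, (∀ a : F, a * a - x.1.trace * a + 1 ≠ 0) ∧
      C = Subgroup.centralizer ({x} : Set (Matrix.SpecialLinearGroup (Fin 2) F)) ∧
      ∃ k₀ : C, ∀ c : C, c ∈ Subgroup.zpowers k₀ := by
  obtain ⟨k₀, hk₀⟩ := IsCyclic.exists_generator (α := C)
  have hord : orderOf k₀ = Fintype.card F + 1 := by
    rw [orderOf_eq_card_of_forall_mem_zpowers hk₀, hcard]
  have hk₀c : (k₀ : Matrix.SpecialLinearGroup (Fin 2) F) ∉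
      Subgroup.center (Matrix.SpecialLinearGroup (Fin 2) F) := by
    intro hc
    have h1 : (k₀ : Matrix.SpecialLinearGroup (Fin 2) F) *
        (k₀ : Matrix.SpecialLinearGroup (Fin 2) F) = 1 := by
      rcases (mem_center_iff_one_or_zSL _).mp hc with h | h
      · rw [h, one_mul]
      · rw [h, zSL_mul_self]
    have h2' : k₀ ^ 2 = 1 := by
      apply Subtype.ext
      rw [sq]
      exact h1
    have hd := orderOf_dvd_of_pow_eq_one h2'
    rw [hord] at hd
    have := Nat.le_of_dvd (by norm_num) hd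
    omega
  have hle : C ≤ Subgroup.centralizer
      ({(k₀ : Matrix.SpecialLinearGroup (Fin 2) F)} :
        Set (Matrix.SpecialLinearGroup (Fin 2) F)) := by
    intro c hc
    rw [Subgroup.mem_centralizer_singleton_iff]
    obtain ⟨n, hn⟩ := Subgroup.mem_zpowers_iff.mp (hk₀ ⟨c, hc⟩)
    have e : c = (k₀ : Matrix.SpecialLinearGroup (Fin 2) F) ^ n := by
      rw [← Subgroup.coe_zpow, hn]
    rw [e]
    exact (Commute.zpow_self (k₀ : Matrix.SpecialLinearGroup (Fin 2) F) n).eq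
  have hdvd : Fintype.card F + 1 ∣ Nat.card (Subgroup.centralizer
      ({(k₀ : Matrix.SpecialLinearGroup (Fin 2) F)} :
        Set (Matrix.SpecialLinearGroup (Fin 2) F))) := by
    rw [← hcard]
    exact Subgroup.card_dvd_of_le hle
  rcases Cfsg.Agent.Lib.Helper41.card_centralizer_cases h2 _ hk₀c with ⟨_, hc⟩ | ⟨_, hc⟩ |
    ⟨hns, hc⟩
  · exfalso
    rw [hc] at hdvd
    have h3 : Fintype.card F + 1 ∣ 2 * (Fintype.card F + 1) := Dvd.intro_left _ rfl
    have h4 := Nat.dvd_sub h3 hdvd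
    have h5 : 2 * (Fintype.card F + 1) - 2 * Fintype.card F = 2 := by omega
    rw [h5] at h4
    have := Nat.le_of_dvd (by norm_num) h4
    omega
  · exfalso
    rw [hc] at hdvd
    have := Nat.le_of_dvd (by omega) hdvd
    omega
  · exact ⟨k₀, hns, Subgroup.eq_of_le_of_card_ge hle (by rw [hc, hcard]), k₀, hk₀⟩

/-- the classification of the irreducible characters of `SL₂(q)`, `q ≥ 5` odd, by degrees. -/
theorem sl2_odd_class (hodd : Odd (Fintype.card F)) (r : ℕ)
    (hr : Fintype.card F = 2 * r + 1) (hr2 : 2 ≤ r) :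
    (∀ χ : Cfsg.IrrCharacter (Matrix.SpecialLinearGroup (Fin 2) F),
      Cfsg.charDegree χ.1 = 1 ∨ Cfsg.charDegree χ.1 = 2 * r + 1 ∨
      Cfsg.charDegree χ.1 = 2 * r + 2 ∨ Cfsg.charDegree χ.1 = 2 * r ∨
      Cfsg.charDegree χ.1 = r + 1 ∨ Cfsg.charDegree χ.1 = r) ∧
    Nat.card {χ : Cfsg.IrrCharacter (Matrix.SpecialLinearGroup (Fin 2) F) //
      Cfsg.charDegree χ.1 = 1} = 1 ∧
    Nat.card {χ : Cfsg.IrrCharacter (Matrix.SpecialLinearGroup (Fin 2) F) //
      Cfsg.charDegree χ.1 = 2 * r + 1} = 1 ∧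
    Nat.card {χ : Cfsg.IrrCharacter (Matrix.SpecialLinearGroup (Fin 2) F) //
      Cfsg.charDegree χ.1 = 2 * r + 2} = r - 1 ∧
    Nat.card {χ : Cfsg.IrrCharacter (Matrix.SpecialLinearGroup (Fin 2) F) //
      Cfsg.charDegree χ.1 = 2 * r} = r ∧
    Nat.card {χ : Cfsg.IrrCharacter (Matrix.SpecialLinearGroup (Fin 2) F) //
      Cfsg.charDegree χ.1 = r + 1} = 2 ∧
    Nat.card {χ : Cfsg.IrrCharacter (Matrix.SpecialLinearGroup (Fin 2) F) //
      Cfsg.charDegree χ.1 = r} = 2 := by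
  have h2 : ringChar F ≠ 2 := by
    intro hc
    have := FiniteField.even_card_of_char_two hc
    have := Nat.odd_iff.mp hodd
    omega
  have h2' : (2 : F) ≠ 0 := Ring.two_ne_zero h2
  obtain ⟨W, -, hWns, -, hWz⟩ := Cfsg.Agent.Lib.Helper41.exists_nonsplit_torus h2'
  have hWmem : W ∈ Subgroup.centralizer ({W} : Set (Matrix.SpecialLinearGroup (Fin 2) F)) := by
    rw [Subgroup.mem_centralizer_singleton_iff]
  have hk₀ : ∀ c : Subgroup.centralizer ({W} : Set (Matrix.SpecialLinearGroup (Fin 2) F)),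
      c ∈ Subgroup.zpowers (⟨W, hWmem⟩ :
        Subgroup.centralizer ({W} : Set (Matrix.SpecialLinearGroup (Fin 2) F))) := by
    intro c
    have hc : (c : Matrix.SpecialLinearGroup (Fin 2) F) ∈ Subgroup.zpowers W := by
      rw [← hWz]
      exact c.2
    obtain ⟨n, hn⟩ := Subgroup.mem_zpowers_iff.mp hc
    exact Subgroup.mem_zpowers_iff.mpr ⟨n, Subtype.ext (by rw [Subgroup.coe_zpow]; exact hn)⟩
  obtain ⟨a, b, c, d, e, f, g, -⟩ := sl2_odd_class_aux hodd r hr hr2 W hWns _ rfl _ hk₀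
  exact ⟨a, b, c, d, e, f, g⟩

end OddClass

end Cfsg.Agent.Lib.Helper39
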