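import Mathlib
import Cfsg.Prelude.Def_Characters
import Cfsg.Agent.Lib.Helper39.SL2OddClass
import Cfsg.Agent.Lib.Helper82.Ito
import Cfsg.Agent.Lib.Helper82.CoprimePairs
import Cfsg.Agent.Lib.Helper80.CharKer
import Cfsg.Agent.Lib.Helper80.Orthogonality

set_option autoImplicit false
set_option linter.unusedSectionVars false
set_option linter.style.haveILetI false

namespace Cfsg.Agent.Lib.Helper39

open Matrix
open scoped ComplexConjugate

section McKayGeneric

theorem charDegree_comp_mulEquiv {G H : Type*} [Group G] [Group H] (e : H ≃* G) (χ : G → ℂ) :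
    Cfsg.charDegree (fun h => χ (e h)) = Cfsg.charDegree χ := by
  unfold Cfsg.charDegree
  show ⌊(χ (e 1)).re⌋₊ = _
  rw [map_one]

/-- the number of irreducible characters of degree prime to `ℓ` is an isomorphism invariant -/
theorem card_irr_not_dvd_mulEquiv {G H : Type*} [Group G] [Group H] [Finite G] [Finite H]
    (e : H ≃* G) (ℓ : ℕ) :
    Nat.card {χ : Cfsg.IrrCharacter G // ¬ ℓ ∣ Cfsg.charDegree (χ : G → ℂ)} =
      Nat.card {ψ : Cfsg.IrrCharacter H // ¬ ℓ ∣ Cfsg.charDegree (ψ : H → ℂ)} := by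
  apply Nat.card_congr
  exact
    { toFun := fun χ => ⟨⟨fun h => χ.1.1 (e h),
          Cfsg.Agent.Lib.Helper80.isIrrCharacter_comp_mulEquiv e χ.1.2⟩, by
        show ¬ ℓ ∣ Cfsg.charDegree (fun h => χ.1.1 (e h))
        rw [charDegree_comp_mulEquiv]
        exact χ.2⟩
      invFun := fun ψ => ⟨⟨fun g => ψ.1.1 (e.symm g),
          Cfsg.Agent.Lib.Helper80.isIrrCharacter_comp_mulEquiv e.symm ψ.1.2⟩, by
        show ¬ ℓ ∣ Cfsg.charDegree (fun g => ψ.1.1 (e.symm g))
        rw [charDegree_comp_mulEquiv]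
        exact ψ.2⟩
      left_inv := fun χ => by
        apply Subtype.ext
        apply Subtype.ext
        funext g
        show χ.1.1 (e (e.symm g)) = χ.1.1 g
        rw [MulEquiv.apply_symm_apply]
      right_inv := fun ψ => by
        apply Subtype.ext
        apply Subtype.ext
        funext h
        show ψ.1.1 (e.symm (e h)) = ψ.1.1 h
        rw [MulEquiv.symm_apply_apply] }

/-- if a group has an abelian normal subgroup of index prime to `ℓ`, all its irreducible
characters have degree prime to `ℓ` (Itô) -/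
theorem card_irr_not_dvd_of_abelian_normal {G : Type*} [Group G] [Finite G] (ℓ : ℕ)
    (A : Subgroup G) [A.Normal] (hab : ∀ a ∈ A, ∀ b ∈ A, a * b = b * a)
    (hℓ : ∀ d : ℕ, d ∣ A.index → ¬ ℓ ∣ d) :
    Nat.card {ψ : Cfsg.IrrCharacter G // ¬ ℓ ∣ Cfsg.charDegree (ψ : G → ℂ)} =
      Nat.card (ConjClasses G) := by
  haveI : Fintype G := Fintype.ofFinite G
  have hfin := Cfsg.Agent.Lib.Helper3.irr_finite (G := G)
  letI hft : Fintype (Cfsg.IrrCharacter G) := Fintype.ofFinite _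
  rw [← Cfsg.Agent.Lib.Helper80.card_irr_eq_card_conjClasses]
  apply Nat.card_congr
  exact Equiv.subtypeUnivEquiv
    (fun ψ => hℓ _ (Cfsg.Agent.Lib.Helper82.ito_charDegree_dvd ψ.2 A hab))

end McKayGeneric

section McKayCount

variable {F : Type*} [Field F] [Fintype F]

theorem ind_decomp6 (r : ℕ) (hr2 : 2 ≤ r) (ℓ n : ℕ)
    (hn : n = 1 ∨ n = 2 * r + 1 ∨ n = 2 * r + 2 ∨ n = 2 * r ∨ n = r + 1 ∨ n = r) :
    (if ¬ ℓ ∣ n then 1 else 0) =
      (if n = 1 then (if ℓ ∣ 1 then 0 else 1) else 0) +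
      (if n = 2 * r + 1 then (if ℓ ∣ 2 * r + 1 then 0 else 1) else 0) +
      (if n = 2 * r + 2 then (if ℓ ∣ 2 * r + 2 then 0 else 1) else 0) +
      (if n = 2 * r then (if ℓ ∣ 2 * r then 0 else 1) else 0) +
      (if n = r + 1 then (if ℓ ∣ r + 1 then 0 else 1) else 0) +
      (if n = r then (if ℓ ∣ r then 0 else 1) else 0) := by
  rcases hn with h | h | h | h | h | h <;> rw [h] <;> split_ifs <;> omega

/-- the number of irreducible characters of `SL₂(q)`, `q = 2r + 1 ≥ 5`, of degree prime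
to `ℓ` -/
theorem sl2_irr_not_dvd_count (hodd : Odd (Fintype.card F)) (r : ℕ)
    (hr : Fintype.card F = 2 * r + 1) (hr2 : 2 ≤ r) (ℓ : ℕ) :
    Nat.card {χ : Cfsg.IrrCharacter (Matrix.SpecialLinearGroup (Fin 2) F) //
        ¬ ℓ ∣ Cfsg.charDegree (χ : Matrix.SpecialLinearGroup (Fin 2) F → ℂ)} =
      (if ℓ ∣ 1 then 0 else 1) + (if ℓ ∣ 2 * r + 1 then 0 else 1) +
      (if ℓ ∣ 2 * r + 2 then 0 else r - 1) + (if ℓ ∣ 2 * r then 0 else r) +
      (if ℓ ∣ r + 1 then 0 else 2) + (if ℓ ∣ r then 0 else 2) := by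
  classical
  have hfin := Cfsg.Agent.Lib.Helper3.irr_finite (G := Matrix.SpecialLinearGroup (Fin 2) F)
  letI hft : Fintype (Cfsg.IrrCharacter (Matrix.SpecialLinearGroup (Fin 2) F)) :=
    Fintype.ofFinite _
  obtain ⟨hdeg, c1, c2, c3, c4, c5, c6⟩ := sl2_odd_class hodd r hr hr2
  rw [Nat.card_eq_fintype_card, Fintype.card_subtype] at c1 c2 c3 c4 c5 c6 ⊢
  rw [Finset.card_filter]
  rw [Finset.sum_congr rfl (fun χ _ => ind_decomp6 r hr2 ℓ _ (hdeg χ))]
  simp only [Finset.sum_add_distrib, sum_ite_const_card, c1, c2, c3, c4, c5, c6]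
  split_ifs <;> omega

end McKayCount

end Cfsg.Agent.Lib.Helper39
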