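import Mathlib
import Cfsg.Prelude.Def_Characters
import Cfsg.Agent.Lib.Helper39.CharGen
import Cfsg.Agent.Lib.Helper41.Dicyclic
import Cfsg.Agent.Lib.Helper82.Ito
import Cfsg.Agent.Lib.Helper80.CharKer
import Cfsg.Agent.Lib.Helper80.Orthogonality

set_option autoImplicit false
set_option linter.unusedSectionVars false
set_option linter.style.haveILetI false

namespace Cfsg.Agent.Lib.Helper39

open scoped ComplexConjugate

section McKayGen

/-- a group with an abelian subgroup `T` of index two inverted by the outside elements and with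
exactly two elements of square one in `T` (a dicyclic-like group) has exactly four irreducible
characters of odd degree -/
theorem dicyclic_odd_degree_count {N : Type*} [Group N] [Finite N] (T : Subgroup N) (z : N)
    (hz1 : z ≠ 1) (hzT : z ∈ T) (hzz : z * z = 1)
    (habel : ∀ a ∈ T, ∀ b ∈ T, a * b = b * a) (hindex : T.index = 2)
    (hinv : ∀ g, g ∉ T → ∀ t ∈ T, g * t * g⁻¹ = t⁻¹)
    (hsq : ∀ t ∈ T, t * t = 1 → t = 1 ∨ t = z) :
    Nat.card {ψ : Cfsg.IrrCharacter N // ¬ 2 ∣ Cfsg.charDegree (ψ : N → ℂ)} = 4 := by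
  classical
  haveI : Fintype N := Fintype.ofFinite N
  have hfin := Cfsg.Agent.Lib.Helper3.irr_finite (G := N)
  letI hft : Fintype (Cfsg.IrrCharacter N) := Fintype.ofFinite _
  haveI : T.Normal := Subgroup.normal_of_index_eq_two hindex
  have hk := Cfsg.Agent.Lib.Helper41.dicyclic_card_conjClasses T z hz1 hzT hzz habel hindex
    hinv hsq
  have hN : Nat.card N = 2 * Nat.card T := by rw [← T.index_mul_card, hindex]
  have hd : ∀ ψ : Cfsg.IrrCharacter N, Cfsg.charDegree (ψ : N → ℂ) = 1 ∨
      Cfsg.charDegree (ψ : N → ℂ) = 2 := by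
    intro ψ
    have h1 := Cfsg.Agent.Lib.Helper82.ito_charDegree_dvd ψ.2 T habel
    rw [hindex] at h1
    have h2 := Nat.le_of_dvd (by norm_num) h1
    have h3 := Cfsg.Agent.Lib.Helper80.charDegree_pos ψ.2
    omega
  have hsum := Cfsg.Agent.Lib.Helper80.sum_charDegree_sq (G := N)
  have hK := Cfsg.Agent.Lib.Helper80.card_irr_eq_card_conjClasses (G := N)
  rw [Nat.card_eq_fintype_card] at hK
  rw [Nat.card_eq_fintype_card, Fintype.card_subtype]
  have h4 : ∑ ψ : Cfsg.IrrCharacter N, Cfsg.charDegree (ψ : N → ℂ) ^ 2 +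
      3 * (Finset.univ.filter (fun ψ : Cfsg.IrrCharacter N =>
        ¬ 2 ∣ Cfsg.charDegree (ψ : N → ℂ))).card =
      4 * Fintype.card (Cfsg.IrrCharacter N) := by
    rw [Finset.card_filter, Finset.mul_sum, ← Finset.sum_add_distrib]
    have h5 : ∀ ψ : Cfsg.IrrCharacter N, Cfsg.charDegree (ψ : N → ℂ) ^ 2 +
        3 * (if ¬ 2 ∣ Cfsg.charDegree (ψ : N → ℂ) then 1 else 0) = 4 := by
      intro ψ
      rcases hd ψ with h | h <;> rw [h] <;> norm_num
    rw [Finset.sum_congr rfl (fun ψ _ => h5 ψ), Finset.sum_const, Finset.card_univ, smul_eq_mul,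
      mul_comm]
  rw [hsum] at h4
  omega

/-- an irreducible character not trivial on a central involution which is a commutator has
even degree -/
theorem even_degree_of_commutator {G : Type*} [Group G] [Finite G] {χ : G → ℂ}
    (hχ : Cfsg.IsIrrCharacter G χ) (z a b : G) (hz : ∀ g : G, z * g = g * z) (hzz : z * z = 1)
    (hab : a * b * a⁻¹ * b⁻¹ = z) (hne : χ z ≠ χ 1) : 2 ∣ Cfsg.charDegree χ := by
  obtain ⟨n, ρ, hirr, rfl⟩ := hχ
  haveI := hirr
  rw [Cfsg.Agent.Lib.Helper80.charDegree_char]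
  obtain ⟨c, hc⟩ := schur_scalar' ρ (ρ z) (fun g => by
    rw [← Module.End.mul_eq_comp, ← Module.End.mul_eq_comp, ← map_mul, ← map_mul, hz])
  have hnt : Nontrivial (Fin n → ℂ) := nontrivial_of_irr ρ
  have hc2 : c * c = 1 := by
    have h1 : ρ z * ρ z = 1 := by rw [← map_mul, hzz, map_one]
    rw [hc] at h1
    obtain ⟨v, hv⟩ := exists_ne (0 : Fin n → ℂ)
    have h2 : ((c • (LinearMap.id : (Fin n → ℂ) →ₗ[ℂ] (Fin n → ℂ))) *
        (c • (LinearMap.id : (Fin n → ℂ) →ₗ[ℂ] (Fin n → ℂ)))) v = v := by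
      rw [h1]
      rfl
    have h3 : ((c • (LinearMap.id : (Fin n → ℂ) →ₗ[ℂ] (Fin n → ℂ))) *
        (c • (LinearMap.id : (Fin n → ℂ) →ₗ[ℂ] (Fin n → ℂ)))) v = (c * c) • v := by
      simp [Module.End.mul_apply, smul_smul]
    rw [h3] at h2
    have h4 : (c * c - 1) • v = 0 := by rw [sub_smul, h2, one_smul, sub_self]
    rcases smul_eq_zero.mp h4 with h5 | h5
    · exact sub_eq_zero.mp h5
    · exact absurd h5 hv
  have hchz : ρ.character z = c * n := by
    show LinearMap.trace ℂ (Fin n → ℂ) (ρ z) = c * n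
    rw [hc, map_smul, LinearMap.trace_id]
    simp
  have hch1 : ρ.character 1 = n := Cfsg.Agent.Lib.Helper80.char_one_fin ρ
  have hcne : c ≠ 1 := by
    rintro rfl
    apply hne
    rw [hchz, hch1, one_mul]
  have hcneg : c = -1 := by
    have h1 : (c - 1) * (c + 1) = 0 := by linear_combination hc2
    rcases mul_eq_zero.mp h1 with h | h
    · exact absurd (sub_eq_zero.mp h) hcne
    · exact eq_neg_of_add_eq_zero_left h
  have hdet : LinearMap.det (ρ z) = 1 := by
    rw [← hab, map_mul, map_mul, map_mul, map_mul, map_mul, map_mul]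
    have h1 : LinearMap.det (ρ a) * LinearMap.det (ρ a⁻¹) = 1 := by
      rw [← map_mul, ← map_mul, mul_inv_cancel, map_one, map_one]
    have h2 : LinearMap.det (ρ b) * LinearMap.det (ρ b⁻¹) = 1 := by
      rw [← map_mul, ← map_mul, mul_inv_cancel, map_one, map_one]
    calc LinearMap.det (ρ a) * LinearMap.det (ρ b) * LinearMap.det (ρ a⁻¹) *
          LinearMap.det (ρ b⁻¹)
        = (LinearMap.det (ρ a) * LinearMap.det (ρ a⁻¹)) *
          (LinearMap.det (ρ b) * LinearMap.det (ρ b⁻¹)) := by ring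
      _ = 1 := by rw [h1, h2, one_mul]
  rw [hc, hcneg, LinearMap.det_smul, LinearMap.det_id, mul_one, Module.finrank_fin_fun] at hdet
  exact ((neg_one_pow_eq_one_iff_even (by norm_num)).mp hdet).two_dvd

/-- a group of order `24` with a normal subgroup `Sg` of order `8`, a central involution `z ∈ Sg`
which is a commutator, and such that elements centralising `Sg` have square one, has exactly
four irreducible characters of odd degree -/
theorem odd_degree_count_24 {N : Type*} [Group N] [Finite N] (Sg : Subgroup N) [Sg.Normal] (z : N)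
    (hcard : Nat.card N = 24) (hS : Nat.card Sg = 8) (hz1 : z ≠ 1) (hzz : z * z = 1)
    (hzc : ∀ g : N, z * g = g * z) (hzS : z ∈ Sg) (hcomm : ∃ a b : N, a * b * a⁻¹ * b⁻¹ = z)
    (hcent : ∀ y : N, (∀ s ∈ Sg, y * s = s * y) → y * y = 1) :
    Nat.card {ψ : Cfsg.IrrCharacter N // ¬ 2 ∣ Cfsg.charDegree (ψ : N → ℂ)} = 4 := by
  classical
  haveI : Fintype N := Fintype.ofFinite N
  -- the central subgroup of order two
  have hzinv : z⁻¹ = z := inv_eq_of_mul_eq_one_left hzz
  have hmemZ : ∀ x : N, x ∈ Subgroup.zpowers z ↔ x = 1 ∨ x = z := by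
    intro x
    rw [Subgroup.mem_zpowers_iff]
    constructor
    · rintro ⟨k, rfl⟩
      rcases Int.even_or_odd k with ⟨m, hm⟩ | ⟨m, hm⟩
      · left
        rw [hm, ← two_mul, zpow_mul, zpow_two, hzz, one_zpow]
      · right
        rw [hm, zpow_add, zpow_mul, zpow_two, hzz, one_zpow, one_mul, zpow_one]
    · rintro (h | h)
      · exact ⟨0, by rw [h, zpow_zero]⟩
      · exact ⟨1, by rw [h, zpow_one]⟩
  haveI hZn : (Subgroup.zpowers z).Normal := by
    constructor
    intro n hn g
    rcases (hmemZ n).mp hn with h | h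
    · rw [h, mul_one, mul_inv_cancel]
      exact Subgroup.one_mem _
    · rw [h, ← hzc g, mul_inv_cancel_right]
      exact Subgroup.mem_zpowers z
  have hZcard : Nat.card (Subgroup.zpowers z) = 2 := by
    rw [Nat.card_zpowers]
    exact orderOf_eq_prime (by rw [pow_two]; exact hzz) hz1
  have hZle : Subgroup.zpowers z ≤ Sg := by
    rw [Subgroup.zpowers_le]
    exact hzS
  -- the quotient
  have hQcard : Nat.card (N ⧸ Subgroup.zpowers z) = 12 := by
    have h1 := Subgroup.card_eq_card_quotient_mul_card_subgroup (Subgroup.zpowers z)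
    rw [hcard, hZcard] at h1
    omega
  haveI : Finite (N ⧸ Subgroup.zpowers z) := inferInstance
  haveI : Fintype (N ⧸ Subgroup.zpowers z) := Fintype.ofFinite _
  have hfin := Cfsg.Agent.Lib.Helper3.irr_finite (G := N ⧸ Subgroup.zpowers z)
  letI hft : Fintype (Cfsg.IrrCharacter (N ⧸ Subgroup.zpowers z)) := Fintype.ofFinite _
  -- the abelian normal subgroup of index three
  have hsurj : Function.Surjective (QuotientGroup.mk' (Subgroup.zpowers z)) :=
    QuotientGroup.mk'_surjective _
  haveI hAn : (Sg.map (QuotientGroup.mk' (Subgroup.zpowers z))).Normal :=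
    Subgroup.Normal.map inferInstance _ hsurj
  have hAidx : (Sg.map (QuotientGroup.mk' (Subgroup.zpowers z))).index = 3 := by
    rw [Subgroup.index_map_eq Sg hsurj (by rw [QuotientGroup.ker_mk']; exact hZle)]
    have h1 := Sg.index_mul_card
    rw [hcard, hS] at h1
    omega
  have hAcard : Nat.card (Sg.map (QuotientGroup.mk' (Subgroup.zpowers z))) = 2 ^ 2 := by
    have h1 := (Sg.map (QuotientGroup.mk' (Subgroup.zpowers z))).index_mul_card
    rw [hAidx, hQcard] at h1
    omega
  haveI : Fact (Nat.Prime 2) := ⟨Nat.prime_two⟩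
  have hAab : ∀ a ∈ Sg.map (QuotientGroup.mk' (Subgroup.zpowers z)),
      ∀ b ∈ Sg.map (QuotientGroup.mk' (Subgroup.zpowers z)), a * b = b * a := by
    intro a ha b hb
    have h1 := IsPGroup.commutative_of_card_eq_prime_sq hAcard ⟨a, ha⟩ ⟨b, hb⟩
    exact congrArg Subtype.val h1
  have hd : ∀ ψ : Cfsg.IrrCharacter (N ⧸ Subgroup.zpowers z),
      Cfsg.charDegree (ψ : N ⧸ Subgroup.zpowers z → ℂ) = 1 ∨
      Cfsg.charDegree (ψ : N ⧸ Subgroup.zpowers z → ℂ) = 3 := by
    intro ψ
    have h1 := Cfsg.Agent.Lib.Helper82.ito_charDegree_dvd ψ.2 _ hAab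
    rw [hAidx] at h1
    have h2 := (Nat.dvd_prime Nat.prime_three).mp h1
    exact h2
  -- the quotient is not abelian
  have hnc : ¬ (∀ a b : N ⧸ Subgroup.zpowers z, a * b = b * a) := by
    intro hcm
    obtain ⟨y, hy⟩ := exists_prime_orderOf_dvd_card' (G := N) 3 (by rw [hcard]; norm_num)
    have hy1 : y * y = 1 := by
      apply hcent
      intro s hs
      have h1 := hcm (QuotientGroup.mk y) (QuotientGroup.mk s)
      have h2 : y * s * y⁻¹ * s⁻¹ ∈ Subgroup.zpowers z := by
        rw [← QuotientGroup.eq_one_iff]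
        show ((y : N ⧸ Subgroup.zpowers z) * (s : N ⧸ Subgroup.zpowers z) *
          (y : N ⧸ Subgroup.zpowers z)⁻¹ * (s : N ⧸ Subgroup.zpowers z)⁻¹) = 1
        rw [h1]
        group
      rcases (hmemZ _).mp h2 with h3 | h3
      · calc y * s = y * s * y⁻¹ * s⁻¹ * s * y := by group
          _ = s * y := by rw [h3, one_mul]
      · exfalso
        have h4 : y * s * y⁻¹ = z * s := by
          calc y * s * y⁻¹ = y * s * y⁻¹ * s⁻¹ * s := by group
            _ = z * s := by rw [h3]
        have h5 : y * (y * s * y⁻¹) * y⁻¹ = s := by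
          rw [h4]
          calc y * (z * s) * y⁻¹ = (y * z) * (s * y⁻¹) := by group
            _ = (z * y) * (s * y⁻¹) := by rw [hzc y]
            _ = z * (y * s * y⁻¹) := by group
            _ = z * (z * s) := by rw [h4]
            _ = s := by rw [← mul_assoc, hzz, one_mul]
        have h6 : y * (y * (y * s * y⁻¹) * y⁻¹) * y⁻¹ = s := by
          have hy3 : y * y * y = 1 := by
            have := pow_orderOf_eq_one y
            rw [hy] at this
            rw [← this]
            simp [pow_succ]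
          calc y * (y * (y * s * y⁻¹) * y⁻¹) * y⁻¹
              = (y * y * y) * s * (y * y * y)⁻¹ := by group
            _ = s := by rw [hy3]; group
        rw [h5, h4] at h6
        apply hz1
        calc z = z * s * s⁻¹ := by group
          _ = 1 := by rw [h6, mul_inv_cancel]
    have h7 : orderOf y ∣ 2 := orderOf_dvd_of_pow_eq_one (by rw [pow_two]; exact hy1)
    rw [hy] at h7
    omega
  -- counting
  have hsum := Cfsg.Agent.Lib.Helper80.sum_charDegree_sq (G := N ⧸ Subgroup.zpowers z)
  rw [hQcard] at hsum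
  have hK := Cfsg.Agent.Lib.Helper80.card_irr_eq_card_conjClasses (G := N ⧸ Subgroup.zpowers z)
  rw [Nat.card_eq_fintype_card] at hK
  have h8 : ∑ ψ : Cfsg.IrrCharacter (N ⧸ Subgroup.zpowers z),
      Cfsg.charDegree (ψ : N ⧸ Subgroup.zpowers z → ℂ) ^ 2 =
      Fintype.card (Cfsg.IrrCharacter (N ⧸ Subgroup.zpowers z)) +
      8 * (Finset.univ.filter (fun ψ : Cfsg.IrrCharacter (N ⧸ Subgroup.zpowers z) =>
        Cfsg.charDegree (ψ : N ⧸ Subgroup.zpowers z → ℂ) = 3)).card := by
    rw [Finset.card_filter, Finset.mul_sum, ← Finset.card_univ, Finset.card_eq_sum_ones,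
      ← Finset.sum_add_distrib]
    refine Finset.sum_congr rfl (fun ψ _ => ?_)
    rcases hd ψ with h | h <;> rw [h] <;> norm_num
  have hKne : Fintype.card (Cfsg.IrrCharacter (N ⧸ Subgroup.zpowers z)) ≠ 12 := by
    intro h12
    apply hnc
    have h9 : commProb (N ⧸ Subgroup.zpowers z) = 1 := by
      rw [commProb_def', ← hK, h12, hQcard]
      norm_num
    have h10 := (commProb_eq_one_iff (M := N ⧸ Subgroup.zpowers z)).mp h9
    exact fun a b => h10.is_comm.comm a b
  have hK4 : Fintype.card (Cfsg.IrrCharacter (N ⧸ Subgroup.zpowers z)) = 4 := by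
    rw [hsum] at h8
    omega
  -- the correspondence
  rw [← hK4, ← Nat.card_eq_fintype_card,
    Nat.card_congr (Cfsg.Agent.Lib.Helper80.irrQuotientEquiv (Subgroup.zpowers z))]
  apply Nat.card_congr
  apply Equiv.subtypeEquivRight
  intro ψ
  constructor
  · intro hodd x hx
    rcases (hmemZ x).mp hx with h | h
    · rw [h]
    · rw [h]
      by_contra hne
      obtain ⟨a, b, hab⟩ := hcomm
      exact hodd (even_degree_of_commutator ψ.2 z a b hzc hzz hab hne)
  · intro hker h2
    have h11 : Cfsg.charDegree (ψ : N → ℂ) = Cfsg.charDegree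
        (((Cfsg.Agent.Lib.Helper80.irrQuotientEquiv (Subgroup.zpowers z)).symm ⟨ψ, hker⟩ :
          Cfsg.IrrCharacter (N ⧸ Subgroup.zpowers z)) : N ⧸ Subgroup.zpowers z → ℂ) := by
      unfold Cfsg.charDegree
      have h12 := Cfsg.Agent.Lib.Helper80.irrQuotientEquiv_symm_apply (Subgroup.zpowers z)
        ⟨ψ, hker⟩ 1
      rw [QuotientGroup.mk_one] at h12
      rw [h12]
    rw [h11] at h2
    rcases hd ((Cfsg.Agent.Lib.Helper80.irrQuotientEquiv (Subgroup.zpowers z)).symm ⟨ψ, hker⟩)
      with h | h <;> rw [h] at h2 <;> omega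

end McKayGen

end Cfsg.Agent.Lib.Helper39
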