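import Mathlib
import Cfsg.Prelude.Def_Characters
import Cfsg.Agent.Lib.Helper39.SL2McKayCount
import Cfsg.Agent.Lib.Helper39.SL2McKayGen
import Cfsg.Agent.Lib.Helper39.SL2BorelClass
import Cfsg.Agent.Lib.Helper41.SL2Torus
import Cfsg.Agent.Lib.Helper41.SL2Sylow2
import Cfsg.Agent.Lib.Helper41.Dicyclic
import Cfsg.Agent.S2430
import Cfsg.Agent.S2431
import Cfsg.Agent.S2325

set_option autoImplicit false
set_option linter.unusedSectionVars false
set_option linter.style.haveILetI false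

namespace Cfsg.Agent.Lib.Helper39

open Matrix
open scoped ComplexConjugate

section McKayCount

variable {F : Type*} [Field F] [Fintype F]

open Cfsg.Agent.Lib.Helper41 in
/-- McKay, normaliser side, for an odd prime `ℓ ≠ p` dividing the group order: the normaliser of
a Sylow `ℓ`-subgroup is the normaliser of a torus of order `c = q ∓ 1`, all of whose
irreducible characters have degree `1` or `2`; their number is `c/2 + 3`. -/
theorem sl2_mckay_torus (hodd : Odd (Fintype.card F)) (ℓ : ℕ) [Fact ℓ.Prime] (hℓ2 : ℓ ≠ 2)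
    (hℓq : ¬ ℓ ∣ Fintype.card F)
    (hdvd : ℓ ∣ Nat.card (Matrix.SpecialLinearGroup (Fin 2) F))
    (S : Sylow ℓ (Matrix.SpecialLinearGroup (Fin 2) F)) :
    ∃ c : ℕ, (c = Fintype.card F - 1 ∨ c = Fintype.card F + 1) ∧ ℓ ∣ c ∧
      2 * Nat.card {ψ : Cfsg.IrrCharacter (Subgroup.normalizer
          ((S : Subgroup (Matrix.SpecialLinearGroup (Fin 2) F)) :
            Set (Matrix.SpecialLinearGroup (Fin 2) F))) //
        ¬ ℓ ∣ Cfsg.charDegree (ψ : Subgroup.normalizer
          ((S : Subgroup (Matrix.SpecialLinearGroup (Fin 2) F)) :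
            Set (Matrix.SpecialLinearGroup (Fin 2) F)) → ℂ)} = c + 6 := by
  have hℓp : ℓ.Prime := Fact.out
  have h2 : (2 : F) ≠ 0 := Cfsg.Agent.Lib.Helper5.two_ne_zero_of_odd_card hodd
  obtain ⟨x, hτ, hC, hN, hℓC⟩ := Cfsg.Agent.S2430.sylow_torus h2 ℓ hℓ2 S hdvd hℓq
  rw [hN]
  have hx := not_mem_center_of_trace h2 x hτ
  have hkey := card_irr_not_dvd_of_abelian_normal ℓ
    ((Subgroup.centralizer ({x} : Set (Matrix.SpecialLinearGroup (Fin 2) F))).subgroupOf
      (Subgroup.normalizer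
        (Subgroup.centralizer ({x} : Set (Matrix.SpecialLinearGroup (Fin 2) F)) :
          Set (Matrix.SpecialLinearGroup (Fin 2) F))))
    (by
      intro a ha b hb
      apply Subtype.ext
      exact centralizer_comm x hx a.1 b.1 ha hb)
    (by
      intro d hd hℓd
      rw [index_centralizer_subgroupOf_normalizer h2 x hτ] at hd
      have h3 : ℓ ∣ 2 := dvd_trans hℓd hd
      have h4 := (Nat.prime_dvd_prime_iff_eq hℓp Nat.prime_two).mp h3
      exact hℓ2 h4)
  rw [hkey]
  have hcls := card_conjClasses_normalizer_centralizer h2 x hτ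
  refine ⟨Nat.card (Subgroup.centralizer ({x} : Set (Matrix.SpecialLinearGroup (Fin 2) F))),
    ?_, hℓC, hcls⟩
  rcases card_centralizer_cases h2 x hx with ⟨_, h⟩ | ⟨_, h⟩ | ⟨_, h⟩
  · exfalso
    rw [h] at hℓC
    rcases (Nat.Prime.dvd_mul hℓp).mp hℓC with h5 | h5
    · exact hℓ2 ((Nat.prime_dvd_prime_iff_eq hℓp Nat.prime_two).mp h5)
    · exact hℓq h5
  · left
    exact h
  · right
    exact h

/-- the upper unitriangular subgroup of `SL₂` -/
def unipS (F : Type*) [Field F] : Subgroup (Matrix.SpecialLinearGroup (Fin 2) F) :=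
  (tHomS (F := F)).range

omit [Fintype F] in
theorem mem_unipS_iff (g : Matrix.SpecialLinearGroup (Fin 2) F) :
    g ∈ unipS F ↔ ∃ x : F, tSL x = g := by
  constructor
  · rintro ⟨x, rfl⟩
    exact ⟨Multiplicative.toAdd x, rfl⟩
  · rintro ⟨x, rfl⟩
    exact ⟨Multiplicative.ofAdd x, rfl⟩

omit [Fintype F] in
theorem tSL_injective : Function.Injective (tSL (F := F)) := by
  intro x y h
  have h1 := congrArg (fun g : Matrix.SpecialLinearGroup (Fin 2) F =>
    (g : Matrix (Fin 2) (Fin 2) F) 0 1) h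
  simpa [tSL_coe] using h1

theorem card_unipS : Nat.card (unipS F) = Fintype.card F := by
  rw [← Nat.card_eq_fintype_card]
  symm
  apply Nat.card_congr
  refine Equiv.ofBijective (fun x : F => (⟨tSL x, (mem_unipS_iff _).mpr ⟨x, rfl⟩⟩ : unipS F))
    ⟨?_, ?_⟩
  · intro x y h
    exact tSL_injective (congrArg Subtype.val h)
  · rintro ⟨g, hg⟩
    obtain ⟨x, rfl⟩ := (mem_unipS_iff _).mp hg
    exact ⟨x, rfl⟩

theorem normalizer_unipS :
    Subgroup.normalizer ((unipS F : Subgroup (Matrix.SpecialLinearGroup (Fin 2) F)) :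
      Set (Matrix.SpecialLinearGroup (Fin 2) F)) = borelS F := by
  ext g
  rw [mem_borelS_iff]
  constructor
  · intro hg
    have h1 : g * tSL 1 * g⁻¹ ∈ unipS F :=
      (Subgroup.mem_normalizer_iff.mp hg (tSL 1)).mp ((mem_unipS_iff _).mpr ⟨1, rfl⟩)
    obtain ⟨y, hy⟩ := (mem_unipS_iff _).mp h1
    have h2 : tSL y * g = g * tSL 1 := by
      rw [hy]
      group
    have h3 := congrArg (fun m : Matrix.SpecialLinearGroup (Fin 2) F =>
      (m : Matrix (Fin 2) (Fin 2) F) 1 1) h2
    simp only [Matrix.SpecialLinearGroup.coe_mul, tSL_coe, Matrix.mul_apply, Fin.sum_univ_two] at h3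
    simp at h3
    exact h3
  · intro hg
    have hgB : g ∈ borelS F := (mem_borelS_iff g).mpr hg
    obtain ⟨⟨a, s⟩, has⟩ := sbEquiv.surjective (⟨g, hgB⟩ : borelS F)
    have hg' : g = bSL a s := by
      have := congrArg Subtype.val has
      rw [sbEquiv_val] at this
      exact this.symm
    apply Subgroup.mem_normalizer_fintype
    intro n hn
    rw [SetLike.mem_coe] at hn ⊢
    obtain ⟨x, rfl⟩ := (mem_unipS_iff _).mp hn
    rw [mem_unipS_iff]
    refine ⟨(a : F) ^ 2 * x, ?_⟩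
    rw [eq_mul_inv_iff_mul_eq, hg']
    apply Subtype.ext
    rw [Matrix.SpecialLinearGroup.coe_mul, Matrix.SpecialLinearGroup.coe_mul, tSL_coe, tSL_coe,
      bSL_coe]
    ext i j
    fin_cases i <;> fin_cases j <;> simp [Matrix.mul_apply, Fin.sum_univ_two]
    field_simp
    ring

/-- a Sylow subgroup of `SL₂(q)` for the characteristic is conjugate to the unitriangular
subgroup -/
theorem sylow_char_eq_conj (ℓ : ℕ) [Fact ℓ.Prime] (hℓq : ℓ ∣ Fintype.card F)
    (S : Sylow ℓ (Matrix.SpecialLinearGroup (Fin 2) F)) :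
    ∃ g : Matrix.SpecialLinearGroup (Fin 2) F,
      (S : Subgroup (Matrix.SpecialLinearGroup (Fin 2) F)) =
        (unipS F).map (MulAut.conj g).toMonoidHom := by
  have hℓp : ℓ.Prime := Fact.out
  obtain ⟨p, -, n, hp, hq⟩ := FiniteField.card' F
  have hℓeq : ℓ = p := by
    rw [hq] at hℓq
    exact (Nat.prime_dvd_prime_iff_eq hℓp hp).mp (hℓp.dvd_of_dvd_pow hℓq)
  subst hℓeq
  have hU : IsPGroup ℓ (unipS F) := IsPGroup.of_card (n := (n : ℕ)) (by rw [card_unipS, hq])
  obtain ⟨P₀, hP₀⟩ := hU.exists_le_sylow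
  have hP₀U : (P₀ : Subgroup (Matrix.SpecialLinearGroup (Fin 2) F)) = unipS F := by
    symm
    apply Subgroup.eq_of_le_of_card_ge hP₀
    obtain ⟨k, hk⟩ := IsPGroup.iff_card.mp P₀.isPGroup'
    have hdvd : Nat.card (P₀ : Subgroup (Matrix.SpecialLinearGroup (Fin 2) F)) ∣
        Nat.card (Matrix.SpecialLinearGroup (Fin 2) F) := Subgroup.card_subgroup_dvd_card _
    rw [Cfsg.Agent.Lib.Helper5.card_SL2, hk] at hdvd
    have hq1 : 1 < Fintype.card F := Fintype.one_lt_card
    have hcop : Nat.Coprime (ℓ ^ k) (Fintype.card F ^ 2 - 1) := by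
      apply Nat.Coprime.pow_left
      rw [Nat.Prime.coprime_iff_not_dvd hℓp]
      intro h
      have h1 : ℓ ∣ Fintype.card F ^ 2 := dvd_pow hℓq (by norm_num)
      have h2 : ℓ ∣ Fintype.card F ^ 2 - (Fintype.card F ^ 2 - 1) := Nat.dvd_sub h1 h
      have h3 : Fintype.card F ^ 2 - (Fintype.card F ^ 2 - 1) = 1 := by
        have : 1 ≤ Fintype.card F ^ 2 := Nat.one_le_pow _ _ (by omega)
        omega
      rw [h3] at h2
      exact hℓp.one_lt.ne' (Nat.dvd_one.mp h2)
    have h4 : ℓ ^ k ∣ Fintype.card F := hcop.dvd_of_dvd_mul_right hdvd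
    rw [card_unipS, hk]
    exact Nat.le_of_dvd (by omega) h4
  obtain ⟨g, hg⟩ := MulAction.exists_smul_eq (Matrix.SpecialLinearGroup (Fin 2) F) P₀ S
  refine ⟨g, ?_⟩
  rw [← hg, Sylow.coe_subgroup_smul, hP₀U]
  rfl

/-- McKay, normaliser side, for the characteristic: the normaliser of a Sylow `p`-subgroup
has `q + 3` irreducible characters, all of degree prime to `p`. -/
theorem sl2_mckay_borel (hodd : Odd (Fintype.card F)) (ℓ : ℕ) [Fact ℓ.Prime]
    (hℓq : ℓ ∣ Fintype.card F) (S : Sylow ℓ (Matrix.SpecialLinearGroup (Fin 2) F)) :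
    Nat.card {ψ : Cfsg.IrrCharacter (Subgroup.normalizer
          ((S : Subgroup (Matrix.SpecialLinearGroup (Fin 2) F)) :
            Set (Matrix.SpecialLinearGroup (Fin 2) F))) //
        ¬ ℓ ∣ Cfsg.charDegree (ψ : Subgroup.normalizer
          ((S : Subgroup (Matrix.SpecialLinearGroup (Fin 2) F)) :
            Set (Matrix.SpecialLinearGroup (Fin 2) F)) → ℂ)} = Fintype.card F + 3 := by
  obtain ⟨g, hg⟩ := sylow_char_eq_conj ℓ hℓq S
  have hN : Subgroup.normalizer ((S : Subgroup (Matrix.SpecialLinearGroup (Fin 2) F)) :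
      Set (Matrix.SpecialLinearGroup (Fin 2) F)) =
      (borelS F).map (MulAut.conj g).toMonoidHom := by
    rw [hg, ← Subgroup.map_equiv_normalizer_eq, normalizer_unipS]
  have hkey := card_irr_not_dvd_of_abelian_normal ℓ
    ((S : Subgroup (Matrix.SpecialLinearGroup (Fin 2) F)).subgroupOf
      (Subgroup.normalizer ((S : Subgroup (Matrix.SpecialLinearGroup (Fin 2) F)) :
        Set (Matrix.SpecialLinearGroup (Fin 2) F))))
    (by
      intro a ha b hb
      apply Subtype.ext
      have ha' : (a : Matrix.SpecialLinearGroup (Fin 2) F) ∈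
          (S : Subgroup (Matrix.SpecialLinearGroup (Fin 2) F)) := ha
      have hb' : (b : Matrix.SpecialLinearGroup (Fin 2) F) ∈
          (S : Subgroup (Matrix.SpecialLinearGroup (Fin 2) F)) := hb
      have ha'' : (a : Matrix.SpecialLinearGroup (Fin 2) F) ∈
          (unipS F).map (MulAut.conj g).toMonoidHom := by
        rw [← hg]
        exact ha'
      have hb'' : (b : Matrix.SpecialLinearGroup (Fin 2) F) ∈
          (unipS F).map (MulAut.conj g).toMonoidHom := by
        rw [← hg]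
        exact hb'
      obtain ⟨u, hu, hua⟩ := ha''
      obtain ⟨v, hv, hvb⟩ := hb''
      obtain ⟨x, rfl⟩ := (mem_unipS_iff _).mp hu
      obtain ⟨y, rfl⟩ := (mem_unipS_iff _).mp hv
      show (a : Matrix.SpecialLinearGroup (Fin 2) F) * b = b * a
      rw [← hua, ← hvb, ← map_mul, ← map_mul, ← tSL_add, ← tSL_add, add_comm])
    (by
      intro d hd hℓd
      have h1 : ((S : Subgroup (Matrix.SpecialLinearGroup (Fin 2) F)).subgroupOf
          (Subgroup.normalizer ((S : Subgroup (Matrix.SpecialLinearGroup (Fin 2) F)) :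
          Set (Matrix.SpecialLinearGroup (Fin 2) F)))).index ∣
          (S : Subgroup (Matrix.SpecialLinearGroup (Fin 2) F)).index :=
        Subgroup.relIndex_dvd_index_of_le Subgroup.le_normalizer
      exact S.not_dvd_index (dvd_trans hℓd (dvd_trans hd h1)))
  rw [hkey]
  have e : borelS F ≃* Subgroup.normalizer
      ((S : Subgroup (Matrix.SpecialLinearGroup (Fin 2) F)) :
        Set (Matrix.SpecialLinearGroup (Fin 2) F)) :=
    ((borelS F).equivMapOfInjective _ (MulAut.conj g).injective).trans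
      (MulEquiv.subgroupCongr hN.symm)
  rw [← Cfsg.Agent.Lib.Helper82.card_conjClasses_congr e, card_conjClasses_borelS hodd]

open Cfsg.Agent.Lib.Helper41 in
/-- a Sylow `2`-subgroup of `SL₂(q)`, `q` odd, is dicyclic-like -/
theorem sylow_two_data (hodd : Odd (Fintype.card F))
    (S : Sylow 2 (Matrix.SpecialLinearGroup (Fin 2) F)) :
    ∃ (n : ℕ) (t : Matrix.SpecialLinearGroup (Fin 2) F), Nat.card S = 2 ^ n ∧ 3 ≤ n ∧
      t ∈ (S : Subgroup (Matrix.SpecialLinearGroup (Fin 2) F)) ∧ orderOf t = 2 ^ (n - 1) ∧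
      negOne ∈ Subgroup.zpowers t ∧ (n = 3 → t * t = negOne) ∧
      ((Subgroup.zpowers t).subgroupOf
        (S : Subgroup (Matrix.SpecialLinearGroup (Fin 2) F))).index = 2 ∧
      (∀ g ∈ (S : Subgroup (Matrix.SpecialLinearGroup (Fin 2) F)), g ∉ Subgroup.zpowers t →
        ∀ u ∈ Subgroup.zpowers t, g * u * g⁻¹ = u⁻¹) := by
  have h2 : (2 : F) ≠ 0 := Cfsg.Agent.Lib.Helper5.two_ne_zero_of_odd_card hodd
  obtain ⟨n, t, hn, hn3, htS, hot, hτ, hA, hidx⟩ := sylow_two_structure hodd S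
  have hx := not_mem_center_of_trace h2 t hτ
  have hu : t ^ (2 ^ (n - 2)) = negOne := by
    have h1 : t ^ (2 ^ (n - 2)) * t ^ (2 ^ (n - 2)) = 1 := by
      rw [← pow_add, ← two_mul, ← pow_succ', (by omega : n - 2 + 1 = n - 1), ← hot,
        pow_orderOf_eq_one]
    rcases sq_eq_one_cases h2 _ h1 with h | h
    · exfalso
      have h3 : t ^ (2 ^ (n - 2)) ≠ 1 := by
        apply pow_ne_one_of_lt_orderOf (by positivity)
        rw [hot]
        exact Nat.pow_lt_pow_right (by norm_num) (by omega)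
      exact h3 h
    · exact h
  refine ⟨n, t, hn, hn3, htS, hot, ?_, ?_, hidx, ?_⟩
  · rw [← hu]
    exact Subgroup.pow_mem _ (Subgroup.mem_zpowers t) _
  · intro h3
    rw [h3] at hu
    rw [← hu]
    norm_num [pow_two]
  · intro g hg hgt u hu'
    haveI : ((Subgroup.zpowers t).subgroupOf
        (S : Subgroup (Matrix.SpecialLinearGroup (Fin 2) F))).Normal :=
      Subgroup.normal_of_index_eq_two hidx
    have h1 : (⟨g, hg⟩ : ↥(S : Subgroup (Matrix.SpecialLinearGroup (Fin 2) F))) * ⟨t, htS⟩ *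
        (⟨g, hg⟩ : ↥(S : Subgroup (Matrix.SpecialLinearGroup (Fin 2) F)))⁻¹ ∈
        (Subgroup.zpowers t).subgroupOf (S : Subgroup (Matrix.SpecialLinearGroup (Fin 2) F)) :=
      Subgroup.Normal.conj_mem inferInstance
        (⟨t, htS⟩ : ↥(S : Subgroup (Matrix.SpecialLinearGroup (Fin 2) F)))
        (by rw [Subgroup.mem_subgroupOf]; exact Subgroup.mem_zpowers t)
        (⟨g, hg⟩ : ↥(S : Subgroup (Matrix.SpecialLinearGroup (Fin 2) F)))
    rw [Subgroup.mem_subgroupOf] at h1
    have h1' : g * t * g⁻¹ ∈ Subgroup.zpowers t := h1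
    have hc : (g * t * g⁻¹) * t = t * (g * t * g⁻¹) := by
      obtain ⟨k, hk⟩ := Subgroup.mem_zpowers_iff.mp h1'
      rw [← hk]
      exact (Commute.zpow_left (Commute.refl t) k).eq
    rcases regular_conj_cases h2 t (g * t * g⁻¹) hτ (trace_conj g t) hc with h | h
    · exfalso
      apply hgt
      exact hA g hg ((conj_eq_iff_mem_centralizer t g).mpr h)
    · apply inv_conj_of_mem t g u hx h
      rw [Subgroup.mem_centralizer_singleton_iff]
      obtain ⟨k, hk⟩ := Subgroup.mem_zpowers_iff.mp hu'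
      rw [← hk]
      exact (Commute.zpow_left (Commute.refl t) k).eq

open Cfsg.Agent.Lib.Helper41 in
/-- a Sylow `2`-subgroup of `SL₂(q)`, `q` odd, has exactly four irreducible characters of odd
degree -/
theorem sl2_mckay_two_self (hodd : Odd (Fintype.card F))
    (S : Sylow 2 (Matrix.SpecialLinearGroup (Fin 2) F)) :
    Nat.card {ψ : Cfsg.IrrCharacter ↥(S : Subgroup (Matrix.SpecialLinearGroup (Fin 2) F)) //
      ¬ 2 ∣ Cfsg.charDegree
        (ψ : ↥(S : Subgroup (Matrix.SpecialLinearGroup (Fin 2) F)) → ℂ)} = 4 := by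
  have h2 : (2 : F) ≠ 0 := Cfsg.Agent.Lib.Helper5.two_ne_zero_of_odd_card hodd
  obtain ⟨n, t, hn, hn3, htS, hot, hneg, -, hidx, hinv⟩ := sylow_two_data hodd S
  have hle : Subgroup.zpowers t ≤ (S : Subgroup (Matrix.SpecialLinearGroup (Fin 2) F)) :=
    (Subgroup.zpowers_le).mpr htS
  have hnegS : negOne ∈ (S : Subgroup (Matrix.SpecialLinearGroup (Fin 2) F)) := hle hneg
  apply dicyclic_odd_degree_count ((Subgroup.zpowers t).subgroupOf
    (S : Subgroup (Matrix.SpecialLinearGroup (Fin 2) F))) ⟨negOne, hnegS⟩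
  · intro h
    exact negOne_ne_one h2 (congrArg Subtype.val h)
  · rw [Subgroup.mem_subgroupOf]
    exact hneg
  · apply Subtype.ext
    exact negOne_mul_self
  · intro a ha b hb
    rw [Subgroup.mem_subgroupOf] at ha hb
    obtain ⟨i, hi⟩ := Subgroup.mem_zpowers_iff.mp ha
    obtain ⟨j, hj⟩ := Subgroup.mem_zpowers_iff.mp hb
    apply Subtype.ext
    show (a : Matrix.SpecialLinearGroup (Fin 2) F) * b = b * a
    rw [← hi, ← hj, ← _root_.zpow_add, ← _root_.zpow_add, add_comm]
  · exact hidx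
  · intro g hg u hu
    apply Subtype.ext
    exact hinv g.1 g.2 hg u.1 hu
  · intro u hu huu
    rcases sq_eq_one_cases h2 u.1 (congrArg Subtype.val huu) with h | h
    · left
      exact Subtype.ext h
    · right
      exact Subtype.ext h

open Cfsg.Agent.Lib.Helper41 in
/-- the normaliser (of order `24`) of a Sylow `2`-subgroup of order `8` of `SL₂(q)` has exactly
four irreducible characters of odd degree -/
theorem sl2_mckay_two_small (hodd : Odd (Fintype.card F))
    (S : Sylow 2 (Matrix.SpecialLinearGroup (Fin 2) F)) (hcard : Nat.card S = 8)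
    (hN : Nat.card (Subgroup.normalizer
      ((S : Subgroup (Matrix.SpecialLinearGroup (Fin 2) F)) :
        Set (Matrix.SpecialLinearGroup (Fin 2) F))) = 24) :
    Nat.card {ψ : Cfsg.IrrCharacter (Subgroup.normalizer
          ((S : Subgroup (Matrix.SpecialLinearGroup (Fin 2) F)) :
            Set (Matrix.SpecialLinearGroup (Fin 2) F))) //
        ¬ 2 ∣ Cfsg.charDegree (ψ : Subgroup.normalizer
          ((S : Subgroup (Matrix.SpecialLinearGroup (Fin 2) F)) :
            Set (Matrix.SpecialLinearGroup (Fin 2) F)) → ℂ)} = 4 := by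
  have h2 : (2 : F) ≠ 0 := Cfsg.Agent.Lib.Helper5.two_ne_zero_of_odd_card hodd
  obtain ⟨n, t, hn, hn3, htS, hot, hneg, hn3', hidx, hinv⟩ := sylow_two_data hodd S
  have hneq : n = 3 := by
    rw [hcard] at hn
    have h8 : (2 : ℕ) ^ 3 = 2 ^ n := by rw [← hn]; norm_num
    exact (Nat.pow_right_injective (le_refl 2) h8).symm
  have htt := hn3' hneq
  have hleN : (S : Subgroup (Matrix.SpecialLinearGroup (Fin 2) F)) ≤ Subgroup.normalizer
      ((S : Subgroup (Matrix.SpecialLinearGroup (Fin 2) F)) :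
        Set (Matrix.SpecialLinearGroup (Fin 2) F)) := Subgroup.le_normalizer
  have hle : Subgroup.zpowers t ≤ (S : Subgroup (Matrix.SpecialLinearGroup (Fin 2) F)) :=
    (Subgroup.zpowers_le).mpr htS
  have hnegS : negOne ∈ (S : Subgroup (Matrix.SpecialLinearGroup (Fin 2) F)) := hle hneg
  obtain ⟨s, hsS, hst⟩ : ∃ s ∈ (S : Subgroup (Matrix.SpecialLinearGroup (Fin 2) F)),
      s ∉ Subgroup.zpowers t := by
    by_contra hcon
    push Not at hcon
    have h1 : (Subgroup.zpowers t).subgroupOf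
        (S : Subgroup (Matrix.SpecialLinearGroup (Fin 2) F)) = ⊤ := by
      rw [eq_top_iff]
      intro x _
      rw [Subgroup.mem_subgroupOf]
      exact hcon x.1 x.2
    rw [h1, Subgroup.index_top] at hidx
    omega
  have hsts := hinv s hsS hst t (Subgroup.mem_zpowers t)
  apply odd_degree_count_24 ((S : Subgroup (Matrix.SpecialLinearGroup (Fin 2) F)).subgroupOf
    (Subgroup.normalizer ((S : Subgroup (Matrix.SpecialLinearGroup (Fin 2) F)) :
      Set (Matrix.SpecialLinearGroup (Fin 2) F)))) ⟨negOne, hleN hnegS⟩ hN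
  · rw [Nat.card_congr (Subgroup.subgroupOfEquivOfLe hleN).toEquiv]
    exact hcard
  · intro h
    exact negOne_ne_one h2 (congrArg Subtype.val h)
  · apply Subtype.ext
    exact negOne_mul_self
  · intro g
    apply Subtype.ext
    exact negOne_comm g.1
  · rw [Subgroup.mem_subgroupOf]
    exact hnegS
  · refine ⟨⟨s, hleN hsS⟩, ⟨t, hleN htS⟩, ?_⟩
    apply Subtype.ext
    show s * t * s⁻¹ * t⁻¹ = negOne
    rw [hsts, ← _root_.mul_inv_rev, htt]
    exact inv_eq_of_mul_eq_one_left negOne_mul_self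
  · intro y hy
    apply Subtype.ext
    show (y : Matrix.SpecialLinearGroup (Fin 2) F) * y = 1
    apply mul_self_of_mem_center
    rw [← centralizer_sylow_two hodd S, Subgroup.mem_centralizer_iff]
    intro s' hs'
    have h1 := hy ⟨s', hleN hs'⟩ (by rw [Subgroup.mem_subgroupOf]; exact hs')
    exact (congrArg Subtype.val h1).symm

theorem deg_ind_small (d : ℕ) (h1 : 1 ≤ d) (h4 : d ≤ 4) :
    (1 = (if d = 1 then 1 else 0) + (if d = 2 then 1 else 0) + (if d = 3 then 1 else 0) +
      (if d = 4 then 1 else 0)) ∧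
    (d ^ 2 = (if d = 1 then 1 else 0) + 4 * (if d = 2 then 1 else 0) +
      9 * (if d = 3 then 1 else 0) + 16 * (if d = 4 then 1 else 0)) ∧
    ((if ¬ 3 ∣ d then 1 else 0) = (if d = 1 then 1 else 0) + (if d = 2 then 1 else 0) +
      (if d = 4 then 1 else 0)) := by
  interval_cases d <;> simp

/-- `SL₂(3)` has exactly six irreducible characters of degree prime to `3` -/
theorem sl2_three_count (hodd : Odd (Fintype.card F)) (h3 : Fintype.card F = 3) :
    Nat.card {χ : Cfsg.IrrCharacter (Matrix.SpecialLinearGroup (Fin 2) F) //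
        ¬ 3 ∣ Cfsg.charDegree (χ : Matrix.SpecialLinearGroup (Fin 2) F → ℂ)} = 6 := by
  classical
  have hfin := Cfsg.Agent.Lib.Helper3.irr_finite (G := Matrix.SpecialLinearGroup (Fin 2) F)
  letI hft : Fintype (Cfsg.IrrCharacter (Matrix.SpecialLinearGroup (Fin 2) F)) :=
    Fintype.ofFinite _
  have hk := Cfsg.Agent.S2325.result hodd
  have hK := Cfsg.Agent.Lib.Helper80.card_irr_eq_card_conjClasses
    (G := Matrix.SpecialLinearGroup (Fin 2) F)
  rw [Nat.card_eq_fintype_card] at hK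
  have hG := Cfsg.Agent.Lib.Helper5.card_SL2 (F := F)
  rw [h3] at hG hk
  have hsum := Cfsg.Agent.Lib.Helper80.sum_charDegree_sq
    (G := Matrix.SpecialLinearGroup (Fin 2) F)
  rw [hG] at hsum
  have h24 : (3 : ℕ) * (3 ^ 2 - 1) = 24 := by norm_num
  rw [h24] at hsum
  have hd : ∀ χ : Cfsg.IrrCharacter (Matrix.SpecialLinearGroup (Fin 2) F),
      1 ≤ Cfsg.charDegree (χ : Matrix.SpecialLinearGroup (Fin 2) F → ℂ) ∧
      Cfsg.charDegree (χ : Matrix.SpecialLinearGroup (Fin 2) F → ℂ) ≤ 4 := by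
    intro χ
    refine ⟨Cfsg.Agent.Lib.Helper80.charDegree_pos χ.2, ?_⟩
    have h1 : Cfsg.charDegree (χ : Matrix.SpecialLinearGroup (Fin 2) F → ℂ) ^ 2 ≤
        ∑ ψ : Cfsg.IrrCharacter (Matrix.SpecialLinearGroup (Fin 2) F),
          Cfsg.charDegree (ψ : Matrix.SpecialLinearGroup (Fin 2) F → ℂ) ^ 2 :=
      Finset.single_le_sum (f := fun ψ : Cfsg.IrrCharacter (Matrix.SpecialLinearGroup (Fin 2) F) =>
        Cfsg.charDegree (ψ : Matrix.SpecialLinearGroup (Fin 2) F → ℂ) ^ 2)
        (fun _ _ => Nat.zero_le _) (Finset.mem_univ χ)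
    rw [hsum] at h1
    by_contra hcon
    have h5 : 5 ≤ Cfsg.charDegree (χ : Matrix.SpecialLinearGroup (Fin 2) F → ℂ) := by omega
    have h25 : 25 ≤ Cfsg.charDegree (χ : Matrix.SpecialLinearGroup (Fin 2) F → ℂ) ^ 2 := by
      nlinarith
    omega
  rw [Nat.card_eq_fintype_card, Fintype.card_subtype, Finset.card_filter]
  have e1 : Fintype.card (Cfsg.IrrCharacter (Matrix.SpecialLinearGroup (Fin 2) F)) =
      ∑ χ : Cfsg.IrrCharacter (Matrix.SpecialLinearGroup (Fin 2) F),
        ((if Cfsg.charDegree (χ : Matrix.SpecialLinearGroup (Fin 2) F → ℂ) = 1 then 1 else 0) +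
        (if Cfsg.charDegree (χ : Matrix.SpecialLinearGroup (Fin 2) F → ℂ) = 2 then 1 else 0) +
        (if Cfsg.charDegree (χ : Matrix.SpecialLinearGroup (Fin 2) F → ℂ) = 3 then 1 else 0) +
        (if Cfsg.charDegree (χ : Matrix.SpecialLinearGroup (Fin 2) F → ℂ) = 4 then 1 else 0)) := by
    rw [← Finset.card_univ, Finset.card_eq_sum_ones]
    exact Finset.sum_congr rfl (fun χ _ => (deg_ind_small _ (hd χ).1 (hd χ).2).1)
  have e2 : ∑ χ : Cfsg.IrrCharacter (Matrix.SpecialLinearGroup (Fin 2) F),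
      Cfsg.charDegree (χ : Matrix.SpecialLinearGroup (Fin 2) F → ℂ) ^ 2 =
      ∑ χ : Cfsg.IrrCharacter (Matrix.SpecialLinearGroup (Fin 2) F),
        ((if Cfsg.charDegree (χ : Matrix.SpecialLinearGroup (Fin 2) F → ℂ) = 1 then 1 else 0) +
        4 * (if Cfsg.charDegree (χ : Matrix.SpecialLinearGroup (Fin 2) F → ℂ) = 2 then 1 else 0) +
        9 * (if Cfsg.charDegree (χ : Matrix.SpecialLinearGroup (Fin 2) F → ℂ) = 3 then 1 else 0) +
        16 * (if Cfsg.charDegree (χ : Matrix.SpecialLinearGroup (Fin 2) F → ℂ) = 4 then 1 else 0)) :=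
    Finset.sum_congr rfl (fun χ _ => (deg_ind_small _ (hd χ).1 (hd χ).2).2.1)
  have e3 : ∑ χ : Cfsg.IrrCharacter (Matrix.SpecialLinearGroup (Fin 2) F),
      (if ¬ 3 ∣ Cfsg.charDegree (χ : Matrix.SpecialLinearGroup (Fin 2) F → ℂ) then 1 else 0) =
      ∑ χ : Cfsg.IrrCharacter (Matrix.SpecialLinearGroup (Fin 2) F),
        ((if Cfsg.charDegree (χ : Matrix.SpecialLinearGroup (Fin 2) F → ℂ) = 1 then 1 else 0) +
        (if Cfsg.charDegree (χ : Matrix.SpecialLinearGroup (Fin 2) F → ℂ) = 2 then 1 else 0) +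
        (if Cfsg.charDegree (χ : Matrix.SpecialLinearGroup (Fin 2) F → ℂ) = 4 then 1 else 0)) :=
    Finset.sum_congr rfl (fun χ _ => (deg_ind_small _ (hd χ).1 (hd χ).2).2.2)
  rw [e3]
  rw [hsum] at e2
  rw [hK, hk] at e1
  simp only [Finset.sum_add_distrib, ← Finset.mul_sum] at e1 e2 ⊢
  omega

open Cfsg.Agent.Lib.Helper41 in
/-- the McKay equality for `SL₂(q)`, `q` odd, at every prime -/
theorem sl2_mckay (hodd : Odd (Fintype.card F)) (ℓ : ℕ) [Fact ℓ.Prime]
    (S : Sylow ℓ (Matrix.SpecialLinearGroup (Fin 2) F)) :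
    Nat.card {χ : Cfsg.IrrCharacter (Matrix.SpecialLinearGroup (Fin 2) F) //
        ¬ ℓ ∣ Cfsg.charDegree (χ : Matrix.SpecialLinearGroup (Fin 2) F → ℂ)} =
      Nat.card {ψ : Cfsg.IrrCharacter (Subgroup.normalizer
          ((S : Subgroup (Matrix.SpecialLinearGroup (Fin 2) F)) :
            Set (Matrix.SpecialLinearGroup (Fin 2) F))) //
        ¬ ℓ ∣ Cfsg.charDegree (ψ : Subgroup.normalizer
          ((S : Subgroup (Matrix.SpecialLinearGroup (Fin 2) F)) :
            Set (Matrix.SpecialLinearGroup (Fin 2) F)) → ℂ)} := by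
  have hℓp : ℓ.Prime := Fact.out
  obtain ⟨r, hr⟩ : ∃ r, Fintype.card F = 2 * r + 1 :=
    ⟨Fintype.card F / 2, by have := Nat.odd_iff.mp hodd; omega⟩
  have hq1 := Fintype.one_lt_card (α := F)
  have hr1 : 1 ≤ r := by omega
  have hcardG := Cfsg.Agent.Lib.Helper5.card_SL2 (F := F)
  have htop : Subgroup.normalizer ((S : Subgroup (Matrix.SpecialLinearGroup (Fin 2) F)) :
      Set (Matrix.SpecialLinearGroup (Fin 2) F)) = ⊤ →
      Nat.card {χ : Cfsg.IrrCharacter (Matrix.SpecialLinearGroup (Fin 2) F) //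
        ¬ ℓ ∣ Cfsg.charDegree (χ : Matrix.SpecialLinearGroup (Fin 2) F → ℂ)} =
      Nat.card {ψ : Cfsg.IrrCharacter (Subgroup.normalizer
          ((S : Subgroup (Matrix.SpecialLinearGroup (Fin 2) F)) :
            Set (Matrix.SpecialLinearGroup (Fin 2) F))) //
        ¬ ℓ ∣ Cfsg.charDegree (ψ : Subgroup.normalizer
          ((S : Subgroup (Matrix.SpecialLinearGroup (Fin 2) F)) :
            Set (Matrix.SpecialLinearGroup (Fin 2) F)) → ℂ)} := by
    intro h
    exact card_irr_not_dvd_mulEquiv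
      ((MulEquiv.subgroupCongr h).trans
        (Subgroup.topEquiv (G := Matrix.SpecialLinearGroup (Fin 2) F))) ℓ
  have h1 : ¬ ℓ ∣ 1 := Nat.Prime.not_dvd_one hℓp
  by_cases hℓG : ℓ ∣ Nat.card (Matrix.SpecialLinearGroup (Fin 2) F)
  swap
  · apply htop
    have hbot : (S : Subgroup (Matrix.SpecialLinearGroup (Fin 2) F)) = ⊥ := by
      rw [← Subgroup.card_eq_one, S.card_eq_multiplicity,
        Nat.factorization_eq_zero_of_not_dvd hℓG, pow_zero]
    rw [hbot]
    exact Subgroup.normalizer_eq_top_iff.mpr inferInstance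
  by_cases hℓq : ℓ ∣ Fintype.card F
  · -- the characteristic
    rw [sl2_mckay_borel hodd ℓ hℓq S]
    by_cases hr2 : 2 ≤ r
    · rw [sl2_irr_not_dvd_count hodd r hr hr2 ℓ]
      have ha : ℓ ∣ 2 * r + 1 := hr ▸ hℓq
      have hb : ¬ ℓ ∣ 2 * r + 2 := fun h => h1 ((Nat.dvd_add_right ha).mp h)
      have hc : ¬ ℓ ∣ 2 * r := fun h => h1 ((Nat.dvd_add_right h).mp ha)
      have hd : ¬ ℓ ∣ r + 1 := fun h => hb (by
        have : 2 * r + 2 = 2 * (r + 1) := by ring
        rw [this]
        exact Dvd.dvd.mul_left h 2)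
      have he : ¬ ℓ ∣ r := fun h => hc (Dvd.dvd.mul_left h 2)
      rw [if_neg h1, if_pos ha, if_neg hb, if_neg hc, if_neg hd, if_neg he]
      omega
    · have hq3 : Fintype.card F = 3 := by omega
      have hℓ3 : ℓ = 3 := by
        rw [hq3] at hℓq
        exact (Nat.prime_dvd_prime_iff_eq hℓp Nat.prime_three).mp hℓq
      subst hℓ3
      rw [sl2_three_count hodd hq3, hq3]
  by_cases hℓ2 : ℓ = 2
  · subst hℓ2
    obtain ⟨-, hA, hB⟩ := Cfsg.Agent.S2431.result hodd S
    have hq8 : (Fintype.card F % 8 = 1 ∨ Fintype.card F % 8 = 7) ∨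
        (Fintype.card F % 8 = 3 ∨ Fintype.card F % 8 = 5) := by omega
    obtain ⟨n, hn, -, -, -, -, -, hn3⟩ := sylow_two_card hodd S
    have hsmall : (Fintype.card F % 8 = 3 ∨ Fintype.card F % 8 = 5) → Nat.card S = 8 := by
      intro h
      have h16 : ¬ 16 ∣ Fintype.card F ^ 2 - 1 := by
        have h5 : Fintype.card F ^ 2 % 16 = 9 := by
          have h6 : Fintype.card F % 16 = 3 ∨ Fintype.card F % 16 = 11 ∨
              Fintype.card F % 16 = 5 ∨ Fintype.card F % 16 = 13 := by omega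
          rcases h6 with h6 | h6 | h6 | h6 <;> rw [Nat.pow_mod, h6]
        omega
      rw [hn, hn3 h16]
      norm_num
    by_cases hr2 : 2 ≤ r
    · have hL : Nat.card {χ : Cfsg.IrrCharacter (Matrix.SpecialLinearGroup (Fin 2) F) //
          ¬ 2 ∣ Cfsg.charDegree (χ : Matrix.SpecialLinearGroup (Fin 2) F → ℂ)} = 4 := by
        rw [sl2_irr_not_dvd_count hodd r hr hr2 2]
        split_ifs <;> omega
      rw [hL]
      rcases hq8 with h | h
      · rw [hA h]
        exact (sl2_mckay_two_self hodd S).symm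
      · have hcard := hsmall h
        have hN := hB h
        rw [hcard] at hN
        exact (sl2_mckay_two_small hodd S hcard hN).symm
    · apply htop
      have hq3 : Fintype.card F = 3 := by omega
      have hN := hB (Or.inl (by omega))
      rw [hsmall (Or.inl (by omega))] at hN
      apply Subgroup.eq_top_of_card_eq
      rw [hN, hcardG, hq3]
      norm_num
  · -- an odd prime different from the characteristic
    obtain ⟨c, hc, hℓc, hcount⟩ := sl2_mckay_torus hodd ℓ hℓ2 hℓq hℓG S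
    have hℓ2' : ¬ ℓ ∣ 2 := fun h => hℓ2 ((Nat.prime_dvd_prime_iff_eq hℓp Nat.prime_two).mp h)
    have hq' : ¬ ℓ ∣ 2 * r + 1 := fun h => hℓq (hr ▸ h)
    have hr2 : 2 ≤ r := by
      by_contra hcon
      have hq3 : Fintype.card F = 3 := by omega
      rw [hq3] at hc
      rcases hc with hc | hc
      · rw [hc] at hℓc
        exact hℓ2' hℓc
      · rw [hc] at hℓc
        have h4 : ℓ ∣ 2 * 2 := hℓc
        rcases (Nat.Prime.dvd_mul hℓp).mp h4 with h | h <;> exact hℓ2' h
    rw [sl2_irr_not_dvd_count hodd r hr hr2 ℓ]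
    rcases hc with hc | hc
    · have hc' : c = 2 * r := by omega
      rw [hc'] at hℓc hcount
      have hrr : ℓ ∣ r := by
        rcases (Nat.Prime.dvd_mul hℓp).mp hℓc with h | h
        · exact absurd h hℓ2'
        · exact h
      have hb : ¬ ℓ ∣ 2 * r + 2 := fun h => hℓ2' ((Nat.dvd_add_right hℓc).mp h)
      have hd : ¬ ℓ ∣ r + 1 := fun h => h1 ((Nat.dvd_add_right hrr).mp h)
      rw [if_neg h1, if_neg hq', if_neg hb, if_pos hℓc, if_neg hd, if_pos hrr]
      omega
    · have hc' : c = 2 * r + 2 := by omega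
      rw [hc'] at hℓc hcount
      have hrr : ℓ ∣ r + 1 := by
        have h5 : ℓ ∣ 2 * (r + 1) := by
          have : 2 * (r + 1) = 2 * r + 2 := by ring
          rw [this]
          exact hℓc
        rcases (Nat.Prime.dvd_mul hℓp).mp h5 with h | h
        · exact absurd h hℓ2'
        · exact h
      have hb : ¬ ℓ ∣ 2 * r := fun h => hℓ2' ((Nat.dvd_add_right h).mp hℓc)
      have hd : ¬ ℓ ∣ r := fun h => hb (Dvd.dvd.mul_left h 2)
      rw [if_neg h1, if_neg hq', if_pos hℓc, if_neg hb, if_pos hrr, if_neg hd]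
      omega

end McKayCount

end Cfsg.Agent.Lib.Helper39
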