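import Mathlib
import Cfsg.Prelude.Def_Characters
import Cfsg.Prelude.Def_Blocks
import Cfsg.Agent.Lib.Helper39.SL2McKay
import Cfsg.Agent.Lib.Helper16.PRegular
import Cfsg.Agent.Lib.Helper76.PRegular
import Cfsg.Agent.Lib.Helper41.SL2Nonsplit
import Cfsg.Agent.Lib.Helper41.SL2OddOrder
import Cfsg.Agent.Lib.Helper80.OneDegree

/-!
# The `p`-blocks of `SL₂(q)` in the defining characteristic, `q` odd
-/

set_option autoImplicit false
set_option linter.unusedSectionVars false
set_option linter.style.haveILetI false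

namespace Cfsg.Agent.Lib.Helper39

open Matrix
open scoped ComplexConjugate

section SL2Blocks

variable {F : Type*} [Field F] [Fintype F]

theorem neg_one_mem_center_sl2 :
    (-1 : Matrix.SpecialLinearGroup (Fin 2) F) ∈
      Subgroup.center (Matrix.SpecialLinearGroup (Fin 2) F) := by
  rw [Cfsg.Agent.Lib.Helper41.sl2_mem_center_iff]
  right
  simp

/-- an irreducible character of `SL₂` takes the value `± χ(1)` at `-1` -/
theorem irr_neg_one_sl2 (χ : Cfsg.IrrCharacter (Matrix.SpecialLinearGroup (Fin 2) F)) :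
    (χ : Matrix.SpecialLinearGroup (Fin 2) F → ℂ) (-1) =
        (χ : Matrix.SpecialLinearGroup (Fin 2) F → ℂ) 1 ∨
    (χ : Matrix.SpecialLinearGroup (Fin 2) F → ℂ) (-1) =
        -(χ : Matrix.SpecialLinearGroup (Fin 2) F → ℂ) 1 := by
  obtain ⟨ω, hω, h⟩ := Cfsg.Agent.Lib.Helper80.central_char_mul χ.2
    (neg_one_mem_center_sl2 (F := F))
  have h2 : ω ^ 2 = 1 := by
    have hd : orderOf (-1 : Matrix.SpecialLinearGroup (Fin 2) F) ∣ 2 := by
      apply orderOf_dvd_of_pow_eq_one
      exact neg_one_sq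
    obtain ⟨k, hk⟩ := hd
    rw [hk, pow_mul, hω, one_pow]
  have h1 := h 1
  rw [mul_one] at h1
  have h3 : (ω - 1) * (ω + 1) = 0 := by linear_combination h2
  rcases mul_eq_zero.mp h3 with h4 | h4
  · left
    rw [h1, sub_eq_zero.mp h4, one_mul]
  · right
    rw [h1, eq_neg_of_add_eq_zero_left h4]
    ring

theorem centralChar_of_mem_center {G : Type*} [Group G] (χ : G → ℂ) {z : G}
    (hz : z ∈ Subgroup.center G) : Cfsg.centralChar χ z = χ z / χ 1 := by
  unfold Cfsg.centralChar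
  have : Subgroup.centralizer ({z} : Set G) = ⊤ := by
    rw [eq_top_iff]
    intro g _
    rw [Subgroup.mem_centralizer_singleton_iff]
    exact (Subgroup.mem_center_iff.mp hz g)
  rw [this, Subgroup.index_top]
  simp

theorem char_dvd_card_field (p : ℕ) [Fact p.Prime] [CharP F p] : p ∣ Fintype.card F := by
  obtain ⟨n, -, hn⟩ := FiniteField.card F p
  rw [hn]
  exact dvd_pow_self p n.ne_zero

theorem odd_card_of_char (p : ℕ) [Fact p.Prime] [CharP F p] (hp : p ≠ 2) :
    Odd (Fintype.card F) := by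
  obtain ⟨n, hpp, hn⟩ := FiniteField.card F p
  rw [hn]
  exact Odd.pow (hpp.odd_of_ne_two hp)

/-- a noncentral `p`-regular element of `SL₂(q)` has class size divisible by `p` -/
theorem dvd_index_of_pRegular_sl2 (p : ℕ) [Fact p.Prime] [CharP F p] (hp : p ≠ 2)
    (g : Matrix.SpecialLinearGroup (Fin 2) F)
    (hg : g ∉ Subgroup.center (Matrix.SpecialLinearGroup (Fin 2) F))
    (hreg : ¬ p ∣ orderOf g) :
    p ∣ (Subgroup.centralizer ({g} : Set (Matrix.SpecialLinearGroup (Fin 2) F))).index := by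
  have hpp : p.Prime := Fact.out
  have hpq := char_dvd_card_field (F := F) p
  have hodd := odd_card_of_char (F := F) p hp
  have h2 : (2 : F) ≠ 0 := Cfsg.Agent.Lib.Helper5.two_ne_zero_of_odd_card hodd
  have hG := Cfsg.Agent.Lib.Helper5.card_SL2 (F := F)
  have hci := Subgroup.card_mul_index
    (Subgroup.centralizer ({g} : Set (Matrix.SpecialLinearGroup (Fin 2) F)))
  have hdvd : p ∣ Nat.card (Subgroup.centralizer
      ({g} : Set (Matrix.SpecialLinearGroup (Fin 2) F))) *
      (Subgroup.centralizer ({g} : Set (Matrix.SpecialLinearGroup (Fin 2) F))).index := by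
    rw [hci, hG]
    exact Dvd.dvd.mul_right hpq _
  have hq1 : 1 ≤ Fintype.card F := Fintype.card_pos
  rcases Cfsg.Agent.Lib.Helper41.card_centralizer_cases h2 g hg with ⟨hτ, -⟩ | ⟨-, hc⟩ | ⟨-, hc⟩
  · exfalso
    have h1 := Cfsg.Agent.Lib.Helper41.pow_two_mul_char_of_trace_sq p g hτ
    have h3 : orderOf g ∣ 2 * p := orderOf_dvd_of_pow_eq_one h1
    have hcop : Nat.Coprime (orderOf g) p :=
      Nat.Coprime.symm ((Nat.Prime.coprime_iff_not_dvd hpp).mpr hreg)
    have h4 : orderOf g ∣ 2 := hcop.dvd_of_dvd_mul_right h3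
    have h5 : g ^ 2 = 1 := orderOf_dvd_iff_pow_eq_one.mp h4
    apply hg
    rw [Cfsg.Agent.Lib.Helper41.sl2_mem_center_iff]
    apply Cfsg.Agent.Lib.Helper41.sl2_sq_eq_one h2
    rw [← Matrix.SpecialLinearGroup.coe_mul, ← pow_two, h5]
    rfl
  · rcases (Nat.Prime.dvd_mul hpp).mp hdvd with h | h
    · exfalso
      rw [hc] at h
      have : p ∣ 1 := by
        have h' : Fintype.card F = (Fintype.card F - 1) + 1 := by omega
        rw [h'] at hpq
        exact (Nat.dvd_add_right h).mp hpq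
      exact hpp.one_lt.ne' (Nat.dvd_one.mp this)
    · exact h
  · rcases (Nat.Prime.dvd_mul hpp).mp hdvd with h | h
    · exfalso
      rw [hc] at h
      have : p ∣ 1 := (Nat.dvd_add_right hpq).mp h
      exact hpp.one_lt.ne' (Nat.dvd_one.mp this)
    · exact h

theorem irr_one_ne_zero_aux {G : Type*} [Group G] (χ : Cfsg.IrrCharacter G) :
    (χ : G → ℂ) 1 ≠ 0 := by
  rw [Cfsg.Agent.Lib.Helper80.char_one_eq_charDegree
    (Cfsg.Agent.Lib.Helper16.isCharacter_of_isIrrCharacter χ.2)]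
  exact_mod_cast (Cfsg.Agent.Lib.Helper80.charDegree_pos χ.2).ne'

/-- the Steinberg character of `SL₂(q)`, `q` odd: it has degree `q`, is trivial on the centre,
vanishes on a regular unipotent element, and is the only irreducible character of degree
divisible by `p` -/
theorem sl2_steinberg_data (p : ℕ) [Fact p.Prime] [CharP F p] (hp : p ≠ 2) :
    ∃ St : Cfsg.IrrCharacter (Matrix.SpecialLinearGroup (Fin 2) F),
      (St : Matrix.SpecialLinearGroup (Fin 2) F → ℂ) 1 = (Fintype.card F : ℂ) ∧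
      (St : Matrix.SpecialLinearGroup (Fin 2) F → ℂ) (-1) = (Fintype.card F : ℂ) ∧
      (St : Matrix.SpecialLinearGroup (Fin 2) F → ℂ) (tSL 1) = 0 ∧
      ∀ χ : Cfsg.IrrCharacter (Matrix.SpecialLinearGroup (Fin 2) F), χ ≠ St →
        ¬ p ∣ Cfsg.charDegree (χ : Matrix.SpecialLinearGroup (Fin 2) F → ℂ) := by
  classical
  have hpp : p.Prime := Fact.out
  have hpq := char_dvd_card_field (F := F) p
  have hodd := odd_card_of_char (F := F) p hp
  obtain ⟨St, hSt, hπ⟩ := sl2_steinberg_exists (F := F)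
  have hval : ∀ g, St g = Cfsg.indFun (borelS F) (lamS (1 : MulChar F ℂ)) g - 1 := by
    intro g
    have := congrFun hπ g
    simp only [Pi.add_apply] at this
    rw [this]
    ring
  have h1 : St 1 = (Fintype.card F : ℂ) := by
    rw [hval, indFun_lamS_one]
    ring
  have hm1 : St (-1) = (Fintype.card F : ℂ) := by
    rw [hval, indFun_lamS]
    simp [lamSFun, MulChar.one_apply, isUnit_iff_ne_zero]
  have hu : St (tSL 1) = 0 := by
    rw [hval, indFun_lamS_unip (1 : MulChar F ℂ) (tSL 1) (by simp [tSL_coe])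
      (by simp [tSL_coe]) (by simp [tSL_coe])]
    simp [tSL_coe]
  have hdeg : Cfsg.charDegree St = Fintype.card F := charDegree_of_one h1
  refine ⟨⟨St, hSt⟩, h1, hm1, hu, ?_⟩
  intro χ hχ hdvd
  have hfin := Cfsg.Agent.Lib.Helper3.irr_finite (G := Matrix.SpecialLinearGroup (Fin 2) F)
  letI hft : Fintype (Cfsg.IrrCharacter (Matrix.SpecialLinearGroup (Fin 2) F)) :=
    Fintype.ofFinite _
  have S : Sylow p (Matrix.SpecialLinearGroup (Fin 2) F) := default
  have c1 := sl2_mckay hodd p S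
  rw [sl2_mckay_borel hodd p hpq S] at c1
  have c2 := Cfsg.Agent.Lib.Helper80.card_irr_eq_card_conjClasses
    (G := Matrix.SpecialLinearGroup (Fin 2) F)
  rw [Cfsg.Agent.S2325.result hodd] at c2
  rw [Nat.card_eq_fintype_card] at c1 c2
  rw [Fintype.card_subtype] at c1
  have c3 : (Finset.univ.filter (fun χ : Cfsg.IrrCharacter
      (Matrix.SpecialLinearGroup (Fin 2) F) =>
      p ∣ Cfsg.charDegree (χ : Matrix.SpecialLinearGroup (Fin 2) F → ℂ))).card = 1 := by
    have := Finset.card_filter_add_card_filter_not (s := Finset.univ)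
      (fun χ : Cfsg.IrrCharacter (Matrix.SpecialLinearGroup (Fin 2) F) =>
        p ∣ Cfsg.charDegree (χ : Matrix.SpecialLinearGroup (Fin 2) F → ℂ))
    rw [Finset.card_univ] at this
    omega
  have hsub : ({χ, ⟨St, hSt⟩} : Finset (Cfsg.IrrCharacter
      (Matrix.SpecialLinearGroup (Fin 2) F))) ⊆
      Finset.univ.filter (fun χ : Cfsg.IrrCharacter
        (Matrix.SpecialLinearGroup (Fin 2) F) =>
        p ∣ Cfsg.charDegree (χ : Matrix.SpecialLinearGroup (Fin 2) F → ℂ)) := by
    intro x hx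
    simp only [Finset.mem_insert, Finset.mem_singleton] at hx
    rw [Finset.mem_filter]
    refine ⟨Finset.mem_univ _, ?_⟩
    rcases hx with h | h
    · rw [h]
      exact hdvd
    · rw [h]
      show p ∣ Cfsg.charDegree St
      rw [hdeg]
      exact hpq
  have := Finset.card_le_card hsub
  rw [Finset.card_pair hχ, c3] at this
  omega

open Cfsg.Agent.Lib.Helper16 in
/-- central characters of characters of degree prime to `p` at noncentral `p`-regular
elements lie in the local ideal -/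
theorem centralChar_mem_of_pRegular_sl2 (p : ℕ) [Fact p.Prime] [CharP F p] (hp : p ≠ 2)
    (M : Ideal Cfsg.AlgInt) (hM : Cfsg.IsPModular p M)
    (χ : Cfsg.IrrCharacter (Matrix.SpecialLinearGroup (Fin 2) F))
    (hχ : ¬ p ∣ Cfsg.charDegree (χ : Matrix.SpecialLinearGroup (Fin 2) F → ℂ))
    (g : Matrix.SpecialLinearGroup (Fin 2) F)
    (hg : g ∉ Subgroup.center (Matrix.SpecialLinearGroup (Fin 2) F))
    (hreg : ¬ p ∣ orderOf g) :
    Cfsg.MemLocalIdeal M
      (Cfsg.centralChar (χ : Matrix.SpecialLinearGroup (Fin 2) F → ℂ) g) := by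
  have hMp := isPrime_of_isPModular hM
  obtain ⟨m, hm⟩ := dvd_index_of_pRegular_sl2 p hp g hg hreg
  unfold Cfsg.centralChar
  rw [hm, Cfsg.Agent.Lib.Helper80.char_one_eq_charDegree
    (isCharacter_of_isIrrCharacter χ.2)]
  have e : ((p * m : ℕ) : ℂ) * (χ : Matrix.SpecialLinearGroup (Fin 2) F → ℂ) g /
      (Cfsg.charDegree (χ : Matrix.SpecialLinearGroup (Fin 2) F → ℂ) : ℂ) =
      (p : ℂ) * ((m : ℂ) * (χ : Matrix.SpecialLinearGroup (Fin 2) F → ℂ) g *
        (Cfsg.charDegree (χ : Matrix.SpecialLinearGroup (Fin 2) F → ℂ) : ℂ)⁻¹) := by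
    push_cast
    ring
  rw [e]
  apply memLocalIdeal_mul_right hMp
  · exact (memLocalIdeal_natCast_iff hM p).mpr dvd_rfl
  · exact memLocalRing_mul hMp (memLocalRing_mul hMp (memLocalRing_natCast hMp m)
      (memLocalRing_of_isIntegral hMp (Cfsg.Agent.Lib.Helper80.isIntegral_char_val
        (isCharacter_of_isIrrCharacter χ.2) g))) (memLocalRing_inv_natCast hM hχ)

theorem sl2_center_cases (g : Matrix.SpecialLinearGroup (Fin 2) F)
    (hg : g ∈ Subgroup.center (Matrix.SpecialLinearGroup (Fin 2) F)) : g = 1 ∨ g = -1 := by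
  rw [Cfsg.Agent.Lib.Helper41.sl2_mem_center_iff] at hg
  rcases hg with h | h
  · left
    exact Subtype.ext h
  · right
    apply Subtype.ext
    rw [h]
    simp

open Cfsg.Agent.Lib.Helper16 in
/-- two characters of degree prime to `p` with the same sign at `-1` lie in the same block -/
theorem sameBlock_of_sign_sl2 (p : ℕ) [Fact p.Prime] [CharP F p] (hp : p ≠ 2)
    (M : Ideal Cfsg.AlgInt) (hM : Cfsg.IsPModular p M)
    (χ ψ : Cfsg.IrrCharacter (Matrix.SpecialLinearGroup (Fin 2) F))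
    (hχ : ¬ p ∣ Cfsg.charDegree (χ : Matrix.SpecialLinearGroup (Fin 2) F → ℂ))
    (hψ : ¬ p ∣ Cfsg.charDegree (ψ : Matrix.SpecialLinearGroup (Fin 2) F → ℂ))
    (hs : (χ : Matrix.SpecialLinearGroup (Fin 2) F → ℂ) (-1) /
        (χ : Matrix.SpecialLinearGroup (Fin 2) F → ℂ) 1 =
      (ψ : Matrix.SpecialLinearGroup (Fin 2) F → ℂ) (-1) /
        (ψ : Matrix.SpecialLinearGroup (Fin 2) F → ℂ) 1) :
    Cfsg.SameBlock M (χ : Matrix.SpecialLinearGroup (Fin 2) F → ℂ)
      (ψ : Matrix.SpecialLinearGroup (Fin 2) F → ℂ) := by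
  classical
  have hMp := isPrime_of_isPModular hM
  apply sameBlock_of_pRegular hM χ ψ
  intro g hreg
  by_cases hg : g ∈ Subgroup.center (Matrix.SpecialLinearGroup (Fin 2) F)
  · rw [centralChar_of_mem_center _ hg, centralChar_of_mem_center _ hg]
    rcases sl2_center_cases g hg with h | h
    · rw [h, div_self (irr_one_ne_zero_aux χ), div_self (irr_one_ne_zero_aux ψ), sub_self]
      exact memLocalIdeal_zero hMp
    · rw [h, hs, sub_self]
      exact memLocalIdeal_zero hMp
  · exact memLocalIdeal_sub hMp (centralChar_mem_of_pRegular_sl2 p hp M hM χ hχ g hg hreg)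
      (centralChar_mem_of_pRegular_sl2 p hp M hM ψ hψ g hg hreg)

open Cfsg.Agent.Lib.Helper16 in
/-- characters with different signs at `-1` lie in different blocks -/
theorem not_sameBlock_of_sign_sl2 (p : ℕ) [Fact p.Prime] (hp : p ≠ 2)
    (M : Ideal Cfsg.AlgInt) (hM : Cfsg.IsPModular p M)
    (χ ψ : Cfsg.IrrCharacter (Matrix.SpecialLinearGroup (Fin 2) F))
    (h1 : (χ : Matrix.SpecialLinearGroup (Fin 2) F → ℂ) (-1) =
      (χ : Matrix.SpecialLinearGroup (Fin 2) F → ℂ) 1)
    (h2 : (ψ : Matrix.SpecialLinearGroup (Fin 2) F → ℂ) (-1) =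
      -(ψ : Matrix.SpecialLinearGroup (Fin 2) F → ℂ) 1) :
    ¬ Cfsg.SameBlock M (χ : Matrix.SpecialLinearGroup (Fin 2) F → ℂ)
      (ψ : Matrix.SpecialLinearGroup (Fin 2) F → ℂ) := by
  have hpp : p.Prime := Fact.out
  intro h
  have h3 := h (-1)
  rw [centralChar_of_mem_center _ (neg_one_mem_center_sl2 (F := F)),
    centralChar_of_mem_center _ (neg_one_mem_center_sl2 (F := F)), h1, h2,
    div_self (irr_one_ne_zero_aux χ), neg_div, div_self (irr_one_ne_zero_aux ψ)] at h3
  have h4 : (1 : ℂ) - -1 = ((2 : ℕ) : ℂ) := by norm_num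
  rw [h4] at h3
  have h5 := (memLocalIdeal_natCast_iff hM 2).mp h3
  exact hp ((Nat.prime_dvd_prime_iff_eq hpp Nat.prime_two).mp h5)

theorem tSL_pow_nat (x : F) (n : ℕ) : (tSL x) ^ n = tSL (n * x) := by
  induction n with
  | zero => simp [tSL_zero]
  | succ k ih =>
    rw [pow_succ, ih, ← tSL_add]
    congr 1
    push_cast
    ring

theorem tSL_one_not_mem_center :
    tSL (1 : F) ∉ Subgroup.center (Matrix.SpecialLinearGroup (Fin 2) F) := by
  intro h
  rw [Cfsg.Agent.Lib.Helper41.sl2_mem_center_iff, tSL_coe] at h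
  rcases h with h | h
  · have := congrFun (congrFun h 0) 1
    simp at this
  · have := congrFun (congrFun h 0) 1
    simp at this

/-- the class of a regular unipotent element has size prime to `p` -/
theorem not_dvd_index_tSL (p : ℕ) [Fact p.Prime] [CharP F p] (hp : p ≠ 2) :
    ¬ p ∣ (Subgroup.centralizer
      ({tSL (1 : F)} : Set (Matrix.SpecialLinearGroup (Fin 2) F))).index := by
  have hpp : p.Prime := Fact.out
  have hpq := char_dvd_card_field (F := F) p
  have hodd := odd_card_of_char (F := F) p hp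
  have h2 : (2 : F) ≠ 0 := Cfsg.Agent.Lib.Helper5.two_ne_zero_of_odd_card hodd
  have hG := Cfsg.Agent.Lib.Helper5.card_SL2 (F := F)
  have hci := Subgroup.card_mul_index
    (Subgroup.centralizer ({tSL (1 : F)} : Set (Matrix.SpecialLinearGroup (Fin 2) F)))
  have hq1 : 1 ≤ Fintype.card F := Fintype.card_pos
  have htr : (tSL (1 : F)).1.trace = 2 := by
    rw [tSL_coe, Matrix.trace_fin_two]
    simp
    norm_num
  have hc : Nat.card (Subgroup.centralizer
      ({tSL (1 : F)} : Set (Matrix.SpecialLinearGroup (Fin 2) F))) = 2 * Fintype.card F := by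
    rcases Cfsg.Agent.Lib.Helper41.card_centralizer_cases h2 (tSL (1 : F))
      tSL_one_not_mem_center with ⟨-, hc⟩ | ⟨⟨l, hl, hl2⟩, -⟩ | ⟨hno, -⟩
    · exact hc
    · exfalso
      rw [htr] at hl
      have h3 : (l - 1) * (l - 1) = 0 := by linear_combination hl
      have h4 : l = 1 := sub_eq_zero.mp (mul_self_eq_zero.mp h3)
      apply hl2
      rw [h4, mul_one]
    · exfalso
      apply hno 1
      rw [htr]
      ring
  rw [hc, hG] at hci
  intro hdvd
  have h5 : 2 * (Subgroup.centralizer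
      ({tSL (1 : F)} : Set (Matrix.SpecialLinearGroup (Fin 2) F))).index =
      Fintype.card F ^ 2 - 1 := by
    have h6 : Fintype.card F * (2 * (Subgroup.centralizer
      ({tSL (1 : F)} : Set (Matrix.SpecialLinearGroup (Fin 2) F))).index) =
      Fintype.card F * (Fintype.card F ^ 2 - 1) := by
      rw [← hci]
      ring
    exact Nat.eq_of_mul_eq_mul_left (by omega) h6
  have h7 : p ∣ Fintype.card F ^ 2 - 1 := by
    rw [← h5]
    exact Dvd.dvd.mul_left hdvd 2
  have h8 : p ∣ Fintype.card F ^ 2 := Dvd.dvd.pow hpq (by norm_num)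
  have h9 : 1 ≤ Fintype.card F ^ 2 := Nat.one_le_pow _ _ (by omega)
  have h10 : p ∣ 1 := by
    have h' : Fintype.card F ^ 2 = (Fintype.card F ^ 2 - 1) + 1 := by omega
    rw [h'] at h8
    exact (Nat.dvd_add_right h7).mp h8
  exact hpp.one_lt.ne' (Nat.dvd_one.mp h10)

open Cfsg.Agent.Lib.Helper16 in
/-- a character vanishing at a regular unipotent element is not in the block of a character
of degree prime to `p` -/
theorem not_sameBlock_steinberg_sl2 (p : ℕ) [Fact p.Prime] [CharP F p] (hp : p ≠ 2)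
    (M : Ideal Cfsg.AlgInt) (hM : Cfsg.IsPModular p M)
    (St χ : Cfsg.IrrCharacter (Matrix.SpecialLinearGroup (Fin 2) F))
    (hu : (St : Matrix.SpecialLinearGroup (Fin 2) F → ℂ) (tSL 1) = 0)
    (hχ : ¬ p ∣ Cfsg.charDegree (χ : Matrix.SpecialLinearGroup (Fin 2) F → ℂ)) :
    ¬ Cfsg.SameBlock M (St : Matrix.SpecialLinearGroup (Fin 2) F → ℂ)
      (χ : Matrix.SpecialLinearGroup (Fin 2) F → ℂ) := by
  have hpp : p.Prime := Fact.out
  have hMp := isPrime_of_isPModular hM
  intro h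
  have hk := h (tSL 1)
  unfold Cfsg.centralChar at hk
  rw [hu, mul_zero, zero_div, zero_sub] at hk
  have hk' := memLocalIdeal_neg hk
  rw [neg_neg] at hk'
  have hidx := not_dvd_index_tSL (F := F) p hp
  have hup : (tSL (1 : F)) ^ p = 1 := by
    rw [tSL_pow_nat, mul_one, CharP.cast_eq_zero, tSL_zero]
  obtain ⟨m, hmM, hm⟩ := Cfsg.Agent.Lib.Helper76.irr_sub_mem p M hM χ (tSL 1) 1 (by
    refine ⟨?_, Commute.one_right _, ?_⟩
    · rw [inv_one, mul_one]
      rcases (Nat.dvd_prime hpp).mp (orderOf_dvd_of_pow_eq_one hup) with h | h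
      · exact ⟨0, by rw [h, pow_zero]⟩
      · exact ⟨1, by rw [h, pow_one]⟩
    · rw [orderOf_one]
      exact fun h => hpp.one_lt.ne' (Nat.dvd_one.mp h))
  have hd := Cfsg.Agent.Lib.Helper80.char_one_eq_charDegree
    (isCharacter_of_isIrrCharacter χ.2)
  have hd0 : (Cfsg.charDegree (χ : Matrix.SpecialLinearGroup (Fin 2) F → ℂ) : ℂ) ≠ 0 := by
    rw [← hd]
    exact irr_one_ne_zero_aux χ
  have hχu : (χ : Matrix.SpecialLinearGroup (Fin 2) F → ℂ) (tSL 1) = (m : ℂ) +
      (Cfsg.charDegree (χ : Matrix.SpecialLinearGroup (Fin 2) F → ℂ) : ℂ) := by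
    rw [hm, hd]
    ring
  rw [hχu, hd] at hk'
  have e : ((Subgroup.centralizer
      ({tSL (1 : F)} : Set (Matrix.SpecialLinearGroup (Fin 2) F))).index : ℂ) * ((m : ℂ) +
      (Cfsg.charDegree (χ : Matrix.SpecialLinearGroup (Fin 2) F → ℂ) : ℂ)) /
      (Cfsg.charDegree (χ : Matrix.SpecialLinearGroup (Fin 2) F → ℂ) : ℂ) =
      ((Subgroup.centralizer
      ({tSL (1 : F)} : Set (Matrix.SpecialLinearGroup (Fin 2) F))).index : ℂ) +
      ((Subgroup.centralizer
      ({tSL (1 : F)} : Set (Matrix.SpecialLinearGroup (Fin 2) F))).index : ℂ) * ((m : ℂ) *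
      (Cfsg.charDegree (χ : Matrix.SpecialLinearGroup (Fin 2) F → ℂ) : ℂ)⁻¹) := by
    field_simp
    ring
  rw [e] at hk'
  have h3 : Cfsg.MemLocalIdeal M (((Subgroup.centralizer
      ({tSL (1 : F)} : Set (Matrix.SpecialLinearGroup (Fin 2) F))).index : ℂ) * ((m : ℂ) *
      (Cfsg.charDegree (χ : Matrix.SpecialLinearGroup (Fin 2) F → ℂ) : ℂ)⁻¹)) :=
    memLocalIdeal_mul_left hMp (memLocalRing_natCast hMp _)
      (memLocalIdeal_mul_right hMp (memLocalIdeal_of_mem hMp hmM)
        (memLocalRing_inv_natCast hM hχ))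
  have h4 := memLocalIdeal_sub hMp hk' h3
  rw [add_sub_cancel_right] at h4
  exact hidx ((memLocalIdeal_natCast_iff hM _).mp h4)

open Cfsg.Agent.Lib.Helper16 in
/-- a Sylow subgroup is a defect group of a set of characters whose idempotent has a unit
coefficient at `1` -/
theorem isDefectGroup_of_coeff_one {G : Type*} [Group G] [Finite G] (p : ℕ) [Fact p.Prime]
    (M : Ideal Cfsg.AlgInt) (hM : Cfsg.IsPModular p M) (B : Set (Cfsg.IrrCharacter G))
    (h1 : Cfsg.MemLocalRing M (Cfsg.blockCoeff B 1))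
    (h2 : ¬ Cfsg.MemLocalIdeal M (Cfsg.blockCoeff B 1)) (P : Sylow p G) :
    Cfsg.IsDefectGroup p M B (P : Subgroup G) := by
  have hMp := isPrime_of_isPModular hM
  refine ⟨1, ⟨h1, h2, ?_⟩, ?_⟩
  · intro χ _ hmem
    rw [centralChar_of_mem_center _ (Subgroup.one_mem _),
      div_self (irr_one_ne_zero_aux χ)] at hmem
    exact not_memLocalIdeal_one hMp hmem
  · have htop : Subgroup.centralizer ({1} : Set G) = ⊤ := by
      rw [eq_top_iff]
      intro g _
      rw [Subgroup.mem_centralizer_singleton_iff]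
      simp
    have hle : (P : Subgroup G) ≤ Subgroup.centralizer ({1} : Set G) := by
      rw [htop]
      exact le_top
    refine ⟨P.subtype hle, ?_⟩
    rw [Sylow.coe_subtype, Subgroup.map_subgroupOf_eq_of_le hle]

open Cfsg.Agent.Lib.Helper16 in
/-- the coefficients at `1` of the two sums of central idempotents of `SL₂(q)` according to the
sign at `-1`, and the existence of a character with sign `-1` -/
theorem sl2_blockCoeff (h2 : (2 : F) ≠ 0)
    (St : Cfsg.IrrCharacter (Matrix.SpecialLinearGroup (Fin 2) F))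
    (hSt1 : (St : Matrix.SpecialLinearGroup (Fin 2) F → ℂ) 1 = (Fintype.card F : ℂ))
    (hStm : (St : Matrix.SpecialLinearGroup (Fin 2) F → ℂ) (-1) = (Fintype.card F : ℂ))
    (huniq : ∀ χ : Cfsg.IrrCharacter (Matrix.SpecialLinearGroup (Fin 2) F),
      (χ : Matrix.SpecialLinearGroup (Fin 2) F → ℂ) 1 = (Fintype.card F : ℂ) → χ = St) :
    Cfsg.blockCoeff {χ : Cfsg.IrrCharacter (Matrix.SpecialLinearGroup (Fin 2) F) |
        (χ : Matrix.SpecialLinearGroup (Fin 2) F → ℂ) (-1) =
          -(χ : Matrix.SpecialLinearGroup (Fin 2) F → ℂ) 1} 1 = 1 / 2 ∧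
    Cfsg.blockCoeff {χ : Cfsg.IrrCharacter (Matrix.SpecialLinearGroup (Fin 2) F) |
        (χ : Matrix.SpecialLinearGroup (Fin 2) F → ℂ) (-1) =
          (χ : Matrix.SpecialLinearGroup (Fin 2) F → ℂ) 1 ∧
        (χ : Matrix.SpecialLinearGroup (Fin 2) F → ℂ) 1 ≠ (Fintype.card F : ℂ)} 1 =
      1 / 2 - (Fintype.card F : ℂ) ^ 2 /
        (Nat.card (Matrix.SpecialLinearGroup (Fin 2) F) : ℂ) ∧
    ∃ χ : Cfsg.IrrCharacter (Matrix.SpecialLinearGroup (Fin 2) F),
      (χ : Matrix.SpecialLinearGroup (Fin 2) F → ℂ) (-1) =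
        -(χ : Matrix.SpecialLinearGroup (Fin 2) F → ℂ) 1 := by
  classical
  have hfin := Cfsg.Agent.Lib.Helper3.irr_finite (G := Matrix.SpecialLinearGroup (Fin 2) F)
  letI hft : Fintype (Cfsg.IrrCharacter (Matrix.SpecialLinearGroup (Fin 2) F)) :=
    Fintype.ofFinite _
  have hne : (-1 : Matrix.SpecialLinearGroup (Fin 2) F) ≠ 1 := by
    intro h
    have h' := congrArg (fun g : Matrix.SpecialLinearGroup (Fin 2) F => g.1 0 0) h
    simp at h'
    apply h2
    linear_combination -h'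
  have hnc : ¬ IsConj (1 : Matrix.SpecialLinearGroup (Fin 2) F) (-1) := by
    rw [isConj_one_right]
    exact hne
  have hA := Cfsg.Agent.Lib.Helper80.second_orthogonality_of_isConj
    (IsConj.refl (1 : Matrix.SpecialLinearGroup (Fin 2) F))
  have hB := Cfsg.Agent.Lib.Helper80.second_orthogonality_of_not_isConj hnc
  have hcent : Nat.card (Subgroup.centralizer
      ({1} : Set (Matrix.SpecialLinearGroup (Fin 2) F))) =
      Nat.card (Matrix.SpecialLinearGroup (Fin 2) F) := by
    have : Subgroup.centralizer ({1} : Set (Matrix.SpecialLinearGroup (Fin 2) F)) = ⊤ := by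
      rw [eq_top_iff]
      intro g _
      rw [Subgroup.mem_centralizer_singleton_iff]
      simp
    rw [this, Subgroup.card_top]
  rw [hcent] at hA
  have hG0 : (Nat.card (Matrix.SpecialLinearGroup (Fin 2) F) : ℂ) ≠ 0 := by
    exact_mod_cast (Nat.card_pos (α := Matrix.SpecialLinearGroup (Fin 2) F)).ne'
  have hminus : ∑ χ : Cfsg.IrrCharacter (Matrix.SpecialLinearGroup (Fin 2) F),
      (if (χ : Matrix.SpecialLinearGroup (Fin 2) F → ℂ) (-1) =
          -(χ : Matrix.SpecialLinearGroup (Fin 2) F → ℂ) 1 then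
        (χ : Matrix.SpecialLinearGroup (Fin 2) F → ℂ) 1 *
          conj ((χ : Matrix.SpecialLinearGroup (Fin 2) F → ℂ) 1) else 0) =
      (Nat.card (Matrix.SpecialLinearGroup (Fin 2) F) : ℂ) / 2 := by
    have key : ∀ χ : Cfsg.IrrCharacter (Matrix.SpecialLinearGroup (Fin 2) F),
        (if (χ : Matrix.SpecialLinearGroup (Fin 2) F → ℂ) (-1) =
          -(χ : Matrix.SpecialLinearGroup (Fin 2) F → ℂ) 1 then
        (χ : Matrix.SpecialLinearGroup (Fin 2) F → ℂ) 1 *
          conj ((χ : Matrix.SpecialLinearGroup (Fin 2) F → ℂ) 1) else 0) =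
        ((χ : Matrix.SpecialLinearGroup (Fin 2) F → ℂ) 1 *
          conj ((χ : Matrix.SpecialLinearGroup (Fin 2) F → ℂ) 1) -
         (χ : Matrix.SpecialLinearGroup (Fin 2) F → ℂ) 1 *
          conj ((χ : Matrix.SpecialLinearGroup (Fin 2) F → ℂ) (-1))) / 2 := by
      intro χ
      rcases irr_neg_one_sl2 χ with h | h
      · rw [if_neg, h]
        · ring
        · rw [h]
          intro h'
          exact irr_one_ne_zero_aux χ (by linear_combination h' / 2)
      · rw [if_pos h, h, map_neg]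
        ring
    rw [Finset.sum_congr rfl (fun χ _ => key χ), ← Finset.sum_div, Finset.sum_sub_distrib,
      hA, hB, sub_zero]
  have hplus : ∑ χ : Cfsg.IrrCharacter (Matrix.SpecialLinearGroup (Fin 2) F),
      (if (χ : Matrix.SpecialLinearGroup (Fin 2) F → ℂ) (-1) =
          (χ : Matrix.SpecialLinearGroup (Fin 2) F → ℂ) 1 then
        (χ : Matrix.SpecialLinearGroup (Fin 2) F → ℂ) 1 *
          conj ((χ : Matrix.SpecialLinearGroup (Fin 2) F → ℂ) 1) else 0) =
      (Nat.card (Matrix.SpecialLinearGroup (Fin 2) F) : ℂ) / 2 := by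
    have key : ∀ χ : Cfsg.IrrCharacter (Matrix.SpecialLinearGroup (Fin 2) F),
        (if (χ : Matrix.SpecialLinearGroup (Fin 2) F → ℂ) (-1) =
          (χ : Matrix.SpecialLinearGroup (Fin 2) F → ℂ) 1 then
        (χ : Matrix.SpecialLinearGroup (Fin 2) F → ℂ) 1 *
          conj ((χ : Matrix.SpecialLinearGroup (Fin 2) F → ℂ) 1) else 0) =
        ((χ : Matrix.SpecialLinearGroup (Fin 2) F → ℂ) 1 *
          conj ((χ : Matrix.SpecialLinearGroup (Fin 2) F → ℂ) 1) +
         (χ : Matrix.SpecialLinearGroup (Fin 2) F → ℂ) 1 *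
          conj ((χ : Matrix.SpecialLinearGroup (Fin 2) F → ℂ) (-1))) / 2 := by
      intro χ
      rcases irr_neg_one_sl2 χ with h | h
      · rw [if_pos h, h]
        ring
      · rw [if_neg, h, map_neg]
        · ring
        · rw [h]
          intro h'
          exact irr_one_ne_zero_aux χ (by linear_combination -h' / 2)
    rw [Finset.sum_congr rfl (fun χ _ => key χ), ← Finset.sum_div, Finset.sum_add_distrib,
      hA, hB, add_zero]
  refine ⟨?_, ?_, ?_⟩
  · unfold Cfsg.blockCoeff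
    rw [finsum_mem_eq_sum_ite]
    simp only [Set.mem_ofPred_eq]
    rw [hminus]
    field_simp
  · unfold Cfsg.blockCoeff
    rw [finsum_mem_eq_sum_ite]
    simp only [Set.mem_ofPred_eq]
    have key2 : ∀ χ : Cfsg.IrrCharacter (Matrix.SpecialLinearGroup (Fin 2) F),
        (if (χ : Matrix.SpecialLinearGroup (Fin 2) F → ℂ) (-1) =
          (χ : Matrix.SpecialLinearGroup (Fin 2) F → ℂ) 1 ∧
          (χ : Matrix.SpecialLinearGroup (Fin 2) F → ℂ) 1 ≠ (Fintype.card F : ℂ) then
        (χ : Matrix.SpecialLinearGroup (Fin 2) F → ℂ) 1 *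
          conj ((χ : Matrix.SpecialLinearGroup (Fin 2) F → ℂ) 1) else 0) =
        (if (χ : Matrix.SpecialLinearGroup (Fin 2) F → ℂ) (-1) =
          (χ : Matrix.SpecialLinearGroup (Fin 2) F → ℂ) 1 then
        (χ : Matrix.SpecialLinearGroup (Fin 2) F → ℂ) 1 *
          conj ((χ : Matrix.SpecialLinearGroup (Fin 2) F → ℂ) 1) else 0) -
        (if χ = St then (Fintype.card F : ℂ) ^ 2 else 0) := by
      intro χ
      by_cases hχ : χ = St
      · rw [if_neg (by rw [hχ]; exact fun h => h.2 hSt1), if_pos (by rw [hχ, hStm, hSt1]),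
          if_pos hχ, hχ, hSt1, Complex.conj_natCast]
        ring
      · rw [if_neg hχ, sub_zero]
        have hq : (χ : Matrix.SpecialLinearGroup (Fin 2) F → ℂ) 1 ≠ (Fintype.card F : ℂ) :=
          fun h => hχ (huniq χ h)
        by_cases h1 : (χ : Matrix.SpecialLinearGroup (Fin 2) F → ℂ) (-1) =
            (χ : Matrix.SpecialLinearGroup (Fin 2) F → ℂ) 1
        · rw [if_pos ⟨h1, hq⟩, if_pos h1]
        · rw [if_neg (fun h => h1 h.1), if_neg h1]
    rw [Finset.sum_congr rfl (fun χ _ => key2 χ), Finset.sum_sub_distrib, hplus,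
      Finset.sum_ite_eq' Finset.univ St (fun _ => (Fintype.card F : ℂ) ^ 2),
      if_pos (Finset.mem_univ _)]
    field_simp
  · by_contra hcon
    push Not at hcon
    have h0 : ∑ χ : Cfsg.IrrCharacter (Matrix.SpecialLinearGroup (Fin 2) F),
      (if (χ : Matrix.SpecialLinearGroup (Fin 2) F → ℂ) (-1) =
          -(χ : Matrix.SpecialLinearGroup (Fin 2) F → ℂ) 1 then
        (χ : Matrix.SpecialLinearGroup (Fin 2) F → ℂ) 1 *
          conj ((χ : Matrix.SpecialLinearGroup (Fin 2) F → ℂ) 1) else 0) = 0 :=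
      Finset.sum_eq_zero (fun χ _ => if_neg (hcon χ))
    rw [hminus] at h0
    exact hG0 (by linear_combination 2 * h0)

open Cfsg.Agent.Lib.Helper16 in
/-- the three `p`-blocks of `SL₂(q)`, `q` odd, in the defining characteristic -/
theorem sl2_blocks (p : ℕ) [Fact p.Prime] [CharP F p] (hp : p ≠ 2)
    (M : Ideal Cfsg.AlgInt) (hM : Cfsg.IsPModular p M) :
    (∀ B : Set (Cfsg.IrrCharacter (Matrix.SpecialLinearGroup (Fin 2) F)), Cfsg.IsPBlock M B ↔
      (B = {χ : Cfsg.IrrCharacter (Matrix.SpecialLinearGroup (Fin 2) F) | (χ : Matrix.SpecialLinearGroup (Fin 2) F → ℂ) 1 = (Fintype.card F : ℂ)} ∨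
       B = {χ : Cfsg.IrrCharacter (Matrix.SpecialLinearGroup (Fin 2) F) | (χ : Matrix.SpecialLinearGroup (Fin 2) F → ℂ) (-1) = (χ : Matrix.SpecialLinearGroup (Fin 2) F → ℂ) 1 ∧ (χ : Matrix.SpecialLinearGroup (Fin 2) F → ℂ) 1 ≠ (Fintype.card F : ℂ)} ∨
       B = {χ : Cfsg.IrrCharacter (Matrix.SpecialLinearGroup (Fin 2) F) | (χ : Matrix.SpecialLinearGroup (Fin 2) F → ℂ) (-1) = -(χ : Matrix.SpecialLinearGroup (Fin 2) F → ℂ) 1})) ∧
    Nat.card {B : Set (Cfsg.IrrCharacter (Matrix.SpecialLinearGroup (Fin 2) F)) // Cfsg.IsPBlock M B} = 3 ∧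
    ∀ P : Sylow p (Matrix.SpecialLinearGroup (Fin 2) F),
      Cfsg.IsDefectGroup p M {χ : Cfsg.IrrCharacter (Matrix.SpecialLinearGroup (Fin 2) F) | (χ : Matrix.SpecialLinearGroup (Fin 2) F → ℂ) (-1) = (χ : Matrix.SpecialLinearGroup (Fin 2) F → ℂ) 1 ∧ (χ : Matrix.SpecialLinearGroup (Fin 2) F → ℂ) 1 ≠ (Fintype.card F : ℂ)} (P : Subgroup (Matrix.SpecialLinearGroup (Fin 2) F)) ∧
      Cfsg.IsDefectGroup p M {χ : Cfsg.IrrCharacter (Matrix.SpecialLinearGroup (Fin 2) F) | (χ : Matrix.SpecialLinearGroup (Fin 2) F → ℂ) (-1) = -(χ : Matrix.SpecialLinearGroup (Fin 2) F → ℂ) 1} (P : Subgroup (Matrix.SpecialLinearGroup (Fin 2) F)) := by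
  classical
  have hpp : p.Prime := Fact.out
  have hMp := isPrime_of_isPModular hM
  have hpq := char_dvd_card_field (F := F) p
  have hodd := odd_card_of_char (F := F) p hp
  have h2 : (2 : F) ≠ 0 := Cfsg.Agent.Lib.Helper5.two_ne_zero_of_odd_card hodd
  obtain ⟨St, hSt1, hStm, hStu, hother⟩ := sl2_steinberg_data (F := F) p hp
  have hq0 : (Fintype.card F : ℂ) ≠ 0 := by
    exact_mod_cast (Fintype.card_ne_zero (α := F))
  have hq1 : (Fintype.card F : ℂ) ≠ 1 := by
    exact_mod_cast (Fintype.one_lt_card (α := F)).ne'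
  have huniq : ∀ χ : Cfsg.IrrCharacter (Matrix.SpecialLinearGroup (Fin 2) F),
      (χ : Matrix.SpecialLinearGroup (Fin 2) F → ℂ) 1 = (Fintype.card F : ℂ) → χ = St := by
    intro χ h
    by_contra hne
    apply hother χ hne
    rw [charDegree_of_one h]
    exact hpq
  have hSt_iff : ∀ χ : Cfsg.IrrCharacter (Matrix.SpecialLinearGroup (Fin 2) F),
      (χ : Matrix.SpecialLinearGroup (Fin 2) F → ℂ) 1 = (Fintype.card F : ℂ) ↔ χ = St :=
    fun χ => ⟨huniq χ, fun h => by rw [h]; exact hSt1⟩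
  obtain ⟨hc1, hc2, χm, hχm⟩ := sl2_blockCoeff h2 St hSt1 hStm huniq
  obtain ⟨triv, htriv⟩ : ∃ triv : Cfsg.IrrCharacter (Matrix.SpecialLinearGroup (Fin 2) F),
      ∀ g, (triv : Matrix.SpecialLinearGroup (Fin 2) F → ℂ) g = 1 :=
    ⟨⟨fun _ => 1, Cfsg.Agent.Lib.Helper80.isIrrCharacter_one⟩, fun _ => rfl⟩
  have htriv_ne : triv ≠ St := by
    intro h
    rw [← h, htriv] at hSt1
    exact hq1 hSt1.symm
  have ha : Cfsg.blockOf M (St : Matrix.SpecialLinearGroup (Fin 2) F → ℂ) =
      {χ : Cfsg.IrrCharacter (Matrix.SpecialLinearGroup (Fin 2) F) |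
        (χ : Matrix.SpecialLinearGroup (Fin 2) F → ℂ) 1 = (Fintype.card F : ℂ)} := by
    ext ψ
    rw [mem_blockOf_iff, Set.mem_ofPred_eq, hSt_iff]
    constructor
    · intro h
      by_contra hne
      exact not_sameBlock_steinberg_sl2 p hp M hM St ψ hStu (hother ψ hne) h
    · intro h
      rw [h]
      exact sameBlock_refl hMp _
  have hb : ∀ χ : Cfsg.IrrCharacter (Matrix.SpecialLinearGroup (Fin 2) F), χ ≠ St →
      (χ : Matrix.SpecialLinearGroup (Fin 2) F → ℂ) (-1) =
        (χ : Matrix.SpecialLinearGroup (Fin 2) F → ℂ) 1 →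
      Cfsg.blockOf M (χ : Matrix.SpecialLinearGroup (Fin 2) F → ℂ) =
      {χ : Cfsg.IrrCharacter (Matrix.SpecialLinearGroup (Fin 2) F) |
        (χ : Matrix.SpecialLinearGroup (Fin 2) F → ℂ) (-1) =
          (χ : Matrix.SpecialLinearGroup (Fin 2) F → ℂ) 1 ∧
        (χ : Matrix.SpecialLinearGroup (Fin 2) F → ℂ) 1 ≠ (Fintype.card F : ℂ)} := by
    intro χ hχ hs
    ext ψ
    rw [mem_blockOf_iff, Set.mem_ofPred_eq]
    constructor
    · intro h
      have hψ : ψ ≠ St := by
        intro he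
        rw [he] at h
        exact not_sameBlock_steinberg_sl2 p hp M hM St χ hStu (hother χ hχ) (sameBlock_symm h)
      refine ⟨?_, fun h' => hψ (huniq ψ h')⟩
      rcases irr_neg_one_sl2 ψ with h' | h'
      · exact h'
      · exact absurd h (not_sameBlock_of_sign_sl2 p hp M hM χ ψ hs h')
    · rintro ⟨h1, h3⟩
      have hψ : ψ ≠ St := fun he => h3 (by rw [he]; exact hSt1)
      apply sameBlock_of_sign_sl2 p hp M hM χ ψ (hother χ hχ) (hother ψ hψ)
      rw [hs, h1, div_self (irr_one_ne_zero_aux χ), div_self (irr_one_ne_zero_aux ψ)]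
  have hcc : ∀ χ : Cfsg.IrrCharacter (Matrix.SpecialLinearGroup (Fin 2) F),
      (χ : Matrix.SpecialLinearGroup (Fin 2) F → ℂ) (-1) =
        -(χ : Matrix.SpecialLinearGroup (Fin 2) F → ℂ) 1 →
      Cfsg.blockOf M (χ : Matrix.SpecialLinearGroup (Fin 2) F → ℂ) =
      {χ : Cfsg.IrrCharacter (Matrix.SpecialLinearGroup (Fin 2) F) |
        (χ : Matrix.SpecialLinearGroup (Fin 2) F → ℂ) (-1) =
          -(χ : Matrix.SpecialLinearGroup (Fin 2) F → ℂ) 1} := by
    intro χ hs
    have hχ : χ ≠ St := by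
      intro he
      rw [he, hStm, hSt1] at hs
      exact hq0 (by linear_combination hs / 2)
    ext ψ
    rw [mem_blockOf_iff, Set.mem_ofPred_eq]
    constructor
    · intro h
      rcases irr_neg_one_sl2 ψ with h' | h'
      · exact absurd (sameBlock_symm h) (not_sameBlock_of_sign_sl2 p hp M hM ψ χ h' hs)
      · exact h'
    · intro h1
      have hψ : ψ ≠ St := by
        intro he
        rw [he, hStm, hSt1] at h1
        exact hq0 (by linear_combination h1 / 2)
      apply sameBlock_of_sign_sl2 p hp M hM χ ψ (hother χ hχ) (hother ψ hψ)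
      rw [hs, h1, neg_div, neg_div, div_self (irr_one_ne_zero_aux χ),
        div_self (irr_one_ne_zero_aux ψ)]
  have hpart1 : ∀ B : Set (Cfsg.IrrCharacter (Matrix.SpecialLinearGroup (Fin 2) F)), Cfsg.IsPBlock M B ↔
      (B = {χ : Cfsg.IrrCharacter (Matrix.SpecialLinearGroup (Fin 2) F) | (χ : Matrix.SpecialLinearGroup (Fin 2) F → ℂ) 1 = (Fintype.card F : ℂ)} ∨
       B = {χ : Cfsg.IrrCharacter (Matrix.SpecialLinearGroup (Fin 2) F) | (χ : Matrix.SpecialLinearGroup (Fin 2) F → ℂ) (-1) = (χ : Matrix.SpecialLinearGroup (Fin 2) F → ℂ) 1 ∧ (χ : Matrix.SpecialLinearGroup (Fin 2) F → ℂ) 1 ≠ (Fintype.card F : ℂ)} ∨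
       B = {χ : Cfsg.IrrCharacter (Matrix.SpecialLinearGroup (Fin 2) F) | (χ : Matrix.SpecialLinearGroup (Fin 2) F → ℂ) (-1) = -(χ : Matrix.SpecialLinearGroup (Fin 2) F → ℂ) 1}) := by
    intro B
    constructor
    · rintro ⟨χ, rfl⟩
      by_cases hχ : χ = St
      · left
        rw [hχ]
        exact ha
      · rcases irr_neg_one_sl2 χ with h | h
        · right
          left
          exact hb χ hχ h
        · right
          right
          exact hcc χ h
    · rintro (h | h | h)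
      · exact ⟨St, by rw [h, ha]⟩
      · exact ⟨triv, by rw [h, hb triv htriv_ne (by rw [htriv, htriv])]⟩
      · exact ⟨χm, by rw [h, hcc χm hχm]⟩
  have h2p : ¬ p ∣ 2 := fun h => hp ((Nat.prime_dvd_prime_iff_eq hpp Nat.prime_two).mp h)
  have ehalf : (1 : ℂ) / 2 = ((2 : ℕ) : ℂ)⁻¹ := by norm_num
  have hhalf1 : Cfsg.MemLocalRing M ((1 : ℂ) / 2) := by
    rw [ehalf]
    exact memLocalRing_inv_natCast hM h2p
  have hhalf2 : ¬ Cfsg.MemLocalIdeal M ((1 : ℂ) / 2) := by
    rw [ehalf]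
    exact not_memLocalIdeal_inv hMp (memLocalRing_natCast hMp 2)
      (fun h => h2p ((memLocalIdeal_natCast_iff hM 2).mp h))
  refine ⟨hpart1, ?_, ?_⟩
  · have hset : {B : Set (Cfsg.IrrCharacter (Matrix.SpecialLinearGroup (Fin 2) F)) |
        Cfsg.IsPBlock M B} =
        {{χ : Cfsg.IrrCharacter (Matrix.SpecialLinearGroup (Fin 2) F) | (χ : Matrix.SpecialLinearGroup (Fin 2) F → ℂ) 1 = (Fintype.card F : ℂ)},
         {χ : Cfsg.IrrCharacter (Matrix.SpecialLinearGroup (Fin 2) F) | (χ : Matrix.SpecialLinearGroup (Fin 2) F → ℂ) (-1) = (χ : Matrix.SpecialLinearGroup (Fin 2) F → ℂ) 1 ∧ (χ : Matrix.SpecialLinearGroup (Fin 2) F → ℂ) 1 ≠ (Fintype.card F : ℂ)},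
         {χ : Cfsg.IrrCharacter (Matrix.SpecialLinearGroup (Fin 2) F) | (χ : Matrix.SpecialLinearGroup (Fin 2) F → ℂ) (-1) = -(χ : Matrix.SpecialLinearGroup (Fin 2) F → ℂ) 1}} := by
      ext B
      rw [Set.mem_ofPred_eq, hpart1]
      simp only [Set.mem_insert_iff, Set.mem_singleton_iff]
    show Nat.card ↥{B : Set (Cfsg.IrrCharacter (Matrix.SpecialLinearGroup (Fin 2) F)) |
        Cfsg.IsPBlock M B} = 3
    rw [Nat.card_coe_set_eq, hset, Set.ncard_eq_three]
    refine ⟨_, _, _, ?_, ?_, ?_, rfl⟩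
    · intro h
      have h3 : St ∈ {χ : Cfsg.IrrCharacter (Matrix.SpecialLinearGroup (Fin 2) F) |
          (χ : Matrix.SpecialLinearGroup (Fin 2) F → ℂ) 1 = (Fintype.card F : ℂ)} := hSt1
      rw [h] at h3
      exact h3.2 hSt1
    · intro h
      have h3 : St ∈ {χ : Cfsg.IrrCharacter (Matrix.SpecialLinearGroup (Fin 2) F) |
          (χ : Matrix.SpecialLinearGroup (Fin 2) F → ℂ) 1 = (Fintype.card F : ℂ)} := hSt1
      rw [h, Set.mem_ofPred_eq, hStm, hSt1] at h3
      exact hq0 (by linear_combination h3 / 2)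
    · intro h
      have h3 : triv ∈ {χ : Cfsg.IrrCharacter (Matrix.SpecialLinearGroup (Fin 2) F) |
          (χ : Matrix.SpecialLinearGroup (Fin 2) F → ℂ) (-1) =
            (χ : Matrix.SpecialLinearGroup (Fin 2) F → ℂ) 1 ∧
          (χ : Matrix.SpecialLinearGroup (Fin 2) F → ℂ) 1 ≠ (Fintype.card F : ℂ)} :=
        ⟨by rw [htriv, htriv], by rw [htriv]; exact hq1.symm⟩
      rw [h, Set.mem_ofPred_eq, htriv, htriv] at h3
      norm_num at h3
  · intro P
    constructor
    · have hG := Cfsg.Agent.Lib.Helper5.card_SL2 (F := F)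
      have hqpos : 1 ≤ Fintype.card F := Fintype.card_pos
      have h9 : 1 ≤ Fintype.card F ^ 2 := Nat.one_le_pow _ _ (by omega)
      have hpN : ¬ p ∣ Fintype.card F ^ 2 - 1 := by
        intro h7
        have h8 : p ∣ Fintype.card F ^ 2 := Dvd.dvd.pow hpq (by norm_num)
        have h10 : p ∣ 1 := by
          have h' : Fintype.card F ^ 2 = (Fintype.card F ^ 2 - 1) + 1 := by omega
          rw [h'] at h8
          exact (Nat.dvd_add_right h7).mp h8
        exact hpp.one_lt.ne' (Nat.dvd_one.mp h10)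
      have hN0 : ((Fintype.card F ^ 2 - 1 : ℕ) : ℂ) ≠ 0 := by
        intro h
        apply hpN
        have : Fintype.card F ^ 2 - 1 = 0 := by exact_mod_cast h
        rw [this]
        exact dvd_zero p
      have e2 : (1 : ℂ) / 2 - (Fintype.card F : ℂ) ^ 2 /
          (Nat.card (Matrix.SpecialLinearGroup (Fin 2) F) : ℂ) =
          1 / 2 - (Fintype.card F : ℂ) * ((Fintype.card F ^ 2 - 1 : ℕ) : ℂ)⁻¹ := by
        rw [hG, Nat.cast_mul]
        field_simp
      have hx : Cfsg.MemLocalIdeal M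
          ((Fintype.card F : ℂ) * ((Fintype.card F ^ 2 - 1 : ℕ) : ℂ)⁻¹) :=
        memLocalIdeal_mul_right hMp ((memLocalIdeal_natCast_iff hM _).mpr hpq)
          (memLocalRing_inv_natCast hM hpN)
      apply isDefectGroup_of_coeff_one p M hM _ _ _ P
      · rw [hc2, e2]
        exact memLocalRing_sub hMp hhalf1 (Cfsg.Agent.Lib.Helper16.MemLocalIdeal.memLocalRing hx)
      · rw [hc2, e2]
        intro h
        have h3 := memLocalIdeal_add hMp h hx
        rw [sub_add_cancel] at h3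
        exact hhalf2 h3
    · apply isDefectGroup_of_coeff_one p M hM _ _ _ P
      · rw [hc1]
        exact hhalf1
      · rw [hc1]
        exact hhalf2

end SL2Blocks

end Cfsg.Agent.Lib.Helper39
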