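import Mathlib
import Cfsg.Prelude.Def_Characters
import Cfsg.Prelude.Def_ParabolicCharacters
import Cfsg.Prelude.Def_Blocks
import Cfsg.Agent.Lib.Helper39.SL2OddClass

set_option autoImplicit false

namespace Cfsg.Agent.Lib.Helper39

open Matrix Representation
open scoped ComplexConjugate

universe u

section EvenClass

variable {F : Type u} [Field F] [Fintype F] [DecidableEq F]

theorem mulChar_pow_card_sub_one (α : MulChar F ℂ) : α ^ (Fintype.card F - 1) = 1 := by
  ext u
  rw [MulChar.pow_apply_coe, ← map_pow, ← Units.val_pow_eq_pow_val, MulChar.one_apply_coe]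
  have h : u ^ (Fintype.card F - 1) = 1 := by
    rw [← Fintype.card_units]
    exact pow_card_eq_one
  rw [h]
  simp

/-- a family of `s` different irreducible principal series characters, `2 s < q - 1`. -/
theorem sl2_principal_family' (N s : ℕ) (hN : Fintype.card F - 1 = N) (hs : 2 * s < N) :
    ∃ f : Fin s → MulChar F ℂ, (∀ j, f j ^ 2 ≠ 1) ∧
      Function.Injective (fun j => Cfsg.indFun (borelS F) (lamS (f j))) := by
  classical
  have hfin := Cfsg.Agent.Lib.Helper3.irr_finite (G := Matrix.SpecialLinearGroup (Fin 2) F)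
  have hft : Fintype (Cfsg.IrrCharacter (Matrix.SpecialLinearGroup (Fin 2) F)) :=
    Fintype.ofFinite _
  obtain ⟨ω, hω⟩ := exists_mulChar_orderOf (F := F)
  have hω' : orderOf ω = N := by rw [hω, hN]
  have hsq : ∀ j : Fin s, (ω ^ (j.1 + 1)) ^ 2 ≠ 1 := by
    intro j hj
    rw [← pow_mul] at hj
    have hdvd := orderOf_dvd_of_pow_eq_one hj
    rw [hω'] at hdvd
    have hj2 := j.2
    have := Nat.le_of_dvd (by omega) hdvd
    omega
  refine ⟨fun j => ω ^ (j.1 + 1), hsq, ?_⟩
  intro i j hij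
  simp only at hij
  have h1 := classInner_indFun_lamS_two (ω ^ (i.1 + 1)) (ω ^ (j.1 + 1))
  rw [hij] at h1
  have h3 := classInner_indFun_lamS (ω ^ (j.1 + 1))
  rw [if_neg (hsq j)] at h3
  rw [h3] at h1
  have hi2 := i.2
  have hj2 := j.2
  by_cases e1 : ω ^ (i.1 + 1) = ω ^ (j.1 + 1)
  · rw [pow_inj_mod, hω'] at e1
    rw [Nat.mod_eq_of_lt (by omega), Nat.mod_eq_of_lt (by omega)] at e1
    exact Fin.ext (by omega)
  · by_cases e2 : ω ^ (i.1 + 1) = (ω ^ (j.1 + 1))⁻¹
    · exfalso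
      have e3 : ω ^ (i.1 + 1 + (j.1 + 1)) = 1 := by
        rw [pow_add, e2, inv_mul_cancel]
      have hdvd := orderOf_dvd_of_pow_eq_one e3
      rw [hω'] at hdvd
      have := Nat.le_of_dvd (by omega) hdvd
      omega
    · rw [if_neg e1, if_neg e2] at h1
      norm_num at h1

/-- the non-cuspidal irreducible characters of `SL₂(q)`, `q` even. -/
theorem sl2_even_noncusp (h2 : ringChar F = 2) :
    ∃ St : Matrix.SpecialLinearGroup (Fin 2) F → ℂ,
      Cfsg.IsIrrCharacter (Matrix.SpecialLinearGroup (Fin 2) F) St ∧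
      Cfsg.charDegree St = Fintype.card F ∧
      ∀ χ : Matrix.SpecialLinearGroup (Fin 2) F → ℂ,
        Cfsg.IsIrrCharacter (Matrix.SpecialLinearGroup (Fin 2) F) χ →
        ∑ x : F, χ (tSL x) ≠ 0 →
        χ = (fun _ => (1 : ℂ)) ∨ χ = St ∨
          ∃ α : MulChar F ℂ, α ^ 2 ≠ 1 ∧ χ = Cfsg.indFun (borelS F) (lamS α) := by
  classical
  obtain ⟨St, hSt, hπ1⟩ := sl2_steinberg_exists (F := F)
  have hone : Cfsg.IsIrrCharacter (Matrix.SpecialLinearGroup (Fin 2) F) (fun _ => (1 : ℂ)) :=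
    Cfsg.Agent.Lib.Helper80.isIrrCharacter_one
  have hq1 := Fintype.one_lt_card (α := F)
  have heven := FiniteField.even_card_of_char_two h2
  refine ⟨St, hSt, ?_, ?_⟩
  · apply charDegree_of_one
    have h := congrFun hπ1 1
    rw [indFun_lamS_one] at h
    simp only [Pi.add_apply] at h
    linear_combination -h
  · intro χ hχ hs
    obtain ⟨α, hα⟩ := exists_principal_S
      (Cfsg.Agent.Lib.Helper3.isClassFunction_of_isCharacter
        (Cfsg.Agent.Lib.Helper3.isCharacter_of_irr hχ)) hs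
    by_cases hα2 : α ^ 2 = 1
    · have hα1 : α = 1 := by
        obtain ⟨s, hs'⟩ : ∃ s, Fintype.card F - 1 = 2 * s + 1 :=
          ⟨(Fintype.card F - 2) / 2, by omega⟩
        have h3 := mulChar_pow_card_sub_one α
        rw [hs', pow_succ, pow_mul, hα2, one_pow, one_mul] at h3
        exact h3
      subst hα1
      rw [hπ1, Cfsg.Agent.Lib.Helper80.classInner_add_left] at hα
      by_contra hcon
      push Not at hcon
      apply hα
      rw [Cfsg.Agent.Lib.Helper3.classInner_irr_ne hone hχ (fun h => hcon.1 h.symm),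
        Cfsg.Agent.Lib.Helper3.classInner_irr_ne hSt hχ (fun h => hcon.2.1 h.symm), add_zero]
    · right; right
      refine ⟨α, hα2, ?_⟩
      by_contra hcon
      apply hα
      exact Cfsg.Agent.Lib.Helper3.classInner_irr_ne (isIrrCharacter_indFun_lamS α hα2) hχ
        (fun h => hcon h.symm)

/-- the type of an irreducible character of `SL₂(q)`, `q ≥ 4` even. -/
theorem sl2_type_sum_even (h2 : ringChar F = 2) (r : ℕ) (hr : Fintype.card F = r + 1)
    (hr3 : 3 ≤ r) {χ : Matrix.SpecialLinearGroup (Fin 2) F → ℂ}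
    (hχ : Cfsg.IsIrrCharacter (Matrix.SpecialLinearGroup (Fin 2) F) χ) :
    ∃ m k : ℕ, Cfsg.charDegree χ = m + r * k ∧
      (∑ x : F, χ (tSL x) = (Fintype.card F : ℂ) * m) ∧
      (Cfsg.charDegree χ = 1 → m ≠ 0) ∧ (Cfsg.charDegree χ = r + 1 → m ≠ 0) ∧
      (Cfsg.charDegree χ = r + 2 → m ≠ 0) := by
  obtain ⟨n, ρ, hirr, hρ, hn, hd⟩ := irr_rep_data hχ
  haveI := hirr
  obtain ⟨m, k, hdeg, -, hs, -, -⟩ := sl2_unip_even h2 r hr ρ
  have hfr : Module.finrank ℂ (Fin n → ℂ) = n := by simp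
  rw [hfr] at hdeg
  refine ⟨m, k, by rw [hd]; exact hdeg, by rw [← hρ]; exact hs, ?_, ?_, ?_⟩
  · intro h hm0
    rw [hd] at h
    subst hm0
    rw [h] at hdeg
    rcases Nat.eq_zero_or_pos k with h0 | h0
    · rw [h0] at hdeg
      omega
    · nlinarith
  · intro h hm0
    rw [hd] at h
    subst hm0
    rw [h] at hdeg
    have hk : k ≤ 1 ∨ 2 ≤ k := by omega
    rcases hk with h0 | h0
    · nlinarith
    · nlinarith
  · intro h hm0
    rw [hd] at h
    subst hm0
    rw [h] at hdeg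
    have hk : k ≤ 1 ∨ 2 ≤ k := by omega
    rcases hk with h0 | h0
    · nlinarith
    · nlinarith

/-- the arithmetic at the end of the classification for even `q`. -/
theorem sl2_even_count_arith (t a n R : ℕ) (ht : 2 ≤ t) (ha : t - 1 ≤ a)
    (hn : 1 + 1 + a + n = 2 * t + 1) (hR : n * (2 * t - 1) ^ 2 ≤ R)
    (hsum : 1 * 1 ^ 2 + 1 * (2 * t) ^ 2 + a * (2 * t + 1) ^ 2 + R =
      (2 * t) * (2 * t - 1) * (2 * t + 1)) :
    a = t - 1 ∧ n = t ∧ R = n * (2 * t - 1) ^ 2 := by
  obtain ⟨u, rfl⟩ : ∃ u, t = u + 2 := ⟨t - 2, by omega⟩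
  have e1 : u + 2 - 1 = u + 1 := by omega
  have e2 : 2 * (u + 2) - 1 = 2 * u + 3 := by omega
  rw [e1] at ha ⊢
  rw [e2] at hR hsum ⊢
  have hn' : n = 2 * u + 3 - a := by omega
  have hale : a ≤ 2 * u + 3 := by omega
  have hA : a = u + 1 := by
    by_contra hne
    have h3 : u + 2 ≤ a := by omega
    zify at hR hsum h3 hale hn
    have hn2 : (n : ℤ) = 2 * u + 3 - a := by linarith
    rw [hn2] at hR
    nlinarith [mul_le_mul_of_nonneg_right h3 (by positivity : (0 : ℤ) ≤ 8 * (u : ℤ) + 16)]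
  subst hA
  have hN : n = u + 2 := by omega
  subst hN
  refine ⟨rfl, rfl, ?_⟩
  nlinarith

theorem one_indicator_decomp3 (a b : ℕ) (h1a : 1 ≠ a) (h1b : 1 ≠ b) (hab : a ≠ b) (n : ℕ) :
    1 = (if n = 1 then 1 else 0) + (if n = a then 1 else 0) + (if n = b then 1 else 0) +
      (if n ≠ 1 ∧ n ≠ a ∧ n ≠ b then 1 else 0) := by
  split_ifs <;> omega

theorem sq_indicator_decomp3 (a b : ℕ) (h1a : 1 ≠ a) (h1b : 1 ≠ b) (hab : a ≠ b) (n : ℕ) :
    n ^ 2 = (if n = 1 then 1 ^ 2 else 0) + (if n = a then a ^ 2 else 0) +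
      (if n = b then b ^ 2 else 0) + (if n ≠ 1 ∧ n ≠ a ∧ n ≠ b then n ^ 2 else 0) := by
  split_ifs <;> first | omega | (subst_vars; ring)

open Classical in
/-- the classification of the irreducible characters of `SL₂(q)`, `q ≥ 4` even, by degrees
(from the number of the conjugacy classes). -/
theorem sl2_even_class (h2 : ringChar F = 2) (t : ℕ) (ht : Fintype.card F = 2 * t)
    (ht2 : 2 ≤ t)
    (hcls : Nat.card (ConjClasses (Matrix.SpecialLinearGroup (Fin 2) F)) = Fintype.card F + 1) :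
    (∀ χ : Cfsg.IrrCharacter (Matrix.SpecialLinearGroup (Fin 2) F),
      Cfsg.charDegree χ.1 = 1 ∨ Cfsg.charDegree χ.1 = 2 * t - 1 ∨
      Cfsg.charDegree χ.1 = 2 * t ∨ Cfsg.charDegree χ.1 = 2 * t + 1) ∧
    Nat.card {χ : Cfsg.IrrCharacter (Matrix.SpecialLinearGroup (Fin 2) F) //
      Cfsg.charDegree χ.1 = 1} = 1 ∧
    Nat.card {χ : Cfsg.IrrCharacter (Matrix.SpecialLinearGroup (Fin 2) F) //
      Cfsg.charDegree χ.1 = 2 * t} = 1 ∧
    Nat.card {χ : Cfsg.IrrCharacter (Matrix.SpecialLinearGroup (Fin 2) F) //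
      Cfsg.charDegree χ.1 = 2 * t + 1} = t - 1 ∧
    Nat.card {χ : Cfsg.IrrCharacter (Matrix.SpecialLinearGroup (Fin 2) F) //
      Cfsg.charDegree χ.1 = 2 * t - 1} = t := by
  have hfin := Cfsg.Agent.Lib.Helper3.irr_finite (G := Matrix.SpecialLinearGroup (Fin 2) F)
  letI hft : Fintype (Cfsg.IrrCharacter (Matrix.SpecialLinearGroup (Fin 2) F)) :=
    Fintype.ofFinite _
  have hr : Fintype.card F = (2 * t - 1) + 1 := by omega
  have hr3 : 3 ≤ 2 * t - 1 := by omega
  have hq0 : (Fintype.card F : ℂ) ≠ 0 := by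
    exact_mod_cast (Fintype.card_pos (α := F)).ne'
  obtain ⟨St, hSt, dSt, hNC⟩ := sl2_even_noncusp h2
  rw [ht] at dSt
  have hone : Cfsg.IsIrrCharacter (Matrix.SpecialLinearGroup (Fin 2) F) (fun _ => (1 : ℂ)) :=
    Cfsg.Agent.Lib.Helper80.isIrrCharacter_one
  have d_one : Cfsg.charDegree (fun _ : Matrix.SpecialLinearGroup (Fin 2) F => (1 : ℂ)) = 1 :=
    charDegree_of_one (n := 1) (by simp)
  have d_ps : ∀ α : MulChar F ℂ,
      Cfsg.charDegree (Cfsg.indFun (borelS F) (lamS α)) = 2 * t + 1 := by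
    intro α
    apply charDegree_of_one
    rw [indFun_lamS_one, ht]
    push_cast
    ring
  have hcl : ∀ χ : Cfsg.IrrCharacter (Matrix.SpecialLinearGroup (Fin 2) F),
      (χ = ⟨fun _ => (1 : ℂ), hone⟩ ∧ Cfsg.charDegree χ.1 = 1) ∨
      (χ = ⟨St, hSt⟩ ∧ Cfsg.charDegree χ.1 = 2 * t) ∨
      Cfsg.charDegree χ.1 = 2 * t + 1 ∨
      ((∃ k, Cfsg.charDegree χ.1 = (2 * t - 1) * k) ∧ Cfsg.charDegree χ.1 ≠ 1 ∧
        Cfsg.charDegree χ.1 ≠ 2 * t ∧ Cfsg.charDegree χ.1 ≠ 2 * t + 1) := by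
    intro χ
    obtain ⟨m, k, hd, hs, t1, t2, t3⟩ := sl2_type_sum_even h2 (2 * t - 1) hr hr3 χ.2
    by_cases hm : m = 0
    · right; right; right
      subst hm
      exact ⟨⟨k, by rw [hd]; ring⟩, fun h => t1 h rfl, fun h => t2 (by omega) rfl,
        fun h => t3 (by omega) rfl⟩
    · have hs' : ∑ x : F, χ.1 (tSL x) ≠ 0 := by
        rw [hs]
        exact mul_ne_zero hq0 (by exact_mod_cast hm)
      rcases hNC χ.1 χ.2 hs' with h | h | ⟨α, -, h⟩
      · left
        exact ⟨Subtype.ext h, by rw [h]; exact d_one⟩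
      · right; left
        exact ⟨Subtype.ext h, by rw [h]; exact dSt⟩
      · right; right; left
        rw [h]
        exact d_ps α
  have B1 : (Finset.univ.filter (fun χ : Cfsg.IrrCharacter (Matrix.SpecialLinearGroup (Fin 2) F) =>
      Cfsg.charDegree χ.1 = 1)) = {⟨fun _ => (1 : ℂ), hone⟩} := by
    ext χ
    simp only [Finset.mem_filter, Finset.mem_univ, true_and, Finset.mem_singleton]
    constructor
    · intro hd
      rcases hcl χ with h | h | h | h
      · exact h.1
      all_goals (exfalso; omega)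
    · rintro rfl
      exact d_one
  have B2 : (Finset.univ.filter (fun χ : Cfsg.IrrCharacter (Matrix.SpecialLinearGroup (Fin 2) F) =>
      Cfsg.charDegree χ.1 = 2 * t)) = {⟨St, hSt⟩} := by
    ext χ
    simp only [Finset.mem_filter, Finset.mem_univ, true_and, Finset.mem_singleton]
    constructor
    · intro hd
      rcases hcl χ with h | h | h | h
      · exfalso; omega
      · exact h.1
      all_goals (exfalso; omega)
    · rintro rfl
      exact dSt
  have N1 := congrArg Finset.card B1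
  have N2 := congrArg Finset.card B2
  rw [Finset.card_singleton] at N1 N2
  have N3 : t - 1 ≤ (Finset.univ.filter
      (fun χ : Cfsg.IrrCharacter (Matrix.SpecialLinearGroup (Fin 2) F) =>
      Cfsg.charDegree χ.1 = 2 * t + 1)).card := by
    obtain ⟨f, hf2, hfinj⟩ := sl2_principal_family' (F := F) (2 * t - 1) (t - 1)
      (by omega) (by omega)
    have hle := Finset.card_le_card_of_injOn (s := (Finset.univ : Finset (Fin (t - 1))))
      (t := Finset.univ.filter
        (fun χ : Cfsg.IrrCharacter (Matrix.SpecialLinearGroup (Fin 2) F) =>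
        Cfsg.charDegree χ.1 = 2 * t + 1))
      (fun j => (⟨Cfsg.indFun (borelS F) (lamS (f j)),
        isIrrCharacter_indFun_lamS (f j) (hf2 j)⟩ :
          Cfsg.IrrCharacter (Matrix.SpecialLinearGroup (Fin 2) F)))
      (fun j _ => by
        simp only [Finset.coe_filter, Finset.mem_univ, true_and, Set.mem_setOf_eq]
        exact d_ps (f j))
      (fun i _ j _ h => hfinj (congrArg Subtype.val h))
    rwa [Finset.card_univ, Fintype.card_fin] at hle
  -- the number of the irreducible characters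
  have hnum : (Finset.univ : Finset (Cfsg.IrrCharacter
      (Matrix.SpecialLinearGroup (Fin 2) F))).card = 2 * t + 1 := by
    rw [Finset.card_univ, ← Nat.card_eq_fintype_card,
      Cfsg.Agent.Lib.Helper80.card_irr_eq_card_conjClasses, hcls, ht]
  rw [Finset.card_eq_sum_ones,
    Finset.sum_congr rfl (fun χ _ => one_indicator_decomp3 (2 * t) (2 * t + 1) (by omega)
      (by omega) (by omega) (Cfsg.charDegree χ.1))] at hnum
  simp only [Finset.sum_add_distrib, sum_ite_const_card, mul_one] at hnum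
  rw [N1, N2] at hnum
  -- the sum of the squares of the degrees
  have hG : Nat.card (Matrix.SpecialLinearGroup (Fin 2) F) =
      (2 * t) * (2 * t - 1) * (2 * t + 1) := by
    have h := card_SL2_complex (F := F)
    rw [ht] at h
    rw [Nat.card_eq_fintype_card]
    have h' : ((Fintype.card (Matrix.SpecialLinearGroup (Fin 2) F) : ℕ) : ℂ) =
        (((2 * t) * (2 * t - 1) * (2 * t + 1) : ℕ) : ℂ) := by
      have e : ((2 * t - 1 : ℕ) : ℂ) = 2 * (t : ℂ) - 1 := by
        rw [Nat.cast_sub (by omega)]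
        push_cast
        ring
      rw [h]
      push_cast
      rw [e]
      ring
    exact_mod_cast h'
  have hsum := Cfsg.Agent.Lib.Helper80.sum_charDegree_sq
    (G := Matrix.SpecialLinearGroup (Fin 2) F)
  rw [hG, Finset.sum_congr rfl (fun χ _ => sq_indicator_decomp3 (2 * t) (2 * t + 1) (by omega)
      (by omega) (by omega) (Cfsg.charDegree χ.1))] at hsum
  simp only [Finset.sum_add_distrib, sum_ite_const_card] at hsum
  rw [N1, N2, ← Finset.sum_filter] at hsum
  -- the remaining characters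
  have hO : ∀ χ ∈ Finset.univ.filter
      (fun χ : Cfsg.IrrCharacter (Matrix.SpecialLinearGroup (Fin 2) F) =>
        Cfsg.charDegree χ.1 ≠ 1 ∧ Cfsg.charDegree χ.1 ≠ 2 * t ∧
          Cfsg.charDegree χ.1 ≠ 2 * t + 1),
      (2 * t - 1) ^ 2 ≤ Cfsg.charDegree χ.1 ^ 2 := by
    intro χ hχ
    simp only [Finset.mem_filter, Finset.mem_univ, true_and] at hχ
    have hpos := Cfsg.Agent.Lib.Helper80.charDegree_pos χ.2
    rcases hcl χ with h | h | h | ⟨⟨k, hk⟩, -⟩
    · exact absurd h.2 hχ.1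
    · exact absurd h.2 hχ.2.1
    · exact absurd h hχ.2.2
    · have hk1 : 1 ≤ k := by
        rcases Nat.eq_zero_or_pos k with h0 | h0
        · rw [hk, h0] at hpos
          omega
        · exact h0
      rw [hk]
      exact Nat.pow_le_pow_left (Nat.le_mul_of_pos_right _ hk1) 2
  have hRle := Finset.card_nsmul_le_sum _ _ _ hO
  rw [smul_eq_mul] at hRle
  obtain ⟨hN3, hNO, hReq⟩ := sl2_even_count_arith t _ _ _ ht2 N3 hnum hRle hsum
  have hOeq : ∀ χ ∈ Finset.univ.filter
      (fun χ : Cfsg.IrrCharacter (Matrix.SpecialLinearGroup (Fin 2) F) =>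
        Cfsg.charDegree χ.1 ≠ 1 ∧ Cfsg.charDegree χ.1 ≠ 2 * t ∧
          Cfsg.charDegree χ.1 ≠ 2 * t + 1),
      Cfsg.charDegree χ.1 = 2 * t - 1 := by
    have h5 : ∑ χ ∈ Finset.univ.filter
        (fun χ : Cfsg.IrrCharacter (Matrix.SpecialLinearGroup (Fin 2) F) =>
          Cfsg.charDegree χ.1 ≠ 1 ∧ Cfsg.charDegree χ.1 ≠ 2 * t ∧
            Cfsg.charDegree χ.1 ≠ 2 * t + 1), (2 * t - 1) ^ 2 =
        ∑ χ ∈ Finset.univ.filter
        (fun χ : Cfsg.IrrCharacter (Matrix.SpecialLinearGroup (Fin 2) F) =>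
          Cfsg.charDegree χ.1 ≠ 1 ∧ Cfsg.charDegree χ.1 ≠ 2 * t ∧
            Cfsg.charDegree χ.1 ≠ 2 * t + 1), Cfsg.charDegree χ.1 ^ 2 := by
      rw [Finset.sum_const, smul_eq_mul, hReq]
    intro χ hχ
    have h6 := (Finset.sum_eq_sum_iff_of_le hO).mp h5 χ hχ
    exact (Nat.pow_left_injective (by norm_num : 2 ≠ 0) h6).symm
  have hcard : ∀ a : ℕ,
      Nat.card {χ : Cfsg.IrrCharacter (Matrix.SpecialLinearGroup (Fin 2) F) //
        Cfsg.charDegree χ.1 = a} = (Finset.univ.filter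
        (fun χ : Cfsg.IrrCharacter (Matrix.SpecialLinearGroup (Fin 2) F) =>
        Cfsg.charDegree χ.1 = a)).card := by
    intro a
    rw [Nat.card_eq_fintype_card, Fintype.card_subtype]
  refine ⟨?_, ?_, ?_, ?_, ?_⟩
  · intro χ
    by_cases hχ : Cfsg.charDegree χ.1 ≠ 1 ∧ Cfsg.charDegree χ.1 ≠ 2 * t ∧
        Cfsg.charDegree χ.1 ≠ 2 * t + 1
    · right; left
      exact hOeq χ (by simp only [Finset.mem_filter, Finset.mem_univ, true_and]; exact hχ)
    · omega
  · rw [hcard, N1]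
  · rw [hcard, N2]
  · rw [hcard, hN3]
  · rw [hcard]
    refine Eq.trans ?_ hNO
    congr 1
    ext χ
    simp only [Finset.mem_filter, Finset.mem_univ, true_and]
    constructor
    · intro h
      omega
    · intro h
      exact hOeq χ (by simp only [Finset.mem_filter, Finset.mem_univ, true_and]; exact h)

end EvenClass

end Cfsg.Agent.Lib.Helper39
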