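import Mathlib
import Cfsg.Prelude.Def_Characters
import Cfsg.Prelude.Def_ParabolicCharacters
import Cfsg.Prelude.Def_Blocks
import Cfsg.Agent.Lib.Helper39.SL2OddClass
import Cfsg.Agent.Lib.Helper39.SL2EvenClass

set_option autoImplicit false

namespace Cfsg.Agent.Lib.Helper39

open Matrix Representation
open scoped ComplexConjugate

universe u

section Deg

variable {F : Type u} [Field F] [Fintype F] [DecidableEq F]

/-- the Steinberg character of `SL₂(q)`, `q ≥ 4`, is the only irreducible character of degree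
`q`; it is trivial on the centre, and the other irreducible characters have degree `1`,
`q + 1`, `q - 1`, `(q + 1) / 2` or `(q - 1) / 2`. -/
theorem sl2_degree_q_unique (hq : 4 ≤ Fintype.card F)
    (hcls : ringChar F = 2 →
      Nat.card (ConjClasses (Matrix.SpecialLinearGroup (Fin 2) F)) = Fintype.card F + 1) :
    ∃ St : Matrix.SpecialLinearGroup (Fin 2) F → ℂ,
      Cfsg.IsIrrCharacter (Matrix.SpecialLinearGroup (Fin 2) F) St ∧
      Cfsg.charDegree St = Fintype.card F ∧
      (∀ z ∈ Subgroup.center (Matrix.SpecialLinearGroup (Fin 2) F), St z = St 1) ∧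
      ∀ χ : Matrix.SpecialLinearGroup (Fin 2) F → ℂ,
        Cfsg.IsIrrCharacter (Matrix.SpecialLinearGroup (Fin 2) F) χ →
        χ = St ∨ Cfsg.charDegree χ = 1 ∨ Cfsg.charDegree χ = Fintype.card F + 1 ∨
          Cfsg.charDegree χ + 1 = Fintype.card F ∨
          2 * Cfsg.charDegree χ = Fintype.card F + 1 ∨
          2 * Cfsg.charDegree χ + 1 = Fintype.card F := by
  classical
  obtain ⟨St, hSt, hπ1⟩ := sl2_steinberg_exists (F := F)
  have dSt : Cfsg.charDegree St = Fintype.card F := by
    apply charDegree_of_one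
    have h := congrFun hπ1 1
    rw [indFun_lamS_one] at h
    simp only [Pi.add_apply] at h
    linear_combination -h
  have hStz : ∀ z ∈ Subgroup.center (Matrix.SpecialLinearGroup (Fin 2) F), St z = St 1 := by
    intro z hz
    rcases (mem_center_iff_one_or_zSL z).mp hz with h | h
    · rw [h]
    · rw [h]
      have h1 := congrFun hπ1 zSL
      have h2 := congrFun hπ1 1
      have h3 := indFun_lamS_zSL_mul (1 : MulChar F ℂ) 1
      rw [mul_one, one_mulChar_neg_one, one_mul] at h3
      simp only [Pi.add_apply] at h1 h2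
      linear_combination -h1 + h2 + h3
  refine ⟨St, hSt, dSt, hStz, ?_⟩
  intro χ hχ
  by_cases h2 : ringChar F = 2
  · have heven := FiniteField.even_card_of_char_two h2
    obtain ⟨t, ht⟩ : ∃ t, Fintype.card F = 2 * t := ⟨Fintype.card F / 2, by omega⟩
    have ht2 : 2 ≤ t := by omega
    obtain ⟨hdeg, -, c2, -, -⟩ := sl2_even_class h2 t ht ht2 (hcls h2)
    have hd : Cfsg.charDegree χ = 1 ∨ Cfsg.charDegree χ = 2 * t - 1 ∨
        Cfsg.charDegree χ = 2 * t ∨ Cfsg.charDegree χ = 2 * t + 1 := hdeg ⟨χ, hχ⟩
    rcases hd with h | h | h | h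
    · right; left
      exact h
    · right; right; right; left
      omega
    · left
      have hsub := (Nat.card_eq_one_iff_unique.mp c2).1
      have heq := @Subsingleton.elim _ hsub
        (⟨⟨χ, hχ⟩, h⟩ : {χ : Cfsg.IrrCharacter (Matrix.SpecialLinearGroup (Fin 2) F) //
          Cfsg.charDegree χ.1 = 2 * t})
        ⟨⟨St, hSt⟩, by rw [dSt, ht]⟩
      exact congrArg (fun x => x.1.1) heq
    · right; right; left
      omega
  · have hodd' := FiniteField.odd_card_of_char_ne_two h2
    have hodd : Odd (Fintype.card F) := Nat.odd_iff.mpr hodd'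
    obtain ⟨r, hr⟩ : ∃ r, Fintype.card F = 2 * r + 1 := ⟨Fintype.card F / 2, by omega⟩
    have hr2 : 2 ≤ r := by omega
    obtain ⟨hdeg, -, c2, -, -, -, -⟩ := sl2_odd_class hodd r hr hr2
    have hd : Cfsg.charDegree χ = 1 ∨ Cfsg.charDegree χ = 2 * r + 1 ∨
        Cfsg.charDegree χ = 2 * r + 2 ∨ Cfsg.charDegree χ = 2 * r ∨
        Cfsg.charDegree χ = r + 1 ∨ Cfsg.charDegree χ = r := hdeg ⟨χ, hχ⟩
    rcases hd with h | h | h | h | h | h
    · right; left
      exact h
    · left
      have hsub := (Nat.card_eq_one_iff_unique.mp c2).1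
      have heq := @Subsingleton.elim _ hsub
        (⟨⟨χ, hχ⟩, h⟩ : {χ : Cfsg.IrrCharacter (Matrix.SpecialLinearGroup (Fin 2) F) //
          Cfsg.charDegree χ.1 = 2 * r + 1})
        ⟨⟨St, hSt⟩, by rw [dSt, hr]⟩
      exact congrArg (fun x => x.1.1) heq
    · right; right; left
      omega
    · right; right; right; left
      omega
    · right; right; right; right; left
      omega
    · right; right; right; right; right
      omega

end Deg

end Cfsg.Agent.Lib.Helper39
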