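import Mathlib
import Cfsg.Agent.Lib.Helper39.SL2McKay
import Cfsg.Agent.Lib.Helper39.Redundant
import Cfsg.Agent.Lib.Helper41.SL2Torus
import Cfsg.Agent.Lib.Helper41.SL2Sylow2
import Cfsg.Agent.Lib.Helper41.SL2Reg
import Cfsg.Agent.Lib.Helper41.SL2OddOrder

set_option autoImplicit false
set_option linter.unusedSectionVars false
set_option linter.style.haveILetI false

namespace Cfsg.Agent.Lib.Helper39

open Matrix
open Cfsg.Agent.Lib.Helper41

section RedundantSL2

variable {F : Type*} [Field F] [Fintype F]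

omit [Fintype F] in
/-- conjugating a nontrivial unitriangular element into the unitriangular group forces the
conjugating element to be upper triangular -/
theorem mem_borelS_of_conj_tSL (k : Matrix.SpecialLinearGroup (Fin 2) F) (a : F) (ha : a ≠ 0)
    (h : k * tSL a * k⁻¹ ∈ unipS F) : k ∈ borelS F := by
  rw [mem_borelS_iff]
  obtain ⟨y, hy⟩ := (mem_unipS_iff _).mp h
  have h2 : tSL y * k = k * tSL a := by
    rw [hy]
    group
  have h3 := congrArg (fun m : Matrix.SpecialLinearGroup (Fin 2) F =>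
    (m : Matrix (Fin 2) (Fin 2) F) 1 1) h2
  simp only [Matrix.SpecialLinearGroup.coe_mul, tSL_coe, Matrix.mul_apply, Fin.sum_univ_two] at h3
  simp at h3
  rcases h3 with h3 | h3
  · exact h3
  · exact absurd h3 ha

/-- in the defining characteristic no Sylow subgroup of `SL₂(q)` is redundant -/
theorem sl2_not_redundant_char (ℓ : ℕ) [Fact ℓ.Prime] (hℓq : ℓ ∣ Fintype.card F)
    (Q : Sylow ℓ (Matrix.SpecialLinearGroup (Fin 2) F)) :
    ¬ ∀ x : Matrix.SpecialLinearGroup (Fin 2) F, (∃ k : ℕ, orderOf x = ℓ ^ k) →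
      ∃ P : Sylow ℓ (Matrix.SpecialLinearGroup (Fin 2) F), P ≠ Q ∧ x ∈ P := by
  obtain ⟨g, hg⟩ := sylow_char_eq_conj ℓ hℓq Q
  have hN : Subgroup.normalizer ((Q : Subgroup (Matrix.SpecialLinearGroup (Fin 2) F)) :
      Set (Matrix.SpecialLinearGroup (Fin 2) F)) =
      (borelS F).map (MulAut.conj g).toMonoidHom := by
    rw [hg, ← Subgroup.map_equiv_normalizer_eq, normalizer_unipS]
  apply not_redundant_of_control Q (g * tSL 1 * g⁻¹)
  · show g * tSL 1 * g⁻¹ ∈ (Q : Subgroup (Matrix.SpecialLinearGroup (Fin 2) F))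
    rw [hg]
    exact ⟨tSL 1, (mem_unipS_iff _).mpr ⟨1, rfl⟩, rfl⟩
  · intro c hc
    have hc' : c * (g * tSL 1 * g⁻¹) * c⁻¹ ∈ (unipS F).map (MulAut.conj g).toMonoidHom := by
      rw [← hg]
      exact hc
    obtain ⟨u, hu, hue⟩ := hc'
    have hk : (g⁻¹ * c * g) * tSL 1 * (g⁻¹ * c * g)⁻¹ ∈ unipS F := by
      have h1 : g * u * g⁻¹ = c * (g * tSL 1 * g⁻¹) * c⁻¹ := hue
      have h2 : (g⁻¹ * c * g) * tSL 1 * (g⁻¹ * c * g)⁻¹ = u := by
        have h3 : u = g⁻¹ * (g * u * g⁻¹) * g := by group
        rw [h3, h1]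
        group
      rw [h2]
      exact hu
    have hkB : g⁻¹ * c * g ∈ borelS F := mem_borelS_of_conj_tSL _ 1 one_ne_zero hk
    rw [hN]
    refine ⟨g⁻¹ * c * g, hkB, ?_⟩
    show g * (g⁻¹ * c * g) * g⁻¹ = c
    group

/-- for an odd prime different from the characteristic the Sylow subgroups of `SL₂(q)` are
cyclic -/
theorem sl2_sylow_isCyclic (ℓ : ℕ) [Fact ℓ.Prime] (hℓ2 : ℓ ≠ 2) (hℓq : ¬ ℓ ∣ Fintype.card F)
    (P : Sylow ℓ (Matrix.SpecialLinearGroup (Fin 2) F)) :
    IsCyclic (P : Subgroup (Matrix.SpecialLinearGroup (Fin 2) F)) := by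
  have hℓp : ℓ.Prime := Fact.out
  by_cases hP : Subsingleton (P : Subgroup (Matrix.SpecialLinearGroup (Fin 2) F))
  · exact isCyclic_of_subsingleton
  · rw [not_subsingleton_iff_nontrivial] at hP
    have hcnt := IsPGroup.center_nontrivial (P.isPGroup')
    obtain ⟨z, hz⟩ := exists_ne
      (1 : Subgroup.center (P : Subgroup (Matrix.SpecialLinearGroup (Fin 2) F)))
    obtain ⟨x, hxdef⟩ : ∃ x : Matrix.SpecialLinearGroup (Fin 2) F,
        x = ((z : (P : Subgroup (Matrix.SpecialLinearGroup (Fin 2) F))) :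
          Matrix.SpecialLinearGroup (Fin 2) F) := ⟨_, rfl⟩
    have hxP : x ∈ (P : Subgroup (Matrix.SpecialLinearGroup (Fin 2) F)) := by
      rw [hxdef]
      exact (z : (P : Subgroup (Matrix.SpecialLinearGroup (Fin 2) F))).2
    have hx1 : x ≠ 1 := by
      intro h
      apply hz
      apply Subtype.ext
      apply Subtype.ext
      rw [← hxdef, h]
      rfl
    have hτ : x.1.trace * x.1.trace ≠ 4 := by
      intro h
      obtain ⟨p₀, hchar⟩ := CharP.exists F
      haveI := hchar
      obtain ⟨n, hp₀, hq⟩ := FiniteField.card F p₀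
      haveI : Fact p₀.Prime := ⟨hp₀⟩
      have h1 := pow_two_mul_char_of_trace_sq p₀ x h
      obtain ⟨k, hk⟩ := (IsPGroup.iff_orderOf.mp P.isPGroup') ⟨x, hxP⟩
      have hk' : orderOf x = ℓ ^ k := by rw [← hk, Subgroup.orderOf_mk]
      have hdvd : orderOf x ∣ 2 * p₀ := orderOf_dvd_of_pow_eq_one h1
      have hcop : Nat.Coprime (ℓ ^ k) (2 * p₀) := by
        apply Nat.Coprime.pow_left
        apply Nat.Coprime.mul_right
        · exact (Nat.coprime_primes hℓp Nat.prime_two).mpr hℓ2
        · apply (Nat.coprime_primes hℓp hp₀).mpr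
          intro h'
          apply hℓq
          rw [hq, h']
          exact dvd_pow_self _ n.ne_zero
      rw [hk'] at hdvd
      have h3 : ℓ ^ k = 1 := Nat.eq_one_of_dvd_coprimes hcop (dvd_refl _) hdvd
      rw [← hk'] at h3
      exact hx1 (orderOf_eq_one_iff.mp h3)
    have hle : (P : Subgroup (Matrix.SpecialLinearGroup (Fin 2) F)) ≤
        Subgroup.centralizer ({x} : Set (Matrix.SpecialLinearGroup (Fin 2) F)) := by
      intro y hy
      rw [Subgroup.mem_centralizer_singleton_iff]
      have := Subgroup.mem_center_iff.mp z.2 ⟨y, hy⟩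
      have h' := congrArg Subtype.val this
      rw [hxdef]
      exact h'
    haveI := isCyclic_centralizer_regular x hτ
    exact isCyclic_of_injective (Subgroup.inclusion hle) (Subgroup.inclusion_injective hle)

/-- a `2`-element of order at least `4` in `SL₂(q)`, `q` odd, is regular semisimple -/
theorem sl2_trace_sq_ne_of_orderOf (hodd : Odd (Fintype.card F))
    (x : Matrix.SpecialLinearGroup (Fin 2) F) (k : ℕ) (hk : 2 ≤ k) (hx : orderOf x = 2 ^ k) :
    x.1.trace * x.1.trace ≠ 4 := by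
  intro h
  obtain ⟨p₀, hchar⟩ := CharP.exists F
  haveI := hchar
  obtain ⟨n, hp₀, hq⟩ := FiniteField.card F p₀
  haveI : Fact p₀.Prime := ⟨hp₀⟩
  have h1 := pow_two_mul_char_of_trace_sq p₀ x h
  have hdvd : orderOf x ∣ 2 * p₀ := orderOf_dvd_of_pow_eq_one h1
  rw [hx] at hdvd
  have h4 : 2 ^ 2 ∣ 2 * p₀ := dvd_trans (pow_dvd_pow 2 hk) hdvd
  have h2p : 2 ∣ p₀ := by
    norm_num at h4
    omega
  have h5 : 2 ∣ Fintype.card F := by
    rw [hq]
    exact dvd_pow h2p n.ne_zero
  have := Nat.odd_iff.mp hodd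
  omega

theorem redundant_arith (q n c : ℕ) (hq2 : q % 2 = 1) (hq1 : 1 < q) (hn3 : 3 ≤ n)
    (h1 : ¬ 2 ^ n ∣ q - 1) (h2 : ¬ 2 ^ n ∣ q + 1) (hc : c = q - 1 ∨ c = q + 1)
    (hdvd : 2 ^ (n - 1) ∣ c) (hq : (∃ k : ℕ, q + 1 = 2 ^ k) ∨ (∃ k : ℕ, q = 2 ^ k + 1)) :
    c = 2 ^ (n - 1) := by
  rcases hq with ⟨k, hk⟩ | ⟨k, hk⟩
  · have hkn : k ≤ n - 1 := by
      by_contra hkn
      apply h2
      rw [hk]
      exact pow_dvd_pow 2 (by omega)
    have hle : 2 ^ k ≤ 2 ^ (n - 1) := Nat.pow_le_pow_right (by norm_num) hkn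
    rcases hc with hc | hc
    · exfalso
      rw [hc] at hdvd
      have := Nat.le_of_dvd (by omega) hdvd
      omega
    · rw [hc, hk] at hdvd
      have := (Nat.pow_dvd_pow_iff_le_right (by norm_num : 1 < 2)).mp hdvd
      have hkn' : k = n - 1 := by omega
      rw [hc, hk, hkn']
  · have hq' : q - 1 = 2 ^ k := by omega
    have hkn : k ≤ n - 1 := by
      by_contra hkn
      apply h1
      rw [hq']
      exact pow_dvd_pow 2 (by omega)
    rcases hc with hc | hc
    · rw [hc, hq'] at hdvd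
      have := (Nat.pow_dvd_pow_iff_le_right (by norm_num : 1 < 2)).mp hdvd
      have hkn' : k = n - 1 := by omega
      rw [hc, hq', hkn']
    · have hc' : c = 2 ^ k + 2 := by omega
      rw [hc'] at hdvd
      have h3 : 2 ^ k ∣ 2 ^ k + 2 := dvd_trans (pow_dvd_pow 2 hkn) hdvd
      have h4 : 2 ^ k ∣ 2 := (Nat.dvd_add_right (dvd_refl _)).mp h3
      have h5 : 2 ^ k ≤ 2 := Nat.le_of_dvd (by norm_num) h4
      have hk1 : k ≤ 1 := by
        by_contra hk1
        have : 2 ^ 2 ≤ 2 ^ k := Nat.pow_le_pow_right (by norm_num) (by omega)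
        omega
      have hk1' : k = 1 := by
        rcases Nat.lt_or_ge k 1 with h | h
        · exfalso
          have hk0 : k = 0 := by omega
          rw [hk0] at hk
          norm_num at hk
          omega
        · omega
      rw [hk1'] at hdvd hc'
      have h6 : 2 ^ (n - 1) ∣ 2 ^ 2 := by
        norm_num
        norm_num at hdvd
        exact hdvd
      have := (Nat.pow_dvd_pow_iff_le_right (by norm_num : 1 < 2)).mp h6
      have hn' : n - 1 = 2 := by omega
      rw [hc', hn']
      norm_num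

/-- a Sylow `2`-subgroup `P` of `SL₂(q)`, `q` odd, containing an element `t` of order `|P|/2`
whose centraliser is `⟨t⟩`, is the normaliser of that centraliser -/
theorem sl2_sylow_two_eq_normalizer (hodd : Odd (Fintype.card F))
    (P : Sylow 2 (Matrix.SpecialLinearGroup (Fin 2) F)) (n : ℕ)
    (hn : Nat.card (P : Subgroup (Matrix.SpecialLinearGroup (Fin 2) F)) = 2 ^ n) (hn3 : 3 ≤ n)
    (t : Matrix.SpecialLinearGroup (Fin 2) F)
    (htP : t ∈ (P : Subgroup (Matrix.SpecialLinearGroup (Fin 2) F)))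
    (hot : orderOf t = 2 ^ (n - 1))
    (hC : Nat.card (Subgroup.centralizer ({t} : Set (Matrix.SpecialLinearGroup (Fin 2) F))) =
      2 ^ (n - 1)) :
    (P : Subgroup (Matrix.SpecialLinearGroup (Fin 2) F)) =
      Subgroup.normalizer
        (Subgroup.centralizer ({t} : Set (Matrix.SpecialLinearGroup (Fin 2) F)) :
          Set (Matrix.SpecialLinearGroup (Fin 2) F)) := by
  have h2 : (2 : F) ≠ 0 := Cfsg.Agent.Lib.Helper5.two_ne_zero_of_odd_card hodd
  have hτ := sl2_trace_sq_ne_of_orderOf hodd t (n - 1) (by omega) hot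
  have htC : t ∈ Subgroup.centralizer ({t} : Set (Matrix.SpecialLinearGroup (Fin 2) F)) := by
    rw [Subgroup.mem_centralizer_singleton_iff]
  have hCz : Subgroup.zpowers t =
      Subgroup.centralizer ({t} : Set (Matrix.SpecialLinearGroup (Fin 2) F)) := by
    apply Subgroup.eq_of_le_of_card_ge
    · rw [Subgroup.zpowers_le]
      exact htC
    · rw [Nat.card_zpowers, hot, hC]
  have hzP : Subgroup.zpowers t ≤ (P : Subgroup (Matrix.SpecialLinearGroup (Fin 2) F)) := by
    rw [Subgroup.zpowers_le]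
    exact htP
  have hpow : 2 ^ n = 2 * 2 ^ (n - 1) := by
    rw [← pow_succ']
    congr 1
    omega
  have hidx : ((Subgroup.zpowers t).subgroupOf
      (P : Subgroup (Matrix.SpecialLinearGroup (Fin 2) F))).index = 2 := by
    have h := Subgroup.index_mul_card ((Subgroup.zpowers t).subgroupOf
      (P : Subgroup (Matrix.SpecialLinearGroup (Fin 2) F)))
    rw [Nat.card_congr (Subgroup.subgroupOfEquivOfLe hzP).toEquiv, Nat.card_zpowers, hot, hn,
      hpow] at h
    have hpos : 0 < 2 ^ (n - 1) := Nat.pos_of_ne_zero (by positivity)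
    exact Nat.eq_of_mul_eq_mul_right hpos h
  have hnorm := Subgroup.normal_of_index_eq_two hidx
  apply Subgroup.eq_of_le_of_card_ge
  · intro g hg
    rw [mem_normalizer_centralizer_iff h2 t hτ g]
    have h1 := hnorm.conj_mem ⟨t, htP⟩ (by
      rw [Subgroup.mem_subgroupOf]
      exact Subgroup.mem_zpowers t) ⟨g, hg⟩
    rw [Subgroup.mem_subgroupOf] at h1
    have h3 : g * t * g⁻¹ ∈ Subgroup.zpowers t := h1
    rw [hCz, Subgroup.mem_centralizer_singleton_iff] at h3
    exact regular_conj_cases h2 t (g * t * g⁻¹) hτ (trace_conj g t) h3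
  · rw [card_normalizer_centralizer h2 t hτ, hC, hn, hpow]

/-- if `q ± 1` is a power of `2`, no Sylow `2`-subgroup of `SL₂(q)` is redundant -/
theorem sl2_not_redundant_two (hodd : Odd (Fintype.card F))
    (hq : (∃ k : ℕ, Fintype.card F + 1 = 2 ^ k) ∨ (∃ k : ℕ, Fintype.card F = 2 ^ k + 1))
    (Q : Sylow 2 (Matrix.SpecialLinearGroup (Fin 2) F)) :
    ¬ ∀ x : Matrix.SpecialLinearGroup (Fin 2) F, (∃ k : ℕ, orderOf x = 2 ^ k) →
      ∃ P : Sylow 2 (Matrix.SpecialLinearGroup (Fin 2) F), P ≠ Q ∧ x ∈ P := by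
  intro h
  have h2 : (2 : F) ≠ 0 := Cfsg.Agent.Lib.Helper5.two_ne_zero_of_odd_card hodd
  have hq1 : 1 < Fintype.card F := Fintype.one_lt_card
  obtain ⟨n, t, hn, hn3, htQ, hot, hτ, -, -⟩ := sylow_two_structure hodd Q
  obtain ⟨n', hn', -, hd1, hd2, -, -, -⟩ := sylow_two_card hodd Q
  have hnn : n' = n := by
    rw [hn] at hn'
    exact (Nat.pow_right_injective (le_refl 2) hn').symm
  rw [hnn] at hd1 hd2
  have htc := not_mem_center_of_trace h2 t hτ
  have htC : t ∈ Subgroup.centralizer ({t} : Set (Matrix.SpecialLinearGroup (Fin 2) F)) := by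
    rw [Subgroup.mem_centralizer_singleton_iff]
  have hdvd : 2 ^ (n - 1) ∣
      Nat.card (Subgroup.centralizer ({t} : Set (Matrix.SpecialLinearGroup (Fin 2) F))) := by
    rw [← hot]
    have := orderOf_dvd_natCard (⟨t, htC⟩ :
      Subgroup.centralizer ({t} : Set (Matrix.SpecialLinearGroup (Fin 2) F)))
    rwa [Subgroup.orderOf_mk] at this
  have hC : Nat.card (Subgroup.centralizer ({t} : Set (Matrix.SpecialLinearGroup (Fin 2) F))) =
      2 ^ (n - 1) := by
    apply redundant_arith (Fintype.card F) n _ (Nat.odd_iff.mp hodd) hq1 hn3 hd1 hd2 _ hdvd hq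
    rcases card_centralizer_cases h2 t htc with ⟨h', _⟩ | ⟨_, h'⟩ | ⟨_, h'⟩
    · exact absurd h' hτ
    · left
      exact h'
    · right
      exact h'
  obtain ⟨P, hPQ, htP⟩ := h t ⟨n - 1, hot⟩
  have hnP : Nat.card (P : Subgroup (Matrix.SpecialLinearGroup (Fin 2) F)) = 2 ^ n := by
    rw [Sylow.card_eq_multiplicity, ← hn, Sylow.card_eq_multiplicity]
  apply hPQ
  apply Sylow.ext
  rw [sl2_sylow_two_eq_normalizer hodd P n hnP hn3 t htP hot hC,
    sl2_sylow_two_eq_normalizer hodd Q n hn hn3 t htQ hot hC]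

/-- an element of odd order centralising an element of order `|Q|/2` of a Sylow `2`-subgroup
`Q` of `SL₂(q)`, `q` odd, does not normalise `Q` -/
theorem sl2_not_normalizer_sylow_two (hodd : Odd (Fintype.card F))
    (Q : Sylow 2 (Matrix.SpecialLinearGroup (Fin 2) F)) (n : ℕ)
    (hn : Nat.card (Q : Subgroup (Matrix.SpecialLinearGroup (Fin 2) F)) = 2 ^ n) (hn3 : 3 ≤ n)
    (t : Matrix.SpecialLinearGroup (Fin 2) F)
    (htQ : t ∈ (Q : Subgroup (Matrix.SpecialLinearGroup (Fin 2) F)))
    (hot : orderOf t = 2 ^ (n - 1))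
    (g : Matrix.SpecialLinearGroup (Fin 2) F) (hg : g * t = t * g) (m : ℕ) (hm : Odd m)
    (hgm : g ^ m = 1) (hg1 : g ≠ 1) :
    g ∉ Subgroup.normalizer ((Q : Subgroup (Matrix.SpecialLinearGroup (Fin 2) F)) :
      Set (Matrix.SpecialLinearGroup (Fin 2) F)) := by
  intro hgN
  have hpow4 : 2 ^ 2 ≤ 2 ^ (n - 1) := Nat.pow_le_pow_right (by norm_num) (by omega)
  have htc : t ∉ Subgroup.center (Matrix.SpecialLinearGroup (Fin 2) F) := by
    intro hc
    have htt := mul_self_of_mem_center t hc
    have hdvd : orderOf t ∣ 2 := orderOf_dvd_of_pow_eq_one (by rw [pow_two]; exact htt)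
    rw [hot] at hdvd
    have hle := Nat.le_of_dvd (by norm_num) hdvd
    omega
  have hgc : g ∉ Subgroup.center (Matrix.SpecialLinearGroup (Fin 2) F) := by
    intro hc
    have hgg := mul_self_of_mem_center g hc
    exact hg1 (eq_one_of_pow_odd_of_pow_two g m 1 hm hgm (by rw [pow_one, pow_two]; exact hgg))
  obtain ⟨s, hsQ, hsC⟩ : ∃ s ∈ (Q : Subgroup (Matrix.SpecialLinearGroup (Fin 2) F)),
      s ∉ Subgroup.centralizer ({t} : Set (Matrix.SpecialLinearGroup (Fin 2) F)) := by
    by_contra hno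
    push Not at hno
    exact sylow_two_not_le_centralizer hodd Q t htc hno
  have hzC : Subgroup.zpowers t ≤
      Subgroup.centralizer ({t} : Set (Matrix.SpecialLinearGroup (Fin 2) F)) := by
    rw [Subgroup.zpowers_le, Subgroup.mem_centralizer_singleton_iff]
  have hst : s ∉ Subgroup.zpowers t := fun h => hsC (hzC h)
  have hzQ : Subgroup.zpowers t ≤ (Q : Subgroup (Matrix.SpecialLinearGroup (Fin 2) F)) := by
    rw [Subgroup.zpowers_le]
    exact htQ
  have hpow : 2 ^ n = 2 * 2 ^ (n - 1) := by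
    rw [← pow_succ']
    congr 1
    omega
  have hidx : ((Subgroup.zpowers t).subgroupOf
      (Q : Subgroup (Matrix.SpecialLinearGroup (Fin 2) F))).index = 2 := by
    have h := Subgroup.index_mul_card ((Subgroup.zpowers t).subgroupOf
      (Q : Subgroup (Matrix.SpecialLinearGroup (Fin 2) F)))
    rw [Nat.card_congr (Subgroup.subgroupOfEquivOfLe hzQ).toEquiv, Nat.card_zpowers, hot, hn,
      hpow] at h
    have hpos : 0 < 2 ^ (n - 1) := Nat.pos_of_ne_zero (by positivity)
    exact Nat.eq_of_mul_eq_mul_right hpos h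
  have hgu : ∀ u ∈ Subgroup.zpowers t, g * u = u * g := by
    intro u hu
    obtain ⟨i, rfl⟩ := Subgroup.mem_zpowers_iff.mp hu
    exact Commute.zpow_right hg i
  have hgsQ : g * s * g⁻¹ ∈ (Q : Subgroup (Matrix.SpecialLinearGroup (Fin 2) F)) :=
    (Subgroup.mem_normalizer_iff.mp hgN s).mp hsQ
  have hgst : g * s * g⁻¹ ∉ Subgroup.zpowers t := by
    intro h
    apply hst
    have h1 := hgu _ h
    have h2 : s = g * s * g⁻¹ := by
      calc s = g⁻¹ * ((g * s * g⁻¹) * g) := by group
        _ = g⁻¹ * (g * (g * s * g⁻¹)) := by rw [h1]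
        _ = g * s * g⁻¹ := by group
    rw [h2]
    exact h
  obtain ⟨u, hudef⟩ : ∃ u : Matrix.SpecialLinearGroup (Fin 2) F, u = s⁻¹ * (g * s * g⁻¹) :=
    ⟨_, rfl⟩
  have hut : u ∈ Subgroup.zpowers t := by
    have h1 := (Subgroup.mul_mem_iff_of_index_two hidx
      (a := (⟨s⁻¹, Subgroup.inv_mem _ hsQ⟩ :
        (Q : Subgroup (Matrix.SpecialLinearGroup (Fin 2) F))))
      (b := (⟨g * s * g⁻¹, hgsQ⟩ :
        (Q : Subgroup (Matrix.SpecialLinearGroup (Fin 2) F))))).mpr (by
        rw [Subgroup.mem_subgroupOf, Subgroup.mem_subgroupOf]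
        constructor
        · intro h
          exact absurd ((Subgroup.inv_mem_iff _).mp h) hst
        · intro h
          exact absurd h hgst)
    rw [Subgroup.mem_subgroupOf] at h1
    rw [hudef]
    exact h1
  have hconj : g * s * g⁻¹ = s * u := by
    rw [hudef]
    group
  have hind : ∀ k : ℕ, g ^ k * s * (g ^ k)⁻¹ = s * u ^ k := by
    intro k
    induction k with
    | zero => simp
    | succ k ih =>
      have h1 : g ^ (k + 1) * s * (g ^ (k + 1))⁻¹ = g * (g ^ k * s * (g ^ k)⁻¹) * g⁻¹ := by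
        rw [pow_succ']
        group
      have h2 : g * u ^ k = u ^ k * g := Commute.pow_right (hgu u hut) k
      rw [h1, ih]
      have h3 : g * (s * u ^ k) * g⁻¹ = (g * s * g⁻¹) * (g * u ^ k * g⁻¹) := by group
      rw [h3, h2, hconj, pow_succ']
      group
  have hum : u ^ m = 1 := by
    have h1 := hind m
    rw [hgm] at h1
    simpa using h1.symm
  have huQ : u ∈ (Q : Subgroup (Matrix.SpecialLinearGroup (Fin 2) F)) := hzQ hut
  obtain ⟨j, hj⟩ := Q.isPGroup' ⟨u, huQ⟩
  have hj' : u ^ (2 ^ j) = 1 := by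
    have := congrArg Subtype.val hj
    simpa using this
  have hu1 : u = 1 := eq_one_of_pow_odd_of_pow_two u m j hm hum hj'
  rw [hu1, mul_one] at hconj
  have hsg : s ∈ Subgroup.centralizer ({g} : Set (Matrix.SpecialLinearGroup (Fin 2) F)) := by
    rw [Subgroup.mem_centralizer_singleton_iff]
    calc s * g = (g * s * g⁻¹) * g := by rw [hconj]
      _ = g * s := by group
  have hgC : g ∈ Subgroup.centralizer ({t} : Set (Matrix.SpecialLinearGroup (Fin 2) F)) := by
    rw [Subgroup.mem_centralizer_singleton_iff]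
    exact hg
  rw [centralizer_eq_of_mem t g htc hgc hgC] at hsg
  exact hsC hsg

/-- when neither `q - 1` nor `q + 1` is a power of `2`, the centraliser of a `2`-element of
order at least `4` of `SL₂(q)` contains a nontrivial element of odd order -/
theorem sl2_exists_odd_centralizing (hodd : Odd (Fintype.card F))
    (h1 : ¬ ∃ k : ℕ, Fintype.card F + 1 = 2 ^ k) (h3 : ¬ ∃ k : ℕ, Fintype.card F = 2 ^ k + 1)
    (y : Matrix.SpecialLinearGroup (Fin 2) F) (j : ℕ) (hj : 2 ≤ j) (hy : orderOf y = 2 ^ j) :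
    ∃ g : Matrix.SpecialLinearGroup (Fin 2) F, g * y = y * g ∧
      ∃ r : ℕ, Odd r ∧ g ^ r = 1 ∧ g ≠ 1 := by
  have h2 : (2 : F) ≠ 0 := Cfsg.Agent.Lib.Helper5.two_ne_zero_of_odd_card hodd
  have hq1 : 1 < Fintype.card F := Fintype.one_lt_card
  have hτ := sl2_trace_sq_ne_of_orderOf hodd y j hj hy
  have hyc := not_mem_center_of_trace h2 y hτ
  have hnp : ¬ ∃ k : ℕ, Nat.card (Subgroup.centralizer
      ({y} : Set (Matrix.SpecialLinearGroup (Fin 2) F))) = 2 ^ k := by
    rintro ⟨k, hk⟩
    rcases card_centralizer_cases h2 y hyc with ⟨h', _⟩ | ⟨_, h'⟩ | ⟨_, h'⟩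
    · exact hτ h'
    · apply h3
      refine ⟨k, ?_⟩
      rw [h'] at hk
      omega
    · apply h1
      refine ⟨k, ?_⟩
      rw [h'] at hk
      exact hk
  rcases Nat.eq_two_pow_or_exists_odd_prime_and_dvd (Nat.card (Subgroup.centralizer
      ({y} : Set (Matrix.SpecialLinearGroup (Fin 2) F)))) with h | ⟨r, hr, hrd, hro⟩
  · exact absurd h hnp
  · haveI : Fact r.Prime := ⟨hr⟩
    obtain ⟨g, hg⟩ := exists_prime_orderOf_dvd_card' r hrd
    refine ⟨g.1, ?_, r, hro, ?_, ?_⟩
    · exact Subgroup.mem_centralizer_singleton_iff.mp g.2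
    · rw [← Subgroup.orderOf_coe] at hg
      rw [← hg]
      exact pow_orderOf_eq_one _
    · intro h
      rw [← Subgroup.orderOf_coe, h, orderOf_one] at hg
      exact hr.one_lt.ne hg

/-- when `q` is odd and neither `q - 1` nor `q + 1` is a power of `2`, every Sylow
`2`-subgroup of `SL₂(q)` is redundant -/
theorem sl2_redundant_two (hodd : Odd (Fintype.card F))
    (h1 : ¬ ∃ k : ℕ, Fintype.card F + 1 = 2 ^ k) (h3 : ¬ ∃ k : ℕ, Fintype.card F = 2 ^ k + 1)
    (Q : Sylow 2 (Matrix.SpecialLinearGroup (Fin 2) F)) :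
    ∀ x : Matrix.SpecialLinearGroup (Fin 2) F, (∃ k : ℕ, orderOf x = 2 ^ k) →
      ∃ P : Sylow 2 (Matrix.SpecialLinearGroup (Fin 2) F), P ≠ Q ∧ x ∈ P := by
  rintro x ⟨k, hk⟩
  have h2 : (2 : F) ≠ 0 := Cfsg.Agent.Lib.Helper5.two_ne_zero_of_odd_card hodd
  by_cases hxQ : x ∈ Q
  swap
  · have hp : IsPGroup 2 (Subgroup.zpowers x) :=
      IsPGroup.of_card (n := k) (by rw [Nat.card_zpowers, hk])
    obtain ⟨P, hP⟩ := hp.exists_le_sylow
    refine ⟨P, ?_, hP (Subgroup.mem_zpowers x)⟩
    intro h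
    apply hxQ
    rw [← h]
    exact hP (Subgroup.mem_zpowers x)
  · obtain ⟨n, t, hn, hn3, htQ, hot, hneg, -, hidx, hinv⟩ := sylow_two_data hodd Q
    have hpow4 : 2 ^ 2 ≤ 2 ^ (n - 1) := Nat.pow_le_pow_right (by norm_num) (by omega)
    by_cases hxt : x ∈ Subgroup.zpowers t
    · obtain ⟨g, hgt, r, hr, hgr, hg1⟩ :=
        sl2_exists_odd_centralizing hodd h1 h3 t (n - 1) (by omega) hot
      apply exists_sylow_ne_of_commute Q x g hxQ
      · obtain ⟨i, rfl⟩ := Subgroup.mem_zpowers_iff.mp hxt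
        exact Commute.zpow_right hgt i
      · exact sl2_not_normalizer_sylow_two hodd Q n hn hn3 t htQ hot g hgt r hr hgr hg1
    · have hfour : ∀ s ∈ (Q : Subgroup (Matrix.SpecialLinearGroup (Fin 2) F)),
          s ∉ Subgroup.zpowers t → s ^ 4 = 1 := by
        intro s hsQ hst
        have hss : s * s ∈ Subgroup.zpowers t := by
          have h4 := (Subgroup.mul_mem_iff_of_index_two hidx
            (a := (⟨s, hsQ⟩ : (Q : Subgroup (Matrix.SpecialLinearGroup (Fin 2) F))))
            (b := (⟨s, hsQ⟩ : (Q : Subgroup (Matrix.SpecialLinearGroup (Fin 2) F))))).mpr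
            Iff.rfl
          rw [Subgroup.mem_subgroupOf] at h4
          exact h4
        have h5 := hinv s hsQ hst (s * s) hss
        have h6 : s * (s * s) * s⁻¹ = s * s := by group
        rw [h6] at h5
        have h7 : s * s * (s * s) = 1 := mul_eq_one_iff_eq_inv.mpr h5
        have h8 : s ^ 4 = s * s * (s * s) := by
          simp [pow_succ, mul_assoc]
        rw [h8, h7]
      have hx4 : x ^ 4 = 1 := hfour x hxQ hxt
      have hx2 : ¬ x ^ 2 ^ 1 = 1 := by
        intro h
        rw [pow_one] at h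
        apply hxt
        have hmat : x.1 * x.1 = 1 := by
          rw [← Matrix.SpecialLinearGroup.coe_mul, ← pow_two, h]
          rfl
        rcases mem_center_cases x ((sl2_mem_center_iff x).mpr (sl2_sq_eq_one h2 x hmat))
          with h' | h'
        · rw [h']
          exact Subgroup.one_mem _
        · rw [h']
          exact hneg
      have hox : orderOf x = 2 ^ (1 + 1) := orderOf_eq_prime_pow hx2 (by
        norm_num
        exact hx4)
      obtain ⟨g, hgx, r, hr, hgr, hg1⟩ :=
        sl2_exists_odd_centralizing hodd h1 h3 x 2 le_rfl hox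
      apply exists_sylow_ne_of_commute Q x g hxQ hgx
      by_cases hn3' : n = 3
      · subst hn3'
        exact sl2_not_normalizer_sylow_two hodd Q 3 hn le_rfl x hxQ hox g hgx r hr hgr hg1
      · intro hgN
        have hτ := sl2_trace_sq_ne_of_orderOf hodd t (n - 1) (by omega) hot
        have htc := not_mem_center_of_trace h2 t hτ
        have hgtQ : g * t * g⁻¹ ∈ (Q : Subgroup (Matrix.SpecialLinearGroup (Fin 2) F)) :=
          (Subgroup.mem_normalizer_iff.mp hgN t).mp htQ
        have hgtt : g * t * g⁻¹ ∈ Subgroup.zpowers t := by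
          by_contra hnot
          have h4 := hfour _ hgtQ hnot
          rw [conj_pow] at h4
          have h5 : t ^ 4 = 1 := by
            have h6 : t ^ 4 = g⁻¹ * (g * t ^ 4 * g⁻¹) * g := by group
            rw [h6, h4]
            group
          have h7 : orderOf t ∣ 4 := orderOf_dvd_of_pow_eq_one h5
          rw [hot] at h7
          have h8 : 2 ^ (n - 1) ∣ 2 ^ 2 := by
            norm_num
            exact h7
          have := (Nat.pow_dvd_pow_iff_le_right (by norm_num : 1 < 2)).mp h8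
          omega
        have hcomm : g * t * g⁻¹ * t = t * (g * t * g⁻¹) := by
          obtain ⟨i, hi⟩ := Subgroup.mem_zpowers_iff.mp hgtt
          rw [← hi]
          exact (Commute.zpow_left (Commute.refl t) i)
        have hgt : g * t = t * g := by
          rcases regular_conj_cases h2 t (g * t * g⁻¹) hτ (trace_conj g t) hcomm with h | h
          · calc g * t = (g * t * g⁻¹) * g := by group
              _ = t * g := by rw [h]
          · have hgti : g * t⁻¹ = t * g := by
              have h9 : g * t⁻¹ * g⁻¹ = t := by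
                have h10 : g * t⁻¹ * g⁻¹ = (g * t * g⁻¹)⁻¹ := by group
                rw [h10, h, inv_inv]
              calc g * t⁻¹ = (g * t⁻¹ * g⁻¹) * g := by group
                _ = t * g := by rw [h9]
            have hgt' : g * t = t⁻¹ * g := by
              calc g * t = (g * t * g⁻¹) * g := by group
                _ = t⁻¹ * g := by rw [h]
            have hgg : (g * g) * t = t * (g * g) := by
              calc (g * g) * t = g * (g * t) := by group
                _ = g * (t⁻¹ * g) := by rw [hgt']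
                _ = (g * t⁻¹) * g := by group
                _ = (t * g) * g := by rw [hgti]
                _ = t * (g * g) := by group
            obtain ⟨i, hi⟩ := hr
            have hgpow : g = (g * g) ^ (i + 1) := by
              have h11 : (g * g) ^ (i + 1) = g ^ (2 * i + 1) * g := by
                rw [← pow_two, ← pow_mul, ← pow_succ]
                congr 1
              rw [h11, ← hi, hgr, one_mul]
            rw [hgpow]
            exact Commute.pow_left hgg (i + 1)
        have hgc : g ∉ Subgroup.center (Matrix.SpecialLinearGroup (Fin 2) F) := by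
          intro hc
          have hgg := mul_self_of_mem_center g hc
          exact hg1 (eq_one_of_pow_odd_of_pow_two g r 1 hr hgr (by
            rw [pow_one, pow_two]
            exact hgg))
        have hgC : g ∈ Subgroup.centralizer
            ({t} : Set (Matrix.SpecialLinearGroup (Fin 2) F)) := by
          rw [Subgroup.mem_centralizer_singleton_iff]
          exact hgt
        have hxg : x ∈ Subgroup.centralizer
            ({g} : Set (Matrix.SpecialLinearGroup (Fin 2) F)) := by
          rw [Subgroup.mem_centralizer_singleton_iff]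
          exact hgx.symm
        rw [centralizer_eq_of_mem t g htc hgc hgC, Subgroup.mem_centralizer_singleton_iff] at hxg
        have h12 := hinv x hxQ hxt t (Subgroup.mem_zpowers t)
        have h13 : x * t * x⁻¹ = t := by
          rw [hxg]
          group
        rw [h13] at h12
        have h14 : t * t = 1 := mul_eq_one_iff_eq_inv.mpr h12
        have h15 : orderOf t ∣ 2 := orderOf_dvd_of_pow_eq_one (by rw [pow_two]; exact h14)
        rw [hot] at h15
        have := Nat.le_of_dvd (by norm_num) h15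
        omega

/-- `SL₂(q)` has a redundant Sylow `p`-subgroup exactly when `p = 2` and none of `q + 1`, `q`,
`q - 1` is a power of `2` -/
theorem sl2_redundant_iff (p : ℕ) [Fact p.Prime] :
    (∃ Q : Sylow p (Matrix.SpecialLinearGroup (Fin 2) F),
      ∀ x : Matrix.SpecialLinearGroup (Fin 2) F,
        (∃ k : ℕ, orderOf x = p ^ k) →
          ∃ P : Sylow p (Matrix.SpecialLinearGroup (Fin 2) F), P ≠ Q ∧ x ∈ P) ↔
      (p = 2 ∧ (¬ ∃ k : ℕ, Fintype.card F + 1 = 2 ^ k) ∧ (¬ ∃ k : ℕ, Fintype.card F = 2 ^ k) ∧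
        ¬ ∃ k : ℕ, Fintype.card F = 2 ^ k + 1) := by
  have hq1 : 1 < Fintype.card F := Fintype.one_lt_card
  constructor
  · rintro ⟨Q, hQ⟩
    have hpq : ¬ p ∣ Fintype.card F := fun h => sl2_not_redundant_char p h Q hQ
    have hp2 : p = 2 := by
      by_contra hp2
      exact not_redundant_of_isCyclic Q (sl2_sylow_isCyclic p hp2 hpq Q) hQ
    subst hp2
    have hodd : Odd (Fintype.card F) := by
      rw [Nat.odd_iff]
      omega
    refine ⟨rfl, ?_, ?_, ?_⟩
    · intro h
      exact sl2_not_redundant_two hodd (Or.inl h) Q hQ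
    · rintro ⟨k, hk⟩
      apply hpq
      rw [hk]
      apply dvd_pow_self
      rintro rfl
      rw [pow_zero] at hk
      omega
    · intro h
      exact sl2_not_redundant_two hodd (Or.inr h) Q hQ
  · rintro ⟨rfl, h1, h2, h3⟩
    have hodd : Odd (Fintype.card F) := by
      obtain ⟨p₀, hchar⟩ := CharP.exists F
      haveI := hchar
      obtain ⟨n, hp₀, hq⟩ := FiniteField.card F p₀
      rw [Nat.odd_iff]
      by_contra hne
      have h2q : 2 ∣ Fintype.card F := by omega
      rw [hq] at h2q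
      have h2p : 2 ∣ p₀ := Nat.Prime.dvd_of_dvd_pow Nat.prime_two h2q
      have hp2 : 2 = p₀ := (Nat.prime_dvd_prime_iff_eq Nat.prime_two hp₀).mp h2p
      apply h2
      refine ⟨n, ?_⟩
      rw [hq, ← hp2]
    obtain ⟨Q⟩ := (inferInstance : Nonempty (Sylow 2 (Matrix.SpecialLinearGroup (Fin 2) F)))
    exact ⟨Q, sl2_redundant_two hodd h1 h3 Q⟩

end RedundantSL2

end Cfsg.Agent.Lib.Helper39
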