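import Mathlib

/-!
# 2-elements of symmetric groups lying in a unique Sylow 2-subgroup

Helper library for S4349.  The main tool is the canonical involution `wPerm x` attached to a
2-element `x` with at most two fixed points and pairwise distinct cycle lengths.
-/

set_option autoImplicit false

namespace Cfsg.Agent.Lib.Helper39.Syl2

open Equiv Function

variable {Ω : Type*}

/-- `(x ^ i) y = y` iff the minimal period divides `i`. -/
theorem pow_apply_eq_iff (x : Perm Ω) (y : Ω) (i : ℕ) :
    (x ^ i) y = y ↔ minimalPeriod (⇑x) y ∣ i := by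
  rw [← isPeriodicPt_iff_minimalPeriod_dvd, IsPeriodicPt, IsFixedPt, Equiv.Perm.iterate_eq_pow]

/-- The hypotheses on `x`: a 2-element, at most two fixed points, distinct cycle lengths. -/
structure Good (x : Perm Ω) : Prop where
  two_pow : ∃ k : ℕ, x ^ (2 ^ k) = 1
  fix : ∀ a b c : Ω, x a = a → x b = b → x c = c → a = b ∨ a = c ∨ b = c
  cyc : ∀ y y' : Ω, minimalPeriod (⇑x) y = minimalPeriod (⇑x) y' → x y ≠ y → x.SameCycle y y'

theorem per_eq_of_iff {Ω' : Type*} (x : Perm Ω) (x' : Perm Ω') (a : Ω) (b : Ω')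
    (h : ∀ n : ℕ, (x ^ n) a = a ↔ (x' ^ n) b = b) :
    minimalPeriod (⇑x) a = minimalPeriod (⇑x') b := by
  rw [minimalPeriod_eq_minimalPeriod_iff]
  intro n
  simp only [IsPeriodicPt, IsFixedPt, Equiv.Perm.iterate_eq_pow]
  exact h n

theorem per_eq_one_iff (x : Perm Ω) (y : Ω) : minimalPeriod (⇑x) y = 1 ↔ x y = y := by
  rw [minimalPeriod_eq_one_iff_isFixedPt]; rfl

theorem per_pow_apply (x : Perm Ω) (y : Ω) (i : ℕ) :
    minimalPeriod (⇑x) ((x ^ i) y) = minimalPeriod (⇑x) y := by
  apply per_eq_of_iff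
  intro n
  rw [← Perm.mul_apply, ← pow_add, add_comm, pow_add, Perm.mul_apply]
  exact (x ^ i).injective.eq_iff

theorem Good.per_two_pow {x : Perm Ω} (hx : Good x) (y : Ω) :
    ∃ j : ℕ, minimalPeriod (⇑x) y = 2 ^ j := by
  obtain ⟨k, hk⟩ := hx.two_pow
  have : minimalPeriod (⇑x) y ∣ 2 ^ k := by
    rw [← pow_apply_eq_iff, hk]; rfl
  obtain ⟨j, -, hj⟩ := (Nat.dvd_prime_pow Nat.prime_two).1 this
  exact ⟨j, hj⟩

/-- for a non-fixed point the period is even -/
theorem Good.per_even {x : Perm Ω} (hx : Good x) {y : Ω} (hy : x y ≠ y) :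
    minimalPeriod (⇑x) y = 2 * (minimalPeriod (⇑x) y / 2) := by
  obtain ⟨j, hj⟩ := hx.per_two_pow y
  have hj0 : j ≠ 0 := by
    rintro rfl
    rw [pow_zero, per_eq_one_iff] at hj
    exact hy hj
  obtain ⟨j', rfl⟩ := Nat.exists_eq_succ_of_ne_zero hj0
  rw [hj, pow_succ]
  omega

theorem Good.half_pos {x : Perm Ω} (hx : Good x) {y : Ω} (hy : x y ≠ y) :
    0 < minimalPeriod (⇑x) y / 2 := by
  have h1 := hx.per_even hy
  have h2 : minimalPeriod (⇑x) y ≠ 0 := by
    obtain ⟨j, hj⟩ := hx.per_two_pow y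
    rw [hj]; positivity
  omega

open Classical in
/-- the canonical involution, as a function -/
noncomputable def wFun (x : Perm Ω) (y : Ω) : Ω :=
  if x y = y then (if h : ∃ v, v ≠ y ∧ x v = v then h.choose else y)
  else (x ^ (minimalPeriod (⇑x) y / 2)) y

theorem wFun_of_not_fixed (x : Perm Ω) {y : Ω} (hy : x y ≠ y) :
    wFun x y = (x ^ (minimalPeriod (⇑x) y / 2)) y := by
  unfold wFun; rw [if_neg hy]

theorem Good.wFun_fixed_char {x : Perm Ω} (hx : Good x) {y z : Ω} (hy : x y = y) (hz : x z = z)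
    (hzy : z ≠ y) : wFun x y = z := by
  unfold wFun
  rw [if_pos hy]
  have h : ∃ v, v ≠ y ∧ x v = v := ⟨z, hzy, hz⟩
  rw [dif_pos h]
  have h1 := h.choose_spec
  rcases hx.fix y z h.choose hy hz h1.2 with h2 | h2 | h2
  · exact absurd h2.symm hzy
  · exact absurd h2.symm h1.1
  · exact h2.symm

theorem Good.wFun_fixed {x : Perm Ω} (hx : Good x) {y : Ω} (hy : x y = y) :
    x (wFun x y) = wFun x y := by
  by_cases h : ∃ v, v ≠ y ∧ x v = v
  · obtain ⟨z, hzy, hz⟩ := h
    rw [hx.wFun_fixed_char hy hz hzy]; exact hz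
  · unfold wFun
    rw [if_pos hy, dif_neg h]; exact hy

theorem Good.wFun_fixed_eq_self {x : Perm Ω} (hx : Good x) {y : Ω} (hy : x y = y)
    (h : wFun x y = y) (z : Ω) (hz : x z = z) : z = y := by
  by_contra hzy
  rw [hx.wFun_fixed_char hy hz hzy] at h
  exact hzy h

theorem Good.wFun_not_fixed {x : Perm Ω} (hx : Good x) {y : Ω} (hy : x y ≠ y) :
    x (wFun x y) ≠ wFun x y := by
  rw [wFun_of_not_fixed x hy]
  intro h
  have h1 := per_pow_apply x y (minimalPeriod (⇑x) y / 2)
  rw [(per_eq_one_iff x _).2 h] at h1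
  exact hy ((per_eq_one_iff x y).1 h1.symm)

theorem Good.wFun_ne_self {x : Perm Ω} (hx : Good x) {y : Ω} (hy : x y ≠ y) :
    wFun x y ≠ y := by
  rw [wFun_of_not_fixed x hy]
  intro h
  rw [pow_apply_eq_iff] at h
  have h1 := hx.per_even hy
  have h2 := hx.half_pos hy
  have := Nat.le_of_dvd h2 h
  omega

theorem Good.wFun_invol {x : Perm Ω} (hx : Good x) (y : Ω) : wFun x (wFun x y) = y := by
  by_cases hy : x y = y
  · by_cases h : wFun x y = y
    · rw [h, h]
    · exact hx.wFun_fixed_char (hx.wFun_fixed hy) hy (Ne.symm h)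
  · rw [wFun_of_not_fixed x (hx.wFun_not_fixed hy)]
    rw [wFun_of_not_fixed x hy, per_pow_apply, ← Perm.mul_apply, ← pow_add, pow_apply_eq_iff]
    have h1 := hx.per_even hy
    rw [← two_mul, ← h1]

theorem Good.wFun_comm {x : Perm Ω} (hx : Good x) (y : Ω) : x (wFun x y) = wFun x (x y) := by
  by_cases hy : x y = y
  · rw [hy]; exact hx.wFun_fixed hy
  · have hy' : x (x y) ≠ x y := fun h => hy (x.injective h)
    rw [wFun_of_not_fixed x hy, wFun_of_not_fixed x hy']
    have h1 : minimalPeriod (⇑x) (x y) = minimalPeriod (⇑x) y := by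
      have := per_pow_apply x y 1
      rwa [pow_one] at this
    rw [h1, ← Perm.mul_apply, ← Perm.mul_apply, ← pow_succ, ← pow_succ']

/-- characterisation of `wFun` at a non-fixed point -/
theorem Good.wFun_char {x : Perm Ω} (hx : Good x) {y z : Ω} (hzy : z ≠ y)
    (i : ℕ) (hz : z = (x ^ i) y) (h2 : (x ^ (2 * i)) y = y) : wFun x y = z := by
  have hy : x y ≠ y := by
    intro h
    apply hzy
    rw [hz, pow_apply_eq_iff, (per_eq_one_iff x y).2 h]
    exact one_dvd _
  rw [wFun_of_not_fixed x hy]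
  have h1 := hx.per_even hy
  set ℓ := minimalPeriod (⇑x) y / 2 with hℓ
  rw [pow_apply_eq_iff, h1] at h2
  have h3 : ℓ ∣ i := by
    have hpos := hx.half_pos hy
    exact (Nat.mul_dvd_mul_iff_left (by norm_num : 0 < 2)).1 h2
  obtain ⟨t, rfl⟩ := h3
  have h4 : ¬ (minimalPeriod (⇑x) y ∣ ℓ * t) := by
    intro h
    apply hzy
    rw [hz, pow_apply_eq_iff]; exact h
  have ht : t % 2 = 1 := by
    by_contra ht
    have ht0 : t % 2 = 0 := by omega
    obtain ⟨s, rfl⟩ := Nat.dvd_of_mod_eq_zero ht0
    apply h4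
    rw [h1]
    exact ⟨s, by ring⟩
  have h5 : ℓ * t = ℓ + (2 * ℓ) * (t / 2) := by
    have : t = 1 + 2 * (t / 2) := by omega
    calc ℓ * t = ℓ * (1 + 2 * (t / 2)) := by rw [← this]
      _ = ℓ + (2 * ℓ) * (t / 2) := by ring
  rw [hz, h5, pow_add, Perm.mul_apply]
  congr 1
  symm
  rw [pow_apply_eq_iff, h1]
  exact Dvd.intro _ rfl

/-- the canonical involution as a permutation -/
noncomputable def wPerm {x : Perm Ω} (hx : Good x) : Perm Ω :=
  Function.Involutive.toPerm (wFun x) hx.wFun_invol

@[simp] theorem wPerm_apply {x : Perm Ω} (hx : Good x) (y : Ω) : wPerm hx y = wFun x y := rfl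

theorem wPerm_mul_self {x : Perm Ω} (hx : Good x) : wPerm hx * wPerm hx = 1 := by
  ext y; simp [hx.wFun_invol]

theorem wPerm_comm {x : Perm Ω} (hx : Good x) : x * wPerm hx = wPerm hx * x := by
  ext y; simp [hx.wFun_comm]

/-- a fixed point of the canonical involution is the unique fixed point of `x` -/
theorem Good.wFun_fix_unique {x : Perm Ω} (hx : Good x) {p : Ω} (hp : wFun x p = p) :
    x p = p ∧ ∀ z, x z = z → z = p := by
  have h1 : x p = p := by
    by_contra h
    exact hx.wFun_ne_self h hp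
  exact ⟨h1, hx.wFun_fixed_eq_self h1 hp⟩

/-- Uniqueness: a conjugate of the canonical involution commuting with `x` is the canonical
involution. -/
theorem wPerm_unique [Finite Ω] {x : Perm Ω} (hx : Good x) (g : Perm Ω)
    (hc : x * (g * wPerm hx * g⁻¹) = (g * wPerm hx * g⁻¹) * x) :
    g * wPerm hx * g⁻¹ = wPerm hx := by
  obtain ⟨w', hw'⟩ : ∃ w' : Perm Ω, w' = g * wPerm hx * g⁻¹ := ⟨_, rfl⟩
  rw [← hw'] at hc ⊢
  have hw'a : ∀ a, w' a = g (wFun x (g⁻¹ a)) := by
    intro a; rw [hw']; simp [Perm.mul_apply]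
  -- basic facts on w'
  have F0 : ∀ a, w' a = a → wFun x (g⁻¹ a) = g⁻¹ a := by
    intro a ha
    rw [hw'a] at ha
    have := congrArg (⇑g⁻¹) ha
    simpa using this
  have F2 : ∀ a b, w' a = a → w' b = b → a = b := by
    intro a b ha hb
    have h1 := hx.wFun_fix_unique (F0 a ha)
    have h2 := hx.wFun_fix_unique (F0 b hb)
    have := h1.2 _ h2.1
    exact g⁻¹.injective this.symm
  have F3 : ∀ y, w' (w' y) = y := by
    intro y
    rw [hw'a, hw'a]
    simp [hx.wFun_invol]
  have F4 : ∀ y, x (w' y) = w' (x y) := by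
    intro y
    have := congrArg (fun f : Perm Ω => f y) hc
    simpa [Perm.mul_apply] using this
  have F5 : ∀ (i : ℕ) y, (x ^ i) (w' y) = w' ((x ^ i) y) := by
    intro i
    induction i with
    | zero => intro y; simp
    | succ i ih =>
      intro y
      rw [pow_succ, Perm.mul_apply, Perm.mul_apply, F4, ih]
  ext y
  rw [wPerm_apply]
  by_cases hy : x y = y
  · have hz : x (w' y) = w' y := by rw [F4, hy]
    by_cases h : w' y = y
    · rw [h]
      by_contra hv
      have hp := hx.wFun_fix_unique (F0 y h)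
      have h1 : y = g⁻¹ y := hp.2 y hy
      have h2 : wFun x y = g⁻¹ y := hp.2 _ (hx.wFun_fixed hy)
      exact hv (by rw [h2, ← h1])
    · exact (hx.wFun_fixed_char hy hz h).symm
  · have h : w' y ≠ y := by
      intro h
      have h1 : w' (x y) = x y := by rw [← F4, h]
      exact hy (F2 _ _ h1 h)
    have hper : minimalPeriod (⇑x) y = minimalPeriod (⇑x) (w' y) := by
      apply per_eq_of_iff
      intro n
      rw [F5]
      exact (w'.injective.eq_iff).symm
    obtain ⟨i, hi⟩ := (hx.cyc y (w' y) hper hy).exists_nat_pow_eq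
    symm
    apply hx.wFun_char h i hi.symm
    rw [two_mul, pow_add, Perm.mul_apply, hi, F5, hi, F3]

/-- Every 2-subgroup containing `x` centralizes the canonical involution. -/
theorem centralizes [Finite Ω] {x : Perm Ω} (hx : Good x) (Q : Subgroup (Perm Ω))
    (hQ : IsPGroup 2 Q) (hxQ : x ∈ Q) : Q ≤ Subgroup.centralizer {wPerm hx} := by
  haveI : Fact (Nat.Prime 2) := ⟨Nat.prime_two⟩
  haveI : Group.IsNilpotent Q := hQ.isNilpotent
  have hnc : NormalizerCondition Q := normalizerCondition_of_isNilpotent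
  rw [normalizerCondition_iff_only_full_group_self_normalizing] at hnc
  set H : Subgroup Q := (Subgroup.centralizer {wPerm hx}).subgroupOf Q with hH
  have hmem : ∀ g : Q, g ∈ H ↔ (g : Perm Ω) * wPerm hx = wPerm hx * (g : Perm Ω) := by
    intro g
    rw [hH, Subgroup.mem_subgroupOf, Subgroup.mem_centralizer_iff]
    simp only [Set.mem_singleton_iff, forall_eq]
    exact eq_comm
  have hxH : (⟨x, hxQ⟩ : Q) ∈ H := by
    rw [hmem]; exact wPerm_comm hx
  have hn : Subgroup.normalizer (H : Set Q) = H := by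
    apply le_antisymm _ Subgroup.le_normalizer
    intro g hg
    rw [Subgroup.mem_normalizer_iff''] at hg
    have h1 := (hg ⟨x, hxQ⟩).1 hxH
    rw [hmem] at h1
    simp only [Subgroup.coe_mul, Subgroup.coe_inv] at h1
    rw [hmem]
    have h2 : x * ((g : Perm Ω) * wPerm hx * (g : Perm Ω)⁻¹)
        = ((g : Perm Ω) * wPerm hx * (g : Perm Ω)⁻¹) * x := by
      have h3 := congrArg (fun f : Perm Ω => (g : Perm Ω) * f * (g : Perm Ω)⁻¹) h1
      simp only [mul_assoc, mul_inv_cancel_left, mul_inv_cancel, mul_one] at h3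
      simp only [mul_assoc]
      rw [h3]
    have h4 := wPerm_unique hx (g : Perm Ω) h2
    calc (g : Perm Ω) * wPerm hx = ((g : Perm Ω) * wPerm hx * (g : Perm Ω)⁻¹) * (g : Perm Ω) := by
          simp [mul_assoc]
      _ = wPerm hx * (g : Perm Ω) := by rw [h4]
  have htop := hnc H hn
  intro g hg
  have : (⟨g, hg⟩ : Q) ∈ H := by rw [htop]; trivial
  rw [hH, Subgroup.mem_subgroupOf] at this
  exact this

/-! ### The quotient by the canonical involution -/

/-- the setoid of orbits of the canonical involution -/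
def wSetoid {x : Perm Ω} (hx : Good x) : Setoid Ω where
  r a b := b = a ∨ b = wFun x a
  iseqv := by
    refine ⟨fun a => Or.inl rfl, ?_, ?_⟩
    · intro a b h
      rcases h with h | h
      · exact Or.inl h.symm
      · right; rw [h, hx.wFun_invol]
    · intro a b c h1 h2
      rcases h1 with rfl | rfl
      · exact h2
      · rcases h2 with rfl | rfl
        · exact Or.inr rfl
        · left; rw [hx.wFun_invol]

theorem wSetoid_r {x : Perm Ω} (hx : Good x) (a b : Ω) :
    (wSetoid hx).r a b ↔ b = a ∨ b = wFun x a := Iff.rfl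

theorem mk_eq_iff {x : Perm Ω} (hx : Good x) (a b : Ω) :
    Quotient.mk (wSetoid hx) a = Quotient.mk (wSetoid hx) b ↔ b = a ∨ b = wFun x a := by
  rw [Quotient.eq]; rfl

theorem comm_of_mem {x : Perm Ω} (hx : Good x) {g : Perm Ω}
    (hg : g ∈ Subgroup.centralizer {wPerm hx}) (a : Ω) : g (wFun x a) = wFun x (g a) := by
  rw [Subgroup.mem_centralizer_iff] at hg
  have := hg (wPerm hx) rfl
  have := congrArg (fun f : Perm Ω => f a) this
  simp only [Perm.mul_apply, wPerm_apply] at this
  exact this.symm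

/-- the map induced on the quotient by an element of the centralizer -/
def qMap {x : Perm Ω} (hx : Good x) (g : Perm Ω)
    (hg : g ∈ Subgroup.centralizer {wPerm hx}) :
    Quotient (wSetoid hx) → Quotient (wSetoid hx) :=
  Quotient.map g (by
    intro a b h
    rcases h with rfl | rfl
    · exact Or.inl rfl
    · exact Or.inr (comm_of_mem hx hg a))

theorem qMap_mk {x : Perm Ω} (hx : Good x) (g : Perm Ω)
    (hg : g ∈ Subgroup.centralizer {wPerm hx}) (a : Ω) :
    qMap hx g hg (Quotient.mk (wSetoid hx) a) = Quotient.mk (wSetoid hx) (g a) := rfl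

/-- the homomorphism from the centralizer of the canonical involution to the permutations
of the quotient -/
def qHom {x : Perm Ω} (hx : Good x) :
    Subgroup.centralizer {wPerm hx} →* Perm (Quotient (wSetoid hx)) where
  toFun g :=
    { toFun := qMap hx g.1 g.2
      invFun := qMap hx g.1⁻¹ (inv_mem g.2)
      left_inv := by
        intro q
        induction q using Quotient.inductionOn with
        | h a => rw [qMap_mk, qMap_mk]; simp
      right_inv := by
        intro q
        induction q using Quotient.inductionOn with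
        | h a => rw [qMap_mk, qMap_mk]; simp }
  map_one' := by
    ext q
    induction q using Quotient.inductionOn with
    | h a => rfl
  map_mul' g h := by
    ext q
    induction q using Quotient.inductionOn with
    | h a => rfl

theorem qHom_mk {x : Perm Ω} (hx : Good x) (g : Subgroup.centralizer {wPerm hx}) (a : Ω) :
    qHom hx g (Quotient.mk (wSetoid hx) a) = Quotient.mk (wSetoid hx) ((g : Perm Ω) a) := rfl

theorem qHom_pow_mk {x : Perm Ω} (hx : Good x) (g : Subgroup.centralizer {wPerm hx}) (i : ℕ)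
    (a : Ω) :
    (qHom hx g ^ i) (Quotient.mk (wSetoid hx) a)
      = Quotient.mk (wSetoid hx) (((g : Perm Ω) ^ i) a) := by
  rw [← map_pow, qHom_mk]; rfl

theorem x_mem_centralizer {x : Perm Ω} (hx : Good x) : x ∈ Subgroup.centralizer {wPerm hx} := by
  rw [Subgroup.mem_centralizer_iff]
  intro h hh
  rw [Set.mem_singleton_iff] at hh
  rw [hh]; exact (wPerm_comm hx).symm

/-- the induced permutation of the quotient -/
def xBar {x : Perm Ω} (hx : Good x) : Perm (Quotient (wSetoid hx)) :=
  qHom hx ⟨x, x_mem_centralizer hx⟩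

theorem xBar_pow_mk {x : Perm Ω} (hx : Good x) (i : ℕ) (a : Ω) :
    (xBar hx ^ i) (Quotient.mk (wSetoid hx) a) = Quotient.mk (wSetoid hx) ((x ^ i) a) :=
  qHom_pow_mk hx _ i a

theorem xBar_mk {x : Perm Ω} (hx : Good x) (a : Ω) :
    xBar hx (Quotient.mk (wSetoid hx) a) = Quotient.mk (wSetoid hx) (x a) := rfl

theorem xBar_pow_fix_iff {x : Perm Ω} (hx : Good x) (i : ℕ) (a : Ω) :
    (xBar hx ^ i) (Quotient.mk (wSetoid hx) a) = Quotient.mk (wSetoid hx) a
      ↔ (x ^ i) a = a ∨ (x ^ i) a = wFun x a := by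
  rw [xBar_pow_mk, mk_eq_iff]
  constructor
  · rintro (h | h)
    · exact Or.inl h.symm
    · right
      have := congrArg (wFun x) h
      rw [hx.wFun_invol] at this
      exact this.symm
  · rintro (h | h)
    · exact Or.inl h.symm
    · right
      rw [h, hx.wFun_invol]

theorem Good.pow_half_iff {x : Perm Ω} (hx : Good x) {a : Ω} (ha : x a ≠ a) (i : ℕ) :
    ((x ^ i) a = a ∨ (x ^ i) a = wFun x a) ↔ (minimalPeriod (⇑x) a / 2) ∣ i := by
  have h1 := hx.per_even ha
  have hpos := hx.half_pos ha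
  rw [wFun_of_not_fixed x ha]
  set h := minimalPeriod (⇑x) a / 2 with hh
  constructor
  · rintro (h2 | h2)
    · rw [pow_apply_eq_iff, h1] at h2
      exact (Dvd.intro_left _ rfl).trans h2
    · have h3 : (x ^ (h + i)) a = a := by
        rw [pow_add, Perm.mul_apply, h2, ← Perm.mul_apply, ← pow_add, pow_apply_eq_iff, ← two_mul,
          ← h1]
      rw [pow_apply_eq_iff, h1] at h3
      have h4 : h ∣ h + i := (Dvd.intro_left _ rfl).trans h3
      exact (Nat.dvd_add_right (dvd_refl h)).1 h4
  · rintro ⟨t, rfl⟩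
    rcases Nat.even_or_odd' t with ⟨s, rfl | rfl⟩
    · left
      rw [pow_apply_eq_iff, h1]
      exact ⟨s, by ring⟩
    · right
      have : h * (2 * s + 1) = h + (2 * h) * s := by ring
      rw [this, pow_add, Perm.mul_apply]
      congr 1
      rw [pow_apply_eq_iff, h1]
      exact Dvd.intro _ rfl

theorem per_eq_of_dvd_iff (x : Perm Ω) (a : Ω) (d : ℕ)
    (h : ∀ i : ℕ, (x ^ i) a = a ↔ d ∣ i) : minimalPeriod (⇑x) a = d := by
  apply Nat.dvd_antisymm
  · rw [← pow_apply_eq_iff, h]
  · rw [← h, pow_apply_eq_iff]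

theorem Good.per_xBar {x : Perm Ω} (hx : Good x) {a : Ω} (ha : x a ≠ a) :
    minimalPeriod (⇑(xBar hx)) (Quotient.mk (wSetoid hx) a) = minimalPeriod (⇑x) a / 2 := by
  apply per_eq_of_dvd_iff
  intro i
  rw [xBar_pow_fix_iff, hx.pow_half_iff ha]

theorem Good.xBar_fix_of_fix {x : Perm Ω} (hx : Good x) {a : Ω} (ha : x a = a) :
    xBar hx (Quotient.mk (wSetoid hx) a) = Quotient.mk (wSetoid hx) a := by
  rw [xBar_mk, ha]

theorem Good.per_two_of_xBar_fix {x : Perm Ω} (hx : Good x) {a : Ω} (ha : x a ≠ a)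
    (h : xBar hx (Quotient.mk (wSetoid hx) a) = Quotient.mk (wSetoid hx) a) :
    minimalPeriod (⇑x) a = 2 := by
  have h1 : minimalPeriod (⇑(xBar hx)) (Quotient.mk (wSetoid hx) a) = 1 := by
    rw [per_eq_one_iff]; exact h
  rw [hx.per_xBar ha] at h1
  have h2 := hx.per_even ha
  omega

theorem Good.mk_eq_of_fix {x : Perm Ω} (hx : Good x) {a b : Ω} (ha : x a = a) (hb : x b = b) :
    Quotient.mk (wSetoid hx) a = Quotient.mk (wSetoid hx) b := by
  rw [mk_eq_iff]
  by_cases h : b = a
  · exact Or.inl h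
  · exact Or.inr (hx.wFun_fixed_char ha hb h).symm

theorem Good.mk_eq_of_two [Finite Ω] {x : Perm Ω} (hx : Good x) {a b : Ω} (ha : x a ≠ a)
    (ha2 : minimalPeriod (⇑x) a = 2) (hb2 : minimalPeriod (⇑x) b = 2) :
    Quotient.mk (wSetoid hx) a = Quotient.mk (wSetoid hx) b := by
  rw [mk_eq_iff]
  obtain ⟨i, hi⟩ := (hx.cyc a b (by rw [ha2, hb2]) ha).exists_nat_pow_eq
  have hw : wFun x a = x a := by
    rw [wFun_of_not_fixed x ha, ha2]; simp
  rcases Nat.even_or_odd' i with ⟨s, rfl | rfl⟩
  · left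
    rw [← hi, pow_apply_eq_iff, ha2]
    exact Dvd.intro _ rfl
  · right
    rw [hw, ← hi, pow_succ, Perm.mul_apply]
    have h1 : minimalPeriod (⇑x) (x a) = 2 := by
      have := per_pow_apply x a 1
      rw [pow_one] at this
      rw [this, ha2]
    rw [pow_apply_eq_iff, h1]
    exact Dvd.intro _ rfl

/-- the induced permutation on the quotient is again good -/
theorem good_xBar [Finite Ω] {x : Perm Ω} (hx : Good x) : Good (xBar hx) := by
  refine ⟨?_, ?_, ?_⟩
  · obtain ⟨k, hk⟩ := hx.two_pow
    refine ⟨k, ?_⟩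
    unfold xBar
    rw [← map_pow]
    have : (⟨x, x_mem_centralizer hx⟩ : Subgroup.centralizer {wPerm hx}) ^ (2 ^ k) = 1 := by
      apply Subtype.ext
      simpa using hk
    rw [this, map_one]
  · intro A B C
    induction A using Quotient.inductionOn with
    | h a =>
    induction B using Quotient.inductionOn with
    | h b =>
    induction C using Quotient.inductionOn with
    | h c =>
    intro hA hB hC
    by_cases ha : x a = a
    · by_cases hb : x b = b
      · exact Or.inl (hx.mk_eq_of_fix ha hb)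
      · by_cases hc : x c = c
        · exact Or.inr (Or.inl (hx.mk_eq_of_fix ha hc))
        · exact Or.inr (Or.inr (hx.mk_eq_of_two hb (hx.per_two_of_xBar_fix hb hB)
            (hx.per_two_of_xBar_fix hc hC)))
    · by_cases hb : x b = b
      · by_cases hc : x c = c
        · exact Or.inr (Or.inr (hx.mk_eq_of_fix hb hc))
        · exact Or.inr (Or.inl (hx.mk_eq_of_two ha (hx.per_two_of_xBar_fix ha hA)
            (hx.per_two_of_xBar_fix hc hC)))
      · exact Or.inl (hx.mk_eq_of_two ha (hx.per_two_of_xBar_fix ha hA)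
            (hx.per_two_of_xBar_fix hb hB))
  · intro A B
    induction A using Quotient.inductionOn with
    | h a =>
    induction B using Quotient.inductionOn with
    | h b =>
    intro hper hne
    have ha : x a ≠ a := fun h => hne (hx.xBar_fix_of_fix h)
    have h1 : minimalPeriod (⇑(xBar hx)) (Quotient.mk (wSetoid hx) a) ≠ 1 := by
      rw [Ne, per_eq_one_iff]; exact hne
    have hb : x b ≠ b := by
      intro h
      apply h1
      rw [hper, per_eq_one_iff]
      exact hx.xBar_fix_of_fix h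
    rw [hx.per_xBar ha, hx.per_xBar hb] at hper
    have h2 : minimalPeriod (⇑x) a = minimalPeriod (⇑x) b := by
      rw [hx.per_even ha, hx.per_even hb, hper]
    obtain ⟨i, hi⟩ := (hx.cyc a b h2 ha).exists_nat_pow_eq
    refine ⟨(i : ℤ), ?_⟩
    rw [zpow_natCast, xBar_pow_mk, hi]

/-! ### The main induction -/

theorem exists_max_aux.{u} (n : ℕ) : ∀ (Ω : Type u) [Finite Ω] (x : Perm Ω), Good x →
    Nat.card Ω = n →
    ∃ W : Subgroup (Perm Ω), IsPGroup 2 W ∧
      ∀ Q : Subgroup (Perm Ω), IsPGroup 2 Q → x ∈ Q → Q ≤ W := by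
  induction n using Nat.strong_induction_on with
  | _ n ih =>
  intro Ω _ x hx hn
  by_cases hsub : ∀ y, wFun x y = y
  · -- then Ω is a subsingleton
    have hss : Subsingleton Ω := by
      refine ⟨fun a b => ?_⟩
      have ha : x a = a := by
        by_contra h
        exact hx.wFun_ne_self h (hsub a)
      have hb : x b = b := by
        by_contra h
        exact hx.wFun_ne_self h (hsub b)
      exact (hx.wFun_fixed_eq_self hb (hsub b) a ha)
    refine ⟨⊤, ?_, fun Q _ _ => le_top⟩
    intro g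
    exact ⟨0, Subsingleton.elim _ _⟩
  · push Not at hsub
    obtain ⟨y₀, hy₀⟩ := hsub
    -- the quotient is smaller
    have hlt : Nat.card (Quotient (wSetoid hx)) < n := by
      rw [← hn]
      haveI := Fintype.ofFinite Ω
      haveI := Fintype.ofFinite (Quotient (wSetoid hx))
      rw [Nat.card_eq_fintype_card, Nat.card_eq_fintype_card]
      apply Fintype.card_lt_of_surjective_not_injective (Quotient.mk (wSetoid hx))
        Quotient.mk_surjective
      intro hinj
      apply hy₀
      apply hinj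
      rw [mk_eq_iff]
      right
      rw [hx.wFun_invol]
    obtain ⟨Wb, hWb, hWb'⟩ := ih _ hlt (Quotient (wSetoid hx)) (xBar hx) (good_xBar hx) rfl
    refine ⟨Subgroup.map (Subgroup.centralizer {wPerm hx}).subtype
      (Subgroup.comap (qHom hx) Wb), ?_, ?_⟩
    · rintro ⟨g, hg⟩
      obtain ⟨c, hc, rfl⟩ := Subgroup.mem_map.1 hg
      rw [Subgroup.mem_comap] at hc
      obtain ⟨k, hk⟩ := hWb ⟨qHom hx c, hc⟩
      have hk' : qHom hx (c ^ (2 ^ k)) = 1 := by
        rw [map_pow]
        have := congrArg Subtype.val hk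
        simpa using this
      refine ⟨k + 1, ?_⟩
      apply Subtype.ext
      simp only [Subgroup.coe_pow, Subgroup.coe_one, Subgroup.coe_subtype]
      rw [pow_succ, pow_mul, sq]
      ext a
      rw [Perm.mul_apply, Perm.one_apply]
      have h1 : ∀ b : Ω, ((c : Perm Ω) ^ (2 ^ k)) b = b ∨ ((c : Perm Ω) ^ (2 ^ k)) b = wFun x b := by
        intro b
        have h2 := congrArg (fun f : Perm (Quotient (wSetoid hx)) => f (Quotient.mk _ b)) hk'
        simp only [Perm.one_apply] at h2
        rw [qHom_mk, mk_eq_iff] at h2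
        rcases h2 with h2 | h2
        · left
          rw [Subgroup.coe_pow] at h2
          exact h2.symm
        · right
          rw [Subgroup.coe_pow] at h2
          have := congrArg (wFun x) h2
          rw [hx.wFun_invol] at this
          exact this.symm
      have hcc : ((c : Perm Ω) ^ (2 ^ k)) ∈ Subgroup.centralizer {wPerm hx} := pow_mem c.2 _
      rcases h1 a with h3 | h3
      · rw [h3, h3]
      · rw [h3, comm_of_mem hx hcc, h3, hx.wFun_invol]
    · intro Q hQ hxQ g hg
      have hgc := centralizes hx Q hQ hxQ hg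
      refine Subgroup.mem_map.2 ⟨⟨g, hgc⟩, ?_, rfl⟩
      rw [Subgroup.mem_comap]
      have hQb : IsPGroup 2 (Subgroup.map (qHom hx)
          (Q.subgroupOf (Subgroup.centralizer {wPerm hx}))) :=
        (hQ.comap_subtype).map _
      have hxb : xBar hx ∈ Subgroup.map (qHom hx)
          (Q.subgroupOf (Subgroup.centralizer {wPerm hx})) :=
        Subgroup.mem_map.2 ⟨⟨x, x_mem_centralizer hx⟩, Subgroup.mem_subgroupOf.2 hxQ, rfl⟩
      exact hWb' _ hQb hxb (Subgroup.mem_map.2 ⟨⟨g, hgc⟩, Subgroup.mem_subgroupOf.2 hg, rfl⟩)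

/-- For a good permutation `x` there is a 2-subgroup containing every 2-subgroup that
contains `x`. -/
theorem exists_max [Finite Ω] (x : Perm Ω) (hx : Good x) :
    ∃ W : Subgroup (Perm Ω), IsPGroup 2 W ∧
      ∀ Q : Subgroup (Perm Ω), IsPGroup 2 Q → x ∈ Q → Q ≤ W :=
  exists_max_aux (Nat.card Ω) Ω x hx rfl

/-- A good permutation lies in a unique Sylow 2-subgroup. -/
theorem existsUnique_sylow_of_good [Finite Ω] (x : Perm Ω) (hx : Good x) :
    ∃! P : Sylow 2 (Perm Ω), x ∈ P := by
  haveI : Fact (Nat.Prime 2) := ⟨Nat.prime_two⟩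
  obtain ⟨W, hW, hW'⟩ := exists_max x hx
  have hz : IsPGroup 2 (Subgroup.zpowers x) := by
    obtain ⟨k, hk⟩ := hx.two_pow
    rintro ⟨g, hg⟩
    obtain ⟨i, rfl⟩ := Subgroup.mem_zpowers_iff.1 hg
    refine ⟨k, ?_⟩
    apply Subtype.ext
    simp only [Subgroup.coe_pow, Subgroup.coe_one]
    rw [← zpow_natCast, ← zpow_mul, mul_comm, zpow_mul, zpow_natCast, hk, one_zpow]
  obtain ⟨P, hP⟩ := hz.exists_le_sylow
  have hxP : x ∈ P := hP (Subgroup.mem_zpowers x)
  have key : ∀ P' : Sylow 2 (Perm Ω), x ∈ P' → (P' : Subgroup (Perm Ω)) = W := by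
    intro P' hx'
    exact (P'.is_maximal' hW (hW' _ P'.isPGroup' hx')).symm
  refine ⟨P, hxP, ?_⟩
  intro P' hx'
  apply Sylow.ext
  rw [key P' hx', key P hxP]

theorem apply_inv_self' {β : Type*} (f : Perm β) (x : β) : f (f⁻¹ x) = x := by simp

theorem inv_apply_self' {β : Type*} (f : Perm β) (x : β) : f⁻¹ (f x) = x := by simp

/-! ### Bridging with cycle types -/

section Bridge

variable {α : Type*} [Fintype α] [DecidableEq α]

theorem orderOf_cycleOf_eq_per (x : Perm α) {y : α} (hy : x y ≠ y) :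
    orderOf (x.cycleOf y) = minimalPeriod (⇑x) y := by
  have hc : (x.cycleOf y).IsCycle := Perm.isCycle_cycleOf x hy
  have hy' : x.cycleOf y y ≠ y := by rwa [Perm.cycleOf_apply_self]
  apply Nat.dvd_antisymm
  · rw [orderOf_dvd_iff_pow_eq_one, hc.pow_eq_one_iff' hy', Perm.cycleOf_pow_apply_self,
      pow_apply_eq_iff]
  · rw [← pow_apply_eq_iff, ← Perm.cycleOf_pow_apply_self, pow_orderOf_eq_one]; rfl

theorem good_of_cycleType (x : Perm α) (hx : ∃ k : ℕ, orderOf x = 2 ^ k)
    (h1 : Fintype.card α ≤ x.support.card + 2) (h2 : x.cycleType.Nodup) : Good x := by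
  refine ⟨?_, ?_, ?_⟩
  · obtain ⟨k, hk⟩ := hx
    exact ⟨k, by rw [← hk]; exact pow_orderOf_eq_one x⟩
  · intro a b c ha hb hc
    by_contra hne
    push Not at hne
    obtain ⟨hab, hac, hbc⟩ := hne
    have hsub : ({a, b, c} : Finset α) ⊆ x.supportᶜ := by
      intro y hy
      simp only [Finset.mem_insert, Finset.mem_singleton] at hy
      rw [Finset.mem_compl, Perm.mem_support, not_not]
      rcases hy with rfl | rfl | rfl <;> assumption
    have h3 : ({a, b, c} : Finset α).card = 3 := Finset.card_eq_three.2 ⟨a, b, c, hab, hac, hbc, rfl⟩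
    have h4 := Finset.card_le_card hsub
    have h5 := Finset.card_add_card_compl x.support
    omega
  · intro y y' hper hy
    have hy' : x y' ≠ y' := by
      intro h
      apply hy
      rw [← per_eq_one_iff, hper, per_eq_one_iff]; exact h
    have hm : y ∈ x.support := Perm.mem_support.2 hy
    have hm' : y' ∈ x.support := Perm.mem_support.2 hy'
    rw [Perm.sameCycle_iff_cycleOf_eq_of_mem_support hm hm']
    rw [Perm.cycleType_def] at h2
    apply Multiset.inj_on_of_nodup_map h2
    · exact Perm.cycleOf_mem_cycleFactorsFinset_iff.2 hm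
    · exact Perm.cycleOf_mem_cycleFactorsFinset_iff.2 hm'
    · simp only [Function.comp_apply]
      rw [← (Perm.isCycle_cycleOf x hy).orderOf, ← (Perm.isCycle_cycleOf x hy').orderOf,
        orderOf_cycleOf_eq_per x hy, orderOf_cycleOf_eq_per x hy', hper]

end Bridge

/-! ### The converse direction -/

theorem isPGroup_zpowers {G : Type*} [Group G] (g : G) (k : ℕ) (h : g ^ (2 ^ k) = 1) :
    IsPGroup 2 (Subgroup.zpowers g) := by
  rintro ⟨a, ha⟩
  obtain ⟨i, rfl⟩ := Subgroup.mem_zpowers_iff.1 ha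
  refine ⟨k, ?_⟩
  apply Subtype.ext
  simp only [Subgroup.coe_pow, Subgroup.coe_one]
  rw [← zpow_natCast, ← zpow_mul, mul_comm, zpow_mul, zpow_natCast, h, one_zpow]

theorem mem_of_commute {G : Type*} [Group G] {x g : G} {P : Subgroup G}
    (huniq : ∀ Q : Subgroup G, IsPGroup 2 Q → x ∈ Q → Q ≤ P) {k j : ℕ} (hx : x ^ (2 ^ k) = 1)
    (hg : g ^ (2 ^ j) = 1) (hc : Commute g x) : g ∈ P := by
  have key : ∀ h ∈ Subgroup.zpowers x, g * h * g⁻¹ = h := by
    intro h hh
    obtain ⟨i, rfl⟩ := Subgroup.mem_zpowers_iff.1 hh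
    have := (hc.zpow_right i).eq
    rw [this, mul_inv_cancel_right]
  have h1 : Subgroup.zpowers g ≤ Subgroup.normalizer (Subgroup.zpowers x : Set G) := by
    rw [Subgroup.zpowers_le, Subgroup.mem_normalizer_iff]
    intro h
    constructor
    · intro hh; rw [key h hh]; exact hh
    · intro hh
      have h2 := key _ hh
      have h3 : h = g * h * g⁻¹ := by
        have := congrArg (fun t => g⁻¹ * t * g) h2
        simp only [mul_assoc, inv_mul_cancel_left, inv_mul_cancel, mul_one] at this
        simp only [mul_assoc]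
        exact this.symm
      rw [h3]; exact hh
  have h2 : IsPGroup 2 (Subgroup.zpowers g ⊔ Subgroup.zpowers x : Subgroup G) :=
    IsPGroup.to_sup_of_normal_right' (isPGroup_zpowers g j hg) (isPGroup_zpowers x k hx) h1
  exact huniq _ h2 (Subgroup.mem_sup_right (Subgroup.mem_zpowers x))
    (Subgroup.mem_sup_left (Subgroup.mem_zpowers g))

theorem no_three {G : Type*} [Group G] {P : Subgroup G} (hP : IsPGroup 2 P) {t : G} (ht : t ∈ P)
    (h3 : orderOf t = 3) : False := by
  obtain ⟨j, hj⟩ := hP ⟨t, ht⟩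
  have h1 : t ^ (2 ^ j) = 1 := by
    have := congrArg Subtype.val hj
    simpa using this
  have h2 := orderOf_dvd_of_pow_eq_one h1
  rw [h3] at h2
  have h4 := Nat.Prime.dvd_of_dvd_pow Nat.prime_three h2
  omega

section Conv

variable {α : Type*} [Fintype α] [DecidableEq α]

theorem not_unique_of_three_fixed (x : Perm α) {k : ℕ} (hx : x ^ (2 ^ k) = 1)
    (P : Subgroup (Perm α)) (hP : IsPGroup 2 P)
    (huniq : ∀ Q : Subgroup (Perm α), IsPGroup 2 Q → x ∈ Q → Q ≤ P)
    {a b c : α} (ha : x a = a) (hb : x b = b) (hc : x c = c) (hab : a ≠ b) (hac : a ≠ c)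
    (hbc : b ≠ c) : False := by
  have hcomm : ∀ u v : α, x u = u → x v = v → Commute (swap u v) x := by
    intro u v hu hv
    apply Perm.Disjoint.commute
    rw [Perm.disjoint_iff_eq_or_eq]
    intro y
    by_cases h1 : y = u
    · right; rw [h1]; exact hu
    · by_cases h2 : y = v
      · right; rw [h2]; exact hv
      · left; exact swap_apply_of_ne_of_ne h1 h2
  have hsq : ∀ u v : α, (swap u v) ^ (2 ^ 1) = 1 := by
    intro u v
    rw [pow_one, sq, swap_mul_self]
  have h1 : swap a b ∈ P := mem_of_commute huniq hx (hsq a b) (hcomm a b ha hb)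
  have h2 : swap a c ∈ P := mem_of_commute huniq hx (hsq a c) (hcomm a c ha hc)
  have h3 := (Perm.isThreeCycle_swap_mul_swap_same hab hac hbc).orderOf
  exact no_three hP (mul_mem h1 h2) h3

theorem mem_support_of_factor {x c : Perm α} (hc : c ∈ x.cycleFactorsFinset) (y : α) :
    x y ∈ c.support ↔ y ∈ c.support := by
  have h := (Perm.mem_cycleFactorsFinset_iff.1 hc).2
  constructor
  · intro hy
    have h1 : c⁻¹ (x y) ∈ c.support := by
      rw [← Perm.support_inv, Perm.apply_mem_support, Perm.support_inv]; exact hy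
    have h2 := h _ h1
    rw [apply_inv_self'] at h2
    have h3 : c⁻¹ (x y) = y := x.injective h2.symm
    rwa [h3] at h1
  · intro hy
    rw [← h y hy, Perm.apply_mem_support]; exact hy

theorem not_unique_of_two_cycles (x : Perm α) {k : ℕ} (hx : x ^ (2 ^ k) = 1)
    (P : Subgroup (Perm α)) (hP : IsPGroup 2 P)
    (huniq : ∀ Q : Subgroup (Perm α), IsPGroup 2 Q → x ∈ Q → Q ≤ P)
    {c₁ c₂ : Perm α} (h1 : c₁ ∈ x.cycleFactorsFinset) (h2 : c₂ ∈ x.cycleFactorsFinset)
    (hne : c₁ ≠ c₂) (hcard : c₁.support.card = c₂.support.card) : False := by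
  have hcy1 := (Perm.mem_cycleFactorsFinset_iff.1 h1).1
  have hcy2 := (Perm.mem_cycleFactorsFinset_iff.1 h2).1
  have hx1 := (Perm.mem_cycleFactorsFinset_iff.1 h1).2
  have hx2 := (Perm.mem_cycleFactorsFinset_iff.1 h2).2
  have hdisj : Disjoint c₁.support c₂.support :=
    (Perm.cycleFactorsFinset_pairwise_disjoint x h1 h2 hne).disjoint_support
  have hd : ∀ y, y ∈ c₁.support → y ∉ c₂.support := fun y hy1 hy2 =>
    Finset.disjoint_left.1 hdisj hy1 hy2
  obtain ⟨π, hπ⟩ := isConj_iff.1 (hcy1.isConj hcy2 hcard)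
  have hπs : ∀ y, π y ∈ c₂.support ↔ y ∈ c₁.support := by
    intro y
    rw [← hπ, Perm.support_conj, Finset.mem_map_equiv, Equiv.symm_apply_apply]
  have hπs' : ∀ y, π⁻¹ y ∈ c₁.support ↔ y ∈ c₂.support := by
    intro y
    rw [← hπs, apply_inv_self']
  have hπc : ∀ y, π (c₁ y) = c₂ (π y) := by
    intro y
    rw [← hπ]; simp
  have hπc' : ∀ y, π⁻¹ (c₂ y) = c₁ (π⁻¹ y) := by
    intro y
    rw [← hπ]; simp
  -- the involution θ
  let f : α → α := fun y => if y ∈ c₁.support then π y else if y ∈ c₂.support then π⁻¹ y else y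
  have hf1 : ∀ y, y ∈ c₁.support → f y = π y := fun y hy => if_pos hy
  have hf2 : ∀ y, y ∈ c₂.support → f y = π⁻¹ y := by
    intro y hy
    have : y ∉ c₁.support := fun h => hd y h hy
    simp only [f]
    rw [if_neg this, if_pos hy]
  have hf3 : ∀ y, y ∉ c₁.support → y ∉ c₂.support → f y = y := by
    intro y hy1 hy2
    simp only [f]
    rw [if_neg hy1, if_neg hy2]
  have hfinv : Function.Involutive f := by
    intro y
    by_cases hy1 : y ∈ c₁.support
    · rw [hf1 y hy1, hf2 _ ((hπs y).2 hy1), inv_apply_self']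
    · by_cases hy2 : y ∈ c₂.support
      · rw [hf2 y hy2, hf1 _ ((hπs' y).2 hy2), apply_inv_self']
      · rw [hf3 y hy1 hy2, hf3 y hy1 hy2]
  have hfx : ∀ y, f (x y) = x (f y) := by
    intro y
    by_cases hy1 : y ∈ c₁.support
    · have hxy : x y ∈ c₁.support := (mem_support_of_factor h1 y).2 hy1
      rw [hf1 _ hxy, hf1 y hy1, ← hx1 y hy1, hπc, hx2 _ ((hπs y).2 hy1)]
    · by_cases hy2 : y ∈ c₂.support
      · have hxy : x y ∈ c₂.support := (mem_support_of_factor h2 y).2 hy2
        rw [hf2 _ hxy, hf2 y hy2, ← hx2 y hy2, hπc', hx1 _ ((hπs' y).2 hy2)]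
      · have hxy1 : x y ∉ c₁.support := fun h => hy1 ((mem_support_of_factor h1 y).1 h)
        have hxy2 : x y ∉ c₂.support := fun h => hy2 ((mem_support_of_factor h2 y).1 h)
        rw [hf3 _ hxy1 hxy2, hf3 y hy1 hy2]
  -- the elementary abelian group E
  let E : Subgroup (Perm α) :=
    { carrier := {g | ∀ y, g y = y ∨ g y = f y}
      one_mem' := fun y => Or.inl rfl
      mul_mem' := by
        intro g h hg hh y
        rw [Perm.mul_apply]
        rcases hh y with h3 | h3
        · rw [h3]; exact hg y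
        · rw [h3]
          rcases hg (f y) with h4 | h4
          · exact Or.inr h4
          · left; rw [h4, hfinv y]
      inv_mem' := by
        intro g hg y
        rcases hg (g⁻¹ y) with h3 | h3
        · left
          rw [apply_inv_self'] at h3
          exact h3.symm
        · right
          rw [apply_inv_self'] at h3
          have h5 := congrArg f h3
          rw [hfinv] at h5
          exact h5.symm }
  have hEmem : ∀ g : Perm α, g ∈ E ↔ ∀ y, g y = y ∨ g y = f y := fun g => Iff.rfl
  have hE : IsPGroup 2 E := by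
    rintro ⟨g, hg⟩
    refine ⟨1, ?_⟩
    apply Subtype.ext
    simp only [Subgroup.coe_pow, Subgroup.coe_one]
    rw [pow_one, sq]
    ext y
    rw [Perm.mul_apply, Perm.one_apply]
    rcases (hEmem g).1 hg y with h3 | h3
    · rw [h3, h3]
    · rcases (hEmem g).1 hg (f y) with h4 | h4
      · have : f y = y := by
          have h5 : g (f y) = g y := by rw [h4, h3]
          exact g.injective h5
        have hgy : g y = y := by rw [h3, this]
        rw [hgy, hgy]
      · rw [h3, h4, hfinv]
  have hconj : ∀ z : Perm α, (∀ y, f (z y) = z (f y)) → ∀ h ∈ E, z * h * z⁻¹ ∈ E := by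
    intro z hz h hh
    rw [hEmem]
    intro y
    simp only [Perm.mul_apply]
    rcases (hEmem h).1 hh (z⁻¹ y) with h3 | h3
    · left; rw [h3, apply_inv_self']
    · right; rw [h3, ← hz, apply_inv_self']
  have hfx' : ∀ y, f (x⁻¹ y) = x⁻¹ (f y) := by
    intro y
    have := hfx (x⁻¹ y)
    rw [apply_inv_self'] at this
    rw [this, inv_apply_self']
  have hnorm : Subgroup.zpowers x ≤ Subgroup.normalizer (E : Set (Perm α)) := by
    rw [Subgroup.zpowers_le, Subgroup.mem_normalizer_iff]
    intro h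
    constructor
    · exact hconj x hfx h
    · intro hh
      have := hconj x⁻¹ hfx' _ hh
      simpa [mul_assoc] using this
  have hQ : IsPGroup 2 (Subgroup.zpowers x ⊔ E : Subgroup (Perm α)) :=
    IsPGroup.to_sup_of_normal_right' (isPGroup_zpowers x k hx) hE hnorm
  have hQP := huniq _ hQ (Subgroup.mem_sup_left (Subgroup.mem_zpowers x))
  -- the elements
  obtain ⟨u, hu⟩ : ∃ u, u ∈ c₁.support := by
    have := hcy1.two_le_card_support
    exact Finset.card_pos.1 (by omega)
  have hu' : f u ∈ c₂.support := by rw [hf1 u hu]; exact (hπs u).2 hu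
  have hσE : swap u (f u) ∈ E := by
    rw [hEmem]
    intro y
    by_cases h3 : y = u
    · right; rw [h3, swap_apply_left]
    · by_cases h4 : y = f u
      · right; rw [h4, swap_apply_right, hfinv]
      · left; exact swap_apply_of_ne_of_ne h3 h4
  have hσP : swap u (f u) ∈ P := hQP (Subgroup.mem_sup_right hσE)
  have hc1P : c₁ ∈ P := by
    have h3 : c₁ ^ (2 ^ k) = 1 := by
      rw [← orderOf_dvd_iff_pow_eq_one]
      have h4 : c₁ = x.cycleOf u := Perm.cycle_is_cycleOf hu h1
      rw [h4]
      exact (Perm.orderOf_cycleOf_dvd_orderOf x u).trans (orderOf_dvd_of_pow_eq_one hx)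
    exact mem_of_commute huniq hx h3 (Perm.self_mem_cycle_factors_commute h1)
  have ht : c₁⁻¹ * swap u (f u) * c₁ * swap u (f u) ∈ P :=
    mul_mem (mul_mem (mul_mem (inv_mem hc1P) hσP) hc1P) hσP
  have hfu : c₁⁻¹ (f u) = f u := by
    have h3 : c₁ (f u) = f u := by
      by_contra h4
      exact hd (f u) (Perm.mem_support.2 h4) hu'
    calc c₁⁻¹ (f u) = c₁⁻¹ (c₁ (f u)) := by rw [h3]
      _ = f u := inv_apply_self' _ _
  have hc1u : c₁⁻¹ u ∈ c₁.support := by
    rw [← Perm.support_inv, Perm.apply_mem_support, Perm.support_inv]; exact hu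
  have hne1 : f u ≠ c₁⁻¹ u := fun h => hd _ hc1u (h ▸ hu')
  have hne2 : f u ≠ u := fun h => hd u hu (h ▸ hu')
  have hne3 : c₁⁻¹ u ≠ u := by
    intro h
    have : c₁ u = u := by
      have := congrArg c₁ h
      rw [apply_inv_self'] at this
      exact this.symm
    exact (Perm.mem_support.1 hu) this
  have heq : c₁⁻¹ * swap u (f u) * c₁ * swap u (f u)
      = swap (f u) (c₁⁻¹ u) * swap (f u) u := by
    have := Equiv.swap_apply_apply c₁⁻¹ u (f u)
    rw [inv_inv, hfu] at this
    rw [← this, swap_comm (c₁⁻¹ u) (f u), swap_comm u (f u)]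
  rw [heq] at ht
  exact no_three hP ht (Perm.isThreeCycle_swap_mul_swap_same hne1 hne2 hne3).orderOf

end Conv

/-- A 2-element of a finite symmetric group lies in a unique Sylow 2-subgroup iff it has at
most two fixed points and its nontrivial cycles have pairwise distinct lengths. -/
theorem unique_iff {α : Type*} [Fintype α] [DecidableEq α] (x : Perm α)
    (hx : ∃ k : ℕ, orderOf x = 2 ^ k) :
    (∃! P : Sylow 2 (Perm α), x ∈ P) ↔
      (Fintype.card α ≤ x.support.card + 2 ∧ x.cycleType.Nodup) := by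
  haveI : Fact (Nat.Prime 2) := ⟨Nat.prime_two⟩
  constructor
  · rintro ⟨P, hxP, hP'⟩
    obtain ⟨k, hk⟩ := hx
    have hxk : x ^ (2 ^ k) = 1 := by rw [← hk]; exact pow_orderOf_eq_one x
    have huniq : ∀ Q : Subgroup (Perm α), IsPGroup 2 Q → x ∈ Q → Q ≤ P := by
      intro Q hQ hxQ
      obtain ⟨P', hP''⟩ := hQ.exists_le_sylow
      have := hP' P' (hP'' hxQ)
      rw [← this]; exact hP''
    constructor
    · by_contra h
      push Not at h
      have h5 := Finset.card_add_card_compl x.support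
      have h6 : 2 < x.supportᶜ.card := by omega
      obtain ⟨a, b, c, ha, hb, hc, hab, hac, hbc⟩ := Finset.two_lt_card_iff.1 h6
      rw [Finset.mem_compl, Perm.mem_support, not_not] at ha hb hc
      exact not_unique_of_three_fixed x hxk P P.isPGroup' huniq ha hb hc hab hac hbc
    · by_contra h
      rw [Perm.cycleType_def] at h
      apply h
      apply Multiset.Nodup.map_on _ x.cycleFactorsFinset.nodup
      intro c₁ h1 c₂ h2 hcard
      by_contra hne
      exact not_unique_of_two_cycles x hxk P P.isPGroup' huniq h1 h2 hne hcard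
  · rintro ⟨h1, h2⟩
    exact existsUnique_sylow_of_good x (good_of_cycleType x hx h1 h2)

end Cfsg.Agent.Lib.Helper39.Syl2
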