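import Mathlib
import Cfsg.Agent.Lib.Helper80.Winter2
import Cfsg.Agent.Lib.Helper81.RealPrime
import Cfsg.Agent.Lib.Helper81.WreathM4

set_option autoImplicit false
open Cfsg

/-!
# Three character degrees: the tensor trick

A finite group whose character degrees are `1, u, v` with `u, v` coprime, both attained, and
in which every nontrivial normal subgroup contains the commutator subgroup, does not exist.
-/

namespace Cfsg.Agent.Lib.Helper39.ThreeDeg

open scoped ComplexConjugate

universe u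

section Basic

variable {G : Type u} [Group G] [Fintype G]

theorem classInner_mul_move (α β γ : G → ℂ) :
    Cfsg.classInner (α * β) γ = Cfsg.classInner β ((fun g => conj (α g)) * γ) := by
  unfold Cfsg.classInner
  congr 1
  refine Finset.sum_congr rfl fun g _ => ?_
  simp only [Pi.mul_apply, map_mul, Complex.conj_conj]
  ring

theorem classInner_swap (α lam η : G → ℂ) :
    Cfsg.classInner (α * ((fun g => conj (α g)) * lam)) η =
      conj (Cfsg.classInner (α * ((fun g => conj (lam g)) * η)) α) := by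
  unfold Cfsg.classInner
  rw [map_mul, map_inv₀, Complex.conj_natCast, map_sum]
  congr 1
  refine Finset.sum_congr rfl fun g _ => ?_
  simp only [Pi.mul_apply, map_mul, Complex.conj_conj]
  ring

omit [Fintype G] in
theorem charDegree_of_one_eq {χ : G → ℂ} {n : ℕ} (h : χ 1 = n) : Cfsg.charDegree χ = n := by
  unfold Cfsg.charDegree
  rw [h]
  simp

omit [Fintype G] in
theorem charDegree_mul' {a b : G → ℂ} (ha : Cfsg.IsCharacter G a) (hb : Cfsg.IsCharacter G b) :
    Cfsg.charDegree (a * b) = Cfsg.charDegree a * Cfsg.charDegree b := by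
  apply charDegree_of_one_eq
  rw [Pi.mul_apply, Helper80.char_one_eq_charDegree ha, Helper80.char_one_eq_charDegree hb]
  push_cast
  rfl

omit [Fintype G] in
theorem charDegree_conj' {a : G → ℂ} (ha : Cfsg.IsCharacter G a) :
    Cfsg.charDegree (fun g => conj (a g)) = Cfsg.charDegree a := by
  apply charDegree_of_one_eq
  show conj (a 1) = _
  rw [Helper80.char_one_eq_charDegree ha, Complex.conj_natCast]

end Basic

section Split

variable {G : Type u} [Group G] [Fintype G] [Fintype (Cfsg.IrrCharacter G)]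

omit [Fintype G] in
theorem degree_split {a b : ℕ} (ha : 1 < a) (hab : a < b)
    (hcd : ∀ χ : Cfsg.IrrCharacter G, Cfsg.charDegree (χ : G → ℂ) = 1 ∨
      Cfsg.charDegree (χ : G → ℂ) = a ∨ Cfsg.charDegree (χ : G → ℂ) = b)
    (m : Cfsg.IrrCharacter G → ℕ) :
    ∑ χ : Cfsg.IrrCharacter G, m χ * Cfsg.charDegree (χ : G → ℂ) =
      (∑ χ : Cfsg.IrrCharacter G, if Cfsg.charDegree (χ : G → ℂ) = 1 then m χ else 0) +
      a * (∑ χ : Cfsg.IrrCharacter G, if Cfsg.charDegree (χ : G → ℂ) = a then m χ else 0) +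
      b * (∑ χ : Cfsg.IrrCharacter G, if Cfsg.charDegree (χ : G → ℂ) = b then m χ else 0) := by
  rw [Finset.mul_sum, Finset.mul_sum, ← Finset.sum_add_distrib, ← Finset.sum_add_distrib]
  refine Finset.sum_congr rfl fun χ _ => ?_
  rcases hcd χ with h | h | h
  · rw [h, if_pos rfl, if_neg (by omega), if_neg (by omega)]; simp
  · rw [h, if_neg (by omega), if_pos rfl, if_neg (by omega)]; simp [mul_comm]
  · rw [h, if_neg (by omega), if_neg (by omega), if_pos rfl]; simp [mul_comm]

omit [Fintype G] in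
theorem count_split {a b : ℕ} (ha : 1 < a) (hab : a < b)
    (hcd : ∀ χ : Cfsg.IrrCharacter G, Cfsg.charDegree (χ : G → ℂ) = 1 ∨
      Cfsg.charDegree (χ : G → ℂ) = a ∨ Cfsg.charDegree (χ : G → ℂ) = b)
    (m : Cfsg.IrrCharacter G → ℕ) :
    ∑ χ : Cfsg.IrrCharacter G, m χ =
      (∑ χ : Cfsg.IrrCharacter G, if Cfsg.charDegree (χ : G → ℂ) = 1 then m χ else 0) +
      (∑ χ : Cfsg.IrrCharacter G, if Cfsg.charDegree (χ : G → ℂ) = a then m χ else 0) +
      (∑ χ : Cfsg.IrrCharacter G, if Cfsg.charDegree (χ : G → ℂ) = b then m χ else 0) := by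
  rw [← Finset.sum_add_distrib, ← Finset.sum_add_distrib]
  refine Finset.sum_congr rfl fun χ _ => ?_
  rcases hcd χ with h | h | h
  · rw [h, if_pos rfl, if_neg (by omega), if_neg (by omega)]; simp
  · rw [h, if_neg (by omega), if_pos rfl, if_neg (by omega)]; simp
  · rw [h, if_neg (by omega), if_neg (by omega), if_pos rfl]; simp

/-- A character of degree `a * a` without linear constituents has no constituent of the
larger degree `b`. -/
theorem prod_small {a b : ℕ} (ha : 1 < a) (hab : a < b) (hcop : Nat.Coprime a b)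
    (hcd : ∀ χ : Cfsg.IrrCharacter G, Cfsg.charDegree (χ : G → ℂ) = 1 ∨
      Cfsg.charDegree (χ : G → ℂ) = a ∨ Cfsg.charDegree (χ : G → ℂ) = b)
    {φ : G → ℂ} (hφ : Cfsg.IsCharacter G φ) (hdeg : Cfsg.charDegree φ = a * a)
    (hlin : ∀ χ : Cfsg.IrrCharacter G, Cfsg.charDegree (χ : G → ℂ) = 1 →
      Cfsg.classInner φ (χ : G → ℂ) = 0)
    (χ : Cfsg.IrrCharacter G) (hχ : Cfsg.charDegree (χ : G → ℂ) = b) :
    Cfsg.classInner φ (χ : G → ℂ) = 0 := by
  classical
  obtain ⟨m, hm, hexp⟩ := Helper80.character_expansion hφ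
  have hd := Helper80.charDegree_eq_sum hφ m hexp
  rw [degree_split ha hab hcd m, hdeg] at hd
  have hA : (∑ χ : Cfsg.IrrCharacter G, if Cfsg.charDegree (χ : G → ℂ) = 1 then m χ else 0)
      = 0 := by
    apply Finset.sum_eq_zero
    intro χ' _
    split_ifs with h
    · have := hlin χ' h
      rw [hm χ'] at this
      exact_mod_cast this
    · rfl
  rw [hA, zero_add] at hd
  set B := ∑ χ : Cfsg.IrrCharacter G, if Cfsg.charDegree (χ : G → ℂ) = a then m χ else 0
  set C := ∑ χ : Cfsg.IrrCharacter G, if Cfsg.charDegree (χ : G → ℂ) = b then m χ else 0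
    with hC
  have hdvd : a ∣ C := by
    have h1 : a ∣ b * C := by
      have : a ∣ a * a := dvd_mul_right a a
      rw [hd] at this
      exact (Nat.dvd_add_right (dvd_mul_right a B)).1 this
    exact hcop.dvd_of_dvd_mul_left h1
  have hC0 : C = 0 := by
    by_contra hne
    have h1 : a ≤ C := Nat.le_of_dvd (Nat.pos_of_ne_zero hne) hdvd
    have h2 : a * a < b * C := by
      calc a * a < b * a := Nat.mul_lt_mul_of_pos_right hab (by omega)
        _ ≤ b * C := Nat.mul_le_mul_left b h1
    have h3 : b * C ≤ a * a := by rw [hd]; exact Nat.le_add_left _ _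
    omega
  have hterm := (Finset.sum_eq_zero_iff.1 hC0) χ (Finset.mem_univ χ)
  rw [if_pos hχ] at hterm
  rw [hm χ, hterm, Nat.cast_zero]

/-- A character of degree `a * b` without linear constituents and with a constituent of
degree `a` has all constituents of degree `a`, with total multiplicity `b`. -/
theorem prod_mixed {a b : ℕ} (ha : 1 < a) (hab : a < b) (hcop : Nat.Coprime a b)
    (hcd : ∀ χ : Cfsg.IrrCharacter G, Cfsg.charDegree (χ : G → ℂ) = 1 ∨
      Cfsg.charDegree (χ : G → ℂ) = a ∨ Cfsg.charDegree (χ : G → ℂ) = b)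
    {φ : G → ℂ} (hφ : Cfsg.IsCharacter G φ) (hdeg : Cfsg.charDegree φ = a * b)
    (hlin : ∀ χ : Cfsg.IrrCharacter G, Cfsg.charDegree (χ : G → ℂ) = 1 →
      Cfsg.classInner φ (χ : G → ℂ) = 0)
    (χ₁ : Cfsg.IrrCharacter G) (hχ₁ : Cfsg.charDegree (χ₁ : G → ℂ) = a)
    (hne : Cfsg.classInner φ (χ₁ : G → ℂ) ≠ 0) :
    ∃ m : Cfsg.IrrCharacter G → ℕ, (∀ χ : Cfsg.IrrCharacter G,
      Cfsg.classInner φ (χ : G → ℂ) = m χ) ∧ φ = ∑ χ : Cfsg.IrrCharacter G, (m χ : ℂ) • (χ : G → ℂ) ∧
      (∀ χ : Cfsg.IrrCharacter G, m χ ≠ 0 → Cfsg.charDegree (χ : G → ℂ) = a) ∧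
      ∑ χ : Cfsg.IrrCharacter G, m χ = b := by
  classical
  obtain ⟨m, hm, hexp⟩ := Helper80.character_expansion hφ
  have hd := Helper80.charDegree_eq_sum hφ m hexp
  rw [degree_split ha hab hcd m, hdeg] at hd
  have hcount := count_split ha hab hcd m
  have hA : (∑ χ : Cfsg.IrrCharacter G, if Cfsg.charDegree (χ : G → ℂ) = 1 then m χ else 0)
      = 0 := by
    apply Finset.sum_eq_zero
    intro χ' _
    split_ifs with h
    · have := hlin χ' h
      rw [hm χ'] at this
      exact_mod_cast this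
    · rfl
  rw [hA, zero_add] at hd hcount
  set B := ∑ χ : Cfsg.IrrCharacter G, if Cfsg.charDegree (χ : G → ℂ) = a then m χ else 0
    with hB
  set C := ∑ χ : Cfsg.IrrCharacter G, if Cfsg.charDegree (χ : G → ℂ) = b then m χ else 0
    with hC
  have hm1 : m χ₁ ≠ 0 := by
    intro h0
    apply hne
    rw [hm χ₁, h0, Nat.cast_zero]
  have hBpos : 0 < B := by
    have h1 : (if Cfsg.charDegree (χ₁ : G → ℂ) = a then m χ₁ else 0) ≤ B :=
      Finset.single_le_sum (f := fun χ : Cfsg.IrrCharacter G =>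
        if Cfsg.charDegree (χ : G → ℂ) = a then m χ else 0) (fun _ _ => Nat.zero_le _)
        (Finset.mem_univ χ₁)
    rw [if_pos hχ₁] at h1
    omega
  have hdvd : b ∣ B := by
    have h1 : b ∣ a * B := by
      have : b ∣ a * b := dvd_mul_left b a
      rw [hd] at this
      exact (Nat.dvd_add_left (dvd_mul_right b C)).1 this
    exact hcop.symm.dvd_of_dvd_mul_left h1
  have h1 : b ≤ B := Nat.le_of_dvd hBpos hdvd
  have h2 : a * b ≤ a * B := Nat.mul_le_mul_left a h1
  have h3 : b * C = 0 := by omega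
  have hC0 : C = 0 := by
    rcases Nat.mul_eq_zero.1 h3 with h | h
    · omega
    · exact h
  have hBb : B = b := by
    have h4 : a * b = a * B := by rw [hd, h3, add_zero]
    exact (Nat.eq_of_mul_eq_mul_left (by omega) h4).symm
  refine ⟨m, hm, hexp, ?_, ?_⟩
  · intro χ hχ
    rcases hcd χ with h | h | h
    · exfalso
      apply hχ
      have := hlin χ h
      rw [hm χ] at this
      exact_mod_cast this
    · exact h
    · exfalso
      have hterm := (Finset.sum_eq_zero_iff.1 hC0) χ (Finset.mem_univ χ)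
      rw [if_pos h] at hterm
      exact hχ hterm
  · rw [hcount, hC0, hBb, add_zero]

/-- If `χ` of degree `a` is a constituent of `χ * ψ` with `ψ` of degree `b`, then
`χ ψ = b χ` on the commutator subgroup. -/
theorem star {a b : ℕ} (ha : 1 < a) (hab : a < b) (hcop : Nat.Coprime a b)
    (hcd : ∀ χ : Cfsg.IrrCharacter G, Cfsg.charDegree (χ : G → ℂ) = 1 ∨
      Cfsg.charDegree (χ : G → ℂ) = a ∨ Cfsg.charDegree (χ : G → ℂ) = b)
    {χ ψ : G → ℂ} (hχ : Cfsg.IsIrrCharacter G χ) (hψ : Cfsg.IsIrrCharacter G ψ)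
    (hχd : Cfsg.charDegree χ = a) (hψd : Cfsg.charDegree ψ = b)
    (hne : Cfsg.classInner (χ * ψ) χ ≠ 0) :
    ∀ g ∈ commutator G, χ g * ψ g = (b : ℂ) * χ g := by
  classical
  have hχc := Helper80.isCharacter_of_isIrrCharacter hχ
  have hψc := Helper80.isCharacter_of_isIrrCharacter hψ
  have hχbar : Cfsg.IsIrrCharacter G (fun g => conj (χ g)) := Helper80.isIrrCharacter_conj hχ
  have hχbarc := Helper80.isCharacter_of_isIrrCharacter hχbar
  have hφ : Cfsg.IsCharacter G (χ * ψ) := Helper80.isCharacter_mul hχc hψc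
  have hdeg : Cfsg.charDegree (χ * ψ) = a * b := by rw [charDegree_mul' hχc hψc, hχd, hψd]
  have hlin : ∀ lam : Cfsg.IrrCharacter G, Cfsg.charDegree (lam : G → ℂ) = 1 →
      Cfsg.classInner (χ * ψ) (lam : G → ℂ) = 0 := by
    intro lam hlam
    rw [classInner_mul_move]
    have hlamc := Helper80.isCharacter_of_isIrrCharacter lam.2
    have h1 : Cfsg.IsIrrCharacter G ((lam : G → ℂ) * fun g => conj (χ g)) :=
      Helper81.twist_irr hlamc (Helper81.linear_one lam hlam) hχbar
    have h2 : Cfsg.charDegree ((lam : G → ℂ) * fun g => conj (χ g)) = a := by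
      rw [charDegree_mul' hlamc hχbarc, hlam, charDegree_conj' hχc, hχd, one_mul]
    rw [mul_comm, Helper80.classInner_irr_fun hψ h1, if_neg]
    intro h
    rw [← h, hψd] at h2
    omega
  obtain ⟨m, hm, hexp, hmdeg, hmsum⟩ :=
    prod_mixed ha hab hcop hcd hφ hdeg hlin ⟨χ, hχ⟩ hχd hne
  have hkey : ∀ η : Cfsg.IrrCharacter G, m η ≠ 0 → ∀ g ∈ commutator G,
      (η : G → ℂ) g = χ g := by
    intro η hη g hg
    have hηd := hmdeg η hη
    have hηc := Helper80.isCharacter_of_isIrrCharacter η.2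
    have hφ' : Cfsg.IsCharacter G ((fun g => conj (χ g)) * (η : G → ℂ)) :=
      Helper80.isCharacter_mul hχbarc hηc
    have hdeg' : Cfsg.charDegree ((fun g => conj (χ g)) * (η : G → ℂ)) = a * a := by
      rw [charDegree_mul' hχbarc hηc, charDegree_conj' hχc, hχd, hηd]
    have hcc : (fun g => conj ((fun g => conj (χ g)) g)) = χ := by
      funext g; simp
    have hex : ∃ lam : Cfsg.IrrCharacter G, Cfsg.charDegree (lam : G → ℂ) = 1 ∧
        Cfsg.classInner ((fun g => conj (χ g)) * (η : G → ℂ)) (lam : G → ℂ) ≠ 0 := by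
      by_contra hcon
      push Not at hcon
      have h1 := prod_small ha hab hcop hcd hφ' hdeg' hcon ⟨ψ, hψ⟩ hψd
      rw [classInner_mul_move, hcc] at h1
      have h2 := Helper80.classInner_conj_symm (χ * ψ) (η : G → ℂ)
      rw [h1, hm η] at h2
      simp at h2
      exact hη h2
    obtain ⟨lam, hlam, hlne⟩ := hex
    rw [classInner_mul_move, hcc] at hlne
    have hlamc := Helper80.isCharacter_of_isIrrCharacter lam.2
    have h1 : Cfsg.IsIrrCharacter G ((lam : G → ℂ) * χ) :=
      Helper81.twist_irr hlamc (Helper81.linear_one lam hlam) hχ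
    rw [mul_comm, Helper80.classInner_irr_fun η.2 h1] at hlne
    have h2 : (η : G → ℂ) = (lam : G → ℂ) * χ := by
      by_contra h
      rw [if_neg h] at hlne
      exact hlne rfl
    rw [h2, Pi.mul_apply, Helper81.linear_trivial_on hlamc (Helper81.linear_one lam hlam) hg,
      one_mul]
  intro g hg
  have h1 : (χ * ψ) g = ∑ η : Cfsg.IrrCharacter G, (m η : ℂ) * (η : G → ℂ) g := by
    conv_lhs => rw [hexp]
    simp [Finset.sum_apply]
  have h2 : ∑ η : Cfsg.IrrCharacter G, (m η : ℂ) * (η : G → ℂ) g =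
      ∑ η : Cfsg.IrrCharacter G, (m η : ℂ) * χ g := by
    refine Finset.sum_congr rfl fun η _ => ?_
    by_cases hη : m η = 0
    · rw [hη]; simp
    · rw [hkey η hη g hg]
  rw [Pi.mul_apply] at h1
  rw [h1, h2, ← Finset.sum_mul, ← Nat.cast_sum, hmsum]

/-- nonlinear irreducible characters are faithful when every nontrivial normal subgroup
contains the commutator subgroup -/
theorem faithful_of_hmin (hmin : ∀ M : Subgroup G, M.Normal → M ≠ ⊥ → commutator G ≤ M)
    {ψ : G → ℂ} (hψ : Cfsg.IsIrrCharacter G ψ) (hψd : Cfsg.charDegree ψ ≠ 1)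
    {g : G} (hg : ψ g = ψ 1) : g = 1 := by
  have hbot : Helper80.irrKer ⟨ψ, hψ⟩ = ⊥ := by
    by_contra hne
    exact hψd (Helper80.charDegree_eq_one_of_commutator_le ⟨ψ, hψ⟩
      (hmin _ (Helper80.irrKer_normal _) hne))
  have : g ∈ Helper80.irrKer ⟨ψ, hψ⟩ := (Helper80.mem_irrKer _ g).2 hg
  rw [hbot] at this
  exact Subgroup.mem_bot.1 this

theorem no_mixed {a b : ℕ} (ha : 1 < a) (hab : a < b) (hcop : Nat.Coprime a b)
    (hcd : ∀ χ : Cfsg.IrrCharacter G, Cfsg.charDegree (χ : G → ℂ) = 1 ∨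
      Cfsg.charDegree (χ : G → ℂ) = a ∨ Cfsg.charDegree (χ : G → ℂ) = b)
    (hmin : ∀ M : Subgroup G, M.Normal → M ≠ ⊥ → commutator G ≤ M)
    {χ ψ : G → ℂ} (hχ : Cfsg.IsIrrCharacter G χ) (hψ : Cfsg.IsIrrCharacter G ψ)
    (hχd : Cfsg.charDegree χ = a) (hψd : Cfsg.charDegree ψ = b) :
    Cfsg.classInner (χ * ψ) χ = 0 := by
  classical
  by_contra hne
  have hs := star ha hab hcop hcd hχ hψ hχd hψd hne
  have hχc := Helper80.isCharacter_of_isIrrCharacter hχ
  have hψc := Helper80.isCharacter_of_isIrrCharacter hψ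
  have hψ1 : ψ 1 = (b : ℂ) := by rw [Helper80.char_one_eq_charDegree hψc, hψd]
  have hχ1 : χ 1 = (a : ℂ) := by rw [Helper80.char_one_eq_charDegree hχc, hχd]
  have hvan : ∀ g ∈ commutator G, g ≠ 1 → χ g = 0 := by
    intro g hg hg1
    have h1 := hs g hg
    have h2 : χ g * (ψ g - (b : ℂ)) = 0 := by rw [mul_sub, h1]; ring
    rcases mul_eq_zero.1 h2 with h | h
    · exact h
    · exfalso
      apply hg1
      apply faithful_of_hmin hmin hψ (by omega)
      rw [hψ1]
      exact sub_eq_zero.1 h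
  haveI : Fintype (commutator G) := Fintype.ofFinite _
  have hinner : Cfsg.classInner (fun n : commutator G => χ n) (fun _ => (1 : ℂ)) ≠ 0 := by
    unfold Cfsg.classInner
    have hsum : ∑ n : commutator G, χ n * conj (1 : ℂ) = χ 1 := by
      rw [Finset.sum_eq_single (1 : commutator G)]
      · simp
      · intro n _ hn
        rw [hvan n n.2 (fun h => hn (Subtype.ext h))]
        simp
      · intro h
        exact absurd (Finset.mem_univ _) h
    rw [hsum, hχ1]
    apply mul_ne_zero
    · apply inv_ne_zero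
      exact_mod_cast Nat.card_pos.ne'
    · exact_mod_cast (by omega : a ≠ 0)
  have hker := Helper81.ker_of_trivial_constituent (commutator G) hχ hinner
  have hle : commutator G ≤ Helper80.irrKer ⟨χ, hχ⟩ := by
    intro x hx
    exact (Helper80.mem_irrKer _ x).2 (hker x hx)
  have := Helper80.charDegree_eq_one_of_commutator_le ⟨χ, hχ⟩ hle
  simp only at this
  omega

/-- products of two irreducible characters of degree other than `b` have no constituents
of degree `b` -/
theorem closure_lemma {a b : ℕ} (ha : 1 < a) (hab : a < b) (hcop : Nat.Coprime a b)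
    (hcd : ∀ χ : Cfsg.IrrCharacter G, Cfsg.charDegree (χ : G → ℂ) = 1 ∨
      Cfsg.charDegree (χ : G → ℂ) = a ∨ Cfsg.charDegree (χ : G → ℂ) = b)
    (hmin : ∀ M : Subgroup G, M.Normal → M ≠ ⊥ → commutator G ≤ M)
    {ξ ξ' η : G → ℂ} (hξ : Cfsg.IsIrrCharacter G ξ) (hξ' : Cfsg.IsIrrCharacter G ξ')
    (hη : Cfsg.IsIrrCharacter G η)
    (hξd : Cfsg.charDegree ξ ≠ b) (hξ'd : Cfsg.charDegree ξ' ≠ b)
    (hηd : Cfsg.charDegree η = b) :
    Cfsg.classInner (ξ * ξ') η = 0 := by
  classical
  have hξc := Helper80.isCharacter_of_isIrrCharacter hξ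
  have hξ'c := Helper80.isCharacter_of_isIrrCharacter hξ'
  have hηc := Helper80.isCharacter_of_isIrrCharacter hη
  have hξ1 := Helper80.char_one_eq_charDegree hξc
  have hξ'1 := Helper80.char_one_eq_charDegree hξ'c
  have hd1 := hcd ⟨ξ, hξ⟩
  have hd2 := hcd ⟨ξ', hξ'⟩
  simp only at hd1 hd2
  by_cases h1 : Cfsg.charDegree ξ = 1
  · have hirr : Cfsg.IsIrrCharacter G (ξ * ξ') :=
      Helper81.twist_irr hξc (by rw [hξ1, h1, Nat.cast_one]) hξ'
    rw [Helper80.classInner_irr_fun hirr hη, if_neg]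
    intro h
    apply hξ'd
    rw [← hηd, ← h, charDegree_mul' hξc hξ'c, h1, one_mul]
  by_cases h2 : Cfsg.charDegree ξ' = 1
  · have hirr : Cfsg.IsIrrCharacter G (ξ' * ξ) :=
      Helper81.twist_irr hξ'c (by rw [hξ'1, h2, Nat.cast_one]) hξ
    rw [mul_comm, Helper80.classInner_irr_fun hirr hη, if_neg]
    intro h
    apply hξd
    rw [← hηd, ← h, charDegree_mul' hξ'c hξc, h2, one_mul]
  have hda : Cfsg.charDegree ξ = a := by
    rcases hd1 with h | h | h
    · exact absurd h h1
    · exact h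
    · exact absurd h hξd
  have hda' : Cfsg.charDegree ξ' = a := by
    rcases hd2 with h | h | h
    · exact absurd h h2
    · exact h
    · exact absurd h hξ'd
  have hφ : Cfsg.IsCharacter G (ξ * ξ') := Helper80.isCharacter_mul hξc hξ'c
  have hdeg : Cfsg.charDegree (ξ * ξ') = a * a := by rw [charDegree_mul' hξc hξ'c, hda, hda']
  by_cases hlin : ∀ lam : Cfsg.IrrCharacter G, Cfsg.charDegree (lam : G → ℂ) = 1 →
      Cfsg.classInner (ξ * ξ') (lam : G → ℂ) = 0
  · exact prod_small ha hab hcop hcd hφ hdeg hlin ⟨η, hη⟩ hηd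
  · push Not at hlin
    obtain ⟨lam, hlam, hlne⟩ := hlin
    have hlamc := Helper80.isCharacter_of_isIrrCharacter lam.2
    have hξbar : Cfsg.IsIrrCharacter G (fun g => conj (ξ g)) := Helper80.isIrrCharacter_conj hξ
    have h3 : Cfsg.IsIrrCharacter G ((lam : G → ℂ) * fun g => conj (ξ g)) :=
      Helper81.twist_irr hlamc (Helper81.linear_one lam hlam) hξbar
    rw [classInner_mul_move, mul_comm, Helper80.classInner_irr_fun hξ' h3] at hlne
    have h4 : ξ' = (lam : G → ℂ) * fun g => conj (ξ g) := by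
      by_contra h
      rw [if_neg h] at hlne
      exact hlne rfl
    rw [h4, mul_comm (lam : G → ℂ), classInner_swap]
    have hlambar : Cfsg.IsIrrCharacter G (fun g => conj ((lam : G → ℂ) g)) :=
      Helper80.isIrrCharacter_conj lam.2
    have hlambarc := Helper80.isCharacter_of_isIrrCharacter hlambar
    have h5 : Cfsg.IsIrrCharacter G ((fun g => conj ((lam : G → ℂ) g)) * η) := by
      apply Helper81.twist_irr hlambarc _ hη
      show conj ((lam : G → ℂ) 1) = 1
      rw [Helper81.linear_one lam hlam, map_one]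
    have h6 : Cfsg.charDegree ((fun g => conj ((lam : G → ℂ) g)) * η) = b := by
      rw [charDegree_mul' hlambarc hηc, charDegree_conj' hlamc, hlam, one_mul, hηd]
    rw [no_mixed ha hab hcop hcd hmin hξ h5 hda h6, map_zero]

end Split

/-- **Tensor trick.** No finite group has character degrees `1, a, b` with `1 < a < b` coprime,
both attained, if every nontrivial normal subgroup contains the commutator subgroup. -/
theorem partA {G : Type u} [Group G] [Finite G] {a b : ℕ} (ha : 1 < a) (hab : a < b)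
    (hcop : Nat.Coprime a b)
    (hcd : ∀ χ : Cfsg.IrrCharacter G, Cfsg.charDegree (χ : G → ℂ) = 1 ∨
      Cfsg.charDegree (χ : G → ℂ) = a ∨ Cfsg.charDegree (χ : G → ℂ) = b)
    (hmin : ∀ M : Subgroup G, M.Normal → M ≠ ⊥ → commutator G ≤ M)
    (χ₀ : Cfsg.IrrCharacter G) (hχ₀ : Cfsg.charDegree (χ₀ : G → ℂ) = a)
    (ψ₀ : Cfsg.IrrCharacter G) (hψ₀ : Cfsg.charDegree (ψ₀ : G → ℂ) = b) : False := by
  classical
  haveI := Fintype.ofFinite G
  haveI := Fintype.ofFinite (Cfsg.IrrCharacter G)
  set Ψ : G → ℂ := ∑ η : Cfsg.IrrCharacter G,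
    (if Cfsg.charDegree (η : G → ℂ) = b then (1 : ℂ) else 0) • (η : G → ℂ) with hΨ
  have hΨin : ∀ ζ : Cfsg.IrrCharacter G, Cfsg.classInner Ψ (ζ : G → ℂ) =
      if Cfsg.charDegree (ζ : G → ℂ) = b then 1 else 0 := by
    intro ζ
    rw [hΨ, Helper80.classInner_sum_left]
    simp only [Helper80.classInner_smul_left, Helper80.classInner_irr]
    rw [Finset.sum_eq_single ζ]
    · simp
    · intro η _ hne; simp [hne]
    · intro h; exact absurd (Finset.mem_univ _) h
  have hΨcf : Cfsg.IsClassFunction G Ψ := by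
    intro g h
    rw [hΨ]
    simp only [Finset.sum_apply, Pi.smul_apply]
    refine Finset.sum_congr rfl fun η _ => ?_
    rw [Helper80.isClassFunction_of_isCharacter (Helper80.isCharacter_of_isIrrCharacter η.2) g h]
  have hξ := χ₀.2
  have hξc := Helper80.isCharacter_of_isIrrCharacter hξ
  have hξcf := Helper80.isClassFunction_of_isCharacter hξc
  have hξbar : Cfsg.IsIrrCharacter G (fun g => conj ((χ₀ : G → ℂ) g)) :=
    Helper80.isIrrCharacter_conj hξ
  have hξbarc := Helper80.isCharacter_of_isIrrCharacter hξbar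
  have hξbard : Cfsg.charDegree (fun g => conj ((χ₀ : G → ℂ) g)) = a := by
    rw [charDegree_conj' hξc, hχ₀]
  have hcc : (fun g => conj ((fun g => conj ((χ₀ : G → ℂ) g)) g)) = (χ₀ : G → ℂ) := by
    funext g; simp
  have hkey : (χ₀ : G → ℂ) * Ψ = (a : ℂ) • Ψ := by
    have hcf1 : Cfsg.IsClassFunction G ((χ₀ : G → ℂ) * Ψ) := by
      intro g h
      rw [Pi.mul_apply, Pi.mul_apply, hξcf g h, hΨcf g h]
    have hcf2 : Cfsg.IsClassFunction G ((a : ℂ) • Ψ) := by
      intro g h
      rw [Pi.smul_apply, Pi.smul_apply, hΨcf g h]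
    rw [Helper80.classFun_expansion _ hcf1, Helper80.classFun_expansion _ hcf2]
    refine Finset.sum_congr rfl fun ζ _ => ?_
    congr 1
    rw [Helper80.classInner_smul_left, hΨin ζ]
    have hL : Cfsg.classInner ((χ₀ : G → ℂ) * Ψ) (ζ : G → ℂ) =
        ∑ η : Cfsg.IrrCharacter G, (if Cfsg.charDegree (η : G → ℂ) = b then (1 : ℂ) else 0) *
          Cfsg.classInner ((χ₀ : G → ℂ) * (η : G → ℂ)) (ζ : G → ℂ) := by
      rw [hΨ, Finset.mul_sum, Helper80.classInner_sum_left]
      refine Finset.sum_congr rfl fun η _ => ?_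
      rw [mul_smul_comm, Helper80.classInner_smul_left]
    rw [hL]
    by_cases hζ : Cfsg.charDegree (ζ : G → ℂ) = b
    · rw [if_pos hζ, mul_one]
      have hζc := Helper80.isCharacter_of_isIrrCharacter ζ.2
      have hφ : Cfsg.IsCharacter G ((fun g => conj ((χ₀ : G → ℂ) g)) * (ζ : G → ℂ)) :=
        Helper80.isCharacter_mul hξbarc hζc
      obtain ⟨m, hm, hexp⟩ := Helper80.character_expansion hφ
      have hd := Helper80.charDegree_eq_sum hφ m hexp
      rw [charDegree_mul' hξbarc hζc, hξbard, hζ] at hd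
      have hm0 : ∀ η : Cfsg.IrrCharacter G, Cfsg.charDegree (η : G → ℂ) ≠ b → m η = 0 := by
        intro η hη
        have h1 : Cfsg.classInner ((fun g => conj ((χ₀ : G → ℂ) g)) * (ζ : G → ℂ))
            (η : G → ℂ) = 0 := by
          rw [classInner_mul_move, hcc, ← Helper80.classInner_conj_symm,
            closure_lemma ha hab hcop hcd hmin hξ η.2 ζ.2 (by omega) hη hζ, map_zero]
        rw [hm η] at h1
        exact_mod_cast h1
      have hsum : ∑ η : Cfsg.IrrCharacter G, m η = a := by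
        have h1 : ∑ η : Cfsg.IrrCharacter G, m η * Cfsg.charDegree (η : G → ℂ) =
            (∑ η : Cfsg.IrrCharacter G, m η) * b := by
          rw [Finset.sum_mul]
          refine Finset.sum_congr rfl fun η _ => ?_
          by_cases hη : Cfsg.charDegree (η : G → ℂ) = b
          · rw [hη]
          · rw [hm0 η hη]; simp
        rw [h1] at hd
        exact (Nat.eq_of_mul_eq_mul_right (by omega) hd).symm
      have hterm : ∀ η : Cfsg.IrrCharacter G,
          (if Cfsg.charDegree (η : G → ℂ) = b then (1 : ℂ) else 0) *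
            Cfsg.classInner ((χ₀ : G → ℂ) * (η : G → ℂ)) (ζ : G → ℂ) = (m η : ℂ) := by
        intro η
        have h1 : Cfsg.classInner ((χ₀ : G → ℂ) * (η : G → ℂ)) (ζ : G → ℂ) = m η := by
          rw [classInner_mul_move, ← Helper80.classInner_conj_symm, hm η, Complex.conj_natCast]
        by_cases hη : Cfsg.charDegree (η : G → ℂ) = b
        · rw [if_pos hη, one_mul, h1]
        · rw [if_neg hη, zero_mul, hm0 η hη, Nat.cast_zero]
      rw [Finset.sum_congr rfl (fun η _ => hterm η), ← Nat.cast_sum, hsum]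
    · rw [if_neg hζ, mul_zero]
      apply Finset.sum_eq_zero
      intro η _
      by_cases hη : Cfsg.charDegree (η : G → ℂ) = b
      · rw [if_pos hη, one_mul, classInner_mul_move, ← Helper80.classInner_conj_symm,
          closure_lemma ha hab hcop hcd hmin hξbar ζ.2 η.2 (by omega) hζ hη, map_zero]
      · rw [if_neg hη, zero_mul]
  have hvan : ∀ g : G, g ≠ 1 → Ψ g = 0 := by
    intro g hg
    have h1 := congrFun hkey g
    simp only [Pi.mul_apply, Pi.smul_apply, smul_eq_mul] at h1
    have h2 : ((χ₀ : G → ℂ) g - (a : ℂ)) * Ψ g = 0 := by rw [sub_mul, h1]; ring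
    rcases mul_eq_zero.1 h2 with h | h
    · exfalso
      apply hg
      apply faithful_of_hmin hmin χ₀.2 (by omega)
      rw [Helper80.char_one_eq_charDegree hξc, hχ₀]
      exact sub_eq_zero.1 h
    · exact h
  have h1 : Cfsg.classInner Ψ (fun _ => (1 : ℂ)) = 0 := by
    have h := hΨin ⟨fun _ => 1, Helper80.isIrrCharacter_one⟩
    simp only at h
    rw [h, if_neg]
    rw [charDegree_of_one_eq (n := 1) (by simp)]
    omega
  have h2 : Cfsg.classInner Ψ (fun _ => (1 : ℂ)) = (Nat.card G : ℂ)⁻¹ * Ψ 1 := by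
    unfold Cfsg.classInner
    congr 1
    rw [Finset.sum_eq_single 1]
    · simp
    · intro g _ hg; rw [hvan g hg]; simp
    · intro h; exact absurd (Finset.mem_univ _) h
  have h3 : Ψ 1 ≠ 0 := by
    have h4 : Ψ 1 = ((∑ η : Cfsg.IrrCharacter G,
        if Cfsg.charDegree (η : G → ℂ) = b then Cfsg.charDegree (η : G → ℂ) else 0 : ℕ) : ℂ) := by
      rw [hΨ]
      simp only [Finset.sum_apply, Pi.smul_apply, smul_eq_mul]
      push_cast
      refine Finset.sum_congr rfl fun η _ => ?_
      rw [Helper80.char_one_eq_charDegree (Helper80.isCharacter_of_isIrrCharacter η.2)]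
      split_ifs <;> simp
    rw [h4]
    have h5 : 0 < ∑ η : Cfsg.IrrCharacter G,
        if Cfsg.charDegree (η : G → ℂ) = b then Cfsg.charDegree (η : G → ℂ) else 0 := by
      have h6 := Finset.single_le_sum (f := fun η : Cfsg.IrrCharacter G =>
        if Cfsg.charDegree (η : G → ℂ) = b then Cfsg.charDegree (η : G → ℂ) else 0)
        (fun _ _ => Nat.zero_le _) (Finset.mem_univ ψ₀)
      rw [if_pos hψ₀] at h6
      omega
    exact_mod_cast h5.ne'
  rw [h2] at h1
  rcases mul_eq_zero.1 h1 with h | h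
  · have h7 : (Nat.card G : ℂ) ≠ 0 := by exact_mod_cast Nat.card_pos.ne'
    exact h7 (inv_eq_zero.1 h)
  · exact h3 h

end Cfsg.Agent.Lib.Helper39.ThreeDeg
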