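import Mathlib
import Cfsg.Agent.Lib.Helper53.PGroups
import Cfsg.Agent.Lib.Helper81.RelM

set_option autoImplicit false
set_option linter.style.haveILetI false
open Cfsg

/-!
# Three character degrees: group-theoretic lemmas
-/

namespace Cfsg.Agent.Lib.Helper39.ThreeDeg

universe u

section Fpf

variable {Q : Type u} [Group Q] [Finite Q]

/-- if `g` centralizes no nontrivial element of the normal subgroup `A`, then `a ↦ [g, a]` is a
bijection of `A` -/
theorem comm_map_surj (A : Subgroup Q) [hAn : A.Normal] (g : Q)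
    (hg : ∀ a ∈ A, g * a = a * g → a = 1) (y : Q) (hy : y ∈ A) :
    ∃ a ∈ A, g * a * g⁻¹ * a⁻¹ = y := by
  classical
  let φ : A → A := fun a => ⟨g * a * g⁻¹ * (a : Q)⁻¹,
    A.mul_mem (hAn.conj_mem a a.2 g) (A.inv_mem a.2)⟩
  have hinj : Function.Injective φ := by
    intro a b hab
    have h1 : g * (a : Q) * g⁻¹ * (a : Q)⁻¹ = g * (b : Q) * g⁻¹ * (b : Q)⁻¹ :=
      congrArg Subtype.val hab
    have h2 : g * ((b : Q)⁻¹ * a) = ((b : Q)⁻¹ * a) * g := by
      have h3 : g * (a : Q) * g⁻¹ = g * (b : Q) * g⁻¹ * (b : Q)⁻¹ * a := by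
        rw [← h1]; group
      have h4 : g * ((b : Q)⁻¹ * a) = (g * (b : Q) * g⁻¹)⁻¹ * (g * (a : Q) * g⁻¹) * g := by group
      rw [h4, h3]; group
    have h5 := hg _ (A.mul_mem (A.inv_mem b.2) a.2) h2
    apply Subtype.ext
    have h6 : (a : Q) = b * ((b : Q)⁻¹ * a) := by group
    rw [h6, h5, mul_one]
  have hsurj : Function.Surjective φ := Finite.injective_iff_surjective.1 hinj
  obtain ⟨a, ha⟩ := hsurj ⟨y, hy⟩
  exact ⟨a, a.2, congrArg Subtype.val ha⟩

/-- **Structure dichotomy.** If the commutator subgroup `A` of `Q` is abelian and contained in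
every nontrivial normal subgroup, then `A` is central or every element outside `A` acts
fixed-point-freely on `A`. -/
theorem fpf_dichotomy
    (hA : ∀ a ∈ commutator Q, ∀ b ∈ commutator Q, a * b = b * a)
    (hmin : ∀ M : Subgroup Q, M.Normal → M ≠ ⊥ → commutator Q ≤ M) :
    commutator Q ≤ Subgroup.center Q ∨
      ∀ g : Q, g ∉ commutator Q → ∀ a ∈ commutator Q, g * a = a * g → a = 1 := by
  classical
  by_cases hcen : commutator Q ≤ Subgroup.center Q
  · exact Or.inl hcen
  right
  have hAn : (commutator Q).Normal := inferInstance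
  have hcomm : ∀ x y : Q, x⁻¹ * y * x * y⁻¹ ∈ commutator Q := by
    intro x y
    have h := Subgroup.commutator_mem_commutator (Subgroup.mem_top x⁻¹) (Subgroup.mem_top y)
    rw [commutatorElement_def, inv_inv] at h
    exact h
  -- conjugation transport of commuting relations
  have htrans : ∀ (g d x : Q), (∀ a ∈ commutator Q, d * a = a * d) → g * d = d * g →
      g * (x * d * x⁻¹) = (x * d * x⁻¹) * g := by
    intro g d x hd hgd
    have hc := hcomm x g
    have hcd := hd _ hc
    calc g * (x * d * x⁻¹) = x * ((x⁻¹ * g * x * g⁻¹) * (g * d)) * x⁻¹ := by group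
      _ = x * ((x⁻¹ * g * x * g⁻¹) * (d * g)) * x⁻¹ := by rw [hgd]
      _ = x * ((x⁻¹ * g * x * g⁻¹) * d * g) * x⁻¹ := by group
      _ = x * (d * (x⁻¹ * g * x * g⁻¹) * g) * x⁻¹ := by rw [hcd]
      _ = (x * d * x⁻¹) * g := by group
  -- (i): an element centralizing a nontrivial element of `A` centralizes `A`
  have hi : ∀ g : Q, (∃ a ∈ commutator Q, a ≠ 1 ∧ g * a = a * g) →
      ∀ a ∈ commutator Q, g * a = a * g := by
    intro g ⟨a₀, ha₀, ha₀1, hga₀⟩
    let CA : Subgroup Q := commutator Q ⊓ Subgroup.centralizer {g}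
    have hCAn : CA.Normal := by
      refine ⟨fun d hd x => ?_⟩
      have hd' := Subgroup.mem_inf.1 hd
      refine Subgroup.mem_inf.2 ⟨hAn.conj_mem d hd'.1 x, ?_⟩
      rw [Subgroup.mem_centralizer_singleton_iff]
      have hgd : g * d = d * g := (Subgroup.mem_centralizer_singleton_iff.1 hd'.2).symm
      exact (htrans g d x (fun a ha => hA d hd'.1 a ha) hgd).symm
    have hne : CA ≠ ⊥ := by
      intro h
      have : a₀ ∈ CA :=
        Subgroup.mem_inf.2 ⟨ha₀, Subgroup.mem_centralizer_singleton_iff.2 hga₀.symm⟩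
      rw [h] at this
      exact ha₀1 (Subgroup.mem_bot.1 this)
    intro a ha
    exact (Subgroup.mem_centralizer_singleton_iff.1
      (Subgroup.mem_inf.1 (hmin CA hCAn hne ha)).2).symm
  -- an element not centralizing `A`
  obtain ⟨a₁, ha₁, ha₁c⟩ := Set.not_subset.1 hcen
  rw [SetLike.mem_coe, Subgroup.mem_center_iff] at ha₁c
  push Not at ha₁c
  obtain ⟨g₀, hg₀⟩ := ha₁c
  have hg₀fpf : ∀ a ∈ commutator Q, g₀ * a = a * g₀ → a = 1 := by
    intro a ha hga
    by_contra hne
    exact hg₀ (hi g₀ ⟨a, ha, hne, hga⟩ a₁ ha₁)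
  -- the subgroup `D`
  let C : Subgroup Q := Subgroup.centralizer (commutator Q : Set Q)
  have hCmem : ∀ d : Q, d ∈ C ↔ ∀ a ∈ commutator Q, d * a = a * d := by
    intro d
    rw [Subgroup.mem_centralizer_iff]
    constructor
    · intro h a ha; exact (h a ha).symm
    · intro h a ha; exact (h a ha).symm
  let D : Subgroup Q := C ⊓ Subgroup.centralizer {g₀}
  have hCn : C.Normal := by
    refine ⟨fun d hd x => ?_⟩
    rw [hCmem] at hd ⊢
    intro a ha
    have h1 := hd (x⁻¹ * a * x) (by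
      have := hAn.conj_mem a ha x⁻¹
      rwa [inv_inv] at this)
    calc x * d * x⁻¹ * a = x * (d * (x⁻¹ * a * x)) * x⁻¹ := by group
      _ = x * ((x⁻¹ * a * x) * d) * x⁻¹ := by rw [h1]
      _ = a * (x * d * x⁻¹) := by group
  have hDn : D.Normal := by
    refine ⟨fun d hd x => ?_⟩
    have hd' := Subgroup.mem_inf.1 hd
    refine Subgroup.mem_inf.2 ⟨hCn.conj_mem d hd'.1 x, ?_⟩
    rw [Subgroup.mem_centralizer_singleton_iff]
    have hgd : g₀ * d = d * g₀ := (Subgroup.mem_centralizer_singleton_iff.1 hd'.2).symm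
    exact (htrans g₀ d x ((hCmem d).1 hd'.1) hgd).symm
  have hDbot : D = ⊥ := by
    by_contra hne
    have h1 := Subgroup.mem_inf.1 (hmin D hDn hne ha₁)
    have h2 : g₀ * a₁ = a₁ * g₀ := (Subgroup.mem_centralizer_singleton_iff.1 h1.2).symm
    exact hg₀ h2
  intro g hg a ha hga
  by_contra hne
  have hgC : g ∈ C := (hCmem g).2 (hi g ⟨a, ha, hne, hga⟩)
  apply hg
  -- `[g₀, g] ∈ A`
  have h1 : g₀ * g * g₀⁻¹ * g⁻¹ ∈ commutator Q := by
    have h := Subgroup.commutator_mem_commutator (Subgroup.mem_top g₀) (Subgroup.mem_top g)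
    rwa [commutatorElement_def] at h
  obtain ⟨b, hb, hbeq⟩ := comm_map_surj (commutator Q) g₀ hg₀fpf _ h1
  have hbC : b ∈ C := (hCmem b).2 (fun a ha => hA b hb a ha)
  have hd : b⁻¹ * g ∈ D := by
    refine Subgroup.mem_inf.2 ⟨C.mul_mem (C.inv_mem hbC) hgC, ?_⟩
    rw [Subgroup.mem_centralizer_singleton_iff]
    have h3 : g₀ * g * g₀⁻¹ = g₀ * b * g₀⁻¹ * b⁻¹ * g := by rw [hbeq]; group
    have h4 : g₀ * (b⁻¹ * g) = (g₀ * b * g₀⁻¹)⁻¹ * (g₀ * g * g₀⁻¹) * g₀ := by group
    rw [h4, h3]; group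
  rw [hDbot, Subgroup.mem_bot] at hd
  have h5 : g = b := by
    have : g = b * (b⁻¹ * g) := by group
    rw [this, hd, mul_one]
  rw [h5]
  exact hb

/-- a nonabelian group with central commutator subgroup contained in every nontrivial normal
subgroup has prime power order -/
theorem pgroup_of_central (hcen : commutator Q ≤ Subgroup.center Q) (hne : commutator Q ≠ ⊥)
    (hmin : ∀ M : Subgroup Q, M.Normal → M ≠ ⊥ → commutator Q ≤ M) :
    ∃ q : ℕ, q.Prime ∧ ∃ n : ℕ, Nat.card Q = q ^ n := by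
  classical
  haveI hnil : Group.IsNilpotent Q :=
    isNilpotent_of_ker_le_center (Abelianization.of : Q →* Abelianization Q)
      (by rw [Abelianization.ker_of]; exact hcen)
  have hcard1 : Nat.card (commutator Q) ≠ 1 := fun h => hne (Subgroup.card_eq_one.1 h)
  set q := (Nat.card (commutator Q)).minFac with hq
  have hqp : q.Prime := Nat.minFac_prime hcard1
  have hqd : q ∣ Nat.card (commutator Q) := Nat.minFac_dvd _
  refine ⟨q, hqp, _, Nat.eq_prime_pow_of_unique_prime_dvd Nat.card_pos.ne' ?_⟩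
  intro r hr hrd
  haveI : Fact r.Prime := ⟨hr⟩
  obtain ⟨P⟩ : Nonempty (Sylow r Q) := inferInstance
  have hPn : (P : Subgroup Q).Normal := inferInstance
  have hPne : (P : Subgroup Q) ≠ ⊥ := P.ne_bot_of_dvd_card hrd
  have hle := hmin _ hPn hPne
  have h1 : Nat.card (commutator Q) ∣ Nat.card (P : Subgroup Q) := Subgroup.card_dvd_of_le hle
  obtain ⟨k, hk⟩ := (IsPGroup.iff_card (p := r)).1 P.isPGroup'
  have h2 : q ∣ r ^ k := by
    have := hqd.trans h1
    rwa [hk] at this
  exact ((Nat.prime_dvd_prime_iff_eq hqp hr).1 (hqp.dvd_of_dvd_pow h2)).symm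

end Fpf

theorem relIndex_comap_mk {H' : Type u} [Group H'] (L' : Subgroup H') [L'.Normal]
    (Mb : Subgroup (H' ⧸ L')) :
    L'.relIndex (Mb.comap (QuotientGroup.mk' L')) = Nat.card Mb := by
  have h : L' = (⊥ : Subgroup (H' ⧸ L')).comap (QuotientGroup.mk' L') := by
    rw [MonoidHom.comap_bot, QuotientGroup.ker_mk']
  calc L'.relIndex (Mb.comap (QuotientGroup.mk' L'))
      = ((⊥ : Subgroup (H' ⧸ L')).comap (QuotientGroup.mk' L')).relIndex
          (Mb.comap (QuotientGroup.mk' L')) := by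
        congr 1
    _ = (⊥ : Subgroup (H' ⧸ L')).relIndex ((Mb.comap (QuotientGroup.mk' L')).map
          (QuotientGroup.mk' L')) := Subgroup.relIndex_comap _ _ _
    _ = Nat.card Mb := by
        rw [Subgroup.map_comap_eq_self_of_surjective (QuotientGroup.mk'_surjective L'),
          Subgroup.relIndex_bot_left]

section Chief

variable {G : Type u} [Group G] [Finite G]

/-- a subgroup whose index is a prime power satisfies the non-square chief factor hypothesis -/
theorem nonSqChief_of_prime_pow (N : Subgroup G) {s k : ℕ} (hs : s.Prime)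
    (hidx : N.index = s ^ k) : Helper81.NonSqChief N := by
  classical
  haveI : Fact s.Prime := ⟨hs⟩
  intro H K L hNL hLK hKH hHK hHL hch
  have hLH : L ≤ H := hLK.le.trans hKH
  haveI hL'n : (L.subgroupOf H).Normal := by
    refine ⟨fun n hn g => ?_⟩
    rw [Subgroup.mem_subgroupOf] at hn ⊢
    exact hHL g g.2 n hn
  have hK'n : (K.subgroupOf H).Normal := by
    refine ⟨fun n hn g => ?_⟩
    rw [Subgroup.mem_subgroupOf] at hn ⊢
    exact hHK g g.2 n hn
  set π := QuotientGroup.mk' (L.subgroupOf H) with hπ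
  have hπs : Function.Surjective π := QuotientGroup.mk'_surjective _
  -- the quotient is an `s`-group
  have hP : IsPGroup s (H ⧸ L.subgroupOf H) := by
    have h1 : N.relIndex L * L.index = N.index := Subgroup.relIndex_mul_index hNL
    have h2 : L.relIndex H * H.index = L.index := Subgroup.relIndex_mul_index hLH
    have h3 : L.relIndex H ∣ s ^ k := by
      rw [← hidx, ← h1, ← h2]
      exact ⟨N.relIndex L * H.index, by ring⟩
    have h4 : Nat.card (H ⧸ L.subgroupOf H) = L.relIndex H := rfl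
    apply IsPGroup.of_card_dvd_pow (n := k)
    rw [h4]
    exact h3
  set Kb : Subgroup (H ⧸ L.subgroupOf H) := (K.subgroupOf H).map π with hKb
  haveI hKbn : Kb.Normal := hK'n.map π hπs
  have hKbne : Kb ≠ ⊥ := by
    obtain ⟨x, hxK, hxL⟩ := Set.not_subset.1 hLK.not_ge
    intro h
    have h1 : π ⟨x, hKH hxK⟩ ∈ Kb := Subgroup.mem_map_of_mem π (Subgroup.mem_subgroupOf.2 hxK)
    rw [h, Subgroup.mem_bot] at h1
    have h2 : (⟨x, hKH hxK⟩ : H) ∈ L.subgroupOf H := (QuotientGroup.eq_one_iff _).1 h1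
    exact hxL (Subgroup.mem_subgroupOf.1 h2)
  obtain ⟨z, hzK, hz1, hzc⟩ := Helper53.exists_mem_center_of_normal_of_ne_bot hP Kb hKbne
  -- an element of order `s`
  obtain ⟨j, hj⟩ := (IsPGroup.iff_orderOf.1 hP) z
  have hj0 : j ≠ 0 := by
    intro h0
    rw [h0, pow_zero, orderOf_eq_one_iff] at hj
    exact hz1 hj
  have hsd : s ∣ orderOf z := by
    rw [hj]
    exact dvd_pow_self s hj0
  have hz'ord : orderOf (z ^ (orderOf z / s)) = s :=
    orderOf_pow_orderOf_div (by rw [hj]; exact pow_ne_zero _ hs.pos.ne') hsd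
  set z' := z ^ (orderOf z / s) with hz'
  have hz'1 : z' ≠ 1 := by
    intro h
    rw [h, orderOf_one] at hz'ord
    exact hs.one_lt.ne hz'ord
  set Mb : Subgroup (H ⧸ L.subgroupOf H) := Subgroup.zpowers z' with hMb
  have hMbK : Mb ≤ Kb := by
    rw [hMb, Subgroup.zpowers_le]
    exact Kb.pow_mem hzK _
  have hMbc : Mb ≤ Subgroup.center (H ⧸ L.subgroupOf H) := by
    rw [hMb, Subgroup.zpowers_le]
    exact Subgroup.pow_mem _ hzc _
  have hMbcard : Nat.card Mb = s := by rw [hMb, Nat.card_zpowers, hz'ord]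
  set M : Subgroup G := (Mb.comap π).map H.subtype with hM
  have hLeq : L = (L.subgroupOf H).map H.subtype := (Subgroup.map_subgroupOf_eq_of_le hLH).symm
  have hLM : L ≤ M := by
    rw [hLeq, hM]
    apply Subgroup.map_mono
    intro x hx
    show π x ∈ Mb
    have : π x = 1 := (QuotientGroup.eq_one_iff x).2 hx
    rw [this]
    exact Mb.one_mem
  have hMK : M ≤ K := by
    rintro m ⟨h, hh, rfl⟩
    have h1 : π h ∈ Kb := hMbK hh
    obtain ⟨k', hk', hkeq⟩ := h1
    have h2 : k'⁻¹ * h ∈ L.subgroupOf H := QuotientGroup.eq.1 hkeq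
    have h3 : ((k'⁻¹ * h : H) : G) ∈ K := hLK.le (Subgroup.mem_subgroupOf.1 h2)
    have h4 : (h : G) = (k' : G) * ((k'⁻¹ * h : H) : G) := by
      push_cast; group
    show (h : G) ∈ K
    rw [h4]
    exact K.mul_mem (Subgroup.mem_subgroupOf.1 hk') h3
  have hMinv : ∀ h ∈ H, ∀ m ∈ M, h * m * h⁻¹ ∈ M := by
    rintro h hh m ⟨h₁, hh₁, rfl⟩
    refine ⟨⟨h, hh⟩ * h₁ * ⟨h, hh⟩⁻¹, ?_, rfl⟩
    show π (⟨h, hh⟩ * h₁ * ⟨h, hh⟩⁻¹) ∈ Mb
    have h1 : π h₁ ∈ Mb := hh₁
    have h2 := Subgroup.mem_center_iff.1 (hMbc h1) (π ⟨h, hh⟩)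
    rw [map_mul, map_mul, map_inv, h2, mul_inv_cancel_right]
    exact h1
  rcases hch M hLM hMK hMinv with h | h
  · exfalso
    obtain ⟨h₂, hh₂⟩ := hπs z'
    have h1 : (h₂ : G) ∈ M := ⟨h₂, by
      show π h₂ ∈ Mb
      rw [hh₂]
      exact Subgroup.mem_zpowers z', rfl⟩
    rw [h] at h1
    have h2 : π h₂ = 1 := (QuotientGroup.eq_one_iff _).2 (Subgroup.mem_subgroupOf.2 h1)
    rw [hh₂] at h2
    exact hz'1 h2
  · have hrel : L.relIndex K = s := by
      rw [← h]
      conv_lhs => rw [hLeq, hM]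
      rw [Subgroup.relIndex_map_map_of_injective _ _ H.subtype_injective,
        relIndex_comap_mk, hMbcard]
    rw [hrel]
    exact hs.prime.irreducible.not_isSquare

end Chief

section Derived

variable {G : Type u} [Group G]

theorem dser_le_map (N : Subgroup G) (i m : ℕ)
    (h : derivedSeries G i ≤ (derivedSeries N m).map N.subtype) (j : ℕ) :
    derivedSeries G (i + j) ≤ (derivedSeries N (m + j)).map N.subtype := by
  induction j with
  | zero => exact h
  | succ j ih =>
    rw [← add_assoc, ← add_assoc, derivedSeries_succ, derivedSeries_succ, Subgroup.map_commutator]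
    exact Subgroup.commutator_mono ih ih

theorem dser_le_of_quot (M : Subgroup G) [M.Normal] (i : ℕ)
    (h : derivedSeries (G ⧸ M) i = ⊥) : derivedSeries G i ≤ M := by
  intro x hx
  have h1 : QuotientGroup.mk' M x ∈ (derivedSeries G i).map (QuotientGroup.mk' M) :=
    Subgroup.mem_map_of_mem _ hx
  rw [map_derivedSeries_eq (QuotientGroup.mk'_surjective M), h, Subgroup.mem_bot] at h1
  exact (QuotientGroup.eq_one_iff x).1 h1

theorem map_dser_zero (N : Subgroup G) : (derivedSeries N 0).map N.subtype = N := by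
  rw [derivedSeries_zero, ← MonoidHom.range_eq_map, Subgroup.range_subtype]

theorem map_dser_one (N : Subgroup G) : (derivedSeries N 1).map N.subtype = ⁅N, N⁆ := by
  rw [derivedSeries_one, commutator_def, Subgroup.map_commutator, ← MonoidHom.range_eq_map,
    Subgroup.range_subtype]

end Derived

end Cfsg.Agent.Lib.Helper39.ThreeDeg
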