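import Mathlib
import Cfsg.Agent.S0136
import Cfsg.Agent.S0187
import Cfsg.Agent.S0858
import Cfsg.Agent.S0887
import Cfsg.Agent.S4456
import Cfsg.Agent.S4458
import Cfsg.Agent.Lib.Helper3.Taketa
import Cfsg.Agent.Lib.Helper15.LinChar
import Cfsg.Agent.Lib.Helper80.Winter2
import Cfsg.Agent.Lib.Helper80.BrolineGarrison
import Cfsg.Agent.Lib.Helper80.ItoConverse
import Cfsg.Agent.Lib.Helper82.AbelianSylow
import Cfsg.Agent.Lib.Helper39.ThreeDegA
import Cfsg.Agent.Lib.Helper39.ThreeDegB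

set_option autoImplicit false
set_option linter.style.haveILetI false
open Cfsg

/-!
# Three character degrees: Taketa's argument and the case of a common prime divisor
-/

namespace Cfsg.Agent.Lib.Helper39.ThreeDeg

open scoped ComplexConjugate
open Cfsg.Agent.Lib.Helper3

universe u

section Small

variable {G : Type u} [Group G] [Finite G]

theorem one_deg_dl1 (hcd : ∀ χ : Cfsg.IrrCharacter G, Cfsg.charDegree (χ : G → ℂ) = 1) :
    derivedSeries G 1 = ⊥ := by
  have hc := (Helper80.isMulCommutative_of_forall_charDegree_eq_one hcd).is_comm.comm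
  rw [derivedSeries_one, commutator_def, eq_bot_iff, Subgroup.commutator_le]
  intro g₁ _ g₂ _
  rw [Subgroup.mem_bot, commutatorElement_eq_one_iff_mul_comm]
  exact hc g₁ g₂

theorem two_deg_dl2 (m : ℕ)
    (hcd : ∀ χ : Cfsg.IrrCharacter G, Cfsg.charDegree (χ : G → ℂ) = 1 ∨
      Cfsg.charDegree (χ : G → ℂ) = m) : derivedSeries G 2 = ⊥ := by
  by_cases hex : (∃ χ : Cfsg.IrrCharacter G, Cfsg.charDegree (χ : G → ℂ) = m) ∧ m ≠ 1
  · have hA := Cfsg.Agent.S4458.result m hcd hex.1 hex.2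
    rw [derivedSeries_succ, derivedSeries_one, eq_bot_iff, Subgroup.commutator_le]
    intro g₁ h₁ g₂ h₂
    rw [Subgroup.mem_bot, commutatorElement_eq_one_iff_mul_comm]
    exact hA g₁ h₁ g₂ h₂
  · have h1 : ∀ χ : Cfsg.IrrCharacter G, Cfsg.charDegree (χ : G → ℂ) = 1 := by
      intro χ
      rcases hcd χ with h | h
      · exact h
      · by_contra hne
        exact hex ⟨⟨χ, h⟩, fun hm => hne (h.trans hm)⟩
    have h2 := one_deg_dl1 h1
    rw [eq_bot_iff, ← h2]
    exact derivedSeries_antitone G (by norm_num)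

end Small

section Taketa

variable {G : Type u} [Group G] [Fintype G]

/-- One step of Taketa's argument. -/
theorem taketa_step (d n : ℕ)
    (hn : ∀ χ : Cfsg.IrrCharacter G, Cfsg.charDegree (χ : G → ℂ) < d →
      ∀ g ∈ derivedSeries G n, (χ : G → ℂ) g = (χ : G → ℂ) 1)
    (χ : Cfsg.IrrCharacter G) (hd : Cfsg.charDegree (χ : G → ℂ) = d)
    (hM : ∃ (H : Subgroup G) (lam : H →* ℂˣ),
      (χ : G → ℂ) = Cfsg.indFun H (fun h => (lam h : ℂ))) :
    ∀ g ∈ derivedSeries G (n + 1), (χ : G → ℂ) g = (χ : G → ℂ) 1 := by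
  classical
  have := Fintype.ofFinite (Cfsg.IrrCharacter G)
  intro g hg
  have hdeg : ∀ ψ : Cfsg.IrrCharacter G, (ψ : G → ℂ) 1 = Cfsg.charDegree (ψ : G → ℂ) :=
    fun ψ => Helper80.char_one_eq_charDegree (Helper80.isCharacter_of_isIrrCharacter ψ.2)
  let one : Cfsg.IrrCharacter G := ⟨fun _ => 1, isIrrCharacter_one⟩
  have hdeg1 : Cfsg.charDegree (one : G → ℂ) = 1 := by
    have h := hdeg one
    have h' : (1 : ℂ) = Cfsg.charDegree (one : G → ℂ) := h
    exact_mod_cast h'.symm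
  obtain ⟨H, lam, hχ'⟩ := hM
  have hidx : H.index = d := by
    have h1 := hdeg χ
    rw [hχ', Cfsg.Agent.Lib.Helper75.indFun_one] at h1
    simp only [map_one, Units.val_one, mul_one] at h1
    rw [← hd, hχ']
    exact_mod_cast h1
  have hsub : derivedSeries G n ≤ H := by
    by_cases htop : H = ⊤
    · rw [htop]; exact le_top
    have hd2 : 2 ≤ d := by
      have h0 : H.index ≠ 0 := Subgroup.index_ne_zero_of_finite
      have h1 : H.index ≠ 1 := fun h => htop (Subgroup.index_eq_one.mp h)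
      omega
    intro x hx
    apply mem_of_indFun_one_eq H
    have hI : Cfsg.IsCharacter G (Cfsg.indFun H (fun _ => (1 : ℂ))) :=
      Cfsg.Agent.Lib.Helper75.isCharacter_indFun H (isCharacter_of_irr isIrrCharacter_one)
    obtain ⟨m, hm⟩ := exists_mult_of_isCharacter hI
    have hm1 : m one = 1 := by
      have h1 := pair_sum_irr (fun ψ => (m ψ : ℂ)) one
      rw [← hm, ← classInner_eq_pair _ (isCharacter_of_irr one.2),
        frobenius_reciprocity H _ _
          (isClassFunction_of_isCharacter (isCharacter_of_irr one.2))] at h1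
      have h2 : Cfsg.classInner (fun _ : H => (1 : ℂ)) (fun h : H => (one : G → ℂ) h) = 1 :=
        classInner_irr_self (isIrrCharacter_one (G := H))
      rw [h2] at h1
      exact_mod_cast h1.symm
    have hsum : d = ∑ ψ : Cfsg.IrrCharacter G, m ψ * Cfsg.charDegree (ψ : G → ℂ) := by
      have h1 := congrFun hm 1
      rw [Cfsg.Agent.Lib.Helper75.indFun_one, hidx] at h1
      simp only [mul_one, Finset.sum_apply, Pi.smul_apply, smul_eq_mul, hdeg] at h1
      exact_mod_cast h1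
    have hcons : ∀ ψ : Cfsg.IrrCharacter G, m ψ ≠ 0 → Cfsg.charDegree (ψ : G → ℂ) < d := by
      intro ψ hψ
      by_cases h1 : ψ = one
      · rw [h1, hdeg1]; omega
      · have h2 : m ψ * Cfsg.charDegree (ψ : G → ℂ) + m one * Cfsg.charDegree (one : G → ℂ) ≤
            ∑ ψ : Cfsg.IrrCharacter G, m ψ * Cfsg.charDegree (ψ : G → ℂ) := by
          rw [← Finset.add_sum_erase Finset.univ _ (Finset.mem_univ ψ)]
          apply Nat.add_le_add_left
          exact Finset.single_le_sum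
            (f := fun ψ : Cfsg.IrrCharacter G => m ψ * Cfsg.charDegree (ψ : G → ℂ))
            (fun _ _ => Nat.zero_le _)
            (Finset.mem_erase.mpr ⟨Ne.symm h1, Finset.mem_univ _⟩)
        rw [← hsum, hm1, hdeg1] at h2
        have h3 : Cfsg.charDegree (ψ : G → ℂ) ≤ m ψ * Cfsg.charDegree (ψ : G → ℂ) :=
          Nat.le_mul_of_pos_left _ (Nat.pos_of_ne_zero hψ)
        omega
    rw [hm]
    simp only [Finset.sum_apply, Pi.smul_apply, smul_eq_mul]
    refine Finset.sum_congr rfl (fun ψ _ => ?_)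
    by_cases hψ : m ψ = 0
    · rw [hψ]; simp
    · rw [hn ψ (hcons ψ hψ) x hx]
  have hN : (derivedSeries G (n + 1)).Normal := derivedSeries_normal G (n + 1)
  have hker : ∀ y ∈ derivedSeries G (n + 1), ∃ hy : y ∈ H, lam ⟨y, hy⟩ = 1 := by
    have h1 : derivedSeries G (n + 1) ≤ (lam.ker).map H.subtype := by
      rw [derivedSeries_succ]
      refine (Subgroup.commutator_mono hsub hsub).trans ?_
      rw [Subgroup.commutator_le]
      intro a ha b hb
      let a' : H := ⟨a, ha⟩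
      let b' : H := ⟨b, hb⟩
      refine ⟨a' * b' * a'⁻¹ * b'⁻¹, ?_, rfl⟩
      show a' * b' * a'⁻¹ * b'⁻¹ ∈ lam.ker
      rw [MonoidHom.mem_ker, map_mul, map_mul, map_mul, map_inv, map_inv]
      rw [mul_comm (lam a') (lam b'), mul_inv_cancel_right, mul_inv_cancel]
    intro y hy
    obtain ⟨z, hz, rfl⟩ := h1 hy
    exact ⟨z.2, hz⟩
  rw [hχ']
  exact indFun_eq_one_of_normal H lam _ hker hg

/-- **Taketa for three degrees.** A monomial group with character degrees among `1 < a < b`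
has derived length at most `3`. -/
theorem taketa3 {a b : ℕ} (ha : 1 < a) (hab : a < b)
    (hcd : ∀ χ : Cfsg.IrrCharacter G, Cfsg.charDegree (χ : G → ℂ) = 1 ∨
      Cfsg.charDegree (χ : G → ℂ) = a ∨ Cfsg.charDegree (χ : G → ℂ) = b)
    (hM : ∀ χ : G → ℂ, Cfsg.IsIrrCharacter G χ →
      ∃ (H : Subgroup G) (lam : H →* ℂˣ), χ = Cfsg.indFun H (fun h => (lam h : ℂ))) :
    derivedSeries G 3 = ⊥ := by
  classical
  have hpos : ∀ χ : Cfsg.IrrCharacter G, 0 < Cfsg.charDegree (χ : G → ℂ) :=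
    fun χ => Helper80.charDegree_pos χ.2
  have h1 : ∀ χ : Cfsg.IrrCharacter G, Cfsg.charDegree (χ : G → ℂ) < a →
      ∀ g ∈ derivedSeries G 1, (χ : G → ℂ) g = (χ : G → ℂ) 1 := by
    intro χ hχ
    have hχ1 : Cfsg.charDegree (χ : G → ℂ) = 1 := by
      rcases hcd χ with h | h | h <;> omega
    exact taketa_step 1 0 (fun ψ hψ => absurd (hpos ψ) (by omega)) χ hχ1 (hM χ χ.2)
  have h2 : ∀ χ : Cfsg.IrrCharacter G, Cfsg.charDegree (χ : G → ℂ) < b →
      ∀ g ∈ derivedSeries G 2, (χ : G → ℂ) g = (χ : G → ℂ) 1 := by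
    intro χ hχ g hg
    rcases hcd χ with h | h | h
    · exact h1 χ (by omega) g (derivedSeries_antitone G (by norm_num) hg)
    · exact taketa_step a 1 h1 χ h (hM χ χ.2) g hg
    · omega
  have h3 : ∀ χ : Cfsg.IrrCharacter G,
      ∀ g ∈ derivedSeries G 3, (χ : G → ℂ) g = (χ : G → ℂ) 1 := by
    intro χ g hg
    rcases hcd χ with h | h | h
    · exact h2 χ (by omega) g (derivedSeries_antitone G (by norm_num) hg)
    · exact h2 χ (by omega) g (derivedSeries_antitone G (by norm_num) hg)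
    · exact taketa_step b 2 h2 χ h (hM χ χ.2) g hg
  rw [eq_bot_iff]
  intro g hg
  rw [Subgroup.mem_bot]
  have h4 : IsConj g 1 := by
    rw [Cfsg.Agent.S0136.result]
    intro χ
    exact h3 χ g hg
  exact isConj_one_left.mp h4

/-- a group with an abelian normal subgroup of prime power index is monomial -/
theorem monomial_of_abelian_normal (N : Subgroup G) [N.Normal]
    (hN : ∀ x y : N, x * y = y * x) {s k : ℕ} (hs : s.Prime) (hidx : N.index = s ^ k)
    (χ : G → ℂ) (hχ : Cfsg.IsIrrCharacter G χ) :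
    ∃ (H : Subgroup G) (lam : H →* ℂˣ), χ = Cfsg.indFun H (fun h => (lam h : ℂ)) := by
  classical
  haveI : Fact s.Prime := ⟨hs⟩
  have hP : IsPGroup s (G ⧸ N) := IsPGroup.of_card (n := k) (by rw [← hidx]; rfl)
  haveI hnil : Group.IsNilpotent (G ⧸ N) := hP.isNilpotent
  have hsolv : Group.IsSolvable (G ⧸ N) := inferInstance
  obtain ⟨H, hNH, ψ, hψ, hind, hψN⟩ :=
    Cfsg.Agent.S0858.result N hsolv (nonSqChief_of_prime_pow N hs hidx) χ hχ
  have h1 : ψ 1 = 1 := Helper82.irr_one_eq_one_of_comm hN hψN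
  have hψc := Helper80.isCharacter_of_isIrrCharacter hψ
  refine ⟨H, Helper15.linCharHom hψc h1, ?_⟩
  rw [← hind]
  rfl

end Taketa

section CaseII

theorem sprime_part_unique {s x y i j : ℕ} (hs : s.Prime) (hx : Nat.Coprime x s)
    (hy : ¬ s ∣ y) (h : x * s ^ j = s ^ i * y) : x = y := by
  have hy' : Nat.Coprime y s := ((Nat.Prime.coprime_iff_not_dvd hs).2 hy).symm
  apply Nat.dvd_antisymm
  · have h1 : x ∣ s ^ i * y := ⟨s ^ j, h.symm⟩
    exact (Nat.Coprime.pow_right i hx).dvd_of_dvd_mul_left h1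
  · have h1 : y ∣ x * s ^ j := ⟨s ^ i, by rw [h]; ring⟩
    exact (Nat.Coprime.pow_right j hy').dvd_of_dvd_mul_right h1

theorem deg_over {G : Type u} [Group G] [Fintype G] (N : Subgroup G) [N.Normal] [Fintype N]
    {s k : ℕ} (hs : s.Prime) (hidx : N.index = s ^ k) (hcop : (Nat.card N).Coprime s)
    {χ : G → ℂ} (hχ : Cfsg.IsIrrCharacter G χ) {θ : N → ℂ} (hθ : Cfsg.IsIrrCharacter N θ)
    (hcon : Cfsg.classInner (fun n : N => χ n) θ ≠ 0) :
    ∃ j, Cfsg.charDegree χ = Cfsg.charDegree θ * s ^ j ∧ Nat.Coprime (Cfsg.charDegree θ) s := by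
  have h := Cfsg.Agent.S0887.result N χ hχ θ hθ hcon (Cfsg.charDegree χ) (Cfsg.charDegree θ)
    (Helper80.char_one_eq_charDegree (Helper80.isCharacter_of_isIrrCharacter hχ))
    (Helper80.char_one_eq_charDegree (Helper80.isCharacter_of_isIrrCharacter hθ))
  rw [hidx] at h
  obtain ⟨j, -, hj⟩ := (Nat.dvd_prime_pow hs).1 h.2
  refine ⟨j, ?_, Nat.Coprime.coprime_dvd_left (Helper80.charDegree_dvd_card hθ) hcop⟩
  rw [← hj, Nat.mul_div_cancel' h.1]

theorem dl_of_quot_sub {G : Type u} [Group G] (N : Subgroup G) [N.Normal] (i j : ℕ)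
    (h1 : derivedSeries (G ⧸ ⁅N, N⁆) i = ⊥) (h2 : derivedSeries N (1 + j) = ⊥) :
    derivedSeries G (i + j) = ⊥ := by
  have h3 : derivedSeries G i ≤ (derivedSeries N 1).map N.subtype := by
    rw [map_dser_one]
    exact dser_le_of_quot _ i h1
  have h4 := dser_le_map N i 1 h3 j
  rw [h2, Subgroup.map_bot] at h4
  exact eq_bot_iff.2 h4

theorem caseII {G : Type u} [Group G] [Finite G] {a b s : ℕ} (ha : 1 < a) (hab : a < b)
    (hs : s.Prime) (hsa : s ∣ a) (hsb : s ∣ b)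
    (hcd : ∀ χ : Cfsg.IrrCharacter G, Cfsg.charDegree (χ : G → ℂ) = 1 ∨
      Cfsg.charDegree (χ : G → ℂ) = a ∨ Cfsg.charDegree (χ : G → ℂ) = b)
    (hexa : ∃ χ : Cfsg.IrrCharacter G, Cfsg.charDegree (χ : G → ℂ) = a)
    (ih : ∀ (H : Type u) [Group H] [Finite H], Nat.card H < Nat.card G → ∀ a' b' : ℕ,
      (∀ χ : Cfsg.IrrCharacter H, Cfsg.charDegree (χ : H → ℂ) = 1 ∨
        Cfsg.charDegree (χ : H → ℂ) = a' ∨ Cfsg.charDegree (χ : H → ℂ) = b') →
      derivedSeries H 3 = ⊥) :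
    derivedSeries G 3 = ⊥ := by
  classical
  haveI := Fintype.ofFinite G
  have hdeg : ∀ χ : Cfsg.IrrCharacter G, Cfsg.charDegree (χ : G → ℂ) ≠ 1 →
      s ∣ Cfsg.charDegree (χ : G → ℂ) := by
    intro χ hχ
    rcases hcd χ with h | h | h
    · exact absurd h hχ
    · rw [h]; exact hsa
    · rw [h]; exact hsb
  obtain ⟨N, hNn, hNcop, k, hk⟩ := Cfsg.Agent.S4456.result s hs hdeg
  haveI := hNn
  haveI : Fintype N := Fintype.ofFinite N
  haveI : Fintype (Cfsg.IrrCharacter N) := Fintype.ofFinite _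
  obtain ⟨ia, a', ha', haeq⟩ := Nat.exists_eq_pow_mul_and_not_dvd (by omega : a ≠ 0) s hs.ne_one
  obtain ⟨ib, b', hb', hbeq⟩ := Nat.exists_eq_pow_mul_and_not_dvd (by omega : b ≠ 0) s hs.ne_one
  -- degrees of `N`
  have cdN : ∀ θ : Cfsg.IrrCharacter N, Cfsg.charDegree (θ : N → ℂ) = 1 ∨
      Cfsg.charDegree (θ : N → ℂ) = a' ∨ Cfsg.charDegree (θ : N → ℂ) = b' := by
    intro θ
    obtain ⟨χ, hχ, hcon⟩ := Helper80.exists_irr_over N θ.2
    obtain ⟨j, hj, hcopθ⟩ := deg_over N hs hk hNcop hχ θ.2 hcon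
    rcases hcd ⟨χ, hχ⟩ with h | h | h
    · left
      rw [show Cfsg.charDegree χ = 1 from h] at hj
      exact Nat.eq_one_of_mul_eq_one_right hj.symm
    · right; left
      rw [show Cfsg.charDegree χ = a from h, haeq] at hj
      exact sprime_part_unique hs hcopθ ha' hj.symm
    · right; right
      rw [show Cfsg.charDegree χ = b from h, hbeq] at hj
      exact sprime_part_unique hs hcopθ hb' hj.symm
  -- degrees of `G ⧸ ⁅N, N⁆`
  have cdQ : ∀ ψ : Cfsg.IrrCharacter (G ⧸ ⁅N, N⁆),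
      (Cfsg.charDegree (ψ : G ⧸ ⁅N, N⁆ → ℂ) = 1 ∨ Cfsg.charDegree (ψ : G ⧸ ⁅N, N⁆ → ℂ) = a ∨
        Cfsg.charDegree (ψ : G ⧸ ⁅N, N⁆ → ℂ) = b) ∧
      ∃ j, Cfsg.charDegree (ψ : G ⧸ ⁅N, N⁆ → ℂ) = s ^ j := by
    intro ψ
    have hχ : Cfsg.IsIrrCharacter G (fun g : G => (ψ : G ⧸ ⁅N, N⁆ → ℂ) (g : G ⧸ ⁅N, N⁆)) :=
      Helper80.isIrrCharacter_inflate ⁅N, N⁆ ψ.2
    have hdegeq : Cfsg.charDegree (fun g : G => (ψ : G ⧸ ⁅N, N⁆ → ℂ) (g : G ⧸ ⁅N, N⁆)) =
        Cfsg.charDegree (ψ : G ⧸ ⁅N, N⁆ → ℂ) := rfl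
    refine ⟨by rw [← hdegeq]; exact hcd ⟨_, hχ⟩, ?_⟩
    obtain ⟨θ, hθ, hcon⟩ := Helper80.exists_constituent_restrict N hχ
    have hθlin : Cfsg.charDegree θ = 1 := by
      apply Helper80.charDegree_eq_one_of_commutator_le ⟨θ, hθ⟩
      intro x hx
      rw [Helper80.mem_irrKer]
      apply Helper80.constituent_ker
        (Helper75.isCharacter_res N (Helper80.isCharacter_of_isIrrCharacter hχ)) hθ hcon
      show (ψ : G ⧸ ⁅N, N⁆ → ℂ) ((x : G) : G ⧸ ⁅N, N⁆) = (ψ : G ⧸ ⁅N, N⁆ → ℂ) ((1 : G) : G ⧸ ⁅N, N⁆)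
      have hxm : (x : G) ∈ ⁅N, N⁆ := by
        rw [← map_dser_one, derivedSeries_one]
        exact Subgroup.mem_map_of_mem _ hx
      have h1 : ((x : G) : G ⧸ ⁅N, N⁆) = ((1 : G) : G ⧸ ⁅N, N⁆) := by
        rw [QuotientGroup.mk_one]
        exact (QuotientGroup.eq_one_iff _).2 hxm
      rw [h1]
    obtain ⟨j, hj, -⟩ := deg_over N hs hk hNcop hχ hθ hcon
    refine ⟨j, ?_⟩
    rw [← hdegeq, hj, hθlin, one_mul]
  -- `N` is a proper subgroup
  have hNlt : Nat.card N < Nat.card G := by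
    obtain ⟨χa, hχa⟩ := hexa
    have h1 : s ∣ Nat.card G := by
      have := Helper80.charDegree_dvd_card χa.2
      rw [hχa] at this
      exact hsa.trans this
    have h2 : Nat.card N * N.index = Nat.card G := Subgroup.card_mul_index N
    rw [hk] at h2
    have hk0 : k ≠ 0 := by
      intro h0
      rw [h0, pow_zero, mul_one] at h2
      rw [← h2] at h1
      have := Nat.Coprime.eq_one_of_dvd hNcop.symm h1
      exact hs.one_lt.ne' this
    have h3 : 2 ≤ s ^ k := by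
      calc 2 ≤ s := hs.two_le
        _ ≤ s ^ k := Nat.le_self_pow hk0 s
    have h4 : 0 < Nat.card N := Nat.card_pos
    rw [← h2]
    nlinarith
  -- a power of `s` equal to `s ^ i * c` with `s ∤ c` forces `c = 1`
  have hpow : ∀ (c i j : ℕ), ¬ s ∣ c → s ^ j = s ^ i * c → c = 1 := by
    intro c i j hc h
    have hc' : Nat.Coprime c s := ((Nat.Prime.coprime_iff_not_dvd hs).2 hc).symm
    have h1 : c ∣ s ^ j := ⟨s ^ i, by rw [h]; ring⟩
    exact Nat.Coprime.eq_one_of_dvd (Nat.Coprime.pow_right j hc') h1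
  by_cases ha1 : a' = 1
  · by_cases hb1 : b' = 1
    · -- `N` is abelian
      have hlin : ∀ θ : Cfsg.IrrCharacter N, Cfsg.charDegree (θ : N → ℂ) = 1 := by
        intro θ
        rcases cdN θ with h | h | h
        · exact h
        · rw [h, ha1]
        · rw [h, hb1]
      have hc := (Helper80.isMulCommutative_of_forall_charDegree_eq_one hlin).is_comm.comm
      exact taketa3 ha hab hcd (monomial_of_abelian_normal N hc hs hk)
    · -- `b` is not a power of `s`
      have hQ : ∀ ψ : Cfsg.IrrCharacter (G ⧸ ⁅N, N⁆),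
          Cfsg.charDegree (ψ : G ⧸ ⁅N, N⁆ → ℂ) = 1 ∨ Cfsg.charDegree (ψ : G ⧸ ⁅N, N⁆ → ℂ) = a := by
        intro ψ
        obtain ⟨h1, j, hj⟩ := cdQ ψ
        rcases h1 with h | h | h
        · exact Or.inl h
        · exact Or.inr h
        · exfalso
          rw [h, hbeq] at hj
          exact hb1 (hpow b' ib j hb' hj.symm)
      have hNN : ∀ θ : Cfsg.IrrCharacter N, Cfsg.charDegree (θ : N → ℂ) = 1 ∨
          Cfsg.charDegree (θ : N → ℂ) = b' := by
        intro θ
        rcases cdN θ with h | h | h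
        · exact Or.inl h
        · left; rw [h, ha1]
        · exact Or.inr h
      exact dl_of_quot_sub N 2 1 (two_deg_dl2 a hQ) (two_deg_dl2 b' hNN)
  · by_cases hb1 : b' = 1
    · have hQ : ∀ ψ : Cfsg.IrrCharacter (G ⧸ ⁅N, N⁆),
          Cfsg.charDegree (ψ : G ⧸ ⁅N, N⁆ → ℂ) = 1 ∨ Cfsg.charDegree (ψ : G ⧸ ⁅N, N⁆ → ℂ) = b := by
        intro ψ
        obtain ⟨h1, j, hj⟩ := cdQ ψ
        rcases h1 with h | h | h
        · exact Or.inl h
        · exfalso
          rw [h, haeq] at hj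
          exact ha1 (hpow a' ia j ha' hj.symm)
        · exact Or.inr h
      have hNN : ∀ θ : Cfsg.IrrCharacter N, Cfsg.charDegree (θ : N → ℂ) = 1 ∨
          Cfsg.charDegree (θ : N → ℂ) = a' := by
        intro θ
        rcases cdN θ with h | h | h
        · exact Or.inl h
        · exact Or.inr h
        · left; rw [h, hb1]
      exact dl_of_quot_sub N 2 1 (two_deg_dl2 b hQ) (two_deg_dl2 a' hNN)
    · have hQ : ∀ ψ : Cfsg.IrrCharacter (G ⧸ ⁅N, N⁆),
          Cfsg.charDegree (ψ : G ⧸ ⁅N, N⁆ → ℂ) = 1 := by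
        intro ψ
        obtain ⟨h1, j, hj⟩ := cdQ ψ
        rcases h1 with h | h | h
        · exact h
        · exfalso
          rw [h, haeq] at hj
          exact ha1 (hpow a' ia j ha' hj.symm)
        · exfalso
          rw [h, hbeq] at hj
          exact hb1 (hpow b' ib j hb' hj.symm)
      exact dl_of_quot_sub N 1 2 (one_deg_dl1 hQ) (ih N hNlt a' b' cdN)

end CaseII

end Cfsg.Agent.Lib.Helper39.ThreeDeg
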