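import Mathlib
import Cfsg.Agent.Lib.Helper25.Feit3
import Cfsg.Agent.Lib.Helper74.TwoDeg
import Cfsg.Agent.Lib.Helper75.Gallagher2
import Cfsg.Agent.Lib.Helper79.Linear
import Cfsg.Agent.Lib.Helper80.PrimeCodeg
import Cfsg.Agent.Lib.Helper80.Orthogonality
import Cfsg.Agent.Lib.Helper81.GallRel
import Cfsg.Agent.Lib.Helper39.ThreeDegC

set_option autoImplicit false
set_option linter.style.haveILetI false
open Cfsg

/-!
# Three character degrees: the coprime case
-/

namespace Cfsg.Agent.Lib.Helper39.ThreeDeg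

open scoped ComplexConjugate
open scoped commutatorElement

universe u

theorem comm_aux {M : Type*} [CommGroup M] (x y z w : M) (h : x * y = z * w) :
    z * x⁻¹ = y * w⁻¹ := by
  have hz : z = x * y * w⁻¹ := eq_mul_inv_of_mul_eq h.symm
  rw [hz, mul_comm x y, mul_assoc, mul_assoc, mul_left_comm x, mul_inv_cancel, mul_one]

/-- **Frobenius type quotient, facts in the quotient.** -/
theorem frob_layer1 {Q : Type u} [Group Q] [Finite Q] {f : ℕ} (hf : 1 < f)
    (hcd : ∀ χ : Cfsg.IrrCharacter Q, Cfsg.charDegree (χ : Q → ℂ) = 1 ∨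
      Cfsg.charDegree (χ : Q → ℂ) = f)
    (hA : ∀ a ∈ commutator Q, ∀ b ∈ commutator Q, a * b = b * a)
    (hne : commutator Q ≠ ⊥)
    (hfpf : ∀ g : Q, g ∉ commutator Q → ∀ a ∈ commutator Q, g * a = a * g → a = 1) :
    (commutator Q).index = f ∧ ∃ k, 1 ≤ k ∧ Nat.card (commutator Q) = 1 + k * f := by
  classical
  haveI := Fintype.ofFinite Q
  haveI : Fintype (commutator Q) := Fintype.ofFinite _
  haveI := Fintype.ofFinite (Cfsg.IrrCharacter Q)
  have hAc : ∀ x y : commutator Q, x * y = y * x := fun x y => Subtype.ext (hA x x.2 y y.2)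
  obtain ⟨χ₁, hχ₁ne, -⟩ := Helper80.exists_nonlinear_ker_ge (⊥ : Subgroup Q)
    (by rw [le_bot_iff]; exact hne)
  have hχ₁f : Cfsg.charDegree (χ₁ : Q → ℂ) = f := (hcd χ₁).resolve_left hχ₁ne
  have h1 : f ∣ (commutator Q).index := by
    obtain ⟨θ, hθ, hcon⟩ := Helper80.exists_constituent_restrict (commutator Q) χ₁.2
    have hθ1 : θ 1 = ((1 : ℕ) : ℂ) := by
      rw [Helper82.irr_one_eq_one_of_comm hAc hθ, Nat.cast_one]
    have h := Cfsg.Agent.S0887.result (commutator Q) χ₁ χ₁.2 θ hθ hcon f 1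
      (by rw [Helper80.char_one_eq_charDegree (Helper80.isCharacter_of_isIrrCharacter χ₁.2),
        hχ₁f]) hθ1
    rw [Nat.div_one] at h
    exact h.2
  have h2 : (commutator Q).index ∣ f := by
    obtain ⟨a₀, ha₀, ha₀1⟩ : ∃ a₀ ∈ commutator Q, a₀ ≠ 1 := by
      by_contra hcon
      push Not at hcon
      exact hne (eq_bot_iff.2 fun x hx => Subgroup.mem_bot.2 (hcon x hx))
    obtain ⟨lam, hlam⟩ := Helper74.exists_lin_ne_one hAc ⟨a₀, ha₀⟩
      (fun h => ha₀1 (congrArg Subtype.val h))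
    have hθ : Cfsg.IsIrrCharacter (commutator Q) (Helper74.linFun lam) :=
      Helper80.isIrrCharacter_of_hom lam
    have hin : Helper75.inertia (commutator Q) (Helper74.linFun lam) = commutator Q := by
      apply le_antisymm
      · intro g hg
        by_contra hgA
        rw [Helper74.mem_inertia_linFun] at hg
        obtain ⟨a, ha, haeq⟩ := comm_map_surj (commutator Q) g (hfpf g hgA) a₀ ha₀
        have h3 := hg ⟨a, ha⟩
        apply hlam
        have h4 : (⟨a₀, ha₀⟩ : commutator Q) =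
            ⟨g * a * g⁻¹, (inferInstance : (commutator Q).Normal).conj_mem a ha g⟩ *
              (⟨a, ha⟩ : commutator Q)⁻¹ := Subtype.ext haeq.symm
        rw [h4, map_mul, map_inv, h3, mul_inv_cancel]
      · exact Helper74.le_inertia_linFun (commutator Q) lam
    obtain ⟨χ, hχ, hcon⟩ := Helper80.exists_irr_over (commutator Q) hθ
    obtain ⟨e, he⟩ := Helper80.charDegree_eq_mul_index_inertia (commutator Q) hχ hθ hcon
    have hdθ : Cfsg.charDegree (Helper74.linFun lam) = 1 := Helper80.charDegree_of_hom lam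
    rw [hin, hdθ, mul_one] at he
    rcases hcd ⟨χ, hχ⟩ with h | h
    · exfalso
      rw [show Cfsg.charDegree χ = 1 from h] at he
      have hidx1 : (commutator Q).index = 1 := Nat.eq_one_of_mul_eq_one_left he.symm
      have htop : commutator Q = ⊤ := Subgroup.index_eq_one.1 hidx1
      apply hne
      rw [eq_bot_iff]
      conv_lhs => rw [commutator_def]
      rw [Subgroup.commutator_le]
      intro g₁ _ g₂ _
      rw [Subgroup.mem_bot, commutatorElement_eq_one_iff_mul_comm]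
      exact hA g₁ (htop ▸ Subgroup.mem_top g₁) g₂ (htop ▸ Subgroup.mem_top g₂)
    · exact ⟨e, by rw [← h, show Cfsg.charDegree χ = _ from he]; ring⟩
  have hidx : (commutator Q).index = f := Nat.dvd_antisymm h2 h1
  refine ⟨hidx, ?_⟩
  have hsum := Helper80.sum_charDegree_sq (G := Q)
  have hL := Helper25.card_linear_eq (G := Q)
  have hsplit : ∑ χ : Cfsg.IrrCharacter Q, Cfsg.charDegree (χ : Q → ℂ) ^ 2 =
      (Finset.univ.filter (fun θ : Cfsg.IrrCharacter Q =>
        Cfsg.charDegree (θ : Q → ℂ) = 1)).card +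
      (Finset.univ.filter (fun θ : Cfsg.IrrCharacter Q =>
        ¬ Cfsg.charDegree (θ : Q → ℂ) = 1)).card * f ^ 2 := by
    rw [← Finset.sum_filter_add_sum_filter_not Finset.univ
      (fun θ : Cfsg.IrrCharacter Q => Cfsg.charDegree (θ : Q → ℂ) = 1)]
    congr 1
    · rw [Finset.card_eq_sum_ones]
      refine Finset.sum_congr rfl fun χ hχ => ?_
      rw [(Finset.mem_filter.1 hχ).2]
      norm_num
    · rw [Finset.card_eq_sum_ones, Finset.sum_mul]
      refine Finset.sum_congr rfl fun χ hχ => ?_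
      rw [(hcd χ).resolve_left (Finset.mem_filter.1 hχ).2, one_mul]
  have hk1 : 1 ≤ (Finset.univ.filter (fun θ : Cfsg.IrrCharacter Q =>
      ¬ Cfsg.charDegree (θ : Q → ℂ) = 1)).card :=
    Finset.card_pos.2 ⟨χ₁, Finset.mem_filter.2 ⟨Finset.mem_univ _, hχ₁ne⟩⟩
  have hcard : Nat.card (commutator Q) * (commutator Q).index = Nat.card Q :=
    Subgroup.card_mul_index _
  refine ⟨_, hk1, ?_⟩
  rw [hsplit, hL, hidx, ← hcard, hidx] at hsum
  have h3 : (1 + (Finset.univ.filter (fun θ : Cfsg.IrrCharacter Q =>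
      ¬ Cfsg.charDegree (θ : Q → ℂ) = 1)).card * f) * f = Nat.card (commutator Q) * f := by
    rw [← hsum]; ring
  exact (Nat.eq_of_mul_eq_mul_right (by omega) h3).symm

section Layer2

variable {G : Type u} [Group G] [Fintype G] (N K : Subgroup G) [hN : N.Normal] [hK : K.Normal]
  [Fintype N]

/-- **Counting lemma.** -/
theorem frob_counting (hKN : K ≤ N) {f w : ℕ} (hf : 1 < f) (hcop : Nat.Coprime f w)
    (hcd : ∀ χ : Cfsg.IrrCharacter G, Cfsg.charDegree (χ : G → ℂ) = 1 ∨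
      Cfsg.charDegree (χ : G → ℂ) = f ∨ Cfsg.charDegree (χ : G → ℂ) = w)
    (hidx : N.index = f) (hbig : f ≤ K.relIndex N)
    (hab : ∀ x ∈ N, ∀ y ∈ N, x * y * x⁻¹ * y⁻¹ ∈ K)
    (hsurj : ∀ g : G, g ∉ N → ∀ x ∈ N, ∃ n ∈ N, (g * n * g⁻¹ * n⁻¹)⁻¹ * x ∈ K)
    {ψ : N → ℂ} (hψ : Cfsg.IsIrrCharacter N ψ)
    (hψK : Cfsg.IsIrrCharacter (K.subgroupOf N) (fun k : K.subgroupOf N => ψ k)) :
    Cfsg.charDegree ψ = 1 := by
  classical
  haveI : Fintype (K.subgroupOf N) := Fintype.ofFinite _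
  haveI hK'n : (K.subgroupOf N).Normal := inferInstance
  have hq : ∀ x y : N ⧸ K.subgroupOf N, x * y = y * x := by
    intro x y
    obtain ⟨x, rfl⟩ := QuotientGroup.mk_surjective x
    obtain ⟨y, rfl⟩ := QuotientGroup.mk_surjective y
    rw [← QuotientGroup.mk_mul, ← QuotientGroup.mk_mul, QuotientGroup.eq,
      Subgroup.mem_subgroupOf]
    have h := hab ((y : G)⁻¹) (N.inv_mem y.2) ((x : G)⁻¹) (N.inv_mem x.2)
    have h2 : (((x * y)⁻¹ * (y * x) : N) : G) = (y : G)⁻¹ * (x : G)⁻¹ * (y : G)⁻¹⁻¹ * (x : G)⁻¹⁻¹ := by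
      push_cast; group
    rw [h2]
    exact h
  have hcardI : Nat.card ((N ⧸ K.subgroupOf N) →* ℂˣ) = K.relIndex N := by
    rw [Helper79.card_monoidHom_units]
    have hbot : commutator (N ⧸ K.subgroupOf N) = ⊥ := by
      rw [eq_bot_iff, commutator_def, Subgroup.commutator_le]
      intro g₁ _ g₂ _
      rw [Subgroup.mem_bot, commutatorElement_eq_one_iff_mul_comm]
      exact hq g₁ g₂
    rw [hbot, Subgroup.index_bot]
    rfl
  haveI : Finite ((N ⧸ K.subgroupOf N) →* ℂˣ) := Helper79.finite_monoidHom_units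
  let lN : ((N ⧸ K.subgroupOf N) →* ℂˣ) → (N →* ℂˣ) :=
    fun l => l.comp (QuotientGroup.mk' (K.subgroupOf N))
  have hlNK : ∀ (l : (N ⧸ K.subgroupOf N) →* ℂˣ) (x : N), (x : G) ∈ K → lN l x = 1 := by
    intro l x hx
    show l (QuotientGroup.mk' (K.subgroupOf N) x) = 1
    have : QuotientGroup.mk' (K.subgroupOf N) x = 1 :=
      (QuotientGroup.eq_one_iff x).2 (Subgroup.mem_subgroupOf.2 hx)
    rw [this, map_one]
  let μ : ((N ⧸ K.subgroupOf N) →* ℂˣ) → N → ℂ := fun l n => ((lN l n : ℂˣ) : ℂ)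
  have hμirr : ∀ l, Cfsg.IsIrrCharacter N (μ l) := fun l => Helper80.isIrrCharacter_of_hom (lN l)
  have hμK : ∀ l, ∀ k : K.subgroupOf N, μ l k = μ l 1 := by
    intro l k
    show ((lN l k : ℂˣ) : ℂ) = ((lN l 1 : ℂˣ) : ℂ)
    rw [hlNK l k (Subgroup.mem_subgroupOf.1 k.2), map_one]
  have hirr : ∀ l, Cfsg.IsIrrCharacter N (μ l * ψ) :=
    fun l => Helper75.gallagher_irr (K.subgroupOf N) hψ hψK (hμirr l) (hμK l)
  have hcf : ∀ l, Cfsg.IsClassFunction N (μ l * ψ) := fun l =>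
    Helper80.isClassFunction_of_isCharacter (Helper80.isCharacter_of_isIrrCharacter (hirr l))
  have hex : ∃ l, Helper75.inertia N (μ l * ψ) ≤ N := by
    by_contra hcon
    push Not at hcon
    have hch : ∀ l, ∃ g, g ∈ Helper75.inertia N (μ l * ψ) ∧ g ∉ N :=
      fun l => Set.not_subset.1 (hcon l)
    choose gl hgl hglN using hch
    let F : ((N ⧸ K.subgroupOf N) →* ℂˣ) → G ⧸ N := fun l => (gl l : G ⧸ N)
    have hFinj : Function.Injective F := by
      intro l₁ l₂ h12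
      have hrel : (gl l₂)⁻¹ * gl l₁ ∈ N := QuotientGroup.eq.1 h12.symm
      have hg1 : gl l₁ ∈ Helper75.inertia N (μ l₁ * ψ) := hgl l₁
      have hg2 : gl l₁ ∈ Helper75.inertia N (μ l₂ * ψ) := by
        have h1 : gl l₁ = gl l₂ * ((gl l₂)⁻¹ * gl l₁) := by group
        rw [h1]
        exact Subgroup.mul_mem _ (hgl l₂) (Helper75.le_inertia N (hcf l₂) hrel)
      rw [Helper75.mem_inertia_iff'] at hg1 hg2
      set g := gl l₁ with hg
      let c : N →* N := (MulAut.conjNormal g : N ≃* N).toMonoidHom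
      have hc : ∀ n : N, ((c n : N) : G) = g * n * g⁻¹ := fun n => MulAut.conjNormal_apply g n
      let h₁ : N →* ℂˣ := (lN l₂).comp c * lN l₁
      let h₂ : N →* ℂˣ := (lN l₁).comp c * lN l₂
      have key : (fun n : N => ((h₁ n : ℂˣ) : ℂ)) * ψ = (fun n : N => ((h₂ n : ℂˣ) : ℂ)) * ψ := by
        funext n
        have e1 := hg1 n
        have e2 := hg2 n
        have hcn : (⟨g * n * g⁻¹, hN.conj_mem n n.2 g⟩ : N) = c n := Subtype.ext (hc n).symm
        rw [hcn] at e1 e2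
        have e1' : ((lN l₁ (c n) : ℂˣ) : ℂ) * ψ (c n) = ((lN l₁ n : ℂˣ) : ℂ) * ψ n := e1
        have e2' : ((lN l₂ (c n) : ℂˣ) : ℂ) * ψ (c n) = ((lN l₂ n : ℂˣ) : ℂ) * ψ n := e2
        show (((lN l₂ (c n) * lN l₁ n : ℂˣ)) : ℂ) * ψ n =
          (((lN l₁ (c n) * lN l₂ n : ℂˣ)) : ℂ) * ψ n
        push_cast
        linear_combination (-((lN l₂ (c n) : ℂˣ) : ℂ)) * e1' + ((lN l₁ (c n) : ℂˣ) : ℂ) * e2'
      have hbij := Helper81.gallagher_bij (K.subgroupOf N) hψ hψK
      have hmem : ∀ h : N →* ℂˣ, (∀ x : N, (x : G) ∈ K → h x = 1) →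
          (fun n : N => ((h n : ℂˣ) : ℂ)) ∈ {β : N → ℂ | Cfsg.IsIrrCharacter N β ∧
            ∀ n : K.subgroupOf N, β n = β 1} := by
        intro h hh
        refine ⟨Helper80.isIrrCharacter_of_hom h, fun k => ?_⟩
        show ((h k : ℂˣ) : ℂ) = ((h 1 : ℂˣ) : ℂ)
        rw [hh k (Subgroup.mem_subgroupOf.1 k.2), map_one]
      have hcK : ∀ x : N, (x : G) ∈ K → ((c x : N) : G) ∈ K := by
        intro x hx
        rw [hc]
        exact hK.conj_mem x hx g
      have hh₁ : ∀ x : N, (x : G) ∈ K → h₁ x = 1 := by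
        intro x hx
        show lN l₂ (c x) * lN l₁ x = 1
        rw [hlNK l₂ (c x) (hcK x hx), hlNK l₁ x hx, one_mul]
      have hh₂ : ∀ x : N, (x : G) ∈ K → h₂ x = 1 := by
        intro x hx
        show lN l₁ (c x) * lN l₂ x = 1
        rw [hlNK l₁ (c x) (hcK x hx), hlNK l₂ x hx, one_mul]
      have heq := hbij.injOn (hmem h₁ hh₁) (hmem h₂ hh₂) key
      have heq' : ∀ n : N, lN l₂ (c n) * lN l₁ n = lN l₁ (c n) * lN l₂ n := by
        intro n
        exact Units.ext (congrFun heq n)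
      let ρ : N →* ℂˣ := lN l₁ * (lN l₂)⁻¹
      have hρc : ∀ n : N, ρ (c n) = ρ n := by
        intro n
        show lN l₁ (c n) * (lN l₂ (c n))⁻¹ = lN l₁ n * (lN l₂ n)⁻¹
        exact comm_aux _ _ _ _ (heq' n)
      have hρK : ∀ x : N, (x : G) ∈ K → ρ x = 1 := by
        intro x hx
        show lN l₁ x * (lN l₂ x)⁻¹ = 1
        rw [hlNK l₁ x hx, hlNK l₂ x hx, inv_one, one_mul]
      have hρ1 : ∀ x : N, ρ x = 1 := by
        intro x
        obtain ⟨n, hn, hnK⟩ := hsurj g (hg ▸ hglN l₁) x x.2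
        have h1 : ((((c ⟨n, hn⟩ * (⟨n, hn⟩ : N)⁻¹)⁻¹ * x : N)) : G) ∈ K := by
          have : ((((c ⟨n, hn⟩ * (⟨n, hn⟩ : N)⁻¹)⁻¹ * x : N)) : G) =
              (g * n * g⁻¹ * n⁻¹)⁻¹ * x := by
            push_cast
            rw [hc]
          rw [this]
          exact hnK
        have h2 := hρK _ h1
        rw [map_mul, map_inv, map_mul, map_inv, hρc, mul_inv_cancel, inv_one, one_mul] at h2
        exact h2
      apply MonoidHom.ext
      intro y
      obtain ⟨x, rfl⟩ := QuotientGroup.mk_surjective y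
      have h3 : lN l₁ x * (lN l₂ x)⁻¹ = 1 := hρ1 x
      exact mul_inv_eq_one.1 h3
    haveI := Fintype.ofFinite ((N ⧸ K.subgroupOf N) →* ℂˣ)
    haveI := Fintype.ofFinite (G ⧸ N)
    have hnot : (1 : G ⧸ N) ∉ Set.range F := by
      rintro ⟨l, hl⟩
      exact hglN l ((QuotientGroup.eq_one_iff _).1 hl)
    have hlt := Fintype.card_lt_of_injective_of_notMem F hFinj hnot
    rw [← Nat.card_eq_fintype_card, ← Nat.card_eq_fintype_card, hcardI] at hlt
    have h5 : Nat.card (G ⧸ N) = N.index := rfl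
    rw [h5, hidx] at hlt
    omega
  obtain ⟨l, hl⟩ := hex
  have hθ := hirr l
  have hin : Helper75.inertia N (μ l * ψ) = N := le_antisymm hl (Helper75.le_inertia N (hcf l))
  obtain ⟨χ, hχ, hcon⟩ := Helper80.exists_irr_over N hθ
  obtain ⟨e, he⟩ := Helper80.charDegree_eq_mul_index_inertia N hχ hθ hcon
  have hdegθ : Cfsg.charDegree (μ l * ψ) = Cfsg.charDegree ψ := by
    rw [charDegree_mul' (Helper80.isCharacter_of_isIrrCharacter (hμirr l))
      (Helper80.isCharacter_of_isIrrCharacter hψ)]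
    have : Cfsg.charDegree (μ l) = 1 := Helper80.charDegree_of_hom (lN l)
    rw [this, one_mul]
  rw [hin, hidx, hdegθ] at he
  rcases hcd ⟨χ, hχ⟩ with h | h | h
  · exfalso
    rw [show Cfsg.charDegree χ = 1 from h] at he
    have h1 : f ∣ 1 := ⟨e * Cfsg.charDegree ψ, by rw [he]; ring⟩
    have := Nat.dvd_one.1 h1
    omega
  · rw [show Cfsg.charDegree χ = f from h] at he
    have h1 : f * 1 = f * (e * Cfsg.charDegree ψ) := by
      rw [mul_one]
      conv_lhs => rw [he]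
      ring
    have h2 := Nat.eq_of_mul_eq_mul_left (by omega) h1
    exact Nat.eq_one_of_mul_eq_one_left h2.symm
  · exfalso
    rw [show Cfsg.charDegree χ = w from h] at he
    have h1 : f ∣ w := ⟨e * Cfsg.charDegree ψ, by rw [he]; ring⟩
    have := Nat.Coprime.eq_one_of_dvd hcop h1
    omega

/-- the degrees of `N` -/
theorem frob_cdN (hKN : K ≤ N) {f w : ℕ} (hf : 1 < f) (hcop : Nat.Coprime f w)
    (hcd : ∀ χ : Cfsg.IrrCharacter G, Cfsg.charDegree (χ : G → ℂ) = 1 ∨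
      Cfsg.charDegree (χ : G → ℂ) = f ∨ Cfsg.charDegree (χ : G → ℂ) = w)
    (hidx : N.index = f) (hbig : f ≤ K.relIndex N) (hcopA : Nat.Coprime f (K.relIndex N))
    (hab : ∀ x ∈ N, ∀ y ∈ N, x * y * x⁻¹ * y⁻¹ ∈ K)
    (hsurj : ∀ g : G, g ∉ N → ∀ x ∈ N, ∃ n ∈ N, (g * n * g⁻¹ * n⁻¹)⁻¹ * x ∈ K)
    (ψ : Cfsg.IrrCharacter N) :
    Cfsg.charDegree (ψ : N → ℂ) = 1 ∨ Cfsg.charDegree (ψ : N → ℂ) = w := by
  classical
  haveI : Fintype (K.subgroupOf N) := Fintype.ofFinite _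
  haveI : Fintype (Cfsg.IrrCharacter (K.subgroupOf N)) := Fintype.ofFinite _
  have hψc := Helper80.isCharacter_of_isIrrCharacter ψ.2
  obtain ⟨χ, hχ, hcon⟩ := Helper80.exists_irr_over N ψ.2
  have h := Cfsg.Agent.S0887.result N χ hχ ψ ψ.2 hcon (Cfsg.charDegree χ)
    (Cfsg.charDegree (ψ : N → ℂ))
    (Helper80.char_one_eq_charDegree (Helper80.isCharacter_of_isIrrCharacter hχ))
    (Helper80.char_one_eq_charDegree hψc)
  rw [hidx] at h
  rcases hcd ⟨χ, hχ⟩ with hc | hc | hc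
  · left
    rw [show Cfsg.charDegree χ = 1 from hc] at h
    exact Nat.dvd_one.1 h.1
  · left
    rw [show Cfsg.charDegree χ = f from hc] at h
    obtain ⟨θ, hθ, hconθ⟩ := Helper80.exists_constituent_restrict (K.subgroupOf N) ψ.2
    have h' := Cfsg.Agent.S0887.result (K.subgroupOf N) ψ ψ.2 θ hθ hconθ
      (Cfsg.charDegree (ψ : N → ℂ)) (Cfsg.charDegree θ)
      (Helper80.char_one_eq_charDegree hψc)
      (Helper80.char_one_eq_charDegree (Helper80.isCharacter_of_isIrrCharacter hθ))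
    have h1 : Cfsg.charDegree (ψ : N → ℂ) / Cfsg.charDegree θ ∣ f :=
      (Nat.div_dvd_of_dvd h'.1).trans h.1
    have h2 : Cfsg.charDegree (ψ : N → ℂ) / Cfsg.charDegree θ = 1 :=
      Nat.eq_one_of_dvd_coprimes hcopA h1 h'.2
    have h3 : Cfsg.charDegree (ψ : N → ℂ) = Cfsg.charDegree θ := by
      have h4 := Nat.div_mul_cancel h'.1
      rw [h2, one_mul] at h4
      exact h4.symm
    have hres : (fun k : K.subgroupOf N => (ψ : N → ℂ) k) = θ :=
      Helper80.eq_of_constituent_of_degree_le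
        (Helper75.isCharacter_res (K.subgroupOf N) hψc) hθ hconθ (le_of_eq h3)
    exact frob_counting N K hKN hf hcop hcd hidx hbig hab hsurj ψ.2 (by rw [hres]; exact hθ)
  · right
    rw [show Cfsg.charDegree χ = w from hc] at h
    have h1 : w / Cfsg.charDegree (ψ : N → ℂ) ∣ w := Nat.div_dvd_of_dvd h.1
    have h2 : w / Cfsg.charDegree (ψ : N → ℂ) = 1 := Nat.eq_one_of_dvd_coprimes hcop h.2 h1
    have h4 := Nat.div_mul_cancel h.1
    rw [h2, one_mul] at h4
    exact h4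

end Layer2

/-- the quotient cannot be a `q`-group -/
theorem qgroup_false {G : Type u} [Group G] [Fintype G] (K : Subgroup G) [hK : K.Normal]
    [Fintype K] {f w q n : ℕ} (hq : q.Prime) (hKidx : K.index = q ^ n)
    (hf : 1 < f) (hw : 1 < w) (hcop : Nat.Coprime f w)
    (hcd : ∀ χ : Cfsg.IrrCharacter G, Cfsg.charDegree (χ : G → ℂ) = 1 ∨
      Cfsg.charDegree (χ : G → ℂ) = f ∨ Cfsg.charDegree (χ : G → ℂ) = w)
    (hwex : ∃ χ : Cfsg.IrrCharacter G, Cfsg.charDegree (χ : G → ℂ) = w)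
    (hfex : ∃ ψ : Cfsg.IrrCharacter (G ⧸ K), Cfsg.charDegree (ψ : G ⧸ K → ℂ) = f) : False := by
  classical
  haveI : Fintype (Cfsg.IrrCharacter K) := Fintype.ofFinite _
  obtain ⟨χ, hχw⟩ := hwex
  obtain ⟨ψ, hψf⟩ := hfex
  have hχc := Helper80.isCharacter_of_isIrrCharacter χ.2
  have hqf : q ∣ f := by
    have h1 := Helper80.charDegree_dvd_card ψ.2
    rw [hψf] at h1
    have h2 : Nat.card (G ⧸ K) = q ^ n := hKidx
    rw [h2] at h1
    obtain ⟨j, -, hj⟩ := (Nat.dvd_prime_pow hq).1 h1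
    have hj0 : j ≠ 0 := by
      rintro rfl
      rw [pow_zero] at hj
      omega
    rw [hj]
    exact dvd_pow_self q hj0
  have hqw : ¬ q ∣ w := by
    intro h
    have := Nat.eq_one_of_dvd_coprimes hcop hqf h
    exact hq.one_lt.ne' this
  obtain ⟨θ, hθ, hcon⟩ := Helper80.exists_constituent_restrict K χ.2
  have h := Cfsg.Agent.S0887.result K χ χ.2 θ hθ hcon (Cfsg.charDegree (χ : G → ℂ))
    (Cfsg.charDegree θ) (Helper80.char_one_eq_charDegree hχc)
    (Helper80.char_one_eq_charDegree (Helper80.isCharacter_of_isIrrCharacter hθ))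
  rw [hKidx, hχw] at h
  obtain ⟨j, -, hj⟩ := (Nat.dvd_prime_pow hq).1 h.2
  have hj0 : j = 0 := by
    by_contra hne
    apply hqw
    have h1 : q ∣ w / Cfsg.charDegree θ := by rw [hj]; exact dvd_pow_self q hne
    exact h1.trans (Nat.div_dvd_of_dvd h.1)
  rw [hj0, pow_zero] at hj
  have hdeg : w = Cfsg.charDegree θ := by
    have h4 := Nat.div_mul_cancel h.1
    rw [hj, one_mul] at h4
    exact h4.symm
  have hres : (fun k : K => (χ : G → ℂ) k) = θ :=
    Helper80.eq_of_constituent_of_degree_le (Helper75.isCharacter_res K hχc) hθ hcon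
      (by
        show Cfsg.charDegree (χ : G → ℂ) ≤ _
        rw [hχw, hdeg])
  have hχK : Cfsg.IsIrrCharacter K (fun k : K => (χ : G → ℂ) k) := by rw [hres]; exact hθ
  have hβ : Cfsg.IsIrrCharacter G (fun g : G => (ψ : G ⧸ K → ℂ) (g : G ⧸ K)) :=
    Helper80.isIrrCharacter_inflate K ψ.2
  have hβK : ∀ k : K, (fun g : G => (ψ : G ⧸ K → ℂ) (g : G ⧸ K)) k =
      (fun g : G => (ψ : G ⧸ K → ℂ) (g : G ⧸ K)) 1 := by
    intro k
    show (ψ : G ⧸ K → ℂ) ((k : G) : G ⧸ K) = (ψ : G ⧸ K → ℂ) ((1 : G) : G ⧸ K)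
    have h1 : ((k : G) : G ⧸ K) = ((1 : G) : G ⧸ K) := by
      rw [QuotientGroup.mk_one]
      exact (QuotientGroup.eq_one_iff _).2 k.2
    rw [h1]
  have hprod := Helper75.gallagher_irr K χ.2 hχK hβ hβK
  have hdegβ : Cfsg.charDegree (fun g : G => (ψ : G ⧸ K → ℂ) (g : G ⧸ K)) = f := hψf
  have hdegp : Cfsg.charDegree ((fun g : G => (ψ : G ⧸ K → ℂ) (g : G ⧸ K)) * (χ : G → ℂ)) =
      f * w := by
    rw [charDegree_mul' (Helper80.isCharacter_of_isIrrCharacter hβ) hχc, hχw, hdegβ]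
  have h5 := hcd ⟨_, hprod⟩
  simp only at h5
  rw [hdegp] at h5
  rcases h5 with h1 | h1 | h1
  · nlinarith
  · nlinarith
  · nlinarith

theorem caseI_core {G : Type u} [Group G] [Finite G] (K : Subgroup G) [hK : K.Normal] {f w : ℕ}
    (hf : 1 < f) (hw : 1 < w) (hcop : Nat.Coprime f w)
    (hcd : ∀ χ : Cfsg.IrrCharacter G, Cfsg.charDegree (χ : G → ℂ) = 1 ∨
      Cfsg.charDegree (χ : G → ℂ) = f ∨ Cfsg.charDegree (χ : G → ℂ) = w)
    (hwex : ∃ χ : Cfsg.IrrCharacter G, Cfsg.charDegree (χ : G → ℂ) = w)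
    (hcdK : ∀ ψ : Cfsg.IrrCharacter (G ⧸ K), Cfsg.charDegree (ψ : G ⧸ K → ℂ) = 1 ∨
      Cfsg.charDegree (ψ : G ⧸ K → ℂ) = f)
    (hfex : ∃ ψ : Cfsg.IrrCharacter (G ⧸ K), Cfsg.charDegree (ψ : G ⧸ K → ℂ) = f)
    (hmin : ∀ M : Subgroup (G ⧸ K), M.Normal → M ≠ ⊥ → commutator (G ⧸ K) ≤ M) :
    derivedSeries G 3 = ⊥ := by
  classical
  haveI := Fintype.ofFinite G
  haveI : Fintype K := Fintype.ofFinite K
  have hA := Cfsg.Agent.S4458.result f hcdK hfex (by omega)
  have hne : commutator (G ⧸ K) ≠ ⊥ := by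
    intro h0
    obtain ⟨ψ, hψ⟩ := hfex
    have := Helper80.charDegree_eq_one_of_commutator_le ψ (by rw [h0]; exact bot_le)
    omega
  rcases fpf_dichotomy hA hmin with hcen | hfpf
  · exfalso
    obtain ⟨q, hq, n, hn⟩ := pgroup_of_central hcen hne hmin
    exact qgroup_false K hq (hn : K.index = q ^ n) hf hw hcop hcd hwex hfex
  · obtain ⟨hAidx, k, hk1, hAcard⟩ := frob_layer1 hf hcdK hA hne hfpf
    set N : Subgroup G := (commutator (G ⧸ K)).comap (QuotientGroup.mk' K) with hNdef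
    haveI hNn : N.Normal := inferInstance
    haveI : Fintype N := Fintype.ofFinite N
    have hKN : K ≤ N := by
      intro x hx
      show QuotientGroup.mk' K x ∈ commutator (G ⧸ K)
      have : QuotientGroup.mk' K x = 1 := (QuotientGroup.eq_one_iff x).2 hx
      rw [this]
      exact Subgroup.one_mem _
    have hNidx : N.index = f := by
      rw [hNdef, Subgroup.index_comap_of_surjective _ (QuotientGroup.mk'_surjective K), hAidx]
    have hrel : K.relIndex N = 1 + k * f := by rw [hNdef, relIndex_comap_mk, hAcard]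
    have hab : ∀ x ∈ N, ∀ y ∈ N, x * y * x⁻¹ * y⁻¹ ∈ K := by
      intro x hx y hy
      have h1 := hA _ hx _ hy
      rw [← QuotientGroup.eq_one_iff]
      have h2 : ((x * y * x⁻¹ * y⁻¹ : G) : G ⧸ K) =
          (QuotientGroup.mk' K x) * (QuotientGroup.mk' K y) * (QuotientGroup.mk' K x)⁻¹ *
            (QuotientGroup.mk' K y)⁻¹ := rfl
      rw [h2, h1]
      group
    have hsurj : ∀ g : G, g ∉ N → ∀ x ∈ N, ∃ n ∈ N, (g * n * g⁻¹ * n⁻¹)⁻¹ * x ∈ K := by
      intro g hg x hx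
      obtain ⟨abar, habar, heq⟩ := comm_map_surj (commutator (G ⧸ K)) (QuotientGroup.mk' K g)
        (hfpf _ hg) (QuotientGroup.mk' K x) hx
      obtain ⟨n, rfl⟩ := QuotientGroup.mk'_surjective K abar
      refine ⟨n, habar, ?_⟩
      rw [← QuotientGroup.eq]
      exact heq
    have hcdN : ∀ ψ : Cfsg.IrrCharacter N, Cfsg.charDegree (ψ : N → ℂ) = 1 ∨
        Cfsg.charDegree (ψ : N → ℂ) = w :=
      frob_cdN N K hKN hf hcop hcd hNidx (by rw [hrel]; nlinarith)
        (by rw [hrel]; exact (Nat.coprime_add_mul_right_right f 1 k).2 (Nat.coprime_one_right f))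
        hab hsurj
    have hN2 : derivedSeries N 2 = ⊥ := two_deg_dl2 w hcdN
    have hGN : derivedSeries G 1 ≤ (derivedSeries N 0).map N.subtype := by
      rw [map_dser_zero, derivedSeries_one, commutator_def, Subgroup.commutator_le]
      intro g₁ _ g₂ _
      show QuotientGroup.mk' K ⁅g₁, g₂⁆ ∈ commutator (G ⧸ K)
      rw [map_commutatorElement]
      exact Subgroup.commutator_mem_commutator (Subgroup.mem_top _) (Subgroup.mem_top _)
    have h3 := dser_le_map N 1 0 hGN 2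
    rw [show 0 + 2 = 2 from rfl, show 1 + 2 = 3 from rfl, hN2, Subgroup.map_bot] at h3
    exact eq_bot_iff.2 h3

theorem caseI {G : Type u} [Group G] [Finite G] {a b : ℕ} (ha : 1 < a) (hab : a < b)
    (hcop : Nat.Coprime a b)
    (hcd : ∀ χ : Cfsg.IrrCharacter G, Cfsg.charDegree (χ : G → ℂ) = 1 ∨
      Cfsg.charDegree (χ : G → ℂ) = a ∨ Cfsg.charDegree (χ : G → ℂ) = b)
    (hexa : ∃ χ : Cfsg.IrrCharacter G, Cfsg.charDegree (χ : G → ℂ) = a)
    (hexb : ∃ χ : Cfsg.IrrCharacter G, Cfsg.charDegree (χ : G → ℂ) = b) :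
    derivedSeries G 3 = ⊥ := by
  classical
  have hnc : ¬ commutator G ≤ ⊥ := by
    intro h
    obtain ⟨χ, hχ⟩ := hexa
    have := Helper80.charDegree_eq_one_of_commutator_le χ (h.trans bot_le)
    omega
  let S : Set (Subgroup G) := {K | K.Normal ∧ ¬ commutator G ≤ K}
  have hS : S.Nonempty := ⟨⊥, inferInstance, hnc⟩
  obtain ⟨K, ⟨hKn, hKc⟩, hKmax⟩ := wellFounded_gt.has_min S hS
  haveI := hKn
  have hmin : ∀ M : Subgroup (G ⧸ K), M.Normal → M ≠ ⊥ → commutator (G ⧸ K) ≤ M := by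
    intro M hMn hMne
    haveI := hMn
    have hlt : K < M.comap (QuotientGroup.mk' K) := by
      refine lt_of_le_of_ne ?_ ?_
      · intro x hx
        show QuotientGroup.mk' K x ∈ M
        have : QuotientGroup.mk' K x = 1 := (QuotientGroup.eq_one_iff x).2 hx
        rw [this]
        exact M.one_mem
      · intro heq
        apply hMne
        rw [eq_bot_iff]
        intro y hy
        obtain ⟨x, rfl⟩ := QuotientGroup.mk'_surjective K y
        have h1 : x ∈ M.comap (QuotientGroup.mk' K) := hy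
        rw [← heq] at h1
        exact Subgroup.mem_bot.2 ((QuotientGroup.eq_one_iff x).2 h1)
    have hcomm : commutator G ≤ M.comap (QuotientGroup.mk' K) := by
      by_contra hcon
      exact hKmax _ ⟨inferInstance, hcon⟩ hlt
    rw [commutator_def, Subgroup.commutator_le]
    intro y₁ _ y₂ _
    obtain ⟨x₁, rfl⟩ := QuotientGroup.mk'_surjective K y₁
    obtain ⟨x₂, rfl⟩ := QuotientGroup.mk'_surjective K y₂
    rw [← map_commutatorElement]
    exact hcomm (Subgroup.commutator_mem_commutator (Subgroup.mem_top _) (Subgroup.mem_top _))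
  have hncK : ¬ commutator (G ⧸ K) ≤ ⊥ := by
    intro h
    apply hKc
    rw [commutator_def, Subgroup.commutator_le]
    intro g₁ _ g₂ _
    have h1 : QuotientGroup.mk' K ⁅g₁, g₂⁆ ∈ commutator (G ⧸ K) := by
      rw [map_commutatorElement]
      exact Subgroup.commutator_mem_commutator (Subgroup.mem_top _) (Subgroup.mem_top _)
    exact (QuotientGroup.eq_one_iff _).1 (Subgroup.mem_bot.1 (h h1))
  have hcdK : ∀ ψ : Cfsg.IrrCharacter (G ⧸ K), Cfsg.charDegree (ψ : G ⧸ K → ℂ) = 1 ∨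
      Cfsg.charDegree (ψ : G ⧸ K → ℂ) = a ∨ Cfsg.charDegree (ψ : G ⧸ K → ℂ) = b := by
    intro ψ
    exact hcd ⟨_, Helper80.isIrrCharacter_inflate K ψ.2⟩
  obtain ⟨ψ₁, hψ₁, -⟩ := Helper80.exists_nonlinear_ker_ge (⊥ : Subgroup (G ⧸ K)) hncK
  by_cases hKa : ∃ ψ : Cfsg.IrrCharacter (G ⧸ K), Cfsg.charDegree (ψ : G ⧸ K → ℂ) = a
  · by_cases hKb : ∃ ψ : Cfsg.IrrCharacter (G ⧸ K), Cfsg.charDegree (ψ : G ⧸ K → ℂ) = b
    · exfalso
      obtain ⟨χ₀, hχ₀⟩ := hKa
      obtain ⟨ψ₀, hψ₀⟩ := hKb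
      exact partA ha hab hcop hcdK hmin χ₀ hχ₀ ψ₀ hψ₀
    · refine caseI_core K ha (by omega) hcop hcd hexb ?_ hKa hmin
      intro ψ
      rcases hcdK ψ with h | h | h
      · exact Or.inl h
      · exact Or.inr h
      · exact absurd ⟨ψ, h⟩ hKb
  · have hψ₁b : Cfsg.charDegree (ψ₁ : G ⧸ K → ℂ) = b := by
      rcases hcdK ψ₁ with h | h | h
      · exact absurd h hψ₁
      · exact absurd ⟨ψ₁, h⟩ hKa
      · exact h
    refine caseI_core K (by omega) ha hcop.symm ?_ hexa ?_ ⟨ψ₁, hψ₁b⟩ hmin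
    · intro χ
      rcases hcd χ with h | h | h
      · exact Or.inl h
      · exact Or.inr (Or.inr h)
      · exact Or.inr (Or.inl h)
    · intro ψ
      rcases hcdK ψ with h | h | h
      · exact Or.inl h
      · exact absurd ⟨ψ, h⟩ hKa
      · exact Or.inr h

end Cfsg.Agent.Lib.Helper39.ThreeDeg
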