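import Mathlib
import Cfsg.Agent.Lib.Helper39.ThreeDegD

set_option autoImplicit false
set_option linter.style.haveILetI false
open Cfsg

/-!
# The character degree graph of a solvable group has at most two connected components

Let `K` be maximal normal with `G ⧸ K` nonabelian.  Then `G ⧸ K` is a `q`-group (and `q` is
adjacent to every other vertex, by Gallagher), or a Frobenius group with kernel `N ⧸ K` an
elementary abelian `q`-group and `f = |G : N|`; in the latter case every `ψ ∈ Irr(N)` either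
restricts irreducibly to `K` (and then `f ψ(1)` divides a degree of `G`), or has degree divisible
by `q`.  So every vertex is joined to a prime divisor of `f` or to `q`.
-/

namespace Cfsg.Agent.Lib.Helper39.TwoComp

open Cfsg.Agent.Lib.Helper39.ThreeDeg
open scoped ComplexConjugate
open scoped commutatorElement

universe u

/-- a graph in which every vertex is reachable from one of two given vertices has at most two
connected components -/
theorem comp_le_two {V : Type*} (Γ : SimpleGraph V) (a b : V)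
    (h : ∀ v, Γ.Reachable a v ∨ Γ.Reachable b v) : Nat.card Γ.ConnectedComponent ≤ 2 := by
  classical
  let F : Bool → Γ.ConnectedComponent := fun t =>
    if t then Γ.connectedComponentMk a else Γ.connectedComponentMk b
  have hF : Function.Surjective F := by
    intro c
    obtain ⟨v, rfl⟩ := c.exists_rep
    rcases h v with hv | hv
    · exact ⟨true, SimpleGraph.ConnectedComponent.sound hv⟩
    · exact ⟨false, SimpleGraph.ConnectedComponent.sound hv⟩
  have h1 := Nat.card_le_card_of_surjective F hF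
  simpa using h1

section Quot

variable {Q : Type u} [Group Q]

/-- in a solvable group whose commutator subgroup lies in every nontrivial normal subgroup, the
commutator subgroup is abelian -/
theorem comm_abelian_of_solvable [Group.IsSolvable Q]
    (hmin : ∀ M : Subgroup Q, M.Normal → M ≠ ⊥ → commutator Q ≤ M) :
    ∀ a ∈ commutator Q, ∀ b ∈ commutator Q, a * b = b * a := by
  by_cases h2 : ⁅commutator Q, commutator Q⁆ = ⊥
  · intro a ha b hb
    have h3 : ⁅a, b⁆ ∈ ⁅commutator Q, commutator Q⁆ := Subgroup.commutator_mem_commutator ha hb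
    rw [h2, Subgroup.mem_bot, commutatorElement_eq_one_iff_mul_comm] at h3
    exact h3
  · exfalso
    have hne : commutator Q ≠ ⊥ := by
      intro h0
      apply h2
      rw [h0]
      exact Subgroup.commutator_bot_left _
    have hle : commutator Q ≤ ⁅commutator Q, commutator Q⁆ := hmin _ inferInstance h2
    exact absurd hle (not_le_of_gt (Group.IsSolvable.commutator_lt_of_ne_bot hne))

variable [Finite Q]

/-- an abelian commutator subgroup contained in every nontrivial normal subgroup has prime power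
order -/
theorem comm_prime_pow
    (hA : ∀ a ∈ commutator Q, ∀ b ∈ commutator Q, a * b = b * a) (hne : commutator Q ≠ ⊥)
    (hmin : ∀ M : Subgroup Q, M.Normal → M ≠ ⊥ → commutator Q ≤ M) :
    ∃ q : ℕ, q.Prime ∧ ∃ m : ℕ, Nat.card (commutator Q) = q ^ m := by
  classical
  have hcard : Nat.card (commutator Q) ≠ 1 := by
    intro h
    exact hne (Subgroup.card_eq_one.1 h)
  obtain ⟨q, hq, hqd⟩ := Nat.exists_prime_and_dvd hcard
  haveI : Fact q.Prime := ⟨hq⟩
  let Om : Subgroup Q :=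
    { carrier := {a | a ∈ commutator Q ∧ a ^ q = 1}
      one_mem' := ⟨Subgroup.one_mem _, one_pow q⟩
      mul_mem' := by
        rintro a b ⟨ha, ha'⟩ ⟨hb, hb'⟩
        refine ⟨Subgroup.mul_mem _ ha hb, ?_⟩
        have hc : Commute a b := hA a ha b hb
        rw [hc.mul_pow, ha', hb', one_mul]
      inv_mem' := by
        rintro a ⟨ha, ha'⟩
        exact ⟨Subgroup.inv_mem _ ha, by rw [inv_pow, ha', inv_one]⟩ }
  have hOmn : Om.Normal := by
    refine ⟨fun a ha g => ?_⟩
    obtain ⟨ha1, ha2⟩ := ha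
    refine ⟨(inferInstance : (commutator Q).Normal).conj_mem a ha1 g, ?_⟩
    rw [conj_pow, ha2, mul_one, mul_inv_cancel]
  have hOmne : Om ≠ ⊥ := by
    obtain ⟨x, hx⟩ := exists_prime_orderOf_dvd_card' q hqd
    intro h0
    have hxm : (x : Q) ∈ Om := by
      refine ⟨x.2, ?_⟩
      rw [← Subgroup.coe_pow, ← hx, pow_orderOf_eq_one]
      rfl
    rw [h0, Subgroup.mem_bot] at hxm
    have hx1 : x = 1 := Subtype.ext hxm
    rw [hx1, orderOf_one] at hx
    exact hq.one_lt.ne' hx.symm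
  have hle := hmin Om hOmn hOmne
  have hpg : IsPGroup q (commutator Q) := by
    intro x
    refine ⟨1, ?_⟩
    rw [pow_one]
    exact Subtype.ext (hle x.2).2
  obtain ⟨m, hm⟩ := hpg.exists_card_eq
  exact ⟨q, hq, m, hm⟩

/-- fixed-point-free action: the index of the commutator subgroup is less than its order -/
theorem index_lt_card (hne : commutator Q ≠ ⊥)
    (hfpf : ∀ g : Q, g ∉ commutator Q → ∀ a ∈ commutator Q, g * a = a * g → a = 1) :
    (commutator Q).index < Nat.card (commutator Q) := by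
  classical
  obtain ⟨a₀, ha₀, ha₀1⟩ : ∃ a ∈ commutator Q, a ≠ 1 := by
    by_contra hcon
    push Not at hcon
    exact hne ((Subgroup.eq_bot_iff_forall _).2 hcon)
  haveI := Fintype.ofFinite (Q ⧸ commutator Q)
  haveI := Fintype.ofFinite (commutator Q)
  let F : Q ⧸ commutator Q → commutator Q := fun c =>
    ⟨c.out * a₀ * c.out⁻¹, (inferInstance : (commutator Q).Normal).conj_mem a₀ ha₀ c.out⟩
  have hFinj : Function.Injective F := by
    intro c₁ c₂ h
    have h1 : c₁.out * a₀ * c₁.out⁻¹ = c₂.out * a₀ * c₂.out⁻¹ := congrArg Subtype.val h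
    by_contra hne12
    have hnot : c₂.out⁻¹ * c₁.out ∉ commutator Q := by
      intro hmem
      apply hne12
      have h3 : ((c₂.out : Q) : Q ⧸ commutator Q) = ((c₁.out : Q) : Q ⧸ commutator Q) :=
        QuotientGroup.eq.2 hmem
      rw [QuotientGroup.out_eq', QuotientGroup.out_eq'] at h3
      exact h3.symm
    have h2 : (c₂.out⁻¹ * c₁.out) * a₀ = a₀ * (c₂.out⁻¹ * c₁.out) := by
      have h4 : c₂.out⁻¹ * c₁.out * a₀ = c₂.out⁻¹ * (c₁.out * a₀ * c₁.out⁻¹) * c₁.out := by group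
      rw [h4, h1]
      group
    exact ha₀1 (hfpf _ hnot a₀ ha₀ h2)
  have hnot1 : (1 : commutator Q) ∉ Set.range F := by
    rintro ⟨c, hc⟩
    have h1 : c.out * a₀ * c.out⁻¹ = 1 := congrArg Subtype.val hc
    apply ha₀1
    have h4 : a₀ = c.out⁻¹ * (c.out * a₀ * c.out⁻¹) * c.out := by group
    rw [h4, h1]
    group
  have hlt := Fintype.card_lt_of_injective_of_notMem F hFinj hnot1
  rw [← Nat.card_eq_fintype_card, ← Nat.card_eq_fintype_card] at hlt
  exact hlt

end Quot

section Layer2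

variable {G : Type u} [Group G] [Fintype G] (N K : Subgroup G) [hN : N.Normal] [hK : K.Normal]
  [Fintype N]

/-- **Weak form of Isaacs 12.4, irreducible restriction.** -/
theorem frob_regular (hKN : K ≤ N) (hbig : N.index ≤ K.relIndex N)
    (hab : ∀ x ∈ N, ∀ y ∈ N, x * y * x⁻¹ * y⁻¹ ∈ K)
    (hsurj : ∀ g : G, g ∉ N → ∀ x ∈ N, ∃ n ∈ N, (g * n * g⁻¹ * n⁻¹)⁻¹ * x ∈ K)
    {ψ : N → ℂ} (hψ : Cfsg.IsIrrCharacter N ψ)
    (hψK : Cfsg.IsIrrCharacter (K.subgroupOf N) (fun k : K.subgroupOf N => ψ k)) :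
    ∃ χ : Cfsg.IrrCharacter G, N.index * Cfsg.charDegree ψ ∣ Cfsg.charDegree (χ : G → ℂ) := by
  classical
  haveI : Fintype (K.subgroupOf N) := Fintype.ofFinite _
  haveI hK'n : (K.subgroupOf N).Normal := inferInstance
  have hq : ∀ x y : N ⧸ K.subgroupOf N, x * y = y * x := by
    intro x y
    obtain ⟨x, rfl⟩ := QuotientGroup.mk_surjective x
    obtain ⟨y, rfl⟩ := QuotientGroup.mk_surjective y
    rw [← QuotientGroup.mk_mul, ← QuotientGroup.mk_mul, QuotientGroup.eq,
      Subgroup.mem_subgroupOf]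
    have h := hab ((y : G)⁻¹) (N.inv_mem y.2) ((x : G)⁻¹) (N.inv_mem x.2)
    have h2 : (((x * y)⁻¹ * (y * x) : N) : G) = (y : G)⁻¹ * (x : G)⁻¹ * (y : G)⁻¹⁻¹ * (x : G)⁻¹⁻¹ := by
      push_cast; group
    rw [h2]
    exact h
  have hcardI : Nat.card ((N ⧸ K.subgroupOf N) →* ℂˣ) = K.relIndex N := by
    rw [Helper79.card_monoidHom_units]
    have hbot : commutator (N ⧸ K.subgroupOf N) = ⊥ := by
      rw [eq_bot_iff, commutator_def, Subgroup.commutator_le]
      intro g₁ _ g₂ _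
      rw [Subgroup.mem_bot, commutatorElement_eq_one_iff_mul_comm]
      exact hq g₁ g₂
    rw [hbot, Subgroup.index_bot]
    rfl
  haveI : Finite ((N ⧸ K.subgroupOf N) →* ℂˣ) := Helper79.finite_monoidHom_units
  let lN : ((N ⧸ K.subgroupOf N) →* ℂˣ) → (N →* ℂˣ) :=
    fun l => l.comp (QuotientGroup.mk' (K.subgroupOf N))
  have hlNK : ∀ (l : (N ⧸ K.subgroupOf N) →* ℂˣ) (x : N), (x : G) ∈ K → lN l x = 1 := by
    intro l x hx
    show l (QuotientGroup.mk' (K.subgroupOf N) x) = 1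
    have : QuotientGroup.mk' (K.subgroupOf N) x = 1 :=
      (QuotientGroup.eq_one_iff x).2 (Subgroup.mem_subgroupOf.2 hx)
    rw [this, map_one]
  let μ : ((N ⧸ K.subgroupOf N) →* ℂˣ) → N → ℂ := fun l n => ((lN l n : ℂˣ) : ℂ)
  have hμirr : ∀ l, Cfsg.IsIrrCharacter N (μ l) := fun l => Helper80.isIrrCharacter_of_hom (lN l)
  have hμK : ∀ l, ∀ k : K.subgroupOf N, μ l k = μ l 1 := by
    intro l k
    show ((lN l k : ℂˣ) : ℂ) = ((lN l 1 : ℂˣ) : ℂ)
    rw [hlNK l k (Subgroup.mem_subgroupOf.1 k.2), map_one]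
  have hirr : ∀ l, Cfsg.IsIrrCharacter N (μ l * ψ) :=
    fun l => Helper75.gallagher_irr (K.subgroupOf N) hψ hψK (hμirr l) (hμK l)
  have hcf : ∀ l, Cfsg.IsClassFunction N (μ l * ψ) := fun l =>
    Helper80.isClassFunction_of_isCharacter (Helper80.isCharacter_of_isIrrCharacter (hirr l))
  have hex : ∃ l, Helper75.inertia N (μ l * ψ) ≤ N := by
    by_contra hcon
    push Not at hcon
    have hch : ∀ l, ∃ g, g ∈ Helper75.inertia N (μ l * ψ) ∧ g ∉ N :=
      fun l => Set.not_subset.1 (hcon l)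
    choose gl hgl hglN using hch
    let F : ((N ⧸ K.subgroupOf N) →* ℂˣ) → G ⧸ N := fun l => (gl l : G ⧸ N)
    have hFinj : Function.Injective F := by
      intro l₁ l₂ h12
      have hrel : (gl l₂)⁻¹ * gl l₁ ∈ N := QuotientGroup.eq.1 h12.symm
      have hg1 : gl l₁ ∈ Helper75.inertia N (μ l₁ * ψ) := hgl l₁
      have hg2 : gl l₁ ∈ Helper75.inertia N (μ l₂ * ψ) := by
        have h1 : gl l₁ = gl l₂ * ((gl l₂)⁻¹ * gl l₁) := by group
        rw [h1]
        exact Subgroup.mul_mem _ (hgl l₂) (Helper75.le_inertia N (hcf l₂) hrel)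
      rw [Helper75.mem_inertia_iff'] at hg1 hg2
      set g := gl l₁ with hg
      let c : N →* N := (MulAut.conjNormal g : N ≃* N).toMonoidHom
      have hc : ∀ n : N, ((c n : N) : G) = g * n * g⁻¹ := fun n => MulAut.conjNormal_apply g n
      let h₁ : N →* ℂˣ := (lN l₂).comp c * lN l₁
      let h₂ : N →* ℂˣ := (lN l₁).comp c * lN l₂
      have key : (fun n : N => ((h₁ n : ℂˣ) : ℂ)) * ψ = (fun n : N => ((h₂ n : ℂˣ) : ℂ)) * ψ := by
        funext n
        have e1 := hg1 n
        have e2 := hg2 n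
        have hcn : (⟨g * n * g⁻¹, hN.conj_mem n n.2 g⟩ : N) = c n := Subtype.ext (hc n).symm
        rw [hcn] at e1 e2
        have e1' : ((lN l₁ (c n) : ℂˣ) : ℂ) * ψ (c n) = ((lN l₁ n : ℂˣ) : ℂ) * ψ n := e1
        have e2' : ((lN l₂ (c n) : ℂˣ) : ℂ) * ψ (c n) = ((lN l₂ n : ℂˣ) : ℂ) * ψ n := e2
        show (((lN l₂ (c n) * lN l₁ n : ℂˣ)) : ℂ) * ψ n =
          (((lN l₁ (c n) * lN l₂ n : ℂˣ)) : ℂ) * ψ n
        push_cast
        linear_combination (-((lN l₂ (c n) : ℂˣ) : ℂ)) * e1' + ((lN l₁ (c n) : ℂˣ) : ℂ) * e2'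
      have hbij := Helper81.gallagher_bij (K.subgroupOf N) hψ hψK
      have hmem : ∀ h : N →* ℂˣ, (∀ x : N, (x : G) ∈ K → h x = 1) →
          (fun n : N => ((h n : ℂˣ) : ℂ)) ∈ {β : N → ℂ | Cfsg.IsIrrCharacter N β ∧
            ∀ n : K.subgroupOf N, β n = β 1} := by
        intro h hh
        refine ⟨Helper80.isIrrCharacter_of_hom h, fun k => ?_⟩
        show ((h k : ℂˣ) : ℂ) = ((h 1 : ℂˣ) : ℂ)
        rw [hh k (Subgroup.mem_subgroupOf.1 k.2), map_one]
      have hcK : ∀ x : N, (x : G) ∈ K → ((c x : N) : G) ∈ K := by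
        intro x hx
        rw [hc]
        exact hK.conj_mem x hx g
      have hh₁ : ∀ x : N, (x : G) ∈ K → h₁ x = 1 := by
        intro x hx
        show lN l₂ (c x) * lN l₁ x = 1
        rw [hlNK l₂ (c x) (hcK x hx), hlNK l₁ x hx, one_mul]
      have hh₂ : ∀ x : N, (x : G) ∈ K → h₂ x = 1 := by
        intro x hx
        show lN l₁ (c x) * lN l₂ x = 1
        rw [hlNK l₁ (c x) (hcK x hx), hlNK l₂ x hx, one_mul]
      have heq := hbij.injOn (hmem h₁ hh₁) (hmem h₂ hh₂) key
      have heq' : ∀ n : N, lN l₂ (c n) * lN l₁ n = lN l₁ (c n) * lN l₂ n := by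
        intro n
        exact Units.ext (congrFun heq n)
      let ρ : N →* ℂˣ := lN l₁ * (lN l₂)⁻¹
      have hρc : ∀ n : N, ρ (c n) = ρ n := by
        intro n
        show lN l₁ (c n) * (lN l₂ (c n))⁻¹ = lN l₁ n * (lN l₂ n)⁻¹
        exact comm_aux _ _ _ _ (heq' n)
      have hρK : ∀ x : N, (x : G) ∈ K → ρ x = 1 := by
        intro x hx
        show lN l₁ x * (lN l₂ x)⁻¹ = 1
        rw [hlNK l₁ x hx, hlNK l₂ x hx, inv_one, one_mul]
      have hρ1 : ∀ x : N, ρ x = 1 := by
        intro x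
        obtain ⟨n, hn, hnK⟩ := hsurj g (hg ▸ hglN l₁) x x.2
        have h1 : ((((c ⟨n, hn⟩ * (⟨n, hn⟩ : N)⁻¹)⁻¹ * x : N)) : G) ∈ K := by
          have : ((((c ⟨n, hn⟩ * (⟨n, hn⟩ : N)⁻¹)⁻¹ * x : N)) : G) =
              (g * n * g⁻¹ * n⁻¹)⁻¹ * x := by
            push_cast
            rw [hc]
          rw [this]
          exact hnK
        have h2 := hρK _ h1
        rw [map_mul, map_inv, map_mul, map_inv, hρc, mul_inv_cancel, inv_one, one_mul] at h2
        exact h2
      apply MonoidHom.ext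
      intro y
      obtain ⟨x, rfl⟩ := QuotientGroup.mk_surjective y
      have h3 : lN l₁ x * (lN l₂ x)⁻¹ = 1 := hρ1 x
      exact mul_inv_eq_one.1 h3
    haveI := Fintype.ofFinite ((N ⧸ K.subgroupOf N) →* ℂˣ)
    haveI := Fintype.ofFinite (G ⧸ N)
    have hnot : (1 : G ⧸ N) ∉ Set.range F := by
      rintro ⟨l, hl⟩
      exact hglN l ((QuotientGroup.eq_one_iff _).1 hl)
    have hlt := Fintype.card_lt_of_injective_of_notMem F hFinj hnot
    rw [← Nat.card_eq_fintype_card, ← Nat.card_eq_fintype_card, hcardI] at hlt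
    have h5 : Nat.card (G ⧸ N) = N.index := rfl
    rw [h5] at hlt
    omega
  obtain ⟨l, hl⟩ := hex
  have hθ := hirr l
  have hin : Helper75.inertia N (μ l * ψ) = N := le_antisymm hl (Helper75.le_inertia N (hcf l))
  obtain ⟨χ, hχ, hcon⟩ := Helper80.exists_irr_over N hθ
  obtain ⟨e, he⟩ := Helper80.charDegree_eq_mul_index_inertia N hχ hθ hcon
  have hdegθ : Cfsg.charDegree (μ l * ψ) = Cfsg.charDegree ψ := by
    rw [charDegree_mul' (Helper80.isCharacter_of_isIrrCharacter (hμirr l))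
      (Helper80.isCharacter_of_isIrrCharacter hψ)]
    have : Cfsg.charDegree (μ l) = 1 := Helper80.charDegree_of_hom (lN l)
    rw [this, one_mul]
  rw [hin, hdegθ] at he
  exact ⟨⟨χ, hχ⟩, ⟨e, by rw [he]; ring⟩⟩

end Layer2

/-- an irreducible character whose restriction to a normal subgroup of index `q ^ m` is reducible
has degree divisible by `q` -/
theorem dvd_of_res_not_irr {M : Type u} [Group M] [Fintype M] (L : Subgroup M) [L.Normal]
    [Fintype L] {q m : ℕ} (hq : q.Prime) (hidx : L.index = q ^ m)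
    {ψ : M → ℂ} (hψ : Cfsg.IsIrrCharacter M ψ)
    (hnot : ¬ Cfsg.IsIrrCharacter L (fun k : L => ψ k)) : q ∣ Cfsg.charDegree ψ := by
  classical
  haveI : Fintype (Cfsg.IrrCharacter L) := Fintype.ofFinite _
  have hψc := Helper80.isCharacter_of_isIrrCharacter hψ
  obtain ⟨θ, hθ, hcon⟩ := Helper80.exists_constituent_restrict L hψ
  have h := Cfsg.Agent.S0887.result L ψ hψ θ hθ hcon (Cfsg.charDegree ψ) (Cfsg.charDegree θ)
    (Helper80.char_one_eq_charDegree hψc)
    (Helper80.char_one_eq_charDegree (Helper80.isCharacter_of_isIrrCharacter hθ))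
  rw [hidx] at h
  obtain ⟨j, -, hj⟩ := (Nat.dvd_prime_pow hq).1 h.2
  by_cases hj0 : j = 0
  · exfalso
    rw [hj0, pow_zero] at hj
    have hdeg : Cfsg.charDegree ψ = Cfsg.charDegree θ := by
      have h4 := Nat.div_mul_cancel h.1
      rw [hj, one_mul] at h4
      exact h4.symm
    have hres : (fun k : L => ψ k) = θ :=
      Helper80.eq_of_constituent_of_degree_le (Helper75.isCharacter_res L hψc) hθ hcon
        (by
          show Cfsg.charDegree ψ ≤ _
          rw [hdeg])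
    apply hnot
    rw [hres]
    exact hθ
  · have h1 : q ∣ Cfsg.charDegree ψ / Cfsg.charDegree θ := by
      rw [hj]
      exact dvd_pow_self q hj0
    exact h1.trans (Nat.div_dvd_of_dvd h.1)

/-- the `q`-group case: `q` divides a degree, and `q χ(1)` divides a degree whenever `q ∤ χ(1)` -/
theorem qgroup_adj {G : Type u} [Group G] [Fintype G] (K : Subgroup G) [hK : K.Normal]
    [Fintype K] {q n : ℕ} (hq : q.Prime) (hKidx : K.index = q ^ n)
    (hna : ¬ commutator (G ⧸ K) ≤ ⊥) :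
    (∃ χ₀ : Cfsg.IrrCharacter G, q ∣ Cfsg.charDegree (χ₀ : G → ℂ)) ∧
    ∀ χ : Cfsg.IrrCharacter G, ¬ q ∣ Cfsg.charDegree (χ : G → ℂ) →
      ∃ χ' : Cfsg.IrrCharacter G,
        q * Cfsg.charDegree (χ : G → ℂ) ∣ Cfsg.charDegree (χ' : G → ℂ) := by
  classical
  haveI : Fintype (Cfsg.IrrCharacter K) := Fintype.ofFinite _
  obtain ⟨ψ, hψne, -⟩ := Helper80.exists_nonlinear_ker_ge (⊥ : Subgroup (G ⧸ K)) hna
  have hqf : q ∣ Cfsg.charDegree (ψ : G ⧸ K → ℂ) := by
    have h1 := Helper80.charDegree_dvd_card ψ.2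
    have h2 : Nat.card (G ⧸ K) = q ^ n := hKidx
    rw [h2] at h1
    obtain ⟨j, -, hj⟩ := (Nat.dvd_prime_pow hq).1 h1
    have hj0 : j ≠ 0 := by
      rintro rfl
      rw [pow_zero] at hj
      exact hψne hj
    rw [hj]
    exact dvd_pow_self q hj0
  have hβ : Cfsg.IsIrrCharacter G (fun g : G => (ψ : G ⧸ K → ℂ) (g : G ⧸ K)) :=
    Helper80.isIrrCharacter_inflate K ψ.2
  have hdegβ : Cfsg.charDegree (fun g : G => (ψ : G ⧸ K → ℂ) (g : G ⧸ K)) =
      Cfsg.charDegree (ψ : G ⧸ K → ℂ) := rfl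
  refine ⟨⟨⟨_, hβ⟩, ?_⟩, ?_⟩
  · show q ∣ Cfsg.charDegree (fun g : G => (ψ : G ⧸ K → ℂ) (g : G ⧸ K))
    rw [hdegβ]
    exact hqf
  intro χ hqχ
  have hχc := Helper80.isCharacter_of_isIrrCharacter χ.2
  obtain ⟨θ, hθ, hcon⟩ := Helper80.exists_constituent_restrict K χ.2
  have h := Cfsg.Agent.S0887.result K χ χ.2 θ hθ hcon (Cfsg.charDegree (χ : G → ℂ))
    (Cfsg.charDegree θ) (Helper80.char_one_eq_charDegree hχc)
    (Helper80.char_one_eq_charDegree (Helper80.isCharacter_of_isIrrCharacter hθ))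
  rw [hKidx] at h
  obtain ⟨j, -, hj⟩ := (Nat.dvd_prime_pow hq).1 h.2
  have hj0 : j = 0 := by
    by_contra hne
    apply hqχ
    have h1 : q ∣ Cfsg.charDegree (χ : G → ℂ) / Cfsg.charDegree θ := by
      rw [hj]
      exact dvd_pow_self q hne
    exact h1.trans (Nat.div_dvd_of_dvd h.1)
  rw [hj0, pow_zero] at hj
  have hdeg : Cfsg.charDegree (χ : G → ℂ) = Cfsg.charDegree θ := by
    have h4 := Nat.div_mul_cancel h.1
    rw [hj, one_mul] at h4
    exact h4.symm
  have hres : (fun k : K => (χ : G → ℂ) k) = θ :=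
    Helper80.eq_of_constituent_of_degree_le (Helper75.isCharacter_res K hχc) hθ hcon
      (by
        show Cfsg.charDegree (χ : G → ℂ) ≤ _
        rw [hdeg])
  have hχK : Cfsg.IsIrrCharacter K (fun k : K => (χ : G → ℂ) k) := by
    rw [hres]
    exact hθ
  have hβK : ∀ k : K, (fun g : G => (ψ : G ⧸ K → ℂ) (g : G ⧸ K)) k =
      (fun g : G => (ψ : G ⧸ K → ℂ) (g : G ⧸ K)) 1 := by
    intro k
    show (ψ : G ⧸ K → ℂ) ((k : G) : G ⧸ K) = (ψ : G ⧸ K → ℂ) ((1 : G) : G ⧸ K)
    have h1 : ((k : G) : G ⧸ K) = ((1 : G) : G ⧸ K) := by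
      rw [QuotientGroup.mk_one]
      exact (QuotientGroup.eq_one_iff _).2 k.2
    rw [h1]
  have hprod := Helper75.gallagher_irr K χ.2 hχK hβ hβK
  have hdegp : Cfsg.charDegree ((fun g : G => (ψ : G ⧸ K → ℂ) (g : G ⧸ K)) * (χ : G → ℂ)) =
      Cfsg.charDegree (ψ : G ⧸ K → ℂ) * Cfsg.charDegree (χ : G → ℂ) := by
    rw [charDegree_mul' (Helper80.isCharacter_of_isIrrCharacter hβ) hχc, hdegβ]
  refine ⟨⟨_, hprod⟩, ?_⟩
  show q * Cfsg.charDegree (χ : G → ℂ) ∣
    Cfsg.charDegree ((fun g : G => (ψ : G ⧸ K → ℂ) (g : G ⧸ K)) * (χ : G → ℂ))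
  rw [hdegp]
  exact Nat.mul_dvd_mul_right hqf _

end Cfsg.Agent.Lib.Helper39.TwoComp
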