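import Mathlib
import Cfsg.Agent.Lib.Helper39.TwoComp
import Cfsg.Prelude.Def_DegreeGraph

set_option autoImplicit false
set_option linter.style.haveILetI false
open Cfsg

/-!
# The character degree graph of a solvable group: at most two components (assembly)
-/

namespace Cfsg.Agent.Lib.Helper39.TwoComp

open Cfsg.Agent.Lib.Helper39.ThreeDeg
open scoped commutatorElement

universe u

theorem two_components {G : Type u} [Group G] [Finite G] [Group.IsSolvable G] :
    Nat.card ((Cfsg.degreeGraph G).induce (Cfsg.degreePrimes G)).ConnectedComponent ≤ 2 := by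
  classical
  haveI := Fintype.ofFinite G
  suffices key : (Cfsg.degreePrimes G = ∅) ∨ ∃ a b : Cfsg.degreePrimes G,
      ∀ v : Cfsg.degreePrimes G,
        ((Cfsg.degreeGraph G).induce (Cfsg.degreePrimes G)).Reachable a v ∨
        ((Cfsg.degreeGraph G).induce (Cfsg.degreePrimes G)).Reachable b v by
    rcases key with h0 | ⟨a, b, h⟩
    · haveI : IsEmpty (Cfsg.degreePrimes G) := by
        rw [h0]
        infer_instance
      haveI : IsEmpty ((Cfsg.degreeGraph G).induce (Cfsg.degreePrimes G)).ConnectedComponent :=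
        ⟨fun c => by
          obtain ⟨v, -⟩ := c.exists_rep
          exact isEmptyElim v⟩
      simp
    · exact comp_le_two _ a b h
  by_cases hcomm : commutator G ≤ ⊥
  · left
    ext s
    simp only [Set.mem_empty_iff_false, iff_false]
    rintro ⟨hs, d, ⟨χ, rfl⟩, hd⟩
    have h1 := Helper80.charDegree_eq_one_of_commutator_le χ (hcomm.trans bot_le)
    rw [h1] at hd
    exact hs.one_lt.ne' (Nat.dvd_one.1 hd)
  right
  let S : Set (Subgroup G) := {K | K.Normal ∧ ¬ commutator G ≤ K}
  have hS : S.Nonempty := ⟨⊥, inferInstance, hcomm⟩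
  obtain ⟨K, ⟨hKn, hKc⟩, hKmax⟩ := wellFounded_gt.has_min S hS
  haveI := hKn
  have hmin : ∀ M : Subgroup (G ⧸ K), M.Normal → M ≠ ⊥ → commutator (G ⧸ K) ≤ M := by
    intro M hMn hMne
    haveI := hMn
    have hlt : K < M.comap (QuotientGroup.mk' K) := by
      refine lt_of_le_of_ne ?_ ?_
      · intro x hx
        show QuotientGroup.mk' K x ∈ M
        have : QuotientGroup.mk' K x = 1 := (QuotientGroup.eq_one_iff x).2 hx
        rw [this]
        exact M.one_mem
      · intro heq
        apply hMne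
        rw [eq_bot_iff]
        intro y hy
        obtain ⟨x, rfl⟩ := QuotientGroup.mk'_surjective K y
        have h1 : x ∈ M.comap (QuotientGroup.mk' K) := hy
        rw [← heq] at h1
        exact Subgroup.mem_bot.2 ((QuotientGroup.eq_one_iff x).2 h1)
    have hcomm' : commutator G ≤ M.comap (QuotientGroup.mk' K) := by
      by_contra hcon
      exact hKmax _ ⟨inferInstance, hcon⟩ hlt
    rw [commutator_def, Subgroup.commutator_le]
    intro y₁ _ y₂ _
    obtain ⟨x₁, rfl⟩ := QuotientGroup.mk'_surjective K y₁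
    obtain ⟨x₂, rfl⟩ := QuotientGroup.mk'_surjective K y₂
    rw [← map_commutatorElement]
    exact hcomm' (Subgroup.commutator_mem_commutator (Subgroup.mem_top _) (Subgroup.mem_top _))
  have hncK : ¬ commutator (G ⧸ K) ≤ ⊥ := by
    intro h
    apply hKc
    rw [commutator_def, Subgroup.commutator_le]
    intro g₁ _ g₂ _
    have h1 : QuotientGroup.mk' K ⁅g₁, g₂⁆ ∈ commutator (G ⧸ K) := by
      rw [map_commutatorElement]
      exact Subgroup.commutator_mem_commutator (Subgroup.mem_top _) (Subgroup.mem_top _)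
    exact (QuotientGroup.eq_one_iff _).1 (Subgroup.mem_bot.1 (h h1))
  have hne : commutator (G ⧸ K) ≠ ⊥ := fun h => hncK (by rw [h])
  have hA := comm_abelian_of_solvable hmin
  haveI : Fintype K := Fintype.ofFinite K
  rcases fpf_dichotomy hA hmin with hcen | hfpf
  · -- the `q`-group case
    obtain ⟨q, hq, n, hn⟩ := pgroup_of_central hcen hne hmin
    obtain ⟨⟨χ₀, hχ₀⟩, hadj⟩ := qgroup_adj K hq (hn : K.index = q ^ n) hncK
    have hqv : q ∈ Cfsg.degreePrimes G := ⟨hq, _, ⟨χ₀, rfl⟩, hχ₀⟩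
    refine ⟨⟨q, hqv⟩, ⟨q, hqv⟩, fun v => Or.inl ?_⟩
    obtain ⟨s, hs, d, ⟨χ, rfl⟩, hd⟩ := v
    by_cases hsq : s = q
    · subst hsq
      exact SimpleGraph.Reachable.refl _
    · apply SimpleGraph.Adj.reachable
      show (Cfsg.degreeGraph G).Adj q s
      by_cases hqχ : q ∣ Cfsg.charDegree (χ : G → ℂ)
      · exact ⟨Ne.symm hsq, hq, hs, _, ⟨χ, rfl⟩,
          Nat.Coprime.mul_dvd_of_dvd_of_dvd ((Nat.coprime_primes hq hs).2 (Ne.symm hsq)) hqχ hd⟩
      · obtain ⟨χ', hχ'⟩ := hadj χ hqχ
        exact ⟨Ne.symm hsq, hq, hs, _, ⟨χ', rfl⟩, (Nat.mul_dvd_mul_left q hd).trans hχ'⟩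
  · -- the Frobenius case
    obtain ⟨q, hq, m, hAcard⟩ := comm_prime_pow hA hne hmin
    have hlt := index_lt_card hne hfpf
    set N : Subgroup G := (commutator (G ⧸ K)).comap (QuotientGroup.mk' K) with hNdef
    haveI hNn : N.Normal := inferInstance
    haveI : Fintype N := Fintype.ofFinite N
    haveI : Fintype (K.subgroupOf N) := Fintype.ofFinite _
    have hKN : K ≤ N := by
      intro x hx
      show QuotientGroup.mk' K x ∈ commutator (G ⧸ K)
      have : QuotientGroup.mk' K x = 1 := (QuotientGroup.eq_one_iff x).2 hx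
      rw [this]
      exact Subgroup.one_mem _
    have hNidx : N.index = (commutator (G ⧸ K)).index := by
      rw [hNdef, Subgroup.index_comap_of_surjective _ (QuotientGroup.mk'_surjective K)]
    have hrel : K.relIndex N = q ^ m := by rw [hNdef, relIndex_comap_mk, hAcard]
    have hab : ∀ x ∈ N, ∀ y ∈ N, x * y * x⁻¹ * y⁻¹ ∈ K := by
      intro x hx y hy
      have h1 := hA _ hx _ hy
      rw [← QuotientGroup.eq_one_iff]
      have h2 : ((x * y * x⁻¹ * y⁻¹ : G) : G ⧸ K) =
          (QuotientGroup.mk' K x) * (QuotientGroup.mk' K y) * (QuotientGroup.mk' K x)⁻¹ *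
            (QuotientGroup.mk' K y)⁻¹ := rfl
      rw [h2, h1]
      group
    have hsurj : ∀ g : G, g ∉ N → ∀ x ∈ N, ∃ n ∈ N, (g * n * g⁻¹ * n⁻¹)⁻¹ * x ∈ K := by
      intro g hg x hx
      obtain ⟨abar, habar, heq⟩ := comm_map_surj (commutator (G ⧸ K)) (QuotientGroup.mk' K g)
        (hfpf _ hg) (QuotientGroup.mk' K x) hx
      obtain ⟨n, rfl⟩ := QuotientGroup.mk'_surjective K abar
      refine ⟨n, habar, ?_⟩
      rw [← QuotientGroup.eq]
      exact heq
    have hbig : N.index ≤ K.relIndex N := by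
      rw [hrel, hNidx, ← hAcard]
      exact hlt.le
    have hf1 : N.index ≠ 1 := by
      rw [hNidx]
      intro h1
      have htop : commutator (G ⧸ K) = ⊤ := Subgroup.index_eq_one.1 h1
      apply hncK
      rw [commutator_def, Subgroup.commutator_le]
      intro g₁ _ g₂ _
      rw [Subgroup.mem_bot, commutatorElement_eq_one_iff_mul_comm]
      exact hA g₁ (by rw [htop]; exact Subgroup.mem_top _) g₂ (by rw [htop]; exact Subgroup.mem_top _)
    -- a degree divisible by `f`
    have h1irr : Cfsg.IsIrrCharacter N (fun n : N => (((1 : N →* ℂˣ) n : ℂˣ) : ℂ)) :=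
      Helper80.isIrrCharacter_of_hom 1
    have h1K : Cfsg.IsIrrCharacter (K.subgroupOf N)
        (fun k : K.subgroupOf N => (fun n : N => (((1 : N →* ℂˣ) n : ℂˣ) : ℂ)) k) :=
      Helper80.isIrrCharacter_of_hom (1 : (K.subgroupOf N) →* ℂˣ)
    obtain ⟨χ₀, hχ₀⟩ := frob_regular N K hKN hbig hab hsurj h1irr h1K
    have hdeg1 : Cfsg.charDegree (fun n : N => (((1 : N →* ℂˣ) n : ℂˣ) : ℂ)) = 1 :=
      Helper80.charDegree_of_hom 1
    rw [hdeg1, mul_one] at hχ₀
    obtain ⟨r₀, hr₀, hr₀f⟩ := Nat.exists_prime_and_dvd hf1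
    have hr₀v : r₀ ∈ Cfsg.degreePrimes G := ⟨hr₀, _, ⟨χ₀, rfl⟩, hr₀f.trans hχ₀⟩
    have key : ∀ s, s ∈ Cfsg.degreePrimes G →
        (s = r₀ ∨ (Cfsg.degreeGraph G).Adj r₀ s) ∨
        (q ∈ Cfsg.degreePrimes G ∧ (s = q ∨ (Cfsg.degreeGraph G).Adj q s)) := by
      rintro s ⟨hs, d, ⟨χ, rfl⟩, hd⟩
      by_cases hsf : s ∣ N.index
      · left
        by_cases hsr : s = r₀
        · exact Or.inl hsr
        · right
          exact ⟨Ne.symm hsr, hr₀, hs, _, ⟨χ₀, rfl⟩,
            (Nat.Coprime.mul_dvd_of_dvd_of_dvd ((Nat.coprime_primes hr₀ hs).2 (Ne.symm hsr))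
              hr₀f hsf).trans hχ₀⟩
      · have hχc := Helper80.isCharacter_of_isIrrCharacter χ.2
        obtain ⟨ψ, hψ, hcon⟩ := Helper80.exists_constituent_restrict N χ.2
        have h := Cfsg.Agent.S0887.result N χ χ.2 ψ hψ hcon (Cfsg.charDegree (χ : G → ℂ))
          (Cfsg.charDegree ψ) (Helper80.char_one_eq_charDegree hχc)
          (Helper80.char_one_eq_charDegree (Helper80.isCharacter_of_isIrrCharacter hψ))
        have hsψ : s ∣ Cfsg.charDegree ψ := by
          have h4 := Nat.div_mul_cancel h.1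
          rw [← h4] at hd
          rcases (Nat.Prime.dvd_mul hs).1 hd with h5 | h5
          · exact absurd (h5.trans h.2) hsf
          · exact h5
        by_cases hψK : Cfsg.IsIrrCharacter (K.subgroupOf N) (fun k : K.subgroupOf N => ψ k)
        · left
          right
          obtain ⟨χ', hχ'⟩ := frob_regular N K hKN hbig hab hsurj hψ hψK
          have hsr : r₀ ≠ s := fun h => hsf (h ▸ hr₀f)
          exact ⟨hsr, hr₀, hs, _, ⟨χ', rfl⟩, (Nat.mul_dvd_mul hr₀f hsψ).trans hχ'⟩
        · right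
          have hqψ : q ∣ Cfsg.charDegree ψ :=
            dvd_of_res_not_irr (K.subgroupOf N) hq (hrel : (K.subgroupOf N).index = q ^ m) hψ hψK
          refine ⟨⟨hq, _, ⟨χ, rfl⟩, hqψ.trans h.1⟩, ?_⟩
          by_cases hsq : s = q
          · exact Or.inl hsq
          · right
            exact ⟨Ne.symm hsq, hq, hs, _, ⟨χ, rfl⟩,
              (Nat.Coprime.mul_dvd_of_dvd_of_dvd ((Nat.coprime_primes hq hs).2 (Ne.symm hsq))
                hqψ hsψ).trans h.1⟩
    by_cases hqv : q ∈ Cfsg.degreePrimes G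
    · refine ⟨⟨r₀, hr₀v⟩, ⟨q, hqv⟩, fun v => ?_⟩
      rcases key v.1 v.2 with (h | h) | ⟨-, h | h⟩
      · left
        have hv : (⟨r₀, hr₀v⟩ : Cfsg.degreePrimes G) = v := Subtype.ext h.symm
        rw [hv]
      · left
        apply SimpleGraph.Adj.reachable
        exact h
      · right
        have hv : (⟨q, hqv⟩ : Cfsg.degreePrimes G) = v := Subtype.ext h.symm
        rw [hv]
      · right
        apply SimpleGraph.Adj.reachable
        exact h
    · refine ⟨⟨r₀, hr₀v⟩, ⟨r₀, hr₀v⟩, fun v => Or.inl ?_⟩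
      rcases key v.1 v.2 with (h | h) | ⟨hq', -⟩
      · have hv : (⟨r₀, hr₀v⟩ : Cfsg.degreePrimes G) = v := Subtype.ext h.symm
        rw [hv]
      · apply SimpleGraph.Adj.reachable
        exact h
      · exact absurd hq' hqv

end Cfsg.Agent.Lib.Helper39.TwoComp
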